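import Mathlib
import Cfsg.Agent.S0519
import Cfsg.Agent.Lib.Helper53.CenterMeet
import Cfsg.Agent.Lib.Helper29.PGroupNormal

/-!
# Normal elementary abelian subgroups of order `p²` in `p`-groups

A finite `p`-group has a normal elementary abelian subgroup of order `p ^ 2` unless it is cyclic, or `p = 2`
and the commutator quotient has order four (maximal class: dihedral, semidihedral, generalized quaternion).
-/

set_option autoImplicit false

namespace Cfsg.Agent.Lib.Helper52

open Cfsg.Agent.S0519

/-- Between normal subgroups `A < E` of a finite `p`-group there is a normal subgroup `B` with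
`A ≤ B ≤ E` and `|B : A| = p`. -/
theorem exists_normal_in {P : Type*} [Group P] [Finite P] {p : ℕ} [hp : Fact p.Prime]
    (hP : IsPGroup p P) (A E : Subgroup P) [hA : A.Normal] [hE : E.Normal] (hAE : A ≤ E) (hne : A ≠ E) :
    ∃ B : Subgroup P, B.Normal ∧ A ≤ B ∧ B ≤ E ∧ A.relIndex B = p := by
  have hQ : IsPGroup p (P ⧸ A) := hP.to_quotient A
  have hEbar : (E.map (QuotientGroup.mk' A)).Normal :=
    hE.map _ (QuotientGroup.mk'_surjective A)
  have hEne : E.map (QuotientGroup.mk' A) ≠ ⊥ := by
    intro h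
    apply hne
    apply le_antisymm hAE
    intro x hx
    have : (QuotientGroup.mk' A) x ∈ E.map (QuotientGroup.mk' A) := Subgroup.mem_map_of_mem _ hx
    rw [h, Subgroup.mem_bot] at this
    exact (QuotientGroup.eq_one_iff x).mp this
  obtain ⟨b, hbE, hb1, hbc⟩ := Cfsg.Agent.Lib.Helper53.normal_meets_center hQ _ hEne
  obtain ⟨k, hk⟩ := hQ b
  have hbo : ∃ k, orderOf b = p ^ k := by
    obtain ⟨j, hj⟩ := (Nat.dvd_prime_pow hp.out).mp (orderOf_dvd_of_pow_eq_one hk)
    exact ⟨j, hj.2⟩
  obtain ⟨j, hj⟩ := Cfsg.Agent.Lib.Helper29.exists_pow_orderOf_eq_prime hp.out hbo hb1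
  set z := b ^ j with hz
  have hzE : z ∈ E.map (QuotientGroup.mk' A) := Subgroup.pow_mem _ hbE _
  have hzc : z ∈ Subgroup.center (P ⧸ A) := Subgroup.pow_mem _ hbc _
  let Z : Subgroup (P ⧸ A) := Subgroup.zpowers z
  have hZn : Z.Normal := by
    refine ⟨fun x hx g => ?_⟩
    obtain ⟨i, rfl⟩ := Subgroup.mem_zpowers_iff.mp hx
    have h1 : (z ^ i) ∈ Subgroup.center (P ⧸ A) := Subgroup.zpow_mem _ hzc i
    rw [Subgroup.mem_center_iff] at h1
    have hc : g * z ^ i * g⁻¹ = z ^ i := by rw [h1 g]; group
    rw [hc]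
    exact Subgroup.zpow_mem _ (Subgroup.mem_zpowers _) i
  have hZcard : Nat.card Z = p := by rw [Nat.card_zpowers, hj]
  refine ⟨Z.comap (QuotientGroup.mk' A), hZn.comap _, ?_, ?_, ?_⟩
  · intro x hx
    rw [Subgroup.mem_comap]
    have : (QuotientGroup.mk' A) x = 1 := (QuotientGroup.eq_one_iff x).mpr hx
    rw [this]; exact one_mem _
  · intro x hx
    rw [Subgroup.mem_comap] at hx
    have hxE : (QuotientGroup.mk' A) x ∈ E.map (QuotientGroup.mk' A) := by
      obtain ⟨i, hi⟩ := Subgroup.mem_zpowers_iff.mp hx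
      rw [← hi]; exact Subgroup.zpow_mem _ hzE i
    obtain ⟨e, he, hex⟩ := hxE
    have h1 : (QuotientGroup.mk' A) (e⁻¹ * x) = 1 := by rw [map_mul, map_inv, hex]; group
    have h2 : e⁻¹ * x ∈ A := (QuotientGroup.eq_one_iff _).mp h1
    have : x = e * (e⁻¹ * x) := by group
    rw [this]
    exact Subgroup.mul_mem _ he (hAE h2)
  · have h1 : (⊥ : Subgroup (P ⧸ A)).comap (QuotientGroup.mk' A) = A := by
      ext x
      simp
    have h2 : A.relIndex (Z.comap (QuotientGroup.mk' A)) =
        ((⊥ : Subgroup (P ⧸ A)).comap (QuotientGroup.mk' A)).relIndex (Z.comap (QuotientGroup.mk' A)) :=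
      congrArg (fun X : Subgroup P => X.relIndex (Z.comap (QuotientGroup.mk' A))) h1.symm
    rw [h2, Subgroup.relIndex_comap, Subgroup.map_comap_eq_self_of_surjective (QuotientGroup.mk'_surjective A),
      Subgroup.relIndex_bot_left, hZcard]

theorem card_mul_relIndex' {G : Type*} [Group G] {H K : Subgroup G} (h : H ≤ K) :
    Nat.card H * H.relIndex K = Nat.card K := by
  have := Subgroup.relIndex_mul_relIndex (⊥ : Subgroup G) H K bot_le h
  rwa [Subgroup.relIndex_bot_left, Subgroup.relIndex_bot_left] at this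

/-- A finite abelian `p`-group with at most `p` solutions of `x ^ p = 1` is cyclic. -/
theorem isCyclic_of_card_omega_le (p : ℕ) [hp : Fact p.Prime] :
    ∀ (n : ℕ) (A : Type*) [CommGroup A] [Finite A], Nat.card A = n → IsPGroup p A →
      Nat.card {x : A // x ^ p = 1} ≤ p → IsCyclic A := by
  intro n
  induction n using Nat.strong_induction_on with
  | _ n ih =>
    intro A _ _ hn hA hom
    by_cases htriv : Nat.card A = 1
    · haveI : Subsingleton A := (Nat.card_eq_one_iff_unique.mp htriv).1
      infer_instance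
    let f : A →* A := powMonoidHom p
    have hker : ∀ x : A, x ∈ f.ker ↔ x ^ p = 1 := fun x => by
      rw [MonoidHom.mem_ker]; rfl
    have hkcard : Nat.card f.ker = Nat.card {x : A // x ^ p = 1} := by
      apply Nat.card_congr
      exact Equiv.subtypeEquivRight hker
    -- the kernel has order exactly p
    obtain ⟨N, hN⟩ := IsPGroup.iff_card.mp hA
    have hN0 : N ≠ 0 := by
      rintro rfl
      rw [pow_zero] at hN
      exact htriv hN
    have hkp : Nat.card f.ker = p := by
      obtain ⟨x, hx⟩ := exists_prime_orderOf_dvd_card' (G := A) p (by rw [hN]; exact dvd_pow_self p hN0)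
      have hxk : x ∈ f.ker := by
        rw [hker, ← hx]; exact pow_orderOf_eq_one x
      have h1 : p ∣ Nat.card f.ker := by
        have := orderOf_dvd_natCard (⟨x, hxk⟩ : f.ker)
        rwa [Subgroup.orderOf_mk, hx] at this
      have h2 : Nat.card f.ker ≤ p := hkcard ▸ hom
      exact le_antisymm h2 (Nat.le_of_dvd Nat.card_pos h1)
    have hcard : Nat.card f.ker * Nat.card f.range = Nat.card A := by
      rw [mul_comm, ← Nat.card_congr (QuotientGroup.quotientKerEquivRange f).toEquiv]
      exact (Subgroup.card_eq_card_quotient_mul_card_subgroup f.ker).symm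
    have hrlt : Nat.card f.range < n := by
      rw [hkp, hn] at hcard
      have hp2 := hp.out.two_le
      have hpos : 0 < Nat.card f.range := Nat.card_pos
      nlinarith
    have hRp : IsPGroup p f.range := hA.to_subgroup _
    have hRom : Nat.card {x : f.range // x ^ p = 1} ≤ p := by
      refine le_trans ?_ hom
      apply Nat.card_le_card_of_injective (fun x : {x : f.range // x ^ p = 1} =>
        (⟨(x.1 : A), by
          have := congrArg Subtype.val x.2
          simpa using this⟩ : {x : A // x ^ p = 1}))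
      intro x y hxy
      apply Subtype.ext
      apply Subtype.ext
      exact congrArg (fun t : {x : A // x ^ p = 1} => (t : A)) hxy
    have hRcyc : IsCyclic f.range := ih _ hrlt f.range rfl hRp hRom
    obtain ⟨y, hy⟩ := hRcyc.exists_generator
    obtain ⟨x, hx⟩ := y.2
    have hyo : orderOf y = Nat.card f.range := orderOf_eq_card_of_forall_mem_zpowers hy
    have hxp : x ^ p = (y : A) := hx
    by_cases hR1 : Nat.card f.range = 1
    · -- |A| = p
      have : Nat.card A = p := by rw [← hcard, hkp, hR1, mul_one]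
      exact isCyclic_of_prime_card this
    · have hy1 : (y : A) ≠ 1 := by
        intro h1
        have : y = 1 := Subtype.ext h1
        rw [this, orderOf_one] at hyo
        exact hR1 hyo.symm
      have hx1 : x ≠ 1 := by
        rintro rfl
        rw [one_pow] at hxp
        exact hy1 hxp.symm
      obtain ⟨k, hk⟩ := hA x
      obtain ⟨j, hj, hxo⟩ := (Nat.dvd_prime_pow hp.out).mp (orderOf_dvd_of_pow_eq_one hk)
      have hj0 : j ≠ 0 := by
        rintro rfl
        rw [pow_zero, orderOf_eq_one_iff] at hxo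
        exact hx1 hxo
      have hxpo : orderOf (x ^ p) = orderOf x / p := by
        rw [orderOf_pow' x hp.out.ne_zero]
        congr 1
        rw [hxo]
        exact Nat.gcd_eq_right (dvd_pow_self p hj0)
      have hyo' : orderOf (y : A) = Nat.card f.range := by rw [Subgroup.orderOf_coe, hyo]
      rw [hxp, hyo'] at hxpo
      have hxA : orderOf x = Nat.card A := by
        rw [← hcard, hkp, hxpo]
        rw [hxo]
        obtain ⟨i, rfl⟩ : ∃ i, j = i + 1 := ⟨j - 1, by omega⟩
        rw [pow_succ, Nat.mul_div_cancel _ hp.out.pos, mul_comm]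
      exact isCyclic_of_orderOf_eq_card x hxA

/-- A noncyclic abelian normal subgroup of a `p`-group contains a normal elementary abelian subgroup of order
`p ^ 2`. -/
theorem exists_normal_elem_sq {P : Type*} [Group P] [Finite P] {p : ℕ} [hp : Fact p.Prime]
    (hP : IsPGroup p P) (A : Subgroup P) [hAn : A.Normal] (hA : ∀ x ∈ A, ∀ y ∈ A, x * y = y * x)
    (hnc : ¬ IsCyclic A) :
    ∃ N : Subgroup P, N.Normal ∧ N ≤ A ∧ Nat.card N = p ^ 2 ∧ ∀ x ∈ N, x ^ p = 1 := by
  -- Ω₁(A)
  let E : Subgroup P :=
    { carrier := {x | x ∈ A ∧ x ^ p = 1}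
      one_mem' := ⟨one_mem _, one_pow _⟩
      mul_mem' := by
        rintro x y ⟨hx, hxp⟩ ⟨hy, hyp⟩
        refine ⟨mul_mem hx hy, ?_⟩
        have hc : Commute x y := hA x hx y hy
        rw [hc.mul_pow, hxp, hyp, one_mul]
      inv_mem' := by
        rintro x ⟨hx, hxp⟩
        exact ⟨inv_mem hx, by rw [inv_pow, hxp, inv_one]⟩ }
  have hEmem : ∀ x, x ∈ E ↔ x ∈ A ∧ x ^ p = 1 := fun x => Iff.rfl
  haveI hEn : E.Normal := by
    refine ⟨fun x hx g => ?_⟩
    rw [hEmem] at hx ⊢
    refine ⟨hAn.conj_mem x hx.1 g, ?_⟩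
    rw [conj_pow, hx.2]; group
  have hEA : E ≤ A := fun x hx => hx.1
  have hEp : IsPGroup p E := hP.to_subgroup E
  obtain ⟨e, he⟩ := IsPGroup.iff_card.mp hEp
  have he2 : 2 ≤ e := by
    by_contra hlt
    apply hnc
    letI : CommGroup A := { (inferInstance : Group A) with
      mul_comm := fun x y => Subtype.ext (hA x x.2 y y.2) }
    apply isCyclic_of_card_omega_le p _ A rfl (hP.to_subgroup A)
    have h1 : Nat.card {x : A // x ^ p = 1} = Nat.card E := by
      apply Nat.card_congr
      refine ⟨fun x => ⟨(x.1 : P), ⟨x.1.2, by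
          have := congrArg Subtype.val x.2
          simpa using this⟩⟩,
        fun y => ⟨⟨(y : P), y.2.1⟩, Subtype.ext (by simpa using y.2.2)⟩, ?_, ?_⟩
      · intro x; rfl
      · intro y; rfl
    rw [h1, he]
    have : e ≤ 1 := by omega
    calc p ^ e ≤ p ^ 1 := Nat.pow_le_pow_right hp.out.pos this
      _ = p := pow_one p
  -- first step
  have hEbot : (⊥ : Subgroup P) ≠ E := by
    intro h
    rw [← h, Subgroup.card_bot] at he
    have : p ^ 2 ≤ p ^ e := Nat.pow_le_pow_right hp.out.pos he2
    have := hp.out.two_le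
    nlinarith
  obtain ⟨N₁, hN₁n, -, hN₁E, hN₁rel⟩ := exists_normal_in hP ⊥ E bot_le hEbot
  have hN₁card : Nat.card N₁ = p := by rwa [Subgroup.relIndex_bot_left] at hN₁rel
  haveI := hN₁n
  have hN₁ne : N₁ ≠ E := by
    intro h
    rw [h, he] at hN₁card
    have : p ^ 2 ≤ p ^ e := Nat.pow_le_pow_right hp.out.pos he2
    have := hp.out.two_le
    nlinarith
  obtain ⟨N₂, hN₂n, hN₁₂, hN₂E, hN₂rel⟩ := exists_normal_in hP N₁ E hN₁E hN₁ne
  refine ⟨N₂, hN₂n, hN₂E.trans hEA, ?_, fun x hx => (hN₂E hx).2⟩
  rw [← card_mul_relIndex' hN₁₂, hN₁card, hN₂rel, pow_two]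

/-- If every normal abelian subgroup of the `p`-group `P` is cyclic then `P` is cyclic, or `p = 2` and
`P` has commutator quotient of order four (so is dihedral, semidihedral or generalized quaternion by Taussky). -/
theorem core {P : Type*} [Group P] [Finite P] (p : ℕ) [Fact p.Prime]
    (hP : IsPGroup p P) (hn : ∀ A : Subgroup P, A.Normal → IsMulCommutative A → IsCyclic A) :
    IsCyclic P ∨ (p = 2 ∧ (commutator P).index = 4 ∧ commutator P ≠ ⊥) := by
  have hp : p.Prime := Fact.out
  obtain ⟨A, -, hAn, hAc, hAmax⟩ := Cfsg.Agent.Lib.Helper53.exists_max_normal_abelian (⊥ : Subgroup P)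
    inferInstance (by
      intro x hx y hy
      rw [Subgroup.mem_bot] at hx hy
      rw [hx, hy])
  haveI := hAn
  have hAC := Cfsg.Agent.Lib.Helper53.centralizer_eq_of_max_normal_abelian hP A hAc hAmax
  have hAcomm : IsMulCommutative A := ⟨⟨fun x y => Subtype.ext (hAc x x.2 y y.2)⟩⟩
  have hAcyc : IsCyclic A := hn A hAn hAcomm
  by_cases hAtop : A = ⊤
  · left
    rw [hAtop] at hAcyc
    exact (Subgroup.topEquiv (G := P)).isCyclic.mp hAcyc
  right
  obtain ⟨a, rfl⟩ := (Subgroup.isCyclic_iff_exists_zpowers_eq_top A).mp hAcyc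
  have hApg : IsPGroup p (Subgroup.zpowers a) := hP.to_subgroup _
  obtain ⟨m, hm⟩ := IsPGroup.iff_card.mp hApg
  rw [Nat.card_zpowers] at hm
  obtain ⟨B₁, hB₁n, hAB₁, hrel⟩ := exists_normal_above hP (Subgroup.zpowers a) hAtop
  have hB₁nc : ¬ IsCyclic B₁ := by
    intro hcyc
    have hcomm : ∀ x ∈ B₁, ∀ y ∈ B₁, x * y = y * x := by
      intro x hx y hy
      have := (IsCyclic.commGroup (α := B₁)).mul_comm ⟨x, hx⟩ ⟨y, hy⟩
      exact congrArg Subtype.val this
    have := hAmax B₁ hB₁n hcomm hAB₁
    rw [this, Subgroup.relIndex_self] at hrel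
    exact hp.one_lt.ne hrel
  have hp2 : p = 2 := by
    by_contra hp2
    have hR : IsPGroup p B₁ := hP.to_subgroup _
    have hC : IsCyclic ((Subgroup.zpowers a).subgroupOf B₁) :=
      (Subgroup.subgroupOfEquivOfLe hAB₁).isCyclic.mpr inferInstance
    obtain ⟨W₀, hW₀, hW₀c⟩ := Cfsg.Agent.Lib.Helper29.exists_omega_card_sq hp2 hR hB₁nc
      ((Subgroup.zpowers a).subgroupOf B₁) hC hrel
    set W := W₀.map B₁.subtype with hW
    have hmemW : ∀ x : P, x ∈ W ↔ x ∈ B₁ ∧ x ^ p = 1 := by
      intro x
      constructor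
      · rintro ⟨w, hw, rfl⟩
        refine ⟨w.2, ?_⟩
        have := (hW₀ w).mp hw
        have := congrArg Subtype.val this
        simpa using this
      · rintro ⟨hx, hxp⟩
        refine ⟨⟨x, hx⟩, (hW₀ _).mpr (Subtype.ext ?_), rfl⟩
        simpa using hxp
    have hWn : W.Normal := by
      refine ⟨fun x hx g => ?_⟩
      rw [hmemW] at hx ⊢
      refine ⟨hB₁n.conj_mem x hx.1 g, ?_⟩
      rw [conj_pow, hx.2]; group
    have hWcard : Nat.card W = p ^ 2 := by
      rw [← hW₀c]
      exact Nat.card_congr (Subgroup.equivMapOfInjective W₀ B₁.subtype B₁.subtype_injective).symm.toEquiv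
    have hWcomm : IsMulCommutative W := IsPGroup.isMulCommutative_of_card_eq_prime_sq hWcard
    have hWcyc : IsCyclic W := hn W hWn hWcomm
    obtain ⟨w, hw⟩ := hWcyc.exists_generator
    have hwo : orderOf w = p ^ 2 := by rw [orderOf_eq_card_of_forall_mem_zpowers hw, hWcard]
    have hwp : w ^ p = 1 := by
      apply Subtype.ext
      have := ((hmemW w).mp w.2).2
      simpa using this
    have := orderOf_dvd_of_pow_eq_one hwp
    rw [hwo] at this
    have := Nat.le_of_dvd hp.pos this
    have : p < p ^ 2 := by nlinarith [hp.two_le]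
    omega
  subst hp2
  refine ⟨rfl, ?_⟩
  have hm2 : 2 ≤ m := by
    by_contra hlt
    apply hAtop
    rw [← hAC, Subgroup.centralizer_eq_top_iff_subset]
    have ha2 : a ^ 2 = 1 := by
      have : orderOf a ∣ 2 := by
        rw [hm]
        have : m ≤ 1 := by omega
        calc 2 ^ m ∣ 2 ^ 1 := pow_dvd_pow 2 this
          _ = 2 := by norm_num
      exact orderOf_dvd_iff_pow_eq_one.mp this
    intro x hx
    obtain ⟨j, rfl⟩ := Subgroup.mem_zpowers_iff.mp hx
    rw [SetLike.mem_coe, Subgroup.mem_center_iff]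
    intro g
    have hga : g * a * g⁻¹ = a := by
      by_cases hm0 : m = 0
      · rw [hm0, pow_zero, orderOf_eq_one_iff] at hm
        rw [hm]; group
      · obtain ⟨r, hr, hodd⟩ := exists_exp a m (by omega) hm g
        obtain ⟨s, hs⟩ : ∃ s, r = 2 * s + 1 := ⟨r / 2, by omega⟩
        rw [hr, hs, pow_succ, pow_mul, ha2, one_pow, one_mul]
    have hc : Commute g a := by
      show g * a = a * g
      calc g * a = g * a * g⁻¹ * g := by group
        _ = a * g := by rw [hga]
    exact (hc.zpow_right j).eq
  have hidx2 : (Subgroup.zpowers a).index = 2 := by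
    by_contra hne
    have key : ∃ h : P, h ∉ Subgroup.zpowers a ∧ h * h ∈ Subgroup.zpowers a ∧ Good a h := by
      by_cases hex : ∃ x : P, x * x ∉ Subgroup.zpowers a
      · obtain ⟨x, hx⟩ := hex
        obtain ⟨N, hN⟩ := IsPGroup.iff_card.mp hP
        have hfin : ∃ j : ℕ, (x * x) ^ (2 ^ j) ∈ Subgroup.zpowers a := by
          refine ⟨N, ?_⟩
          rw [← hN, pow_card_eq_one']
          exact one_mem _
        classical
        have hj0 : Nat.find hfin ≠ 0 := by
          intro h0
          have := Nat.find_spec hfin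
          rw [h0, pow_zero, pow_one] at this
          exact hx this
        obtain ⟨i, hi⟩ : ∃ i, Nat.find hfin = i + 1 := ⟨Nat.find hfin - 1, by omega⟩
        refine ⟨(x * x) ^ (2 ^ i), ?_, ?_, ?_⟩
        · exact Nat.find_min hfin (by omega)
        · have := Nat.find_spec hfin
          rw [hi, pow_succ, pow_mul, pow_two] at this
          exact this
        · have : (x * x) ^ (2 ^ i) = x ^ (2 ^ i) * x ^ (2 ^ i) := by
            rw [← pow_two, ← pow_mul, mul_comm, pow_mul, pow_two]
          rw [this]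
          exact good_sq a m (by omega) hm _
      · push Not at hex
        obtain ⟨g, hg⟩ : ∃ g : P, g ∉ Subgroup.zpowers a := by
          by_contra hno
          push Not at hno
          exact hAtop (Subgroup.eq_top_iff' _ |>.mpr hno)
        rcases good_or_bad a m (by omega) hm g with hgood | hbad
        · exact ⟨g, hg, hex g, hgood⟩
        · by_cases hall : ∀ g' : P, g' ∈ Subgroup.zpowers a ∨ g' * g ∈ Subgroup.zpowers a
          · exfalso
            apply hne
            rw [Subgroup.index_eq_two_iff]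
            refine ⟨g, fun b => ?_⟩
            rcases hall b with h1 | h1
            · refine Or.inr ⟨h1, fun h2 => hg ?_⟩
              have := Subgroup.mul_mem _ (Subgroup.inv_mem _ h1) h2
              simpa using this
            · by_cases h2 : b ∈ Subgroup.zpowers a
              · exfalso
                apply hg
                have := Subgroup.mul_mem _ (Subgroup.inv_mem _ h2) h1
                simpa using this
              · exact Or.inl ⟨h1, h2⟩
          · push Not at hall
            obtain ⟨g', hg'1, hg'2⟩ := hall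
            rcases good_or_bad a m (by omega) hm g' with h1 | h1
            · exact ⟨g', hg'1, hex g', h1⟩
            · exact ⟨g' * g, hg'2, hex _, bad_mul_bad a h1 hbad⟩
    obtain ⟨h, hh, hh2, hgood⟩ := key
    obtain ⟨W, hWn, hWc, hWnc⟩ := four_group_of_good a m hm2 hm hAC h hh hh2 hgood
    exact hWnc (hn W hWn hWc)
  obtain ⟨g, hg⟩ : ∃ g : P, g ∉ Subgroup.zpowers a := by
    by_contra hno
    push Not at hno
    exact hAtop (Subgroup.eq_top_iff' _ |>.mpr hno)
  have hbad : Bad a g := by
    rcases good_or_bad a m (by omega) hm g with hgood | hbad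
    · exfalso
      obtain ⟨W, hWn, hWc, hWnc⟩ := four_group_of_good a m hm2 hm hAC g hg
        (Subgroup.mul_self_mem_of_index_two hidx2 g) hgood
      exact hWnc (hn W hWn hWc)
    · exact hbad
  exact index_four a m hm2 hm hidx2 g hbad

/-- A finite `p`-group has a normal elementary abelian subgroup of order `p ^ 2`, unless it is cyclic, or
`p = 2` and its commutator quotient has order four. -/
theorem normal_rank_two {P : Type*} [Group P] [Finite P] (p : ℕ) [Fact p.Prime] (hP : IsPGroup p P) :
    (∃ N : Subgroup P, N.Normal ∧ Nat.card N = p ^ 2 ∧ ∀ x ∈ N, x ^ p = 1) ∨ IsCyclic P ∨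
      (p = 2 ∧ (commutator P).index = 4 ∧ commutator P ≠ ⊥) := by
  by_cases hn : ∀ A : Subgroup P, A.Normal → IsMulCommutative A → IsCyclic A
  · right
    exact core p hP hn
  · left
    push Not at hn
    obtain ⟨A, hAn, hAc, hAnc⟩ := hn
    haveI := hAn
    have hA : ∀ x ∈ A, ∀ y ∈ A, x * y = y * x := by
      intro x hx y hy
      have := hAc.is_comm.comm ⟨x, hx⟩ ⟨y, hy⟩
      exact congrArg Subtype.val this
    obtain ⟨N, hNn, -, hNc, hNe⟩ := exists_normal_elem_sq hP A hA hAnc
    exact ⟨N, hNn, hNc, hNe⟩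

end Cfsg.Agent.Lib.Helper52
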