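import Mathlib
import Cfsg.Agent.Lib.Helper90.RtR7CCNT
import Cfsg.Agent.Lib.Helper25.RtR7CCYC

/-! # RT-R7CENT (Rt hive, helper12): `r7_cent` (helper52) -/

set_option autoImplicit false
set_option linter.unusedSectionVars false
set_option linter.unusedVariables false

namespace Cfsg.Agent.Lib.Helper12.Rt

open Module

/-- `q` has order `6` modulo `p`: `q^a ≡ q^b` forces `6 ∣ a - b` -/
theorem r7cent_six_dvd (p q : ℕ) (hp : p.Prime) (hpq : ¬ p ∣ q) (hp6 : p ∣ q ^ 6 - 1)
    (hpk : ∀ k : ℕ, 1 ≤ k → k < 6 → ¬ p ∣ q ^ k - 1) {a b : ℕ} (hab : b ≤ a)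
    (h : q ^ a ≡ q ^ b [MOD p]) : 6 ∣ a - b := by
  haveI : Fact p.Prime := ⟨hp⟩
  have hq1 : 1 ≤ q := by
    rcases Nat.eq_zero_or_pos q with h0 | h0
    · exact absurd (h0 ▸ dvd_zero p) hpq
    · exact h0
  set z : ZMod p := (q : ZMod p) with hz
  have hz0 : z ≠ 0 := by
    rw [hz, Ne, ZMod.natCast_eq_zero_iff]
    exact hpq
  have hcast : ∀ k : ℕ, p ∣ q ^ k - 1 ↔ z ^ k = 1 := by
    intro k
    have h1 : 1 ≤ q ^ k := Nat.one_le_pow _ _ hq1
    rw [← ZMod.natCast_eq_zero_iff, Nat.cast_sub h1, Nat.cast_pow, Nat.cast_one, sub_eq_zero]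
  have hord : orderOf z = 6 := by
    rw [orderOf_eq_iff (by norm_num)]
    refine ⟨(hcast 6).mp hp6, fun m hm hm0 => ?_⟩
    intro hzm
    exact hpk m hm0 hm ((hcast m).mpr hzm)
  have hzab : z ^ (a - b) = 1 := by
    have h1 : z ^ a = z ^ b := by
      have := (ZMod.natCast_eq_natCast_iff _ _ _).mpr h
      simpa [hz] using this
    have h2 : z ^ (a - b) * z ^ b = 1 * z ^ b := by
      rw [← pow_add, Nat.sub_add_cancel hab, one_mul, h1]
    exact mul_right_cancel₀ (pow_ne_zero _ hz0) h2
  rw [← hord]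
  exact orderOf_dvd_of_pow_eq_one hzab

/-- RT-R7CENT -/
theorem r7_cent {K : Type*} [Field K] [Fintype K] {W : Type*} [AddCommGroup W] [Module K W]
    (hW : Module.finrank K W = 7) {G : Type*} [Group G] [Finite G]
    (ρ : G →* Module.End K W) (hρ : Function.Injective ρ)
    (p : ℕ) (hp : p.Prime) (hpK : ¬ p ∣ Fintype.card K) (hp6 : p ∣ Fintype.card K ^ 6 - 1)
    (hpq : ∀ k : ℕ, 1 ≤ k → k < 6 → ¬ p ∣ Fintype.card K ^ k - 1)
    (x : G) (hx : orderOf x = p)
    (C : Subgroup G) (hxC : ∀ c ∈ C, c * x = x * c) (hC : (Nat.card C).Coprime (Fintype.card K - 1)) :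
    IsCyclic C := by
  classical
  haveI : Module.Finite K W := Module.finite_of_finrank_pos (by omega)
  set q := Fintype.card K with hq
  set T : Module.End K W := ρ x with hT
  have hTp : T ^ p = 1 := by
    rw [hT, ← map_pow, ← hx, pow_orderOf_eq_one, map_one]
  have hT1 : T ≠ 1 := by
    intro h
    have : x = 1 := hρ (by rw [← hT, h, map_one])
    rw [this, orderOf_one] at hx
    exact hp.one_lt.ne hx
  -- `p` is invertible in `K`
  have hpK0 : (p : K) ≠ 0 := by
    obtain ⟨ℓ, hℓ⟩ := CharP.exists K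
    haveI := hℓ
    obtain ⟨n, hℓp, hcard⟩ := FiniteField.card K ℓ
    intro h0
    have h1 : ℓ ∣ p := (CharP.cast_eq_zero_iff K ℓ p).mp h0
    have h2 : ℓ = p := (Nat.prime_dvd_prime_iff_eq hℓp hp).mp h1
    apply hpK
    rw [hq, hcard, h2]
    exact dvd_pow_self p n.ne_zero
  set L : Submodule K W := LinearMap.ker (T - 1) with hL
  set M : Submodule K W := LinearMap.range (T - 1) with hM
  have hTL : ∀ w ∈ L, T w = w := by
    intro w hw
    have : (T - 1) w = 0 := hw
    rw [LinearMap.sub_apply, Module.End.one_apply, sub_eq_zero] at this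
    exact this
  -- `S = 1 + T + ... + T^(p-1)` kills `M` and is `p` on `L`
  have hLM : L ⊓ M = ⊥ := by
    rw [eq_bot_iff]
    rintro w ⟨hwL, u, rfl⟩
    have hfix : T ((T - 1) u) = (T - 1) u := hTL _ hwL
    have hpow : ∀ k : ℕ, (T ^ k) ((T - 1) u) = (T - 1) u := by
      intro k
      induction k with
      | zero => simp
      | succ k ih => rw [pow_succ, Module.End.mul_apply, hfix, ih]
    have hsum : (∑ k ∈ Finset.range p, T ^ k) ((T - 1) u) = (p : K) • ((T - 1) u) := by
      rw [LinearMap.sum_apply, Finset.sum_congr rfl (fun k _ => hpow k), Finset.sum_const,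
        Finset.card_range, Nat.cast_smul_eq_nsmul]
    have hzero : (∑ k ∈ Finset.range p, T ^ k) ((T - 1) u) = 0 := by
      rw [← Module.End.mul_apply, geom_sum_mul, hTp, sub_self, LinearMap.zero_apply]
    rw [hsum] at hzero
    rcases smul_eq_zero.mp hzero with h | h
    · exact absurd h hpK0
    · exact h
  have hdim : finrank K M + finrank K L = 7 := by
    rw [← hW]
    exact LinearMap.finrank_range_add_finrank_ker (T - 1)
  have hsix : ∀ {a b : ℕ}, b ≤ a → q ^ a ≡ q ^ b [MOD p] → 6 ∣ a - b :=
    fun hab h => r7cent_six_dvd p q hp hpK hp6 hpq hab h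
  -- `dim L = 1`
  have hdL : finrank K L = 1 := by
    have h1 := r7cent_card_modEq p hp T hTp
    rw [hW] at h1
    have hle : finrank K L ≤ 7 := by omega
    have h6 := hsix hle h1
    have hne7 : finrank K L ≠ 7 := by
      intro h7
      apply hT1
      have htop : L = ⊤ := Submodule.eq_top_of_finrank_eq (by rw [h7, hW])
      ext w
      rw [Module.End.one_apply]
      exact hTL w (htop ▸ Submodule.mem_top)
    omega
  have hdM : finrank K M = 6 := by omega
  have hsup : L ⊔ M = ⊤ := by
    apply Submodule.eq_top_of_finrank_eq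
    have := Submodule.finrank_sup_add_finrank_inf_eq L M
    rw [hLM, finrank_bot, add_zero] at this
    rw [this, hW]
    omega
  -- commutation
  have hcommT : ∀ c ∈ C, ρ c * T = T * ρ c := by
    intro c hc
    rw [hT, ← map_mul, ← map_mul, hxC c hc]
  have hTM : ∀ w ∈ M, T w ∈ M := by
    rintro _ ⟨u, rfl⟩
    refine ⟨T u, ?_⟩
    simp only [LinearMap.sub_apply, Module.End.one_apply, map_sub]
  have hcM : ∀ c ∈ C, ∀ w ∈ M, ρ c w ∈ M := by
    rintro c hc _ ⟨u, rfl⟩
    refine ⟨ρ c u, ?_⟩
    have h1 : ρ c (T u) = T (ρ c u) := by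
      rw [← Module.End.mul_apply, hcommT c hc, Module.End.mul_apply]
    simp only [LinearMap.sub_apply, Module.End.one_apply, map_sub, h1]
  have hcL : ∀ c ∈ C, ∀ w ∈ L, ρ c w ∈ L := by
    intro c hc w hw
    show (T - 1) (ρ c w) = 0
    have h1 : T (ρ c w) = ρ c (T w) := by
      rw [← Module.End.mul_apply, ← hcommT c hc, Module.End.mul_apply]
    rw [LinearMap.sub_apply, Module.End.one_apply, h1, hTL w hw, sub_self]
  -- `C` acts trivially on the line `L`
  have hLtriv : ∀ c ∈ C, ∀ w ∈ L, ρ c w = w := by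
    intro c hc
    obtain ⟨l₀, hl₀, hspan⟩ := (finrank_eq_one_iff' (K := K) (V := L)).mp hdL
    obtain ⟨lam, hlam⟩ := hspan ⟨ρ c (l₀ : W), hcL c hc _ l₀.2⟩
    have hlam' : ρ c (l₀ : W) = lam • (l₀ : W) := by
      have := congrArg Subtype.val hlam
      simpa using this.symm
    have hl₀W : (l₀ : W) ≠ 0 := fun h => hl₀ (Subtype.ext h)
    have hpow : ∀ k : ℕ, (ρ c ^ k) (l₀ : W) = lam ^ k • (l₀ : W) := by
      intro k
      induction k with
      | zero => simp
      | succ k ih =>
        rw [pow_succ, Module.End.mul_apply, hlam', map_smul, ih, smul_smul, pow_succ, mul_comm]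
    have hlamC : lam ^ Nat.card C = 1 := by
      have h1 : c ^ Nat.card C = 1 := by
        have := pow_card_eq_one' (G := C) (x := ⟨c, hc⟩)
        have h2 := congrArg Subtype.val this
        rw [Subgroup.coe_pow, Subgroup.coe_one] at h2
        exact h2
      have h2 := hpow (Nat.card C)
      rw [← map_pow, h1, map_one, Module.End.one_apply] at h2
      have h3 : (lam ^ Nat.card C - 1) • (l₀ : W) = 0 := by
        rw [sub_smul, one_smul, ← h2, sub_self]
      rcases smul_eq_zero.mp h3 with h | h
      · exact sub_eq_zero.mp h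
      · exact absurd h hl₀W
    have hlam0 : lam ≠ 0 := by
      intro h0
      rw [h0, zero_pow (Nat.card_pos (α := C)).ne'] at hlamC
      exact zero_ne_one hlamC
    have hlamq : lam ^ (q - 1) = 1 := FiniteField.pow_card_sub_one_eq_one lam hlam0
    have hlam1 : lam = 1 := (pow_eq_one_iff_of_coprime hC).mp ⟨hlamC, hlamq⟩
    intro w hw
    obtain ⟨a, ha⟩ := hspan ⟨w, hw⟩
    have ha' : w = a • (l₀ : W) := by
      have := congrArg Subtype.val ha
      simpa using this.symm
    rw [ha', map_smul, hlam', hlam1, one_smul]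
  -- the action on `M`
  haveI : Nontrivial M := by
    apply Module.nontrivial_of_finrank_pos (R := K)
    omega
  set S : Module.End K M := T.restrict hTM with hS
  have hSp : S ^ p = 1 := by
    rw [hS, Module.End.pow_restrict p hTM]
    ext w
    simp [hTp]
  let f : C →* Module.End K M :=
    { toFun := fun c => (ρ c.1).restrict (hcM c.1 c.2)
      map_one' := by
        ext w
        simp
      map_mul' := by
        intro c d
        ext w
        simp }
  have hfapp : ∀ (c : C) (w : M), ((f c) w : W) = ρ c.1 (w : W) := fun c w => rfl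
  have hfinj : Function.Injective f := by
    rw [injective_iff_map_eq_one]
    intro c hc1
    have hall : ∀ w : W, ρ c.1 w = w := by
      intro w
      have hw : w ∈ L ⊔ M := hsup ▸ Submodule.mem_top
      obtain ⟨l, hl, m, hm, rfl⟩ := Submodule.mem_sup.mp hw
      rw [map_add, hLtriv c.1 c.2 l hl]
      have := hfapp c ⟨m, hm⟩
      rw [hc1, Module.End.one_apply] at this
      rw [← this]
    have : ρ c.1 = ρ 1 := by
      rw [map_one]
      ext w
      rw [hall w, Module.End.one_apply]
    exact Subtype.ext (hρ this)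
  have hfcomm : ∀ c : C, f c * S = S * f c := by
    intro c
    ext w
    show ρ c.1 (T (w : W)) = T (ρ c.1 (w : W))
    rw [← Module.End.mul_apply, hcommT c.1 c.2, Module.End.mul_apply]
  -- `M` is simple
  have hsimple : ∀ N : Submodule K M, (∀ v ∈ N, S v ∈ N) → N = ⊥ ∨ N = ⊤ := by
    intro N hN
    have hSNp : (S.restrict hN) ^ p = 1 := by
      rw [Module.End.pow_restrict p hN]
      ext w
      simp [hSp]
    have h1 := r7cent_card_modEq p hp (S.restrict hN) hSNp
    have hker : LinearMap.ker (S.restrict hN - 1) = ⊥ := by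
      rw [eq_bot_iff]
      intro v hv
      have hv' : (S.restrict hN - 1) v = 0 := hv
      rw [LinearMap.sub_apply, Module.End.one_apply, sub_eq_zero] at hv'
      have h2 : T ((v : M) : W) = ((v : M) : W) := by
        have := congrArg (fun z : N => ((z : M) : W)) hv'
        simpa [hS] using this
      have h3 : ((v : M) : W) ∈ L ⊓ M := by
        refine ⟨?_, (v : M).2⟩
        show (T - 1) ((v : M) : W) = 0
        rw [LinearMap.sub_apply, Module.End.one_apply, h2, sub_self]
      rw [hLM] at h3
      have h4 : ((v : M) : W) = 0 := h3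
      rw [Submodule.mem_bot]
      exact Subtype.ext (Subtype.ext h4)
    rw [hker, finrank_bot] at h1
    have h6 := hsix (Nat.zero_le _) h1
    have hle : finrank K N ≤ 6 := by
      rw [← hdM]
      exact Submodule.finrank_le N
    rcases Nat.eq_zero_or_pos (finrank K N) with h0 | h0
    · left
      exact Submodule.finrank_eq_zero.mp h0
    · right
      apply Submodule.eq_top_of_finrank_eq
      rw [hdM]
      omega
  exact r7cent_cyclic_of_simple S hsimple f hfinj hfcomm

end Cfsg.Agent.Lib.Helper12.Rt
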