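import Cfsg.Agent.Lib.Helper52.Subpairs

/-!
# Uniqueness of subpairs

`existsUnique_subpairLE`: for a Brauer pair `(P, e)` and `Q ≤ P` there is exactly one block `f` of
`C_G(Q)` with `(Q, f) ≤ (P, e)`.
-/

set_option autoImplicit false

universe u

namespace Cfsg.Agent.Lib.Helper52.Subpairs

open Cfsg
open Cfsg.Agent.Lib.Helper77 Cfsg.Agent.Lib.Helper81 Cfsg.Agent.Lib.Helper80
open Cfsg.Agent.Lib.Helper52.PStable

variable {G : Type u} [Group G] [Fintype G]

/-- A normal inclusion between pairs on the same subgroup is an equality. -/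
theorem normalSubpair_eq_of_eq {p : ℕ} [Fact p.Prime] {M : Ideal AlgInt} (hpM : IsPModular p M)
    {a b : BrauerPairIdx G} (h : NormalSubpairRel p M a b) (hab : a.1 = b.1) : a = b := by
  classical
  have hM : M.IsPrime := isPrime_of_isPModular hpM
  obtain ⟨Q, f⟩ := a
  obtain ⟨P, e⟩ := b
  have hQP : Q = P := hab
  subst hQP
  have := Fintype.ofFinite (Subgroup.centralizer (Q : Set G))
  obtain ⟨⟨-, hfb⟩, ⟨-, heb⟩, -, -, -, h1⟩ := h
  obtain ⟨ξ₀, hξ₀⟩ := exists_mem_of_isPBlock hM heb
  have h2 := h1 ξ₀ hξ₀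
  rw [brauerOmega_subgroupBlockCoeff Q _ le_rfl] at h2
  have h3 : lamC Q (Subgroup.centralizer (Q : Set G)) le_rfl
      (ξ₀ : Subgroup.centralizer (Q : Set G) → ℂ) (blockCoeff f) =
      if ξ₀ ∈ f then 1 else 0 := by
    show omega _ (resC Q _ le_rfl (blockCoeff f)) = _
    rw [resC_self, omega_blockCoeff]
  rw [h3] at h2
  have hmem : ξ₀ ∈ f := by
    by_contra hcon
    rw [if_neg hcon, zero_sub] at h2
    have := memLocalIdeal_neg h2
    rw [neg_neg] at this
    exact not_memLocalIdeal_one hM this
  have : f = e := eq_of_isPBlock_of_mem hM hfb heb hmem hξ₀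
  rw [this]

/-- Decomposition of an inclusion: it is trivial or ends with a proper normal step. -/
theorem subpairLE_cases {p : ℕ} [Fact p.Prime] {M : Ideal AlgInt} (hpM : IsPModular p M)
    {a b : BrauerPairIdx G} (h : Relation.ReflTransGen (NormalSubpairRel p M) a b) :
    a = b ∨ ∃ c : BrauerPairIdx G, Relation.ReflTransGen (NormalSubpairRel p M) a c ∧
      NormalSubpairRel p M c b ∧ c.1 ≠ b.1 := by
  induction h with
  | refl => exact Or.inl rfl
  | tail hac hcb ih =>
    rename_i c b
    by_cases hcb1 : c.1 = b.1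
    · have hcb2 : c = b := normalSubpair_eq_of_eq hpM hcb hcb1
      rw [← hcb2]
      exact ih
    · exact Or.inr ⟨c, hac, hcb, hcb1⟩

/-- Existence of subpairs. -/
theorem exists_subpairLE {p : ℕ} [Fact p.Prime] {M : Ideal AlgInt} (hpM : IsPModular p M) :
    ∀ (n : ℕ) (P Q : Subgroup G) (e : Set (IrrCharacter (Subgroup.centralizer (P : Set G)))),
      Nat.card P - Nat.card Q = n → IsBrauerPair p M P e → Q ≤ P →
      ∃ f : Set (IrrCharacter (Subgroup.centralizer (Q : Set G))),
        IsPBlock M f ∧ SubpairLE p M Q f P e := by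
  intro n
  induction n using Nat.strong_induction_on with
  | _ n ih =>
    intro P Q e hn hPe hQP
    by_cases hQeq : Q = P
    · subst hQeq
      exact ⟨e, hPe.2, Relation.ReflTransGen.refl⟩
    · have hlt : Q < P := lt_of_le_of_ne hQP hQeq
      obtain ⟨y, hyP, hyN, hyQ⟩ :=
        Cfsg.Agent.Lib.Helper72.exists_mem_normalizer_not_mem hPe.1 hlt
      -- the normalizer of `Q` in `P`
      set N : Subgroup G := P ⊓ Subgroup.normalizer (Q : Set G) with hN
      have hQN : Q ≤ N := le_inf hQP Subgroup.le_normalizer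
      have hNP : N ≤ P := inf_le_left
      have hQNlt : Q < N := by
        refine lt_of_le_of_ne hQN ?_
        intro hcon
        apply hyQ
        rw [hcon]
        exact ⟨hyP, hyN⟩
      have hcardQN : Nat.card Q < Nat.card N := by
        by_contra hcon
        push Not at hcon
        exact hQNlt.ne (Subgroup.eq_of_le_of_card_ge hQN hcon)
      have hcardNP : Nat.card N ≤ Nat.card P := Subgroup.card_le_of_le hNP
      have hcardQP : Nat.card Q ≤ Nat.card P := Subgroup.card_le_of_le hQP
      obtain ⟨g, hgb, hgle⟩ := ih (Nat.card P - Nat.card N) (by omega) P N e rfl hPe hNP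
      have hNg : IsBrauerPair p M N g := ⟨hPe.1.to_le hNP, hgb⟩
      obtain ⟨f, hf, -⟩ := existsUnique_isNormalSubpair hpM N Q g hNg hQN inf_le_right
      have hstep : NormalSubpairRel p M (⟨Q, f⟩ : BrauerPairIdx G) ⟨N, g⟩ := hf
      exact ⟨f, hf.1.2, Relation.ReflTransGen.head hstep hgle⟩

/-- Uniqueness of subpairs. -/
theorem subpairLE_unique {p : ℕ} [Fact p.Prime] {M : Ideal AlgInt} (hpM : IsPModular p M) :
    ∀ (n : ℕ) (P Q : Subgroup G) (e : Set (IrrCharacter (Subgroup.centralizer (P : Set G))))
      (f f' : Set (IrrCharacter (Subgroup.centralizer (Q : Set G)))),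
      Nat.card P = n → IsBrauerPair p M P e → SubpairLE p M Q f P e → SubpairLE p M Q f' P e →
      f = f' := by
  intro n
  induction n using Nat.strong_induction_on with
  | _ n ih =>
    intro P Q e f f' hn hPe hf hf'
    rcases subpairLE_cases hpM hf with h1 | ⟨⟨R, g⟩, hfR, hRP, hRne⟩
    · rcases subpairLE_cases hpM hf' with h2 | ⟨⟨R', g'⟩, hfR', hRP', hRne'⟩
      · have h3 : (⟨Q, f⟩ : BrauerPairIdx G) = ⟨Q, f'⟩ := h1.trans h2.symm
        exact eq_of_heq (Sigma.mk.inj_iff.mp h3).2
      · exfalso
        have hQP : Q = P := congrArg Sigma.fst h1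
        have hQR' : Q ≤ R' := le_of_reflTransGen hfR'
        have hR'P : R' ≤ P := hRP'.2.2.1
        apply hRne'
        show R' = P
        exact le_antisymm hR'P (hQP ▸ hQR')
    · rcases subpairLE_cases hpM hf' with h2 | ⟨⟨R', g'⟩, hfR', hRP', hRne'⟩
      · exfalso
        have hQP : Q = P := congrArg Sigma.fst h2
        have hQR : Q ≤ R := le_of_reflTransGen hfR
        have hRP' : R ≤ P := hRP.2.2.1
        apply hRne
        show R = P
        exact le_antisymm hRP' (hQP ▸ hQR)
      · -- both chains end with a proper normal step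
        have hRP1 : IsNormalSubpair p M R g P e := hRP
        have hRP1' : IsNormalSubpair p M R' g' P e := hRP'
        have hRleP : R ≤ P := hRP1.2.2.1
        have hR'leP : R' ≤ P := hRP1'.2.2.1
        have hRne1 : R ≠ P := hRne
        have hR'ne1 : R' ≠ P := hRne'
        have hQR : Q ≤ R := le_of_reflTransGen hfR
        have hQR' : Q ≤ R' := le_of_reflTransGen hfR'
        -- the intersection
        set T : Subgroup G := R ⊓ R' with hT
        have hTP : T ≤ P := inf_le_left.trans hRleP
        have hQT : Q ≤ T := le_inf hQR hQR'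
        have hPNT : P ≤ Subgroup.normalizer (T : Set G) := by
          intro x hx
          have hxR := hRP1.2.2.2.1 hx
          have hxR' := hRP1'.2.2.2.1 hx
          rw [Subgroup.mem_normalizer_iff] at hxR hxR' ⊢
          intro t
          constructor
          · intro ht
            exact ⟨(hxR t).mp ht.1, (hxR' t).mp ht.2⟩
          · intro ht
            exact ⟨(hxR t).mpr ht.1, (hxR' t).mpr ht.2⟩
        obtain ⟨h, hh, -⟩ := existsUnique_isNormalSubpair hpM P T e hPe hTP hPNT
        have hTR : IsNormalSubpair p M T h R g := diamond hpM inf_le_left hh hRP1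
        have hTR' : IsNormalSubpair p M T h R' g' := diamond hpM inf_le_right hh hRP1'
        obtain ⟨f'', -, hf''⟩ := exists_subpairLE hpM _ T Q h rfl hh.1 hQT
        have hcardR : Nat.card R < n := by
          rw [← hn]
          by_contra hcon
          push Not at hcon
          exact hRne1 (Subgroup.eq_of_le_of_card_ge hRleP hcon)
        have hcardR' : Nat.card R' < n := by
          rw [← hn]
          by_contra hcon
          push Not at hcon
          exact hR'ne1 (Subgroup.eq_of_le_of_card_ge hR'leP hcon)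
        have hstepR : NormalSubpairRel p M (⟨T, h⟩ : BrauerPairIdx G) ⟨R, g⟩ := hTR
        have hstepR' : NormalSubpairRel p M (⟨T, h⟩ : BrauerPairIdx G) ⟨R', g'⟩ := hTR'
        have e1 : f = f'' := ih (Nat.card R) hcardR R Q g f f'' rfl hRP1.1 hfR
          (Relation.ReflTransGen.tail hf'' hstepR)
        have e2 : f' = f'' := ih (Nat.card R') hcardR' R' Q g' f' f'' rfl hRP1'.1 hfR'
          (Relation.ReflTransGen.tail hf'' hstepR')
        rw [e1, e2]

/-- **Uniqueness of subpairs.** -/
theorem existsUnique_subpairLE {p : ℕ} [Fact p.Prime] {M : Ideal AlgInt}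
    (hpM : IsPModular p M) (P Q : Subgroup G)
    (e : Set (IrrCharacter (Subgroup.centralizer (P : Set G))))
    (hPe : IsBrauerPair p M P e) (hQP : Q ≤ P) :
    ∃! f : Set (IrrCharacter (Subgroup.centralizer (Q : Set G))),
      IsPBlock M f ∧ SubpairLE p M Q f P e := by
  obtain ⟨f, hfb, hf⟩ := exists_subpairLE hpM _ P Q e rfl hPe hQP
  refine ⟨f, ⟨hfb, hf⟩, ?_⟩
  rintro f' ⟨-, hf'⟩
  exact subpairLE_unique hpM _ P Q e f' f rfl hPe hf' hf

end Cfsg.Agent.Lib.Helper52.Subpairs
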