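import Cfsg.Agent.Lib.Helper52.ConjPairs
import Cfsg.Agent.Lib.Helper52.Subpairs2
import Cfsg.Agent.Lib.Helper77.DefectGroup
import Cfsg.Agent.Lib.Helper77.DefectConj

/-!
# Defect classes and Brauer pairs

`exists_isDefectClass_of_normalSubpair`: if `(Q, f) ⊴ (P, e)` then `f` has a defect class
represented by an element of `C_G(P)`.
-/

set_option autoImplicit false

universe u

namespace Cfsg.Agent.Lib.Helper52.DefectPairs

open Cfsg
open Cfsg.Agent.Lib.Helper77 Cfsg.Agent.Lib.Helper81 Cfsg.Agent.Lib.Helper80
open Cfsg.Agent.Lib.Helper52.PStable Cfsg.Agent.Lib.Helper52.Subpairs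
open Cfsg.Agent.Lib.Helper52.ConjPairs

/-- A class function is the combination of the class indicators. -/
theorem eq_sum_classInd {K : Type u} [Group K] [Fintype K] [Fintype (ConjClasses K)] {a : K → ℂ}
    (ha : IsClassFunction K a) (k : K) :
    a k = ∑ c : ConjClasses K, a (Quotient.out c) * classInd (Quotient.out c) k := by
  classical
  rw [Finset.sum_eq_single (ConjClasses.mk k)]
  · have hconj : IsConj (Quotient.out (ConjClasses.mk k)) k :=
      ConjClasses.mk_eq_mk_iff_isConj.mp (Quotient.out_eq (ConjClasses.mk k))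
    unfold classInd
    rw [if_pos hconj, mul_one]
    exact (isClassFunction_of_isConj ha hconj).symm
  · intro c _ hc
    unfold classInd
    rw [if_neg, mul_zero]
    intro h
    apply hc
    have h2 : ConjClasses.mk (Quotient.out c) = c := Quotient.out_eq c
    rw [← h2]
    exact ConjClasses.mk_eq_mk_iff_isConj.mpr h
  · intro h
    exact absurd (Finset.mem_univ _) h

/-- An additive functional commutes with finite sums. -/
theorem lin_finset_sum {K : Type u} (lam : (K → ℂ) → ℂ)
    (hadd : ∀ a b, lam (a + b) = lam a + lam b) {ι : Type*} (T : Finset ι) (g : ι → K → ℂ) :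
    lam (∑ i ∈ T, g i) = ∑ i ∈ T, lam (g i) := by
  classical
  have h0 : lam 0 = 0 := by
    have := hadd 0 0
    rw [add_zero] at this
    exact left_eq_add.mp this
  induction T using Finset.induction_on with
  | empty => simpa using h0
  | insert i T hi ih =>
    rw [Finset.sum_insert hi, Finset.sum_insert hi, hadd, ih]

/-- A linear functional on a class function, as a combination over the classes. -/
theorem lin_eq_sum_classInd {K : Type u} [Group K] [Fintype K] [Fintype (ConjClasses K)]
    (lam : (K → ℂ) → ℂ) (hadd : ∀ a b, lam (a + b) = lam a + lam b)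
    (hsmul : ∀ (s : ℂ) (a : K → ℂ), lam (fun g => s * a g) = s * lam a)
    {a : K → ℂ} (ha : IsClassFunction K a) :
    lam a = ∑ c : ConjClasses K, a (Quotient.out c) * lam (classInd (Quotient.out c)) := by
  have e1 : a = ∑ c : ConjClasses K,
      (fun k => a (Quotient.out c) * classInd (Quotient.out c) k) := by
    funext k
    rw [Finset.sum_apply]
    exact eq_sum_classInd ha k
  have e2 := congrArg lam e1
  rw [lin_finset_sum lam hadd] at e2
  rw [e2]
  exact Finset.sum_congr rfl fun c _ => hsmul _ _

variable {G : Type u} [Group G] [Fintype G]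

/-- If `(Q, f) ⊴ (P, e)` then `f` has a defect class represented by an element of `C_G(P)`. -/
theorem exists_isDefectClass_of_normalSubpair {p : ℕ} [Fact p.Prime] {M : Ideal AlgInt}
    (hpM : IsPModular p M) {P Q : Subgroup G}
    [Fintype (Subgroup.centralizer (P : Set G))] [Fintype (Subgroup.centralizer (Q : Set G))]
    {e : Set (IrrCharacter (Subgroup.centralizer (P : Set G)))}
    {f : Set (IrrCharacter (Subgroup.centralizer (Q : Set G)))}
    (h : IsNormalSubpair p M Q f P e) :
    ∃ x : Subgroup.centralizer (Q : Set G),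
      (x : G) ∈ Subgroup.centralizer (P : Set G) ∧ IsDefectClass M f x := by
  classical
  have hM : M.IsPrime := isPrime_of_isPModular hpM
  have h' := h
  obtain ⟨⟨hQp, hfb⟩, ⟨hPp, heb⟩, hQP, hPN, hst, h1⟩ := h
  obtain ⟨ξ, hξ⟩ := exists_mem_of_isPBlock hM heb
  obtain ⟨ψ, hψ⟩ := exists_mem_of_isPBlock hM hfb
  have hDK : Subgroup.centralizer (P : Set G) ≤ Subgroup.centralizer (Q : Set G) :=
    Subgroup.centralizer_le hQP
  have hPK : ∀ y ∈ P, y ∈ Subgroup.normalizer
      ((Subgroup.centralizer (Q : Set G) : Subgroup G) : Set G) := fun y hy =>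
    Cfsg.Agent.S4691.normalizer_le_normalizer_centralizer' Q (hPN hy)
  have hlam := subModHom_lamC hpM hPp hDK hPK ξ
  have hpf := pinv_blockCoeff hpM (P := P) hfb hst
  have hf1 : MemLocalIdeal M (lamC P (Subgroup.centralizer (Q : Set G)) hDK
      (ξ : Subgroup.centralizer (P : Set G) → ℂ) (blockCoeff f) - 1) := by
    have := h1 ξ hξ
    rwa [brauerOmega_subgroupBlockCoeff P _ hDK] at this
  -- decompose the idempotent along the classes
  have hdec := lin_eq_sum_classInd (lamC P (Subgroup.centralizer (Q : Set G)) hDK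
      (ξ : Subgroup.centralizer (P : Set G) → ℂ)) hlam.add hlam.smul hpf.1.1
  by_contra hcon
  push Not at hcon
  have hterm : ∀ c : ConjClasses (Subgroup.centralizer (Q : Set G)),
      MemLocalIdeal M (blockCoeff f (Quotient.out c) *
        lamC P (Subgroup.centralizer (Q : Set G)) hDK
          (ξ : Subgroup.centralizer (P : Set G) → ℂ) (classInd (Quotient.out c))) := by
    intro c
    by_cases hmeet : ∃ d : Subgroup.centralizer (P : Set G),
        IsConj (Quotient.out c) (⟨(d : G), hDK d.2⟩ : Subgroup.centralizer (Q : Set G))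
    · obtain ⟨d, hd⟩ := hmeet
      set x : Subgroup.centralizer (Q : Set G) := ⟨(d : G), hDK d.2⟩ with hx
      -- the class indicator is `P`-invariant
      have hmove : ∀ y ∈ P, ∀ k k' : Subgroup.centralizer (Q : Set G),
          (k' : G) = y * (k : G) * y⁻¹ → IsConj x k → IsConj x k' := by
        intro y hy k k' hk hxk
        obtain ⟨u, hu⟩ := isConj_iff.mp hxk
        have hyN := hPK y hy
        have hu' : y * (u : G) * y⁻¹ ∈ Subgroup.centralizer (Q : Set G) :=
          (Subgroup.mem_normalizer_iff.mp hyN _).mp u.2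
        refine isConj_iff.mpr ⟨⟨y * (u : G) * y⁻¹, hu'⟩, ?_⟩
        apply Subtype.ext
        have hyd : y * (d : G) = (d : G) * y := (Subgroup.mem_centralizer_iff.mp d.2) y hy
        have hu2 : (u : G) * (d : G) * (u : G)⁻¹ = (k : G) := congrArg Subtype.val hu
        show y * (u : G) * y⁻¹ * (d : G) * (y * (u : G) * y⁻¹)⁻¹ = (k' : G)
        rw [hk, ← hu2]
        have : y⁻¹ * (d : G) = (d : G) * y⁻¹ := by
          have := congrArg (fun t => y⁻¹ * t * y⁻¹) hyd
          simp only [mul_assoc, inv_mul_cancel_left, mul_inv_cancel, mul_one] at this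
          exact this.symm
        calc y * (u : G) * y⁻¹ * (d : G) * (y * (u : G) * y⁻¹)⁻¹
            = y * (u : G) * (y⁻¹ * (d : G)) * y * (u : G)⁻¹ * y⁻¹ := by group
          _ = y * (u : G) * ((d : G) * y⁻¹) * y * (u : G)⁻¹ * y⁻¹ := by rw [this]
          _ = y * ((u : G) * (d : G) * (u : G)⁻¹) * y⁻¹ := by group
      have hpinv : PInv M P (Subgroup.centralizer (Q : Set G)) (classInd (Quotient.out c)) := by
        refine ⟨ZS.classInd hM _, ?_⟩
        intro y hy k k' hk
        have hiff : IsConj (Quotient.out c) k' ↔ IsConj (Quotient.out c) k := by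
          constructor
          · intro hk'
            have hxk' : IsConj x k' := hd.symm.trans hk'
            have hk2 : (k : G) = y⁻¹ * (k' : G) * y⁻¹⁻¹ := by
              rw [hk]
              group
            exact hd.trans (hmove y⁻¹ (P.inv_mem hy) k' k hk2 hxk')
          · intro hk1
            exact hd.trans (hmove y hy k k' hk (hd.symm.trans hk1))
        unfold classInd
        by_cases hc : IsConj (Quotient.out c) k
        · rw [if_pos hc, if_pos (hiff.mpr hc)]
        · rw [if_neg hc, if_neg (fun h => hc (hiff.mp h))]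
      have htr := lamC_cong_omega_of_normalSubpair hpM h' hDK hξ hψ hpinv
      rw [omega_classInd (isClassFunction_of_isCharacter ψ.2)] at htr
      -- `x` is not a defect class
      have hnot := hcon x d.2
      have hxe : blockCoeff f x = blockCoeff f (Quotient.out c) :=
        (isClassFunction_of_isConj hpf.1.1 hd).symm
      have hxc : ∀ ψ' : IrrCharacter (Subgroup.centralizer (Q : Set G)),
          centralChar (ψ' : Subgroup.centralizer (Q : Set G) → ℂ) x =
            centralChar (ψ' : Subgroup.centralizer (Q : Set G) → ℂ) (Quotient.out c) := by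
        intro ψ'
        obtain ⟨u, hu⟩ := isConj_iff.mp hd
        rw [← hu]
        exact centralChar_conj (isClassFunction_of_isCharacter ψ'.2) _ _
      by_cases he0 : MemLocalIdeal M (blockCoeff f (Quotient.out c))
      · exact memLocalIdeal_mul_right hM he0 (hlam.mem _ hpinv)
      · have hbad : ∃ ψ' ∈ f, MemLocalIdeal M
            (centralChar (ψ' : Subgroup.centralizer (Q : Set G) → ℂ) x) := by
          by_contra hno
          push Not at hno
          apply hnot
          refine ⟨hpf.1.2 _, ?_, hno⟩
          rw [hxe]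
          exact he0
        obtain ⟨ψ', hψ', hbad'⟩ := hbad
        have hsame := sameBlock_of_mem hM hfb hψ hψ'
        have h3 : MemLocalIdeal M
            (centralChar (ψ : Subgroup.centralizer (Q : Set G) → ℂ) (Quotient.out c)) := by
          have h4 := hsame (Quotient.out c)
          rw [hxc ψ'] at hbad'
          have := memLocalIdeal_add hM h4 hbad'
          rwa [sub_add_cancel] at this
        have h5 := memLocalIdeal_add hM htr h3
        rw [sub_add_cancel] at h5
        exact memLocalIdeal_mul_left hM (hpf.1.2 _) h5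
    · push Not at hmeet
      have hz : resC P (Subgroup.centralizer (Q : Set G)) hDK (classInd (Quotient.out c)) = 0 := by
        funext d
        show classInd (Quotient.out c) (⟨(d : G), hDK d.2⟩ : Subgroup.centralizer (Q : Set G)) = 0
        unfold classInd
        rw [if_neg (hmeet d)]
      have : lamC P (Subgroup.centralizer (Q : Set G)) hDK
          (ξ : Subgroup.centralizer (P : Set G) → ℂ) (classInd (Quotient.out c)) = 0 := by
        show omega _ (resC P _ hDK (classInd (Quotient.out c))) = 0
        rw [hz, omega_zero]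
      rw [this, mul_zero]
      exact memLocalIdeal_zero hM
  have hsum := memLocalIdeal_sum hM Finset.univ _ (fun c _ => hterm c)
  rw [← hdec] at hsum
  have := memLocalIdeal_sub hM hsum hf1
  rw [sub_sub_cancel] at this
  exact not_memLocalIdeal_one hM this

/-- A `p`-subgroup centralizing a defect class element lies in a defect group. -/
theorem exists_isDefectGroup_ge_of_isDefectClass {H : Type u} [Group H] [Finite H] {p : ℕ}
    [Fact p.Prime] {M : Ideal AlgInt} {f : Set (IrrCharacter H)} {x : H}
    (hx : IsDefectClass M f x) {R : Subgroup H} (hR : IsPGroup p R)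
    (hRx : ∀ r ∈ R, r * x = x * r) :
    ∃ D : Subgroup H, IsDefectGroup p M f D ∧ R ≤ D := by
  have hRle : R ≤ Subgroup.centralizer ({x} : Set H) := by
    intro r hr
    rw [Subgroup.mem_centralizer_iff]
    intro y hy
    rw [Set.mem_singleton_iff] at hy
    rw [hy]
    exact (hRx r hr).symm
  have hR' : IsPGroup p (R.subgroupOf (Subgroup.centralizer ({x} : Set H))) :=
    hR.comap_subtype
  obtain ⟨S, hS⟩ := hR'.exists_le_sylow
  refine ⟨(S : Subgroup (Subgroup.centralizer ({x} : Set H))).map
    (Subgroup.centralizer ({x} : Set H)).subtype, ⟨x, hx, S, rfl⟩, ?_⟩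
  intro r hr
  refine ⟨⟨r, hRle hr⟩, hS ?_, rfl⟩
  exact Subgroup.mem_subgroupOf.mpr hr

/-- **Part 1.** If `(Q, f) ≤ (P, e)` then `C_P(Q)` lies in a defect group of `f`. -/
theorem exists_isDefectGroup_ge_inf_centralizer {p : ℕ} [Fact p.Prime] {M : Ideal AlgInt}
    (hpM : IsPModular p M) {P Q : Subgroup G}
    {e : Set (IrrCharacter (Subgroup.centralizer (P : Set G)))}
    {f : Set (IrrCharacter (Subgroup.centralizer (Q : Set G)))}
    (hPe : IsBrauerPair p M P e) (hQP : Q ≤ P) (hle : SubpairLE p M Q f P e) :
    ∃ D : Subgroup (Subgroup.centralizer (Q : Set G)), IsDefectGroup p M f D ∧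
      (P ⊓ Subgroup.centralizer (Q : Set G)).subgroupOf (Subgroup.centralizer (Q : Set G)) ≤ D := by
  classical
  have hM : M.IsPrime := isPrime_of_isPModular hpM
  have hP₁P : Q ⊔ (P ⊓ Subgroup.centralizer (Q : Set G)) ≤ P := sup_le hQP inf_le_left
  have hQP₁ : Q ≤ Q ⊔ (P ⊓ Subgroup.centralizer (Q : Set G)) := le_sup_left
  have hP₁N : Q ⊔ (P ⊓ Subgroup.centralizer (Q : Set G)) ≤ Subgroup.normalizer (Q : Set G) :=
    sup_le Subgroup.le_normalizer
      (inf_le_right.trans (Subgroup.centralizer_le_normalizer _))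
  obtain ⟨g₁, hg₁b, hg₁⟩ := exists_subpairLE hpM _ P
    (Q ⊔ (P ⊓ Subgroup.centralizer (Q : Set G))) e rfl hPe hP₁P
  have hP₁g : IsBrauerPair p M (Q ⊔ (P ⊓ Subgroup.centralizer (Q : Set G))) g₁ :=
    ⟨hPe.1.to_le hP₁P, hg₁b⟩
  obtain ⟨f', hf', -⟩ := existsUnique_isNormalSubpair hpM _ Q g₁ hP₁g hQP₁ hP₁N
  have hstep : NormalSubpairRel p M ⟨Q, f'⟩ ⟨Q ⊔ (P ⊓ Subgroup.centralizer (Q : Set G)), g₁⟩ :=
    hf'
  have hle' : SubpairLE p M Q f' P e := Relation.ReflTransGen.head hstep hg₁
  have hff' : f = f' := subpairLE_unique hpM _ P Q e f f' rfl hPe hle hle'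
  subst hff'
  obtain ⟨x, hxP₁, hx⟩ := exists_isDefectClass_of_normalSubpair hpM hf'
  have hRp : IsPGroup p ((P ⊓ Subgroup.centralizer (Q : Set G)).subgroupOf
      (Subgroup.centralizer (Q : Set G))) :=
    (hPe.1.to_le inf_le_left).comap_subtype
  refine exists_isDefectGroup_ge_of_isDefectClass hx hRp ?_
  intro r hr
  apply Subtype.ext
  have hr' : (r : G) ∈ Q ⊔ (P ⊓ Subgroup.centralizer (Q : Set G)) :=
    le_sup_right (a := Q) (Subgroup.mem_subgroupOf.mp hr)
  exact ((Subgroup.mem_centralizer_iff.mp hxP₁) (r : G) hr')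

end Cfsg.Agent.Lib.Helper52.DefectPairs
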