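import Cfsg.Agent.Lib.Helper52.StabBlock

/-!
# Lifting Brauer pairs of a subgroup

For a subgroup `L ≤ G`, a Brauer pair `(A', α')` of the group `L` such that `C_G(A') ≤ L` lifts to
the Brauer pair `(A', α')` of `G`.  Normal inclusions, hence inclusions, lift, and lifting commutes
with conjugation by elements of `L`.
-/

set_option autoImplicit false

universe u

namespace Cfsg.Agent.Lib.Helper52.PairUp

open Cfsg
open Cfsg.Agent.Lib.Helper77 Cfsg.Agent.Lib.Helper81 Cfsg.Agent.Lib.Helper80
open Cfsg.Agent.Lib.Helper52.ConjPairs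

variable {G : Type u} [Group G]

/-- The lift of a set of characters of `C_L(D')` to `C_G(D')`. -/
def upBlock {L : Subgroup G} (D' : Subgroup L)
    (α' : Set (IrrCharacter (Subgroup.centralizer (D' : Set L)))) :
    Set (IrrCharacter (Subgroup.centralizer ((D'.map L.subtype : Subgroup G) : Set G))) :=
  {ξ | ∃ ξ' ∈ α', ∀ (c : Subgroup.centralizer ((D'.map L.subtype : Subgroup G) : Set G))
    (c' : Subgroup.centralizer (D' : Set L)), (c : G) = ((c' : L) : G) →
      (ξ : Subgroup.centralizer ((D'.map L.subtype : Subgroup G) : Set G) → ℂ) c =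
        (ξ' : Subgroup.centralizer (D' : Set L) → ℂ) c'}

/-- The lift of a Brauer pair index of `L` to `G`. -/
def up {L : Subgroup G} (a : BrauerPairIdx L) : BrauerPairIdx G :=
  ⟨a.1.map L.subtype, upBlock a.1 a.2⟩

theorem up_fst {L : Subgroup G} (a : BrauerPairIdx L) : (up a).1 = a.1.map L.subtype := rfl

theorem upBlock_eq_image {L : Subgroup G} (D' : Subgroup L)
    (h : Subgroup.centralizer ((D'.map L.subtype : Subgroup G) : Set G) ≤ L)
    (α' : Set (IrrCharacter (Subgroup.centralizer (D' : Set L)))) :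
    upBlock D' α' = irrMap (centEquiv D' h) '' α' := by
  ext ξ
  constructor
  · rintro ⟨ξ', hξ', hrel⟩
    refine ⟨ξ', hξ', ?_⟩
    apply Subtype.ext
    funext c
    rw [irrMap_apply]
    exact (hrel c (centEquiv D' h c) rfl).symm
  · rintro ⟨ξ', hξ', rfl⟩
    refine ⟨ξ', hξ', fun c c' hc => ?_⟩
    rw [irrMap_apply]
    refine congrArg _ ?_
    apply Subtype.ext
    apply Subtype.ext
    exact hc

/-- The lift of the image of a block under the inverse transport is the block. -/
theorem upBlock_image_symm {L : Subgroup G} (D' : Subgroup L)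
    (h : Subgroup.centralizer ((D'.map L.subtype : Subgroup G) : Set G) ≤ L)
    (g : Set (IrrCharacter (Subgroup.centralizer ((D'.map L.subtype : Subgroup G) : Set G)))) :
    upBlock D' (irrMap (centEquiv D' h).symm '' g) = g := by
  rw [upBlock_eq_image D' h, Set.image_image]
  have : (fun x => irrMap (centEquiv D' h) (irrMap (centEquiv D' h).symm x)) = id := by
    funext x
    exact irrMap_irrMap_symm _ x
  rw [this, Set.image_id]

/-- **Normal inclusions lift.** -/
theorem normalSubpairRel_up {p : ℕ} {M : Ideal AlgInt} {L : Subgroup G}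
    {a b : BrauerPairIdx L}
    (hCa : Subgroup.centralizer ((a.1.map L.subtype : Subgroup G) : Set G) ≤ L)
    (h : NormalSubpairRel p M a b) : NormalSubpairRel p M (up a) (up b) := by
  classical
  obtain ⟨A', α'⟩ := a
  obtain ⟨B', β'⟩ := b
  obtain ⟨⟨hAp, hαb⟩, ⟨hBp, hβb⟩, hAB, hBN, hstab, h1⟩ := h
  have hAB' : A'.map L.subtype ≤ B'.map L.subtype := Subgroup.map_mono hAB
  have hCb : Subgroup.centralizer ((B'.map L.subtype : Subgroup G) : Set G) ≤ L :=
    (Subgroup.centralizer_le hAB').trans hCa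
  have hBN' : B'.map L.subtype ≤ Subgroup.normalizer ((A'.map L.subtype : Subgroup G) : Set G) :=
    (Subgroup.map_mono hBN).trans (Subgroup.le_normalizer_map _)
  show IsNormalSubpair p M (A'.map L.subtype) (upBlock A' α') (B'.map L.subtype) (upBlock B' β')
  rw [upBlock_eq_image A' hCa, upBlock_eq_image B' hCb]
  refine ⟨⟨hAp.map _, isPBlock_irrMap_image _ hαb⟩, ⟨hBp.map _, isPBlock_irrMap_image _ hβb⟩,
    hAB', hBN', ?_, ?_⟩
  · rintro _ ⟨b', hb', rfl⟩
    obtain ⟨-, hst⟩ := hstab b' hb'
    refine ⟨Cfsg.Agent.S4691.normalizer_le_normalizer_centralizer' _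
      (hBN' ⟨b', hb', rfl⟩), ?_⟩
    rintro _ ⟨θ, hθ, rfl⟩
    obtain ⟨θ', hθ', hc⟩ := hst θ hθ
    refine ⟨irrMap (centEquiv A' hCa) θ', ⟨θ', hθ', rfl⟩, ?_⟩
    intro k k' hk
    rw [irrMap_apply, irrMap_apply]
    refine hc (centEquiv A' hCa k) (centEquiv A' hCa k') ?_
    apply Subtype.ext
    exact hk
  · rintro _ ⟨ξ', hξ', rfl⟩
    have h2 := h1 ξ' hξ'
    have e1 : brauerOmega (B'.map L.subtype)
        (subgroupBlockCoeff (Subgroup.centralizer ((A'.map L.subtype : Subgroup G) : Set G))
          (irrMap (centEquiv A' hCa) '' α'))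
        (irrMap (centEquiv B' hCb) ξ' :
          Subgroup.centralizer ((B'.map L.subtype : Subgroup G) : Set G) → ℂ) =
        brauerOmega B' (subgroupBlockCoeff (Subgroup.centralizer (A' : Set L)) α')
          (ξ' : Subgroup.centralizer (B' : Set L) → ℂ) := by
      unfold brauerOmega
      refine finsum_eq_of_bijective (centEquiv B' hCb) (centEquiv B' hCb).bijective fun x => ?_
      rw [irrMap_apply, irrMap_apply, map_one]
      have hxA : (x : G) ∈ Subgroup.centralizer ((A'.map L.subtype : Subgroup G) : Set G) :=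
        Subgroup.centralizer_le hAB' x.2
      have hxA' : ((centEquiv B' hCb x : Subgroup.centralizer (B' : Set L)) : L) ∈
          Subgroup.centralizer (A' : Set L) :=
        Subgroup.centralizer_le hAB (centEquiv B' hCb x).2
      rw [subgroupBlockCoeff_of_mem _ hxA, subgroupBlockCoeff_of_mem _ hxA',
        blockCoeff_irrMap_image]
      rfl
    rw [e1]
    exact h2

/-- Inclusions in `L` only go up. -/
theorem le_of_reflTransGen' {p : ℕ} {M : Ideal AlgInt} {L : Subgroup G} {a b : BrauerPairIdx L}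
    (h : Relation.ReflTransGen (NormalSubpairRel p M) a b) : a.1 ≤ b.1 := by
  induction h with
  | refl => exact le_rfl
  | tail _ hcb ih => exact ih.trans hcb.2.2.1

/-- **Inclusions lift.** -/
theorem reflTransGen_up {p : ℕ} {M : Ideal AlgInt} {L : Subgroup G} {a b : BrauerPairIdx L}
    (hCa : Subgroup.centralizer ((a.1.map L.subtype : Subgroup G) : Set G) ≤ L)
    (h : Relation.ReflTransGen (NormalSubpairRel p M) a b) :
    Relation.ReflTransGen (NormalSubpairRel p M) (up a) (up b) := by
  induction h with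
  | refl => exact Relation.ReflTransGen.refl
  | tail hac hcb ih =>
    rename_i c b
    have hac' : a.1 ≤ c.1 := le_of_reflTransGen' hac
    have hCc : Subgroup.centralizer ((c.1.map L.subtype : Subgroup G) : Set G) ≤ L :=
      (Subgroup.centralizer_le (Subgroup.map_mono hac')).trans hCa
    exact Relation.ReflTransGen.tail ih (normalSubpairRel_up hCc hcb)

theorem map_conjSub {L : Subgroup G} (A' : Subgroup L) (l : L) :
    (conjSub A' l).map L.subtype = conjSub (A'.map L.subtype) (l : G) := by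
  ext y
  constructor
  · rintro ⟨y', hy', rfl⟩
    have hy'' : y' ∈ conjSub A' l := hy'
    rw [mem_conjSub] at hy'' ⊢
    exact ⟨l⁻¹ * y' * l, hy'', rfl⟩
  · intro hy
    rw [mem_conjSub] at hy
    obtain ⟨a', ha', hay⟩ := hy
    refine ⟨l * a' * l⁻¹, mem_conjSub.mpr ?_, ?_⟩
    · have e1 : l⁻¹ * (l * a' * l⁻¹) * l = a' := by group
      rw [e1]
      exact ha'
    · show ((l : L) : G) * ((a' : L) : G) * ((l : L) : G)⁻¹ = y
      have hay' : ((a' : L) : G) = ((l : L) : G)⁻¹ * y * ((l : L) : G) := hay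
      rw [hay']
      group

/-- **Lifting commutes with conjugation by elements of `L`.** -/
theorem up_conjIdx {L : Subgroup G} (l : L) (a : BrauerPairIdx L)
    (hCa : Subgroup.centralizer ((a.1.map L.subtype : Subgroup G) : Set G) ≤ L) :
    up (conjIdx l a) = conjIdx (l : G) (up a) := by
  obtain ⟨A', α'⟩ := a
  have hCa' : Subgroup.centralizer (((conjSub A' l).map L.subtype : Subgroup G) : Set G) ≤ L := by
    rw [map_conjSub]
    intro y hy
    have h1 : (l : G)⁻¹ * y * (l : G) ∈ L := hCa (mem_centralizer_conjSub.mp hy)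
    have e1 : y = (l : G) * ((l : G)⁻¹ * y * (l : G)) * (l : G)⁻¹ := by group
    rw [e1]
    exact L.mul_mem (L.mul_mem l.2 h1) (L.inv_mem l.2)
  show (⟨(conjSub A' l).map L.subtype, upBlock (conjSub A' l) (conjBlock A' l α')⟩ :
    BrauerPairIdx G) = ⟨conjSub (A'.map L.subtype) (l : G),
      conjBlock (A'.map L.subtype) (l : G) (upBlock A' α')⟩
  apply pair_ext (map_conjSub A' l)
  intro ξ₁ ξ₂ hξ
  rw [upBlock_eq_image _ hCa', Cfsg.Agent.Lib.Helper52.ConjPairs.conjBlock_eq_image,
    Cfsg.Agent.Lib.Helper52.ConjPairs.conjBlock_eq_image, upBlock_eq_image _ hCa]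
  constructor
  · rintro ⟨_, ⟨θ, hθ, rfl⟩, rfl⟩
    refine ⟨irrMap (centEquiv A' hCa) θ, ⟨θ, hθ, rfl⟩, ?_⟩
    apply Subtype.ext
    funext c₂
    have hc₁ : (c₂ : G) ∈ Subgroup.centralizer
        (((conjSub A' l).map L.subtype : Subgroup G) : Set G) := by
      rw [map_conjSub]
      exact c₂.2
    rw [← hξ ⟨(c₂ : G), hc₁⟩ c₂ rfl, irrMap_apply, irrMap_apply, irrMap_apply, irrMap_apply]
    refine congrArg _ ?_
    apply Subtype.ext
    apply Subtype.ext
    rfl
  · rintro ⟨_, ⟨θ, hθ, rfl⟩, rfl⟩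
    refine ⟨irrMap (centConj A' l) θ, ⟨θ, hθ, rfl⟩, ?_⟩
    apply Subtype.ext
    funext c₁
    have hc₂ : (c₁ : G) ∈ Subgroup.centralizer
        ((conjSub (A'.map L.subtype) (l : G) : Subgroup G) : Set G) := by
      rw [← map_conjSub]
      exact c₁.2
    rw [hξ c₁ ⟨(c₁ : G), hc₂⟩ rfl, irrMap_apply, irrMap_apply, irrMap_apply, irrMap_apply]
    refine congrArg _ ?_
    apply Subtype.ext
    apply Subtype.ext
    rfl

end Cfsg.Agent.Lib.Helper52.PairUp
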