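import Cfsg.Agent.Lib.Helper52.PStable
import Cfsg.Agent.Lib.Helper72.SylowUniq

/-!
# Inclusion of Brauer pairs

* `lamC_cong_omega_of_normalSubpair`: below a normal inclusion `(R, g) ⊴ (P, e)` the Brauer
  functional at `(P, e)` agrees with the central character of `g` on `P`-invariant class
  functions of `C_G(R)`.
* `isBrauerPairOf_iff_of_subpairLE`: a subpair belongs to the same block.
* `diamond`, `exists_subpairLE`, `subpairLE_unique`, `existsUnique_subpairLE`: uniqueness of
  subpairs.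
-/

set_option autoImplicit false

universe u

namespace Cfsg.Agent.Lib.Helper52.Subpairs

open Cfsg
open Cfsg.Agent.Lib.Helper77 Cfsg.Agent.Lib.Helper81 Cfsg.Agent.Lib.Helper80
open Cfsg.Agent.Lib.Helper52.PStable

variable {G : Type u} [Group G]

theorem resC_self (P : Subgroup G) (a : Subgroup.centralizer (P : Set G) → ℂ) :
    resC P (Subgroup.centralizer (P : Set G)) le_rfl a = a := rfl

theorem sameBlock_of_mem {M : Ideal AlgInt} (hM : M.IsPrime) {K : Type u} [Group K]
    {f : Set (IrrCharacter K)} (hf : IsPBlock M f) {φ ψ : IrrCharacter K} (hφ : φ ∈ f)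
    (hψ : ψ ∈ f) : SameBlock M (φ : K → ℂ) (ψ : K → ℂ) := by
  obtain ⟨θ, rfl⟩ := hf
  exact sameBlock_trans hM (sameBlock_symm hφ) hψ

theorem exists_mem_of_isPBlock {M : Ideal AlgInt} (hM : M.IsPrime) {K : Type u} [Group K]
    {f : Set (IrrCharacter K)} (hf : IsPBlock M f) : ∃ ψ, ψ ∈ f := by
  obtain ⟨θ, rfl⟩ := hf
  exact ⟨θ, sameBlock_refl hM _⟩

theorem eq_of_isPBlock_of_mem {M : Ideal AlgInt} (hM : M.IsPrime) {K : Type u} [Group K]
    {f f' : Set (IrrCharacter K)} (hf : IsPBlock M f) (hf' : IsPBlock M f')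
    {ψ : IrrCharacter K} (h1 : ψ ∈ f) (h2 : ψ ∈ f') : f = f' := by
  obtain ⟨θ, rfl⟩ := hf
  obtain ⟨θ', rfl⟩ := hf'
  rw [← blockOf_eq_of_mem hM h1, ← blockOf_eq_of_mem hM h2]

variable [Fintype G]

/-- **Transfer.** Below a normal inclusion `(R, g) ⊴ (P, e)`, the Brauer functional at `(P, e)`
on the `P`-invariant class functions of `C_G(R)` is congruent to the central character of `g`. -/
theorem lamC_cong_omega_of_normalSubpair {p : ℕ} [Fact p.Prime] {M : Ideal AlgInt}
    (hpM : IsPModular p M) {P R : Subgroup G}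
    {e : Set (IrrCharacter (Subgroup.centralizer (P : Set G)))}
    {g : Set (IrrCharacter (Subgroup.centralizer (R : Set G)))}
    [Fintype (Subgroup.centralizer (P : Set G))] [Fintype (Subgroup.centralizer (R : Set G))]
    (h : IsNormalSubpair p M R g P e)
    (hDK : Subgroup.centralizer (P : Set G) ≤ Subgroup.centralizer (R : Set G))
    {ξ : IrrCharacter (Subgroup.centralizer (P : Set G))} (hξ : ξ ∈ e)
    {ψ : IrrCharacter (Subgroup.centralizer (R : Set G))} (hψ : ψ ∈ g)
    {z : Subgroup.centralizer (R : Set G) → ℂ}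
    (hz : PInv M P (Subgroup.centralizer (R : Set G)) z) :
    MemLocalIdeal M (lamC P (Subgroup.centralizer (R : Set G)) hDK
      (ξ : Subgroup.centralizer (P : Set G) → ℂ) z -
      omega (ψ : Subgroup.centralizer (R : Set G) → ℂ) z) := by
  classical
  have hM : M.IsPrime := isPrime_of_isPModular hpM
  obtain ⟨⟨hRp, hgb⟩, ⟨hPp, heb⟩, hRP, hPN, hst, h1⟩ := h
  have hPK : ∀ y ∈ P, y ∈ Subgroup.normalizer
      ((Subgroup.centralizer (R : Set G) : Subgroup G) : Set G) := fun y hy =>
    Cfsg.Agent.S4691.normalizer_le_normalizer_centralizer' R (hPN hy)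
  have hlam := subModHom_lamC hpM hPp hDK hPK ξ
  set lam := lamC P (Subgroup.centralizer (R : Set G)) hDK
    (ξ : Subgroup.centralizer (P : Set G) → ℂ) with hlamdef
  set c := omega (ψ : Subgroup.centralizer (R : Set G) → ℂ) z with hc
  have hcS : MemLocalRing M c := hz.1.omega hM ψ
  have hef : PInv M P (Subgroup.centralizer (R : Set G)) (blockCoeff g) :=
    pinv_blockCoeff hpM hgb hst
  have hz' : PInv M P (Subgroup.centralizer (R : Set G)) (z - fun k => c * deltaOne k) :=
    PInv.sub hM hz (PInv.smul hM hcS (PInv.deltaOne hM P _))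
  have hw := PInv.conv hM hPK hz' hef
  have hω : ∀ φ : IrrCharacter (Subgroup.centralizer (R : Set G)),
      MemLocalIdeal M (omega (φ : Subgroup.centralizer (R : Set G) → ℂ)
        (Helper77.conv (z - fun k => c * deltaOne k) (blockCoeff g))) := by
    intro φ
    rw [omega_conv φ.2 hz'.1.1 hef.1.1, omega_blockCoeff, omega_sub, omega_smul,
      omega_deltaOne _ (irr_one_ne_zero φ.2), mul_one]
    by_cases hφ : φ ∈ g
    · rw [if_pos hφ, mul_one]
      exact memLocalIdeal_omega_sub hM (isClassFunction_of_isCharacter φ.2)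
        (isClassFunction_of_isCharacter ψ.2) (sameBlock_of_mem hM hgb hφ hψ) hz.1.1 hz.1.2
    · rw [if_neg hφ, mul_zero]
      exact memLocalIdeal_zero hM
  have hrad := hlam.memLocalIdeal_of_forall_omega hM hw hω
  have hmul := hlam.mul _ _ hz' hef
  have hz'lam : lam (z - fun k => c * deltaOne k) = lam z - c := hlam.sub_smul_deltaOne z c
  have hef1 : MemLocalIdeal M (lam (blockCoeff g) - 1) := by
    have := h1 ξ hξ
    rwa [brauerOmega_subgroupBlockCoeff P _ hDK] at this
  rw [hz'lam] at hmul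
  -- `(lam z - c) * lam e_g` lies in the local ideal
  have h2 : MemLocalIdeal M ((lam z - c) * lam (blockCoeff g)) := by
    have := memLocalIdeal_sub hM hrad hmul
    rwa [sub_sub_cancel] at this
  have h3 : MemLocalIdeal M ((lam z - c) * (lam (blockCoeff g) - 1)) :=
    memLocalIdeal_mul_left hM (memLocalRing_sub hM (hlam.mem _ hz) hcS) hef1
  have h4 := memLocalIdeal_sub hM h2 h3
  have e4 : (lam z - c) * lam (blockCoeff g) - (lam z - c) * (lam (blockCoeff g) - 1) =
      lam z - c := by ring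
  rw [e4] at h4
  exact h4

/-- Restriction of a class function of `G` to a subgroup `K` normalised by `P` is `P`-invariant. -/
theorem pinv_restrict {M : Ideal AlgInt} (P K : Subgroup G) {a : G → ℂ} (ha : ZS M a) :
    PInv M P K (fun k : K => a k) := by
  refine ⟨⟨?_, fun k => ha.2 _⟩, ?_⟩
  · intro k h
    show a ((h * k * h⁻¹ : K) : G) = a k
    push_cast
    exact ha.1 _ _
  · intro y _ k k' hk
    show a (k' : G) = a k
    rw [hk]
    exact ha.1 _ _

/-- One normal step preserves the block. -/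
theorem isBrauerPairOf_iff_of_normalSubpair {p : ℕ} [Fact p.Prime] {M : Ideal AlgInt}
    (hpM : IsPModular p M) {P Q : Subgroup G}
    {e : Set (IrrCharacter (Subgroup.centralizer (P : Set G)))}
    {f : Set (IrrCharacter (Subgroup.centralizer (Q : Set G)))}
    (h : IsNormalSubpair p M Q f P e) {B : Set (IrrCharacter G)} (hB : IsPBlock M B) :
    IsBrauerPairOf p M B P e ↔ IsBrauerPairOf p M B Q f := by
  classical
  have hM : M.IsPrime := isPrime_of_isPModular hpM
  have := Fintype.ofFinite (Subgroup.centralizer (P : Set G))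
  have := Fintype.ofFinite (Subgroup.centralizer (Q : Set G))
  have hDK : Subgroup.centralizer (P : Set G) ≤ Subgroup.centralizer (Q : Set G) :=
    Subgroup.centralizer_le h.2.2.1
  have hBZ : ZS M (blockCoeff B) := by
    obtain ⟨χ₀, rfl⟩ := hB
    exact ZS.blockCoeff hpM χ₀
  have hz := pinv_restrict (M := M) P (Subgroup.centralizer (Q : Set G)) hBZ
  have key : ∀ ξ ∈ e, ∀ ψ ∈ f, MemLocalIdeal M
      (brauerOmega P (blockCoeff B) (ξ : Subgroup.centralizer (P : Set G) → ℂ) -
        brauerOmega Q (blockCoeff B) (ψ : Subgroup.centralizer (Q : Set G) → ℂ)) := by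
    intro ξ hξ ψ hψ
    rw [brauerOmega_eq_lamC P _ hDK, brauerOmega_eq_lamC Q _ le_rfl]
    exact lamC_cong_omega_of_normalSubpair hpM h hDK hξ hψ hz
  obtain ⟨ξ₀, hξ₀⟩ := exists_mem_of_isPBlock hM h.2.1.2
  obtain ⟨ψ₀, hψ₀⟩ := exists_mem_of_isPBlock hM h.1.2
  constructor
  · rintro ⟨-, -, h1⟩
    refine ⟨h.1, hB, fun ψ hψ => ?_⟩
    exact cong_trans hM (cong_symm (key ξ₀ hξ₀ ψ hψ)) (h1 ξ₀ hξ₀)
  · rintro ⟨-, -, h1⟩
    refine ⟨h.2.1, hB, fun ξ hξ => ?_⟩
    exact cong_trans hM (key ξ hξ ψ₀ hψ₀) (h1 ψ₀ hψ₀)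

/-- A subpair belongs to the same block. -/
theorem isBrauerPairOf_iff_of_subpairLE {p : ℕ} [Fact p.Prime] {M : Ideal AlgInt}
    (hpM : IsPModular p M) {B : Set (IrrCharacter G)} (hB : IsPBlock M B)
    {a b : BrauerPairIdx G} (h : Relation.ReflTransGen (NormalSubpairRel p M) a b) :
    IsBrauerPairOf p M B b.1 b.2 ↔ IsBrauerPairOf p M B a.1 a.2 := by
  induction h with
  | refl => exact Iff.rfl
  | tail _ hcb ih => exact (isBrauerPairOf_iff_of_normalSubpair hpM hcb hB).trans ih

omit [Fintype G] in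
theorem le_of_reflTransGen {p : ℕ} {M : Ideal AlgInt} {a b : BrauerPairIdx G}
    (h : Relation.ReflTransGen (NormalSubpairRel p M) a b) : a.1 ≤ b.1 := by
  induction h with
  | refl => exact le_rfl
  | tail _ hcb ih => exact ih.trans hcb.2.2.1

/-- **Diamond lemma.** Two normal subpairs of `(P, e)` on nested subgroups are normally
included in one another. -/
theorem diamond {p : ℕ} [Fact p.Prime] {M : Ideal AlgInt} (hpM : IsPModular p M)
    {P Q R : Subgroup G} {e : Set (IrrCharacter (Subgroup.centralizer (P : Set G)))}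
    {f : Set (IrrCharacter (Subgroup.centralizer (Q : Set G)))}
    {g : Set (IrrCharacter (Subgroup.centralizer (R : Set G)))} (hQR : Q ≤ R)
    (hf : IsNormalSubpair p M Q f P e) (hg : IsNormalSubpair p M R g P e) :
    IsNormalSubpair p M Q f R g := by
  classical
  have hM : M.IsPrime := isPrime_of_isPModular hpM
  have := Fintype.ofFinite (Subgroup.centralizer (P : Set G))
  have := Fintype.ofFinite (Subgroup.centralizer (Q : Set G))
  have := Fintype.ofFinite (Subgroup.centralizer (R : Set G))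
  have hg' := hg
  obtain ⟨hQf, hPe, hQP, hPNQ, hfst, hf1⟩ := hf
  obtain ⟨hRg, -, hRP, hPNR, hgst, hg1⟩ := hg
  refine ⟨hQf, hRg, hQR, hRP.trans hPNQ, fun x hx => hfst x (hRP hx), fun ψ' hψ' => ?_⟩
  have hRQ : Subgroup.centralizer (R : Set G) ≤ Subgroup.centralizer (Q : Set G) :=
    Subgroup.centralizer_le hQR
  have hPR : Subgroup.centralizer (P : Set G) ≤ Subgroup.centralizer (R : Set G) :=
    Subgroup.centralizer_le hRP
  have hPQ : Subgroup.centralizer (P : Set G) ≤ Subgroup.centralizer (Q : Set G) :=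
    Subgroup.centralizer_le hQP
  obtain ⟨ξ₀, hξ₀⟩ := exists_mem_of_isPBlock hM hPe.2
  rw [brauerOmega_subgroupBlockCoeff R _ hRQ]
  have hpf := pinv_blockCoeff hpM (P := P) hQf.2 hfst
  have hz : PInv M P (Subgroup.centralizer (R : Set G))
      (resC R (Subgroup.centralizer (Q : Set G)) hRQ (blockCoeff f)) := by
    refine ⟨⟨resC_isClassFunction R _ hRQ hpf.1.1, fun k => hpf.1.2 _⟩, ?_⟩
    intro y hy k k' hk
    exact hpf.2 y hy ⟨(k : G), hRQ k.2⟩ ⟨(k' : G), hRQ k'.2⟩ hk
  have h1 := lamC_cong_omega_of_normalSubpair hpM hg' hPR hξ₀ hψ' hz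
  have h2 := hf1 ξ₀ hξ₀
  rw [brauerOmega_subgroupBlockCoeff P _ hPQ] at h2
  exact cong_trans hM (cong_symm h1) h2

end Cfsg.Agent.Lib.Helper52.Subpairs
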