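import Mathlib
import Cfsg.Prelude.Def_ClassicalGeometry
import Cfsg.Agent.Lib.Helper4.NdDefs
import Cfsg.Agent.Lib.Helper2.BGPoly
import Cfsg.Agent.Lib.Helper36.AltEven

/-! # ND-D1 (helper52, for helper4's S5956 hive): a nondegenerate invariant piece of dimension `c`
for a semisimple isometry of odd prime order without fixed vectors. -/

set_option autoImplicit false
open Cfsg.Agent.Lib.Helper99 (Nd dker sympB)
open Polynomial

namespace Cfsg.Agent.Lib.Helper4.NdH

universe u v
variable {F : Type u} [Field F] {V : Type v} [AddCommGroup V] [Module F V]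

theorem d1_skew (B : V →ₗ[F] V →ₗ[F] F) (hB : Alt B) (a b : V) : B a b = - B b a := by
  have h := hB (a + b)
  rw [map_add, map_add, LinearMap.add_apply, LinearMap.add_apply, hB a, hB b, zero_add,
    add_zero, add_comm] at h
  exact eq_neg_of_add_eq_zero_left h

theorem d1_even_of_nd [FiniteDimensional F V] (B : V →ₗ[F] V →ₗ[F] F) (hB : Alt B)
    (U : Submodule F V) (hU : Nd B U) : Even (Module.finrank F U) := by
  have halt : (LinearMap.BilinForm.restrict B U).IsAlt := fun x => hB x
  have hnd : (LinearMap.BilinForm.restrict B U).Nondegenerate := by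
    constructor
    · intro x hx
      apply Subtype.ext
      apply hU x.1 x.2
      intro w hw
      exact hx ⟨w, hw⟩
    · intro x hx
      apply Subtype.ext
      apply hU x.1 x.2
      intro w hw
      have h1 : B w x.1 = 0 := hx ⟨w, hw⟩
      rw [d1_skew B hB, h1, neg_zero]
  exact Cfsg.Agent.Lib.Helper36.even_finrank_of_isAlt_nondegenerate _ halt hnd

theorem d1_aeval_restrict (y : V →ₗ[F] V) (U : Submodule F V) (hU : ∀ w ∈ U, y w ∈ U) (A : F[X])
    (a : U) : ((aeval (y.restrict hU) A) a : V) = aeval y A (a : V) := by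
  induction A using Polynomial.induction_on' with
  | add p q hp hq =>
    simp only [map_add, LinearMap.add_apply, Submodule.coe_add, hp, hq]
  | monomial n c =>
    rw [aeval_monomial, aeval_monomial, Module.End.mul_apply, Module.End.mul_apply,
      Module.algebraMap_end_apply, Module.algebraMap_end_apply, Submodule.coe_smul,
      Module.End.pow_restrict n hU]
    rfl

theorem d1_dvd_of_even (q r j : ℕ) [Fact r.Prime] (hj : 0 < j)
    (hord : orderOf ((q : ℕ) : ZMod r) = j + j) : r ∣ q ^ j + 1 := by
  have h1 : ((q : ZMod r) ^ j) * ((q : ZMod r) ^ j) = 1 := by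
    rw [← pow_add, ← hord]
    exact pow_orderOf_eq_one _
  have h2 : ((q : ZMod r) ^ j - 1) * ((q : ZMod r) ^ j + 1) = 0 := by
    have : ((q : ZMod r) ^ j - 1) * ((q : ZMod r) ^ j + 1)
        = (q : ZMod r) ^ j * (q : ZMod r) ^ j - 1 := by ring
    rw [this, h1, sub_self]
  rcases mul_eq_zero.mp h2 with h | h
  · exfalso
    have h3 : (q : ZMod r) ^ j = 1 := sub_eq_zero.mp h
    have h4 := orderOf_dvd_of_pow_eq_one h3
    rw [hord] at h4
    have := Nat.le_of_dvd hj h4
    omega
  · rw [← ZMod.natCast_eq_zero_iff]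
    push_cast
    exact h

/-- ND-D1 -/
theorem exists_piece_ss [Fintype F] [FiniteDimensional F V] (p : ℕ) [Fact p.Prime] [CharP F p]
    (B : V →ₗ[F] V →ₗ[F] F) (hB : Alt B) (y : V →ₗ[F] V) (hy : Isom B y) (r : ℕ) [Fact r.Prime]
    (hr2 : r ≠ 2) (hrp : r ≠ p) (hyr : (y : Module.End F V) ^ r = 1) (X : Submodule F V)
    (hX : Inv y X) (hXnd : Nd B X) (hXne : X ≠ ⊥) (hfix : ∀ v ∈ X, y v = v → v = 0) :
    ∃ U : Submodule F V, U ≤ X ∧ Inv y U ∧ Nd B U ∧
      Module.finrank F U = cOf (orderOf ((Fintype.card F : ℕ) : ZMod r)) := by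
  classical
  have hr : r.Prime := Fact.out
  have hpp : p.Prime := Fact.out
  have hrF : (r : F) ≠ 0 := by
    intro h0
    have h1 := (CharP.cast_eq_zero_iff F p r).mp h0
    exact hrp ((Nat.prime_dvd_prime_iff_eq hpp hr).mp h1).symm
  have hpoly : aeval y (Polynomial.X ^ r - 1 : F[X]) = 0 := by
    rw [map_sub, map_pow, aeval_X, map_one, hyr, sub_self]
  have hss : Module.End.IsSemisimple y :=
    Module.End.isSemisimple_of_squarefree_aeval_eq_zero
      (Cfsg.Agent.Lib.Helper2.BG.squarefree_X_pow_sub_one hrF) hpoly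
  have hcyc := Cfsg.Agent.Lib.Helper2.BG.allIrrDeg_cyclotomic (F := F) (p := p) (r := r) hrp
  have hP0 : cyclotomic r F ≠ 0 := cyclotomic_ne_zero r F
  -- the inverse of `y`
  obtain ⟨y', hy'def⟩ : ∃ y' : Module.End F V, y' = y ^ (r - 1) := ⟨_, rfl⟩
  have hyy' : y * y' = 1 := by
    rw [hy'def, ← pow_succ', Nat.sub_add_cancel hr.one_le, hyr]
  have hyy'v : ∀ w, y (y' w) = w := fun w => by
    have h := congrArg (fun g : Module.End F V => g w) hyy'
    simpa using h
  have hadj : ∀ a b, B (y a) b = B a (y' b) := by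
    intro a b
    conv_lhs => rw [← hyy'v b]
    exact hy a (y' b)
  have hinvpow : ∀ Z : Submodule F V, Inv y Z → ∀ k : ℕ, ∀ z ∈ Z, (y ^ k) z ∈ Z := by
    intro Z hZ k
    induction k with
    | zero => intro z hz; simpa using hz
    | succ k ih =>
      intro z hz
      rw [pow_succ', Module.End.mul_apply]
      exact hZ _ (ih z hz)
  have hinv' : ∀ Z : Submodule F V, Inv y Z → ∀ z ∈ Z, y' z ∈ Z := by
    intro Z hZ z hz
    rw [hy'def]
    exact hinvpow Z hZ (r - 1) z hz
  -- `X` is killed by the cyclotomic polynomial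
  have hkill : ∀ w ∈ X, aeval y (cyclotomic r F) w = 0 := by
    intro w hw
    have hmem : aeval y (cyclotomic r F) w ∈ X :=
      Cfsg.Agent.Lib.Helper2.BG.Inv.aeval (f := y) (W := X) hX (cyclotomic r F) w hw
    apply hfix _ hmem
    have h1 : aeval y ((Polynomial.X - 1 : F[X]) * cyclotomic r F) = 0 := by
      rw [mul_comm, Polynomial.cyclotomic_prime_mul_X_sub_one]
      exact hpoly
    rw [map_mul, map_sub, aeval_X, map_one] at h1
    have h2 := congrArg (fun g : Module.End F V => g w) h1
    simp only [Module.End.mul_apply, LinearMap.sub_apply, Module.End.one_apply,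
      LinearMap.zero_apply] at h2
    exact sub_eq_zero.mp h2
  -- an invariant subspace of dimension `i`
  obtain ⟨hipos, U₀, hU₀X, hU₀inv, hU₀d⟩ :=
    Cfsg.Agent.Lib.Helper2.BG.exists_inv_finrank_eq y hP0 hcyc (W := X) hX hkill hXne
  -- minimality
  have hmin : ∀ U : Submodule F V, U ≤ X → Inv y U →
      Module.finrank F U = orderOf ((Fintype.card F : ℕ) : ZMod r) →
      ∀ Z : Submodule F V, Z ≤ U → Inv y Z → Z = ⊥ ∨ Z = U := by
    intro U hUX hUinv hUd Z hZU hZinv
    have hdvd : orderOf ((Fintype.card F : ℕ) : ZMod r) ∣ Module.finrank F Z :=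
      Cfsg.Agent.Lib.Helper2.BG.dvd_finrank_of_inv hss hP0 hcyc _ Z rfl hZinv
        (fun w hw => hkill w (hUX (hZU hw)))
    have hle : Module.finrank F Z ≤ orderOf ((Fintype.card F : ℕ) : ZMod r) :=
      hUd ▸ Submodule.finrank_mono hZU
    obtain ⟨k, hk⟩ := hdvd
    rcases Nat.eq_zero_or_pos k with h0 | hkpos
    · left
      apply Submodule.finrank_eq_zero.mp
      rw [hk, h0, mul_zero]
    · right
      apply Submodule.eq_of_le_of_finrank_eq hZU
      rw [hUd]
      have h3 : orderOf ((Fintype.card F : ℕ) : ZMod r) * 1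
          ≤ orderOf ((Fintype.card F : ℕ) : ZMod r) * k := Nat.mul_le_mul_left _ hkpos
      omega
  have horthinv : ∀ U : Submodule F V, Inv y U → Inv y (orth B U) := by
    intro U hU w hw a ha
    have h1 : B a (y w) = B (y' a) w := by
      conv_lhs => rw [← hyy'v a]
      exact hy (y' a) w
    rw [h1]
    exact hw _ (hinv' U hU a ha)
  have hdich : ∀ U : Submodule F V, U ≤ X → Inv y U →
      Module.finrank F U = orderOf ((Fintype.card F : ℕ) : ZMod r) →
      Nd B U ∨ (∀ a ∈ U, ∀ b ∈ U, B a b = 0) := by
    intro U hUX hUinv hUd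
    have hZinv : Inv y (U ⊓ orth B U) := fun w hw => ⟨hUinv w hw.1, horthinv U hUinv w hw.2⟩
    rcases hmin U hUX hUinv hUd (U ⊓ orth B U) inf_le_left hZinv with h | h
    · left
      intro a ha hab
      have h1 : a ∈ U ⊓ orth B U :=
        ⟨ha, fun w hw => by rw [d1_skew B hB, hab w hw, neg_zero]⟩
      rw [h] at h1
      exact (Submodule.mem_bot F).mp h1
    · right
      intro a ha b hb
      have h1 : b ∈ U ⊓ orth B U := by rw [h]; exact hb
      exact h1.2 a ha
  by_cases hA : ∃ U : Submodule F V, U ≤ X ∧ Inv y U ∧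
      Module.finrank F U = orderOf ((Fintype.card F : ℕ) : ZMod r) ∧ Nd B U
  · obtain ⟨U, hUX, hUinv, hUd, hUnd⟩ := hA
    have hev : Even (orderOf ((Fintype.card F : ℕ) : ZMod r)) := hUd ▸ d1_even_of_nd B hB U hUnd
    refine ⟨U, hUX, hUinv, hUnd, ?_⟩
    rw [hUd, cOf, if_pos hev]
  · have hiso : ∀ U : Submodule F V, U ≤ X → Inv y U →
        Module.finrank F U = orderOf ((Fintype.card F : ℕ) : ZMod r) →
        ∀ a ∈ U, ∀ b ∈ U, B a b = 0 := by
      intro U hUX hUinv hUd
      rcases hdich U hUX hUinv hUd with h | h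
      · exact absurd ⟨U, hUX, hUinv, hUd, h⟩ hA
      · exact h
    have hU₀iso := hiso U₀ hU₀X hU₀inv hU₀d
    have hYinv : Inv y (X ⊓ orth B U₀) :=
      fun w hw => ⟨hX w hw.1, horthinv U₀ hU₀inv w hw.2⟩
    obtain ⟨C, hCinv, hCX, hdisj, hsup, -⟩ :=
      Cfsg.Agent.Lib.Helper2.BG.exists_inv_compl_in hss (Y := X ⊓ orth B U₀) (T := X) hYinv hX
        inf_le_left
    have hU₀ne : U₀ ≠ ⊥ := by
      intro h
      rw [h, finrank_bot] at hU₀d
      omega
    have hCne : C ≠ ⊥ := by
      intro h
      rw [h, sup_bot_eq] at hsup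
      apply hU₀ne
      rw [eq_bot_iff]
      intro a ha
      rw [Submodule.mem_bot]
      apply hXnd a (hU₀X ha)
      intro w hw
      have h1 : w ∈ X ⊓ orth B U₀ := by rw [hsup]; exact hw
      exact h1.2 a ha
    obtain ⟨-, U₁, hU₁C, hU₁inv, hU₁d⟩ :=
      Cfsg.Agent.Lib.Helper2.BG.exists_inv_finrank_eq y hP0 hcyc (W := C) hCinv
        (fun w hw => hkill w (hCX hw)) hCne
    have hU₁X : U₁ ≤ X := hU₁C.trans hCX
    have hU₁iso := hiso U₁ hU₁X hU₁inv hU₁d
    have hU₁ne : U₁ ≠ ⊥ := by
      intro h
      rw [h, finrank_bot] at hU₁d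
      omega
    have hKR : ∀ b ∈ U₁, (∀ a ∈ U₀, B a b = 0) → b = 0 := by
      intro b hb h
      have h2 : b ∈ (X ⊓ orth B U₀) ⊓ C := ⟨⟨hU₁X hb, h⟩, hU₁C hb⟩
      rw [hdisj.eq_bot] at h2
      exact (Submodule.mem_bot F).mp h2
    have hKL : ∀ a ∈ U₀, (∀ b ∈ U₁, B a b = 0) → a = 0 := by
      have hKinv : Inv y (U₀ ⊓ orth B U₁) :=
        fun w hw => ⟨hU₀inv w hw.1, horthinv U₁ hU₁inv w hw.2⟩
      rcases hmin U₀ hU₀X hU₀inv hU₀d (U₀ ⊓ orth B U₁) inf_le_left hKinv with h | h
      · intro a ha hh
        have h1 : a ∈ U₀ ⊓ orth B U₁ :=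
          ⟨ha, fun w hw => by rw [d1_skew B hB, hh w hw, neg_zero]⟩
        rw [h] at h1
        exact (Submodule.mem_bot F).mp h1
      · exfalso
        apply hU₁ne
        rw [eq_bot_iff]
        intro b hb
        rw [Submodule.mem_bot]
        apply hKR b hb
        intro a ha
        have h1 : a ∈ U₀ ⊓ orth B U₁ := by rw [h]; exact ha
        rw [d1_skew B hB, h1.2 b hb, neg_zero]
    have hWX : U₀ ⊔ U₁ ≤ X := sup_le hU₀X hU₁X
    have hWinv : Inv y (U₀ ⊔ U₁) := by
      intro w hw
      obtain ⟨a, ha, b, hb, rfl⟩ := Submodule.mem_sup.mp hw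
      rw [map_add]
      exact Submodule.add_mem_sup (hU₀inv a ha) (hU₁inv b hb)
    have hWnd : Nd B (U₀ ⊔ U₁) := by
      intro w hw hh
      obtain ⟨a, ha, b, hb, rfl⟩ := Submodule.mem_sup.mp hw
      have hb0 : b = 0 := by
        apply hKR b hb
        intro a' ha'
        have h1 := hh a' (Submodule.mem_sup_left ha')
        rw [map_add, LinearMap.add_apply, hU₀iso a ha a' ha', zero_add] at h1
        rw [d1_skew B hB, h1, neg_zero]
      have ha0 : a = 0 := by
        apply hKL a ha
        intro b' hb'
        have h1 := hh b' (Submodule.mem_sup_right hb')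
        rw [map_add, LinearMap.add_apply, hU₁iso b hb b' hb', add_zero] at h1
        exact h1
      rw [ha0, hb0, add_zero]
    have hdisj01 : Disjoint U₀ U₁ := by
      rw [disjoint_iff]
      have hKinv : Inv y (U₀ ⊓ U₁) := fun w hw => ⟨hU₀inv w hw.1, hU₁inv w hw.2⟩
      rcases hmin U₀ hU₀X hU₀inv hU₀d (U₀ ⊓ U₁) inf_le_left hKinv with h | h
      · exact h
      · exfalso
        have hle : U₀ ≤ U₁ := by rw [← h]; exact inf_le_right
        apply hU₀ne
        rw [eq_bot_iff]
        intro a ha
        rw [Submodule.mem_bot]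
        exact hKL a ha (fun b hb => hU₁iso a (hle ha) b hb)
    have hWd : Module.finrank F ↥(U₀ ⊔ U₁) = 2 * orderOf ((Fintype.card F : ℕ) : ZMod r) := by
      rw [Cfsg.Agent.Lib.Helper2.BG.finrank_sup_of_disjoint' U₀ U₁ hdisj01, hU₀d, hU₁d]
      ring
    by_cases hev : Even (orderOf ((Fintype.card F : ℕ) : ZMod r))
    · exfalso
      obtain ⟨j, hj⟩ := hev
      have hjpos : 0 < j := by omega
      have hQ : r ∣ Fintype.card F ^ j + 1 := d1_dvd_of_even (Fintype.card F) r j hjpos hj
      have hyQ : y ^ (Fintype.card F ^ j) = y' := by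
        obtain ⟨m, hm⟩ := hQ
        have h1 : y ^ (Fintype.card F ^ j + 1) = 1 := by rw [hm, pow_mul, hyr, one_pow]
        calc y ^ (Fintype.card F ^ j) = y ^ (Fintype.card F ^ j) * (y * y') := by
              rw [hyy', mul_one]
          _ = y ^ (Fintype.card F ^ j + 1) * y' := by rw [pow_succ, mul_assoc]
          _ = y' := by rw [h1, one_mul]
      -- the characteristic polynomial of `y` on `U₀`
      obtain ⟨g, hgdef⟩ : ∃ g : F[X], g = LinearMap.charpoly (y.restrict hU₀inv) := ⟨_, rfl⟩
      have hgmonic : g.Monic := hgdef ▸ LinearMap.charpoly_monic _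
      have hgdeg : g.natDegree = j + j := by
        rw [hgdef, LinearMap.charpoly_natDegree, hU₀d, hj]
      have hgU₀ : ∀ a ∈ U₀, aeval y g a = 0 := by
        intro a ha
        have h1 := d1_aeval_restrict y U₀ hU₀inv g ⟨a, ha⟩
        rw [hgdef, LinearMap.aeval_self_charpoly] at h1
        rw [hgdef]
        simpa using h1.symm
      have hadjpoly : ∀ (A : F[X]) (a b : V), B (aeval y A a) b = B a (aeval y' A b) := by
        intro A
        induction A using Polynomial.induction_on' with
        | add A₁ A₂ h₁ h₂ =>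
          intro a b
          simp only [map_add, LinearMap.add_apply, h₁, h₂]
        | monomial n c =>
          intro a b
          rw [aeval_monomial, aeval_monomial, Module.End.mul_apply, Module.End.mul_apply,
            Module.algebraMap_end_apply, Module.algebraMap_end_apply, map_smul,
            LinearMap.smul_apply, map_smul]
          congr 1
          induction n generalizing a b with
          | zero => simp
          | succ n ih =>
            rw [pow_succ', Module.End.mul_apply, hadj, ih, pow_succ, Module.End.mul_apply]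
      have hgU₁' : ∀ b ∈ U₁, aeval y' g b = 0 := by
        intro b hb
        have hmem : aeval y' g b ∈ U₁ :=
          Cfsg.Agent.Lib.Helper2.BG.Inv.aeval (f := y') (W := U₁)
            (fun w hw => hinv' U₁ hU₁inv w hw) g b hb
        apply hKR _ hmem
        intro a ha
        rw [← hadjpoly g a b, hgU₀ a ha, map_zero, LinearMap.zero_apply]
      have hexp : ∀ k : ℕ, expand F (Fintype.card F ^ k) g = g ^ (Fintype.card F ^ k) := by
        intro k
        induction k with
        | zero => simp
        | succ k ih =>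
          rw [pow_succ, mul_comm, ← Polynomial.expand_expand, ih, FiniteField.expand_card,
            ← pow_mul, mul_comm]
      have hTQ : aeval y' g = (aeval y g) ^ (Fintype.card F ^ j) := by
        rw [← hyQ, ← Polynomial.expand_aeval, hexp, map_pow]
      have hgU₁ : ∀ b ∈ U₁, aeval y g b = 0 := by
        have hKinv : Inv y (U₁ ⊓ LinearMap.ker (aeval y g)) :=
          fun w hw => ⟨hU₁inv w hw.1, Cfsg.Agent.Lib.Helper2.BG.inv_ker_aeval y g w hw.2⟩
        rcases hmin U₁ hU₁X hU₁inv hU₁d (U₁ ⊓ LinearMap.ker (aeval y g)) inf_le_left hKinv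
          with h | h
        · exfalso
          have hinj : ∀ n : ℕ, ∀ b ∈ U₁, ((aeval y g) ^ n) b = 0 → b = 0 := by
            intro n
            induction n with
            | zero => intro b _ hb0; simpa using hb0
            | succ n ih =>
              intro b hb hb0
              rw [pow_succ, Module.End.mul_apply] at hb0
              have h1 : aeval y g b ∈ U₁ :=
                Cfsg.Agent.Lib.Helper2.BG.Inv.aeval (f := y) (W := U₁) hU₁inv g b hb
              have h2 := ih _ h1 hb0
              have h3 : b ∈ U₁ ⊓ LinearMap.ker (aeval y g) := ⟨hb, LinearMap.mem_ker.mpr h2⟩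
              rw [h] at h3
              exact (Submodule.mem_bot F).mp h3
          apply hU₁ne
          rw [eq_bot_iff]
          intro b hb
          rw [Submodule.mem_bot]
          apply hinj (Fintype.card F ^ j) b hb
          rw [← hTQ]
          exact hgU₁' b hb
        · intro b hb
          have h1 : b ∈ U₁ ⊓ LinearMap.ker (aeval y g) := by rw [h]; exact hb
          exact LinearMap.mem_ker.mp h1.2
      have hgW : ∀ w ∈ U₀ ⊔ U₁, aeval y g w = 0 := by
        intro w hw
        obtain ⟨a, ha, b, hb, rfl⟩ := Submodule.mem_sup.mp hw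
        rw [map_add, hgU₀ a ha, hgU₁ b hb, add_zero]
      have hvyv : ∀ w ∈ U₀ ⊔ U₁, B w (y w) = 0 := by
        intro w hw
        by_cases hw0 : w = 0
        · rw [hw0, map_zero, LinearMap.zero_apply]
        obtain ⟨Z, hZdef⟩ : ∃ Z : Submodule F V,
            Z = Submodule.span F (Set.range (fun k : Fin (j + j) => (y ^ (k : ℕ)) w)) := ⟨_, rfl⟩
        have hsub : ∀ k : ℕ, k < j + j → (y ^ k) w ∈ Z := by
          intro k hk
          rw [hZdef]
          exact Submodule.subset_span ⟨⟨k, hk⟩, rfl⟩
        have hZle : Z ≤ U₀ ⊔ U₁ := by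
          rw [hZdef, Submodule.span_le]
          rintro _ ⟨k, rfl⟩
          exact hinvpow _ hWinv k w hw
        have hwZ : w ∈ Z := by
          have := hsub 0 (by omega)
          simpa using this
        have hgen : ∀ k : ℕ, k ≤ j + j → (y ^ k) w ∈ Z := by
          intro k hk
          rcases Nat.lt_or_ge k (j + j) with hlt | hge
          · exact hsub k hlt
          · have hkk : k = j + j := le_antisymm hk hge
            have h1 := hgW w hw
            rw [hgmonic.as_sum, map_add, map_pow, aeval_X, LinearMap.add_apply, map_sum,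
              LinearMap.sum_apply, hgdeg] at h1
            have h2 := eq_neg_of_add_eq_zero_left h1
            rw [hkk, h2]
            apply Z.neg_mem
            apply Z.sum_mem
            intro t ht
            rw [map_mul, aeval_C, map_pow, aeval_X, Module.End.mul_apply,
              Module.algebraMap_end_apply]
            exact Z.smul_mem _ (hsub t (Finset.mem_range.mp ht))
        have hZinv : Inv y Z := by
          intro z hz
          rw [hZdef] at hz
          refine Submodule.span_induction (p := fun z _ => y z ∈ Z) ?_ ?_ ?_ ?_ hz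
          · rintro _ ⟨k, rfl⟩
            have h1 := hgen ((k : ℕ) + 1) (by have := k.2; omega)
            rwa [pow_succ', Module.End.mul_apply] at h1
          · simp
          · intro a b _ _ ha hb
            rw [map_add]
            exact Z.add_mem ha hb
          · intro c a _ ha
            rw [map_smul]
            exact Z.smul_mem c ha
        have hZd_le : Module.finrank F Z ≤ j + j := by
          rw [hZdef]
          have h1 := finrank_range_le_card (R := F) (fun k : Fin (j + j) => (y ^ (k : ℕ)) w)
          simpa [Set.finrank] using h1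
        have hZne : Z ≠ ⊥ := fun h => hw0 (by rw [h] at hwZ; exact (Submodule.mem_bot F).mp hwZ)
        have hZX : Z ≤ X := hZle.trans hWX
        have hZdvd : orderOf ((Fintype.card F : ℕ) : ZMod r) ∣ Module.finrank F Z :=
          Cfsg.Agent.Lib.Helper2.BG.dvd_finrank_of_inv hss hP0 hcyc _ Z rfl hZinv
            (fun w hw => hkill w (hZX hw))
        have hZd : Module.finrank F Z = orderOf ((Fintype.card F : ℕ) : ZMod r) := by
          obtain ⟨k, hk⟩ := hZdvd
          have hkpos : 0 < k := by
            rcases Nat.eq_zero_or_pos k with h0 | h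
            · exfalso
              apply hZne
              apply Submodule.finrank_eq_zero.mp
              rw [hk, h0, mul_zero]
            · exact h
          have h3 : orderOf ((Fintype.card F : ℕ) : ZMod r) * 1
              ≤ orderOf ((Fintype.card F : ℕ) : ZMod r) * k := Nat.mul_le_mul_left _ hkpos
          omega
        exact hiso Z hZX hZinv hZd w hwZ (y w) (hZinv w hwZ)
      have hpol : ∀ a ∈ U₀ ⊔ U₁, ∀ b ∈ U₀ ⊔ U₁, B a (y b) = B a (y' b) := by
        intro a ha b hb
        have h1 := hvyv (a + b) (Submodule.add_mem _ ha hb)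
        simp only [map_add, LinearMap.add_apply] at h1
        have e1 := hvyv a ha
        have e2 := hvyv b hb
        have h2 : B a (y b) + B b (y a) = 0 := by linear_combination h1 - e1 - e2
        have h3 : B a (y b) = - B b (y a) := eq_neg_of_add_eq_zero_left h2
        rw [h3, ← d1_skew B hB (y a) b, hadj]
      have hsq : ∀ b ∈ U₀ ⊔ U₁, y (y b) = b := by
        intro b hb
        have hmem : y b - y' b ∈ U₀ ⊔ U₁ :=
          Submodule.sub_mem _ (hWinv b hb) (hinv' _ hWinv b hb)
        have h0 : y b - y' b = 0 := by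
          apply hWnd _ hmem
          intro a ha
          rw [d1_skew B hB, map_sub, hpol a ha b hb, sub_self, neg_zero]
        have h1 : y b = y' b := sub_eq_zero.mp h0
        rw [h1, hyy'v]
      have hfixW : ∀ b ∈ U₀ ⊔ U₁, y b = b := by
        intro b hb
        rcases hr.eq_two_or_odd' with h2 | ⟨s, hs⟩
        · exact absurd h2 hr2
        have hpow2 : ∀ n : ℕ, ∀ c ∈ U₀ ⊔ U₁, (y ^ (2 * n)) c = c := by
          intro n
          induction n with
          | zero => intro c _; simp
          | succ n ih =>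
            intro c hc
            rw [Nat.mul_succ, pow_add, Module.End.mul_apply, pow_two, Module.End.mul_apply,
              hsq c hc, ih c hc]
        have h1 : (y ^ r) b = y b := by
          rw [hs, pow_succ, Module.End.mul_apply, hpow2 s (y b) (hWinv b hb)]
        rw [hyr] at h1
        simpa using h1.symm
      have hWbot : U₀ ⊔ U₁ = ⊥ := by
        rw [eq_bot_iff]
        intro b hb
        rw [Submodule.mem_bot]
        exact hfix b (hWX hb) (hfixW b hb)
      rw [hWbot, finrank_bot] at hWd
      omega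
    · refine ⟨U₀ ⊔ U₁, hWX, hWinv, hWnd, ?_⟩
      rw [hWd, cOf, if_neg hev]

end Cfsg.Agent.Lib.Helper4.NdH
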