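import Mathlib
import Cfsg.Prelude.Def_ClassicalGeometry
import Cfsg.Agent.Lib.Helper4.NdDefs
import Cfsg.Agent.Lib.Helper43.NdG1
import Cfsg.Agent.Lib.Helper52.NdD1

/-! # ND-D2 (helper52, for helper4's S5956 hive): invariant nondegenerate subspaces of all
dimensions `c * s'` for a semisimple isometry of odd prime order without fixed vectors. -/

set_option autoImplicit false
open Cfsg.Agent.Lib.Helper99 (Nd dker sympB)

namespace Cfsg.Agent.Lib.Helper4.NdH

universe u v
variable {F : Type u} [Field F] {V : Type v} [AddCommGroup V] [Module F V]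

/-- the orthogonal complement of an invariant subspace of an isometry of finite order is invariant -/
theorem d2_inv_orth (B : V →ₗ[F] V →ₗ[F] F) (y : V →ₗ[F] V) (hy : Isom B y) (r : ℕ) (hr : 0 < r)
    (hyr : (y : Module.End F V) ^ r = 1) (U : Submodule F V) (hU : Inv y U) :
    Inv y (orth B U) := by
  have hyy' : y * y ^ (r - 1) = 1 := by
    rw [← pow_succ', Nat.sub_add_cancel hr, hyr]
  have hyy'v : ∀ w, y ((y ^ (r - 1)) w) = w := fun w => by
    have h := congrArg (fun g : Module.End F V => g w) hyy'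
    simpa using h
  have hinvpow : ∀ k : ℕ, ∀ z ∈ U, (y ^ k) z ∈ U := by
    intro k
    induction k with
    | zero => intro z hz; simpa using hz
    | succ k ih =>
      intro z hz
      rw [pow_succ', Module.End.mul_apply]
      exact hU _ (ih z hz)
  intro w hw a ha
  have h1 : B a (y w) = B ((y ^ (r - 1)) a) w := by
    conv_lhs => rw [← hyy'v a]
    exact hy _ w
  rw [h1]
  exact hw _ (hinvpow (r - 1) a ha)

/-- orthogonal sum of two nondegenerate subspaces -/
theorem d2_nd_sup (B : V →ₗ[F] V →ₗ[F] F) (hB : Alt B) (U U' : Submodule F V) (hU : Nd B U)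
    (hU' : Nd B U') (hperp : U' ≤ orth B U) : Nd B (U ⊔ U') := by
  intro w hw hh
  obtain ⟨a, ha, b, hb, rfl⟩ := Submodule.mem_sup.mp hw
  have ha0 : a = 0 := by
    apply hU a ha
    intro a' ha'
    have h1 := hh a' (Submodule.mem_sup_left ha')
    rw [map_add, LinearMap.add_apply, d1_skew B hB b a', hperp hb a' ha', neg_zero, add_zero] at h1
    exact h1
  have hb0 : b = 0 := by
    apply hU' b hb
    intro b' hb'
    have h1 := hh b' (Submodule.mem_sup_right hb')
    rw [map_add, LinearMap.add_apply, hperp hb' a ha, zero_add] at h1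
    exact h1
  rw [ha0, hb0, add_zero]

theorem d2_bot_ok (B : V →ₗ[F] V →ₗ[F] F) (y : V →ₗ[F] V) (X : Submodule F V) (c : ℕ) :
    ∃ U : Submodule F V, U ≤ X ∧ Inv y U ∧ Nd B U ∧ Module.finrank F U = c * 0 := by
  refine ⟨⊥, bot_le, ?_, ?_, by rw [finrank_bot, mul_zero]⟩
  · intro w hw
    rw [Submodule.mem_bot] at hw
    rw [hw, map_zero]
    exact Submodule.zero_mem _
  · intro w hw _
    exact (Submodule.mem_bot F).mp hw

/-- ND-D2 -/
theorem exists_pieces_ss [Fintype F] [FiniteDimensional F V] (p : ℕ) [Fact p.Prime] [CharP F p]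
    (B : V →ₗ[F] V →ₗ[F] F) (hB : Alt B) (y : V →ₗ[F] V) (hy : Isom B y) (r : ℕ) [Fact r.Prime]
    (hr2 : r ≠ 2) (hrp : r ≠ p) (hyr : (y : Module.End F V) ^ r = 1) (X : Submodule F V)
    (hX : Inv y X) (hXnd : Nd B X) (hfix : ∀ v ∈ X, y v = v → v = 0) :
    ∃ s : ℕ, Module.finrank F X = cOf (orderOf ((Fintype.card F : ℕ) : ZMod r)) * s ∧
      ∀ s' ≤ s, ∃ U : Submodule F V, U ≤ X ∧ Inv y U ∧ Nd B U ∧
        Module.finrank F U = cOf (orderOf ((Fintype.card F : ℕ) : ZMod r)) * s' := by
  classical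
  have hr : r.Prime := Fact.out
  have hpp : p.Prime := Fact.out
  have hipos : 0 < orderOf ((Fintype.card F : ℕ) : ZMod r) := by
    apply orderOf_pos_iff.mpr
    rw [isOfFinOrder_iff_pow_eq_one]
    refine ⟨r - 1, by have := hr.two_le; omega, ?_⟩
    apply ZMod.pow_card_sub_one_eq_one
    intro h0
    rw [ZMod.natCast_eq_zero_iff] at h0
    obtain ⟨k, _, hk⟩ := FiniteField.card F p
    rw [hk] at h0
    have h1 := hr.dvd_of_dvd_pow h0
    exact hrp ((Nat.prime_dvd_prime_iff_eq hr hpp).mp h1)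
  have hcpos : 0 < cOf (orderOf ((Fintype.card F : ℕ) : ZMod r)) := by
    unfold cOf
    split_ifs <;> omega
  have key : ∀ n : ℕ, ∀ X : Submodule F V, Module.finrank F X = n → Inv y X → Nd B X →
      (∀ v ∈ X, y v = v → v = 0) →
      ∃ s : ℕ, Module.finrank F X = cOf (orderOf ((Fintype.card F : ℕ) : ZMod r)) * s ∧
        ∀ s' ≤ s, ∃ U : Submodule F V, U ≤ X ∧ Inv y U ∧ Nd B U ∧
          Module.finrank F U = cOf (orderOf ((Fintype.card F : ℕ) : ZMod r)) * s' := by
    intro n
    induction n using Nat.strong_induction_on with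
    | _ n ih =>
      intro X hn hX hXnd hfix
      by_cases hXne : X = ⊥
      · refine ⟨0, by rw [hXne, finrank_bot, mul_zero], ?_⟩
        intro s' hs'
        have h0 : s' = 0 := Nat.le_zero.mp hs'
        subst h0
        exact d2_bot_ok B y X _
      · obtain ⟨U₁, hU₁X, hU₁inv, hU₁nd, hU₁d⟩ :=
          exists_piece_ss p B hB y hy r hr2 hrp hyr X hX hXnd hXne hfix
        have hcompl := isCompl_orth B hB U₁ hU₁nd
        have hX'inv : Inv y (X ⊓ orth B U₁) :=
          fun w hw => ⟨hX w hw.1, d2_inv_orth B y hy r hr.pos hyr U₁ hU₁inv w hw.2⟩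
        have hsupX : U₁ ⊔ (X ⊓ orth B U₁) = X := by
          apply le_antisymm (sup_le hU₁X inf_le_left)
          intro x hx
          have h1 : x ∈ U₁ ⊔ orth B U₁ := by rw [hcompl.sup_eq_top]; trivial
          obtain ⟨a, ha, o, ho, rfl⟩ := Submodule.mem_sup.mp h1
          have h2 : o = (a + o) - a := by abel
          have h3 : o ∈ X := by rw [h2]; exact X.sub_mem hx (hU₁X ha)
          exact Submodule.mem_sup.mpr ⟨a, ha, o, ⟨h3, ho⟩, rfl⟩
        have hdisjX : Disjoint U₁ (X ⊓ orth B U₁) := hcompl.disjoint.mono_right inf_le_right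
        have hX'nd : Nd B (X ⊓ orth B U₁) := by
          intro x' hx' hh
          apply hXnd x' hx'.1
          intro x hx
          rw [← hsupX] at hx
          obtain ⟨a, ha, z, hz, rfl⟩ := Submodule.mem_sup.mp hx
          rw [map_add, hh z hz, add_zero, d1_skew B hB, hx'.2 a ha, neg_zero]
        have hfr : Module.finrank F X
            = Module.finrank F U₁ + Module.finrank F ↥(X ⊓ orth B U₁) := by
          rw [← Cfsg.Agent.Lib.Helper2.BG.finrank_sup_of_disjoint' U₁ _ hdisjX, hsupX]
        have hlt : Module.finrank F ↥(X ⊓ orth B U₁) < n := by omega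
        obtain ⟨s₀, hs₀, hall⟩ :=
          ih _ hlt (X ⊓ orth B U₁) rfl hX'inv hX'nd (fun v hv => hfix v hv.1)
        refine ⟨s₀ + 1, by rw [hfr, hU₁d, hs₀]; ring, ?_⟩
        intro s' hs'
        rcases Nat.eq_zero_or_pos s' with h0 | hpos
        · subst h0
          exact d2_bot_ok B y X _
        · obtain ⟨t, rfl⟩ : ∃ t, s' = t + 1 := ⟨s' - 1, by omega⟩
          obtain ⟨U', hU'X', hU'inv, hU'nd, hU'd⟩ := hall t (by omega)
          refine ⟨U₁ ⊔ U', sup_le hU₁X (hU'X'.trans inf_le_left), ?_,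
            d2_nd_sup B hB U₁ U' hU₁nd hU'nd (hU'X'.trans inf_le_right), ?_⟩
          · intro w hw
            obtain ⟨a, ha, b, hb, rfl⟩ := Submodule.mem_sup.mp hw
            rw [map_add]
            exact Submodule.add_mem_sup (hU₁inv a ha) (hU'inv b hb)
          · rw [Cfsg.Agent.Lib.Helper2.BG.finrank_sup_of_disjoint' U₁ U'
              (hdisjX.mono_right hU'X'), hU₁d, hU'd]
            ring
  exact key _ X rfl hX hXnd hfix

end Cfsg.Agent.Lib.Helper4.NdH
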