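import Mathlib
import Cfsg.Agent.Lib.Helper46.AhDefs

/-! # AH-GEN2 (S2538 hive "Ah", helper46): `relIndex_inf_of_normalizes` (helper52) -/

set_option autoImplicit false
set_option linter.unusedSectionVars false
set_option linter.unusedVariables false

namespace Cfsg.Agent.Lib.Helper46.Ah

open Cfsg Equiv

section general

variable {G : Type*} [Group G] [Finite G] {π : Set ℕ}

omit [Finite G] in
/-- `|K| * |L : K| = |L|` for `K ≤ L` -/
theorem gen2_card_mul_relIndex {K L : Subgroup G} (h : K ≤ L) :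
    Nat.card K * K.relIndex L = Nat.card L := by
  have := Subgroup.relIndex_mul_relIndex (⊥ : Subgroup G) K L bot_le h
  rwa [Subgroup.relIndex_bot_left, Subgroup.relIndex_bot_left] at this

/-- second isomorphism theorem, index form: `|N : H ⊓ N| = |H ⊔ N : H|` when `H` normalizes `N` -/
theorem gen2_relIndex_eq {H N : Subgroup G} (hN : ∀ g ∈ H, ∀ n ∈ N, g * n * g⁻¹ ∈ N) :
    (H ⊓ N).relIndex N = H.relIndex (H ⊔ N) := by
  have hHnorm : H ≤ Subgroup.normalizer (N : Set G) := Subgroup.le_normalizer_iff.mpr hN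
  have hLnorm : H ⊔ N ≤ Subgroup.normalizer (N : Set G) := sup_le hHnorm Subgroup.le_normalizer
  have hHL : H ≤ H ⊔ N := le_sup_left
  have hNL : N ≤ H ⊔ N := le_sup_right
  haveI : (N.subgroupOf (H ⊔ N)).Normal :=
    (Subgroup.normal_subgroupOf_iff_le_normalizer hNL).mpr hLnorm
  have h1 := Subgroup.relIndex_sup_right (H.subgroupOf (H ⊔ N)) (N.subgroupOf (H ⊔ N))
  rw [← Subgroup.subgroupOf_sup hHL hNL, Subgroup.subgroupOf_self, Subgroup.relIndex_top_right,
    Subgroup.relIndex_subgroupOf hHL] at h1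
  -- `h1 : (N.subgroupOf (H ⊔ N)).index = N.relIndex H`
  have h1' : N.relIndex (H ⊔ N) = N.relIndex H := h1
  have e1 := gen2_card_mul_relIndex hNL
  have e2 := gen2_card_mul_relIndex hHL
  have e3 := gen2_card_mul_relIndex (inf_le_left : H ⊓ N ≤ H)
  have e4 := gen2_card_mul_relIndex (inf_le_right : H ⊓ N ≤ N)
  rw [Subgroup.inf_relIndex_left] at e3
  rw [h1'] at e1
  have hpos : 0 < Nat.card H := Nat.card_pos
  -- `|H ⊓ N| * x = |N|`, `|N| * r = |L|`, `|H| * y = |L|`, `|H ⊓ N| * r = |H|`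
  have : Nat.card H * (H ⊓ N).relIndex N = Nat.card H * H.relIndex (H ⊔ N) := by
    rw [e2, ← e1, ← e4, ← e3]
    ring
  exact Nat.eq_of_mul_eq_mul_left hpos this

/-- AH-GEN2 -/
theorem relIndex_inf_of_normalizes {H A N : Subgroup G} (hHA : H ≤ A) (hNA : N ≤ A)
    (h : IsPiHall π (H.subgroupOf A)) (hN : ∀ g ∈ H, ∀ n ∈ N, g * n * g⁻¹ ∈ N) :
    ∀ p : ℕ, p.Prime → p ∈ π → ¬ p ∣ (H ⊓ N).relIndex N := by
  intro p hp hpπ hdvd
  rw [gen2_relIndex_eq hN] at hdvd
  have hLA : H ⊔ N ≤ A := sup_le hHA hNA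
  have h2 := Subgroup.relIndex_mul_relIndex H (H ⊔ N) A le_sup_left hLA
  apply h.2 p hp hpπ
  show p ∣ H.relIndex A
  rw [← h2]
  exact dvd_mul_of_dvd_left hdvd _

end general

end Cfsg.Agent.Lib.Helper46.Ah
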