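import Mathlib
import Cfsg.Agent.Lib.Helper46.AhDefs

/-! # AH-KL (S2538 hive "Ah", helper46): `hall_of_oddExt` (helper52) -/

set_option autoImplicit false
set_option linter.unusedSectionVars false
set_option linter.unusedVariables false

namespace Cfsg.Agent.Lib.Helper46.Ah

open Cfsg Equiv
open Cfsg.Agent.Lib.Helper15.Hs (resSub mem_resSub)

section leaves

variable {α : Type*} [Fintype α] [DecidableEq α] {π : Set ℕ} (M : Subgroup (Perm α)) (B : Set α)

/-- a natural number all of whose prime divisors lie in `π` and none of whose prime divisors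
lies in `π` is `1` -/
theorem kl_eq_one {π : Set ℕ} {m : ℕ} (h1 : ∀ p : ℕ, p.Prime → p ∣ m → p ∈ π)
    (h2 : ∀ p : ℕ, p.Prime → p ∈ π → ¬ p ∣ m) : m = 1 := by
  by_contra hne
  obtain ⟨p, hp, hpm⟩ := Nat.exists_prime_and_dvd hne
  exact h2 p hp (h1 p hp hpm) hpm

/-- AH-KL -/
theorem hall_of_oddExt (hM : AltHall π M) {M₀ : Subgroup (Perm α)} (hle : M ≤ M₀)
    (hπ : IsPiSubgroup π M₀) (hodd : ∃ g ∈ M₀, Perm.sign g = -1) :
    IsPiHall π M₀ ∧ M.subgroupOf (alternatingGroup α) = M₀.subgroupOf (alternatingGroup α) := by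
  obtain ⟨g, hgM₀, hgs⟩ := hodd
  obtain ⟨hMA, hH1, hH2⟩ := hM
  -- `α` is nontrivial
  haveI : Nontrivial α := by
    by_contra hnt
    rw [not_nontrivial_iff_subsingleton] at hnt
    have : g = 1 := Subsingleton.elim _ _
    rw [this, Perm.sign_one] at hgs
    exact absurd hgs (by decide)
  have hAidx : (alternatingGroup α).index = 2 := alternatingGroup.index_eq_two
  have hgA : g ∉ alternatingGroup α := by
    rw [Perm.mem_alternatingGroup, hgs]
    decide
  -- `K = M₀ ⊓ A = M`
  have hMK : M ≤ M₀ ⊓ alternatingGroup α := le_inf hle hMA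
  have hKA : M₀ ⊓ alternatingGroup α ≤ alternatingGroup α := inf_le_right
  have hKM₀ : M₀ ⊓ alternatingGroup α ≤ M₀ := inf_le_left
  have hrel1 : M.relIndex (M₀ ⊓ alternatingGroup α) = 1 := by
    apply kl_eq_one (π := π)
    · intro p hp hd
      apply hπ p hp
      exact (hd.trans (Subgroup.relIndex_dvd_card _ _)).trans (Subgroup.card_dvd_of_le hKM₀)
    · intro p hp hpπ hd
      apply hH2 p hp hpπ
      show p ∣ M.relIndex (alternatingGroup α)
      rw [← Subgroup.relIndex_mul_relIndex M (M₀ ⊓ alternatingGroup α) (alternatingGroup α) hMK hKA]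
      exact dvd_mul_of_dvd_left hd _
  have hKM : M₀ ⊓ alternatingGroup α ≤ M := Subgroup.relIndex_eq_one.mp hrel1
  have hKeq : M₀ ⊓ alternatingGroup α = M := le_antisymm hKM hMK
  refine ⟨⟨hπ, ?_⟩, ?_⟩
  · intro p hp hpπ hd
    apply hH2 p hp hpπ
    show p ∣ M.relIndex (alternatingGroup α)
    -- `A.relIndex M₀ = 2`
    have hr2 : (alternatingGroup α).relIndex M₀ = 2 := by
      have hdvd : (alternatingGroup α).relIndex M₀ ∣ 2 := by
        rw [← hAidx]
        exact Subgroup.relIndex_dvd_index_of_normal _ _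
      have hne1 : (alternatingGroup α).relIndex M₀ ≠ 1 := by
        intro h1
        exact hgA (Subgroup.relIndex_eq_one.mp h1 hgM₀)
      rcases (Nat.dvd_prime Nat.prime_two).mp hdvd with h | h
      · exact absurd h hne1
      · exact h
    have e1 := Subgroup.relIndex_mul_index hKM₀
    have e2 := Subgroup.relIndex_mul_index hKA
    rw [Subgroup.inf_relIndex_left, hr2] at e1
    rw [hKeq] at e1 e2
    rw [hAidx] at e2
    -- `2 * M₀.index = M.index = M.relIndex A * 2`
    have : M₀.index = M.relIndex (alternatingGroup α) := by omega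
    rw [← this]
    exact hd
  · rw [← Subgroup.inf_subgroupOf_right M₀ (alternatingGroup α), hKeq]

end leaves

end Cfsg.Agent.Lib.Helper46.Ah
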