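import Cfsg.Agent.Lib.Helper52.Subpairs2

/-!
# Conjugation of Brauer pairs

Transport of the Brauer pair vocabulary (`conjBlock`, `IsBrauerPairOf`, `StabilizesBlock`,
`IsNormalSubpair`, `SubpairLE`) along conjugation by a group element, and the composition rule for
conjugation of pairs.
-/

set_option autoImplicit false

universe u

namespace Cfsg.Agent.Lib.Helper52.ConjPairs

open Cfsg
open Cfsg.Agent.Lib.Helper77 Cfsg.Agent.Lib.Helper81 Cfsg.Agent.Lib.Helper80

variable {G : Type u} [Group G]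

/-- The conjugate subgroup `g Q g⁻¹`, in the form used by the frozen vocabulary. -/
abbrev conjSub (Q : Subgroup G) (g : G) : Subgroup G := Q.map (MulAut.conj g).toMonoidHom

theorem mem_conjSub {Q : Subgroup G} {g y : G} : y ∈ conjSub Q g ↔ g⁻¹ * y * g ∈ Q := by
  constructor
  · rintro ⟨q, hq, rfl⟩
    show g⁻¹ * (g * q * g⁻¹) * g ∈ Q
    have : g⁻¹ * (g * q * g⁻¹) * g = q := by group
    rw [this]
    exact hq
  · intro h
    refine ⟨g⁻¹ * y * g, h, ?_⟩
    show g * (g⁻¹ * y * g) * g⁻¹ = y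
    group

theorem conj_mem_conjSub {Q : Subgroup G} (g : G) {q : G} (hq : q ∈ Q) :
    g * q * g⁻¹ ∈ conjSub Q g := ⟨q, hq, rfl⟩

theorem mem_centralizer_conjSub {Q : Subgroup G} {g y : G} :
    y ∈ Subgroup.centralizer ((conjSub Q g : Subgroup G) : Set G) ↔
      g⁻¹ * y * g ∈ Subgroup.centralizer (Q : Set G) := by
  rw [Subgroup.mem_centralizer_iff, Subgroup.mem_centralizer_iff]
  constructor
  · intro h q hq
    have := h _ (conj_mem_conjSub g hq)
    calc q * (g⁻¹ * y * g) = g⁻¹ * ((g * q * g⁻¹) * y) * g := by group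
      _ = g⁻¹ * (y * (g * q * g⁻¹)) * g := by rw [this]
      _ = g⁻¹ * y * g * q := by group
  · rintro h _ ⟨q, hq, rfl⟩
    have := h q hq
    show g * q * g⁻¹ * y = y * (g * q * g⁻¹)
    calc g * q * g⁻¹ * y = g * (q * (g⁻¹ * y * g)) * g⁻¹ := by group
      _ = g * ((g⁻¹ * y * g) * q) * g⁻¹ := by rw [this]
      _ = y * (g * q * g⁻¹) := by group

theorem conj_mem_centralizer_conjSub {Q : Subgroup G} (g : G) {c : G}
    (hc : c ∈ Subgroup.centralizer (Q : Set G)) :
    g * c * g⁻¹ ∈ Subgroup.centralizer ((conjSub Q g : Subgroup G) : Set G) := by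
  rw [mem_centralizer_conjSub]
  have : g⁻¹ * (g * c * g⁻¹) * g = c := by group
  rw [this]
  exact hc

theorem conj_mem_normalizer_conjSub {Q : Subgroup G} (g : G) {x : G}
    (hx : x ∈ Subgroup.normalizer (Q : Set G)) :
    g * x * g⁻¹ ∈ Subgroup.normalizer ((conjSub Q g : Subgroup G) : Set G) := by
  rw [Subgroup.mem_normalizer_iff]
  intro y
  rw [mem_conjSub, mem_conjSub]
  have e1 : g⁻¹ * (g * x * g⁻¹ * y * (g * x * g⁻¹)⁻¹) * g = x * (g⁻¹ * y * g) * x⁻¹ := by group
  rw [e1]
  exact Subgroup.mem_normalizer_iff.mp hx _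

/-- Conjugation by `g⁻¹` from the centralizer of `g Q g⁻¹` onto the centralizer of `Q`. -/
def centConj (Q : Subgroup G) (g : G) :
    Subgroup.centralizer ((conjSub Q g : Subgroup G) : Set G) ≃*
      Subgroup.centralizer (Q : Set G) where
  toFun c := ⟨g⁻¹ * (c : G) * g, mem_centralizer_conjSub.mp c.2⟩
  invFun c := ⟨g * (c : G) * g⁻¹, conj_mem_centralizer_conjSub g c.2⟩
  left_inv c := by
    apply Subtype.ext
    simp [mul_assoc]
  right_inv c := by
    apply Subtype.ext
    simp [mul_assoc]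
  map_mul' a b := by
    apply Subtype.ext
    show g⁻¹ * ((a : G) * (b : G)) * g = g⁻¹ * (a : G) * g * (g⁻¹ * (b : G) * g)
    group

theorem coe_centConj (Q : Subgroup G) (g : G)
    (c : Subgroup.centralizer ((conjSub Q g : Subgroup G) : Set G)) :
    ((centConj Q g c : Subgroup.centralizer (Q : Set G)) : G) = g⁻¹ * (c : G) * g := rfl

/-- The conjugate block as an image under the transport of characters. -/
theorem conjBlock_eq_image (Q : Subgroup G) (g : G)
    (f : Set (IrrCharacter (Subgroup.centralizer (Q : Set G)))) :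
    conjBlock Q g f = irrMap (centConj Q g) '' f := by
  ext ξ'
  constructor
  · rintro ⟨ξ, hξ, hrel⟩
    refine ⟨ξ, hξ, ?_⟩
    apply Subtype.ext
    funext c'
    rw [irrMap_apply]
    symm
    apply hrel
    show (c' : G) = g * (g⁻¹ * (c' : G) * g) * g⁻¹
    group
  · rintro ⟨ξ, hξ, rfl⟩
    refine ⟨ξ, hξ, ?_⟩
    intro c c' hcc
    rw [irrMap_apply]
    have hcc' : centConj Q g c' = c := by
      apply Subtype.ext
      show g⁻¹ * (c' : G) * g = (c : G)
      rw [hcc]
      group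
    rw [hcc']

theorem irrMap_mem_conjBlock (Q : Subgroup G) (g : G)
    {f : Set (IrrCharacter (Subgroup.centralizer (Q : Set G)))}
    {ξ : IrrCharacter (Subgroup.centralizer (Q : Set G))} (hξ : ξ ∈ f) :
    irrMap (centConj Q g) ξ ∈ conjBlock Q g f := by
  rw [conjBlock_eq_image]
  exact ⟨ξ, hξ, rfl⟩

theorem isPBlock_conjBlock {M : Ideal AlgInt} (Q : Subgroup G) (g : G)
    {f : Set (IrrCharacter (Subgroup.centralizer (Q : Set G)))} (hf : IsPBlock M f) :
    IsPBlock M (conjBlock Q g f) := by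
  rw [conjBlock_eq_image]
  exact isPBlock_irrMap_image _ hf

theorem blockCoeff_conjBlock (Q : Subgroup G) (g : G)
    (f : Set (IrrCharacter (Subgroup.centralizer (Q : Set G))))
    (c' : Subgroup.centralizer ((conjSub Q g : Subgroup G) : Set G)) :
    blockCoeff (conjBlock Q g f) c' = blockCoeff f (centConj Q g c') := by
  rw [conjBlock_eq_image, blockCoeff_irrMap_image]

theorem subgroupBlockCoeff_conjBlock (Q : Subgroup G) (g : G)
    (f : Set (IrrCharacter (Subgroup.centralizer (Q : Set G)))) (y : G) :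
    subgroupBlockCoeff (Subgroup.centralizer ((conjSub Q g : Subgroup G) : Set G))
      (conjBlock Q g f) (g * y * g⁻¹) =
      subgroupBlockCoeff (Subgroup.centralizer (Q : Set G)) f y := by
  by_cases hy : y ∈ Subgroup.centralizer (Q : Set G)
  · have hy' := conj_mem_centralizer_conjSub (Q := Q) g hy
    rw [subgroupBlockCoeff_of_mem _ hy', subgroupBlockCoeff_of_mem _ hy, blockCoeff_conjBlock]
    refine congrArg _ ?_
    apply Subtype.ext
    show g⁻¹ * (g * y * g⁻¹) * g = y
    group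
  · have hy' : g * y * g⁻¹ ∉ Subgroup.centralizer ((conjSub Q g : Subgroup G) : Set G) := by
      intro h
      apply hy
      have := mem_centralizer_conjSub.mp h
      have e1 : g⁻¹ * (g * y * g⁻¹) * g = y := by group
      rwa [e1] at this
    unfold subgroupBlockCoeff
    rw [dif_neg hy', dif_neg hy]

/-- Transport of the Brauer-map central character along conjugation. -/
theorem brauerOmega_conj (Q : Subgroup G) (g : G) (β β' : G → ℂ)
    (hβ : ∀ c ∈ Subgroup.centralizer (Q : Set G), β (g * c * g⁻¹) = β' c)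
    (ξ : IrrCharacter (Subgroup.centralizer (Q : Set G))) :
    brauerOmega (conjSub Q g) β
      (irrMap (centConj Q g) ξ : Subgroup.centralizer ((conjSub Q g : Subgroup G) : Set G) → ℂ) =
      brauerOmega Q β' (ξ : Subgroup.centralizer (Q : Set G) → ℂ) := by
  unfold brauerOmega
  rw [← finsum_comp_equiv (centConj Q g).toEquiv]
  refine finsum_congr fun x => ?_
  show β (x : G) * (irrMap (centConj Q g) ξ :
      Subgroup.centralizer ((conjSub Q g : Subgroup G) : Set G) → ℂ) x /
      (irrMap (centConj Q g) ξ :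
        Subgroup.centralizer ((conjSub Q g : Subgroup G) : Set G) → ℂ) 1 =
    β' ((centConj Q g x : Subgroup.centralizer (Q : Set G)) : G) *
      (ξ : Subgroup.centralizer (Q : Set G) → ℂ) (centConj Q g x) /
      (ξ : Subgroup.centralizer (Q : Set G) → ℂ) 1
  rw [irrMap_apply, irrMap_apply, map_one, ← hβ _ (centConj Q g x).2, coe_centConj]
  have e1 : g * (g⁻¹ * (x : G) * g) * g⁻¹ = (x : G) := by group
  rw [e1]

/-- Conjugates of Brauer pairs of a block are Brauer pairs of the block. -/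
theorem isBrauerPairOf_conj [Fintype G] {p : ℕ} {M : Ideal AlgInt} {B : Set (IrrCharacter G)}
    {Q : Subgroup G} {f : Set (IrrCharacter (Subgroup.centralizer (Q : Set G)))} (g : G)
    (h : IsBrauerPairOf p M B Q f) :
    IsBrauerPairOf p M B (conjSub Q g) (conjBlock Q g f) := by
  obtain ⟨⟨hQ, hf⟩, hB, h1⟩ := h
  refine ⟨⟨hQ.map _, isPBlock_conjBlock Q g hf⟩, hB, ?_⟩
  intro ξ' hξ'
  rw [conjBlock_eq_image] at hξ'
  obtain ⟨ξ, hξ, rfl⟩ := hξ'
  rw [brauerOmega_conj Q g (blockCoeff B) (blockCoeff B)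
    (fun c _ => blockCoeff_isClassFunction B c g) ξ]
  exact h1 ξ hξ

theorem isBrauerPair_conj {p : ℕ} {M : Ideal AlgInt}
    {Q : Subgroup G} {f : Set (IrrCharacter (Subgroup.centralizer (Q : Set G)))} (g : G)
    (h : IsBrauerPair p M Q f) : IsBrauerPair p M (conjSub Q g) (conjBlock Q g f) :=
  ⟨h.1.map _, isPBlock_conjBlock Q g h.2⟩

/-- Transport of block stabilizers. -/
theorem stabilizesBlock_conj {Q : Subgroup G}
    {f : Set (IrrCharacter (Subgroup.centralizer (Q : Set G)))} (g : G) {x : G}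
    (h : StabilizesBlock (Subgroup.centralizer (Q : Set G)) f x) :
    StabilizesBlock (Subgroup.centralizer ((conjSub Q g : Subgroup G) : Set G))
      (conjBlock Q g f) (g * x * g⁻¹) := by
  obtain ⟨hxN, hst⟩ := h
  refine ⟨?_, ?_⟩
  · rw [Subgroup.mem_normalizer_iff]
    intro y
    rw [mem_centralizer_conjSub, mem_centralizer_conjSub]
    have e1 : g⁻¹ * (g * x * g⁻¹ * y * (g * x * g⁻¹)⁻¹) * g = x * (g⁻¹ * y * g) * x⁻¹ := by
      group
    rw [e1]
    exact Subgroup.mem_normalizer_iff.mp hxN _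
  · intro χ' hχ'
    rw [conjBlock_eq_image] at hχ'
    obtain ⟨χ, hχ, rfl⟩ := hχ'
    obtain ⟨χ₂, hχ₂, hconj⟩ := hst χ hχ
    refine ⟨irrMap (centConj Q g) χ₂, irrMap_mem_conjBlock Q g hχ₂, ?_⟩
    intro k k' hk
    rw [irrMap_apply, irrMap_apply]
    apply hconj
    rw [coe_centConj, coe_centConj, hk]
    group

/-- Transport of normal inclusions. -/
theorem isNormalSubpair_conj {p : ℕ} {M : Ideal AlgInt} {P Q : Subgroup G}
    {e : Set (IrrCharacter (Subgroup.centralizer (P : Set G)))}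
    {f : Set (IrrCharacter (Subgroup.centralizer (Q : Set G)))} (g : G)
    (h : IsNormalSubpair p M Q f P e) :
    IsNormalSubpair p M (conjSub Q g) (conjBlock Q g f) (conjSub P g) (conjBlock P g e) := by
  obtain ⟨hQf, hPe, hQP, hPN, hst, h1⟩ := h
  refine ⟨isBrauerPair_conj g hQf, isBrauerPair_conj g hPe, Subgroup.map_mono hQP, ?_, ?_, ?_⟩
  · rintro _ ⟨y, hy, rfl⟩
    exact conj_mem_normalizer_conjSub g (hPN hy)
  · rintro _ ⟨y, hy, rfl⟩
    exact stabilizesBlock_conj g (hst y hy)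
  · intro ξ' hξ'
    rw [conjBlock_eq_image] at hξ'
    obtain ⟨ξ, hξ, rfl⟩ := hξ'
    rw [brauerOmega_conj P g _ (subgroupBlockCoeff (Subgroup.centralizer (Q : Set G)) f)
      (fun c _ => subgroupBlockCoeff_conjBlock Q g f c) ξ]
    exact h1 ξ hξ

/-- Conjugation of (indices of) Brauer pairs. -/
def conjIdx (g : G) (a : BrauerPairIdx G) : BrauerPairIdx G :=
  ⟨conjSub a.1 g, conjBlock a.1 g a.2⟩

theorem conjIdx_mk (g : G) (Q : Subgroup G)
    (f : Set (IrrCharacter (Subgroup.centralizer (Q : Set G)))) :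
    conjIdx g (⟨Q, f⟩ : BrauerPairIdx G) = ⟨conjSub Q g, conjBlock Q g f⟩ := rfl

theorem normalSubpairRel_conjIdx {p : ℕ} {M : Ideal AlgInt} (g : G) {a b : BrauerPairIdx G}
    (h : NormalSubpairRel p M a b) : NormalSubpairRel p M (conjIdx g a) (conjIdx g b) :=
  isNormalSubpair_conj g h

theorem reflTransGen_conjIdx {p : ℕ} {M : Ideal AlgInt} (g : G) {a b : BrauerPairIdx G}
    (h : Relation.ReflTransGen (NormalSubpairRel p M) a b) :
    Relation.ReflTransGen (NormalSubpairRel p M) (conjIdx g a) (conjIdx g b) := by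
  induction h with
  | refl => exact Relation.ReflTransGen.refl
  | tail _ hcb ih => exact Relation.ReflTransGen.tail ih (normalSubpairRel_conjIdx g hcb)

/-- Transport of inclusions. -/
theorem subpairLE_conj {p : ℕ} {M : Ideal AlgInt} {P Q : Subgroup G}
    {e : Set (IrrCharacter (Subgroup.centralizer (P : Set G)))}
    {f : Set (IrrCharacter (Subgroup.centralizer (Q : Set G)))} (g : G)
    (h : SubpairLE p M Q f P e) :
    SubpairLE p M (conjSub Q g) (conjBlock Q g f) (conjSub P g) (conjBlock P g e) :=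
  reflTransGen_conjIdx g h

/-- Equality of pairs from equality of subgroups and agreement of the blocks as sets of functions
on group elements. -/
theorem pair_ext {Q₁ Q₂ : Subgroup G}
    {S₁ : Set (IrrCharacter (Subgroup.centralizer (Q₁ : Set G)))}
    {S₂ : Set (IrrCharacter (Subgroup.centralizer (Q₂ : Set G)))} (hQ : Q₁ = Q₂)
    (h : ∀ (ξ₁ : IrrCharacter (Subgroup.centralizer (Q₁ : Set G)))
      (ξ₂ : IrrCharacter (Subgroup.centralizer (Q₂ : Set G))),
      (∀ (c₁ : Subgroup.centralizer (Q₁ : Set G)) (c₂ : Subgroup.centralizer (Q₂ : Set G)),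
        (c₁ : G) = (c₂ : G) → (ξ₁ : _ → ℂ) c₁ = (ξ₂ : _ → ℂ) c₂) → (ξ₁ ∈ S₁ ↔ ξ₂ ∈ S₂)) :
    (⟨Q₁, S₁⟩ : BrauerPairIdx G) = ⟨Q₂, S₂⟩ := by
  subst hQ
  have : S₁ = S₂ := by
    ext ξ
    exact h ξ ξ (fun c₁ c₂ hc => by rw [Subtype.ext hc])
  rw [this]

theorem conjSub_conjSub (Q : Subgroup G) (g h : G) :
    conjSub (conjSub Q g) h = conjSub Q (h * g) := by
  ext y
  rw [mem_conjSub, mem_conjSub, mem_conjSub]
  have : g⁻¹ * (h⁻¹ * y * h) * g = (h * g)⁻¹ * y * (h * g) := by group
  rw [this]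

theorem conjSub_one (Q : Subgroup G) : conjSub Q 1 = Q := by
  ext y
  rw [mem_conjSub]
  simp

/-- Conjugating twice is conjugating by the product. -/
theorem conjIdx_conjIdx (g h : G) (a : BrauerPairIdx G) :
    conjIdx h (conjIdx g a) = conjIdx (h * g) a := by
  obtain ⟨Q, f⟩ := a
  show (⟨conjSub (conjSub Q g) h, conjBlock (conjSub Q g) h (conjBlock Q g f)⟩ :
    BrauerPairIdx G) = ⟨conjSub Q (h * g), conjBlock Q (h * g) f⟩
  apply pair_ext (conjSub_conjSub Q g h)
  intro ξ₁ ξ₂ hξ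
  rw [conjBlock_eq_image, conjBlock_eq_image, conjBlock_eq_image]
  constructor
  · rintro ⟨η, ⟨ξ, hξf, rfl⟩, rfl⟩
    refine ⟨ξ, hξf, ?_⟩
    apply Subtype.ext
    funext c₂
    have hc₁ : (c₂ : G) ∈ Subgroup.centralizer
        ((conjSub (conjSub Q g) h : Subgroup G) : Set G) := by
      rw [conjSub_conjSub]
      exact c₂.2
    rw [← hξ ⟨(c₂ : G), hc₁⟩ c₂ rfl, irrMap_apply, irrMap_apply, irrMap_apply]
    refine congrArg _ ?_
    apply Subtype.ext
    rw [coe_centConj, coe_centConj, coe_centConj]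
    group
  · rintro ⟨ξ, hξf, rfl⟩
    refine ⟨irrMap (centConj Q g) ξ, ⟨ξ, hξf, rfl⟩, ?_⟩
    apply Subtype.ext
    funext c₁
    have hc₂ : (c₁ : G) ∈ Subgroup.centralizer ((conjSub Q (h * g) : Subgroup G) : Set G) := by
      rw [← conjSub_conjSub]
      exact c₁.2
    rw [hξ c₁ ⟨(c₁ : G), hc₂⟩ rfl, irrMap_apply, irrMap_apply, irrMap_apply]
    refine congrArg _ ?_
    apply Subtype.ext
    rw [coe_centConj, coe_centConj, coe_centConj]
    group

/-- Conjugating by the identity does nothing. -/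
theorem conjIdx_one (a : BrauerPairIdx G) : conjIdx 1 a = a := by
  obtain ⟨Q, f⟩ := a
  show (⟨conjSub Q 1, conjBlock Q 1 f⟩ : BrauerPairIdx G) = ⟨Q, f⟩
  apply pair_ext (conjSub_one Q)
  intro ξ₁ ξ₂ hξ
  rw [conjBlock_eq_image]
  have key : ∀ ξ : IrrCharacter (Subgroup.centralizer (Q : Set G)),
      irrMap (centConj Q 1) ξ = ξ₁ ↔ ξ = ξ₂ := by
    intro ξ
    constructor
    · intro h
      apply Subtype.ext
      funext c₂
      have hc₁ : (c₂ : G) ∈ Subgroup.centralizer ((conjSub Q 1 : Subgroup G) : Set G) := by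
        rw [conjSub_one]
        exact c₂.2
      rw [← hξ ⟨(c₂ : G), hc₁⟩ c₂ rfl, ← h, irrMap_apply]
      refine congrArg _ ?_
      apply Subtype.ext
      show (c₂ : G) = (1 : G)⁻¹ * (c₂ : G) * 1
      simp
    · intro h
      apply Subtype.ext
      funext c₁
      have hc₂ : (c₁ : G) ∈ Subgroup.centralizer (Q : Set G) := by
        have h1 := mem_centralizer_conjSub.mp c₁.2
        simpa using h1
      rw [hξ c₁ ⟨(c₁ : G), hc₂⟩ rfl, ← h, irrMap_apply]
      refine congrArg _ ?_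
      apply Subtype.ext
      show (1 : G)⁻¹ * (c₁ : G) * 1 = (c₁ : G)
      simp
  constructor
  · rintro ⟨ξ, hξf, h⟩
    rw [← (key ξ).mp h]
    exact hξf
  · intro h
    exact ⟨ξ₂, h, (key ξ₂).mpr rfl⟩

theorem conjIdx_inv_conjIdx (g : G) (a : BrauerPairIdx G) : conjIdx g⁻¹ (conjIdx g a) = a := by
  rw [conjIdx_conjIdx, inv_mul_cancel, conjIdx_one]

theorem conjIdx_conjIdx_inv (g : G) (a : BrauerPairIdx G) : conjIdx g (conjIdx g⁻¹ a) = a := by
  rw [conjIdx_conjIdx, mul_inv_cancel, conjIdx_one]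

/-- Conjugates of Brauer pairs of a block, on indices. -/
theorem isBrauerPairOf_conjIdx [Fintype G] {p : ℕ} {M : Ideal AlgInt}
    {B : Set (IrrCharacter G)} (g : G)
    {a : BrauerPairIdx G} (h : IsBrauerPairOf p M B a.1 a.2) :
    IsBrauerPairOf p M B (conjIdx g a).1 (conjIdx g a).2 :=
  isBrauerPairOf_conj g h

end Cfsg.Agent.Lib.Helper52.ConjPairs
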