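import Cfsg.Agent.Lib.Helper77.CtbJ
import Cfsg.Agent.Lib.Helper52.ConjPairs

/-!
# Contributions are invariant under conjugation of the subsection (helper52)
-/

set_option autoImplicit false

universe u

namespace Cfsg.Agent.Lib.Helper52.HtD

open Cfsg Cfsg.Agent.Lib.Helper81 Cfsg.Agent.Lib.Helper77 Cfsg.Agent.Lib.Helper77.Ctb
open Cfsg.Agent.Lib.Helper52.ConjPairs
open scoped ComplexConjugate

section transport
variable {H₁ H₂ : Type u} [Group H₁] [Group H₂] [Fintype H₁] [Fintype H₂]

theorem classInner_comp_mulEquiv (e : H₁ ≃* H₂) (f f' : H₂ → ℂ) :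
    classInner (fun x => f (e x)) (fun x => f' (e x)) = classInner f f' := by
  unfold classInner
  rw [Nat.card_congr e.toEquiv]
  congr 1
  exact Fintype.sum_equiv e.toEquiv _ _ (fun x => rfl)

omit [Fintype H₁] [Fintype H₂] in
theorem pRegularPart_comp_mulEquiv (p : ℕ) (e : H₁ ≃* H₂) (f : H₂ → ℂ) :
    pRegularPart p (fun x => f (e x)) = fun x => pRegularPart p f (e x) := by
  classical
  funext x
  rw [Cfsg.Agent.Lib.Helper77.pRegularPart_apply, Cfsg.Agent.Lib.Helper77.pRegularPart_apply,
    MulEquiv.orderOf_eq]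

/-- the bijection of irreducible characters attached to an isomorphism -/
def irrEquiv (e : H₁ ≃* H₂) : IrrCharacter H₂ ≃ IrrCharacter H₁ where
  toFun := irrMap e
  invFun := irrMap e.symm
  left_inv := irrMap_symm_irrMap e
  right_inv := irrMap_irrMap_symm e

variable [Fintype (IrrCharacter H₁)] [Fintype (IrrCharacter H₂)]

open Classical in
theorem blockPart_comp_mulEquiv (e : H₁ ≃* H₂) (b : Set (IrrCharacter H₂)) (F : H₂ → ℂ) :
    blockPart (irrMap e '' b) (fun x => F (e x)) = fun x => blockPart b F (e x) := by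
  funext y
  rw [blockPart_eq_sum, blockPart_eq_sum]
  symm
  refine Finset.sum_equiv (irrEquiv e) ?_ ?_
  · intro ξ
    simp only [Finset.mem_filter, Finset.mem_univ, true_and]
    constructor
    · intro h
      exact ⟨ξ, h, rfl⟩
    · rintro ⟨ξ', hξ', h⟩
      rw [← irrMap_injective e h]
      exact hξ'
  · intro ξ _
    show classInner F (ξ : H₂ → ℂ) * (ξ : H₂ → ℂ) (e y) =
      classInner (fun x => F (e x)) (irrMap e ξ : H₁ → ℂ) * (irrMap e ξ : H₁ → ℂ) y
    rw [irrMap_apply]
    congr 1
    exact (classInner_comp_mulEquiv e F (ξ : H₂ → ℂ)).symm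

end transport

variable {G : Type u} [Group G] [Fintype G]

open Classical in
/-- transport of a contribution along an isomorphism of the centralizers induced by conjugation -/
theorem ctb_transport (p : ℕ) (g z : G) (H₁ H₂ : Subgroup G) [Fintype H₁] [Fintype H₂]
    [Fintype (IrrCharacter H₁)] [Fintype (IrrCharacter H₂)]
    (e : H₁ ≃* H₂) (he : ∀ c : H₁, ((e c : H₂) : G) = g⁻¹ * (c : G) * g)
    (b : Set (IrrCharacter H₂)) {χ ψ : G → ℂ} (hχ : IsClassFunction G χ)
    (hψ : IsClassFunction G ψ) :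
    ctb p (g * z * g⁻¹) H₁ (irrMap e '' b) χ ψ = ctb p z H₂ b χ ψ := by
  unfold ctb secPart
  have h1 : ∀ φ : G → ℂ, IsClassFunction G φ →
      (fun c : H₁ => φ (g * z * g⁻¹ * (c : G))) = fun c : H₁ => φ (z * ((e c : H₂) : G)) := by
    intro φ hφ
    funext c
    rw [he, ← hφ (z * (g⁻¹ * (c : G) * g)) g]
    congr 1
    group
  rw [h1 χ hχ, h1 ψ hψ]
  rw [blockPart_comp_mulEquiv e b (fun c : H₂ => χ (z * (c : G))),
    blockPart_comp_mulEquiv e b (fun c : H₂ => ψ (z * (c : G))),
    pRegularPart_comp_mulEquiv p e, classInner_comp_mulEquiv e]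

open Classical in
/-- **Conjugation invariance of the contributions.** -/
theorem ctb_conjBlock (p : ℕ) (g z : G) (Q : Subgroup G)
    [Fintype (Subgroup.centralizer (Q : Set G))]
    [Fintype (Subgroup.centralizer ((conjSub Q g : Subgroup G) : Set G))]
    [Fintype (IrrCharacter (Subgroup.centralizer (Q : Set G)))]
    [Fintype (IrrCharacter (Subgroup.centralizer ((conjSub Q g : Subgroup G) : Set G)))]
    (f : Set (IrrCharacter (Subgroup.centralizer (Q : Set G)))) {χ ψ : G → ℂ}
    (hχ : IsClassFunction G χ) (hψ : IsClassFunction G ψ) :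
    ctb p (g * z * g⁻¹) (Subgroup.centralizer ((conjSub Q g : Subgroup G) : Set G))
      (conjBlock Q g f) χ ψ = ctb p z (Subgroup.centralizer (Q : Set G)) f χ ψ := by
  rw [conjBlock_eq_image]
  exact ctb_transport p g z _ _ (centConj Q g) (fun c => coe_centConj Q g c) f hχ hψ

end Cfsg.Agent.Lib.Helper52.HtD
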