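import Cfsg.Agent.Lib.Helper52.DefectPairs
import Cfsg.Agent.Lib.Helper77.BPairN
import Cfsg.Agent.Lib.Helper77.BrauerPair
import Cfsg.Agent.Lib.Helper74.FR8

/-!
# The block of the stabilizer of a Brauer pair

For a Brauer pair `(Q, f)` with stabilizer `T = N_G(Q, f)`, the idempotent of `f` is a block
idempotent of `T`; defect groups of that block and Brauer pairs above `(Q, f)`.
-/

set_option autoImplicit false

universe u

namespace Cfsg.Agent.Lib.Helper52.StabBlock

open Cfsg
open Cfsg.Agent.Lib.Helper77 Cfsg.Agent.Lib.Helper81 Cfsg.Agent.Lib.Helper80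

variable {G : Type u} [Group G]

/-- The centralizer in `T` of `Q` (viewed in `T`) is `C_G(Q)`, when `Q, C_G(Q) ≤ T`. -/
def centSubEquiv {Q T : Subgroup G} (hQT : Q ≤ T)
    (hCT : Subgroup.centralizer (Q : Set G) ≤ T) :
    Subgroup.centralizer ((Q.subgroupOf T : Subgroup T) : Set T) ≃*
      Subgroup.centralizer (Q : Set G) where
  toFun c := ⟨((c : T) : G), by
    rw [Subgroup.mem_centralizer_iff]
    intro q hq
    exact congrArg Subtype.val ((Subgroup.mem_centralizer_iff.mp c.2) ⟨q, hQT hq⟩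
      (Subgroup.mem_subgroupOf.mpr hq))⟩
  invFun c := ⟨⟨(c : G), hCT c.2⟩, by
    rw [Subgroup.mem_centralizer_iff]
    intro n hn
    apply Subtype.ext
    exact (Subgroup.mem_centralizer_iff.mp c.2) (n : G) (Subgroup.mem_subgroupOf.mp hn)⟩
  left_inv c := rfl
  right_inv c := rfl
  map_mul' a b := rfl

theorem coe_centSubEquiv {Q T : Subgroup G} (hQT : Q ≤ T)
    (hCT : Subgroup.centralizer (Q : Set G) ≤ T)
    (c : Subgroup.centralizer ((Q.subgroupOf T : Subgroup T) : Set T)) :
    ((centSubEquiv hQT hCT c : Subgroup.centralizer (Q : Set G)) : G) = ((c : T) : G) := rfl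

theorem mem_centralizer_subgroupOf_iff {Q T : Subgroup G} (hQT : Q ≤ T) (t : T) :
    t ∈ Subgroup.centralizer ((Q.subgroupOf T : Subgroup T) : Set T) ↔
      (t : G) ∈ Subgroup.centralizer (Q : Set G) := by
  constructor
  · intro ht
    rw [Subgroup.mem_centralizer_iff]
    intro q hq
    exact congrArg Subtype.val ((Subgroup.mem_centralizer_iff.mp ht) ⟨q, hQT hq⟩
      (Subgroup.mem_subgroupOf.mpr hq))
  · intro ht
    rw [Subgroup.mem_centralizer_iff]
    intro n hn
    apply Subtype.ext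
    exact (Subgroup.mem_centralizer_iff.mp ht) (n : G) (Subgroup.mem_subgroupOf.mp hn)

variable [Fintype G] {p : ℕ} [Fact p.Prime] {M : Ideal AlgInt}

/-- **The idempotent of `f` is a block idempotent of the stabilizer of `(Q, f)`.** -/
theorem exists_block_stabilizer (hpM : IsPModular p M) {Q T : Subgroup G} (hQp : IsPGroup p Q)
    {f : Set (IrrCharacter (Subgroup.centralizer (Q : Set G)))} (hf : IsPBlock M f)
    (hT : ∀ y : G, y ∈ T ↔ y ∈ Subgroup.normalizer (Q : Set G) ∧
      StabilizesBlock (Subgroup.centralizer (Q : Set G)) f y) :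
    ∃ F : Set (IrrCharacter T), IsPBlock M F ∧ ∀ t : T, blockCoeff F t =
      subgroupBlockCoeff (Subgroup.centralizer (Q : Set G)) f (t : G) := by
  classical
  have hM : M.IsPrime := isPrime_of_isPModular hpM
  have := Fintype.ofFinite (Subgroup.centralizer (Q : Set G))
  have hCT : Subgroup.centralizer (Q : Set G) ≤ T := fun c hc =>
    (hT c).mpr ⟨Subgroup.centralizer_le_normalizer _ hc, stabilizesBlock_of_mem _ f hc⟩
  have hQT : Q ≤ T := fun q hq =>
    (hT q).mpr ⟨Subgroup.le_normalizer hq, stabilizesBlock_of_mem_self Q f hq⟩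
  have hTN : T ≤ Subgroup.normalizer (Q : Set G) := fun t ht => ((hT t).mp ht).1
  have hQn : (Q.subgroupOf T).Normal := Subgroup.normal_subgroupOf_of_le_normalizer hTN
  have hQtp : IsPGroup p (Q.subgroupOf T) := hQp.comap_subtype
  have hPe : IsBrauerPair p M (Q.subgroupOf T) (irrMap (centSubEquiv hQT hCT) '' f) :=
    ⟨hQtp, isPBlock_irrMap_image _ hf⟩
  obtain ⟨B_T, hB_T, -⟩ := existsUnique_isBrauerPairOf hpM hPe
  have hTop : ∀ x : T, x ∈ (⊤ : Subgroup T) ↔
      StabilizesBlock (Subgroup.centralizer ((Q.subgroupOf T : Subgroup T) : Set T))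
        (irrMap (centSubEquiv hQT hCT) '' f) x := by
    intro x
    refine ⟨fun _ => ⟨?_, ?_⟩, fun _ => Subgroup.mem_top x⟩
    · rw [Subgroup.normalizer_eq_top]
      exact Subgroup.mem_top x
    · rintro _ ⟨θ, hθ, rfl⟩
      obtain ⟨θ', hθ', hconj⟩ := ((hT x).mp x.2).2.2 θ hθ
      refine ⟨irrMap (centSubEquiv hQT hCT) θ', ⟨θ', hθ', rfl⟩, ?_⟩
      intro k k' hk
      rw [irrMap_apply, irrMap_apply]
      exact hconj (centSubEquiv hQT hCT k) (centSubEquiv hQT hCT k')
        (congrArg Subtype.val hk)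
  obtain ⟨⟨E, hE, hEc⟩, -⟩ := Cfsg.Agent.Lib.Helper74.normal_pair_main hpM (Q.subgroupOf T) hQtp
    B_T _ hB_T ⊤ hTop
  refine ⟨irrMap (Subgroup.topEquiv (G := T)).symm '' E, isPBlock_irrMap_image _ hE, ?_⟩
  intro t
  rw [blockCoeff_irrMap_image, hEc]
  show subgroupBlockCoeff _ _ t = _
  by_cases ht : (t : G) ∈ Subgroup.centralizer (Q : Set G)
  · have ht' : t ∈ Subgroup.centralizer ((Q.subgroupOf T : Subgroup T) : Set T) :=
      (mem_centralizer_subgroupOf_iff hQT t).mpr ht
    rw [subgroupBlockCoeff_of_mem _ ht', subgroupBlockCoeff_of_mem _ ht,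
      blockCoeff_irrMap_image]
    rfl
  · have ht' : t ∉ Subgroup.centralizer ((Q.subgroupOf T : Subgroup T) : Set T) :=
      fun h => ht ((mem_centralizer_subgroupOf_iff hQT t).mp h)
    rw [subgroupBlockCoeff_of_not_mem _ ht', subgroupBlockCoeff_of_not_mem _ ht]

/-- Converse of helper77's `claimX_b`: a pair normally above `(P, e)` inside `L` is a Brauer pair
of the block of `L` whose idempotent is that of `e`. -/
theorem isBrauerPairOf_sub_of_isNormalSubpair {P L : Subgroup G}
    {e : Set (IrrCharacter (Subgroup.centralizer (P : Set G)))}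
    {B₁ : Set (IrrCharacter L)} (hB₁ : IsPBlock M B₁)
    (hBc : ∀ l : L, blockCoeff B₁ l =
      subgroupBlockCoeff (Subgroup.centralizer (P : Set G)) e (l : G))
    {D' : Subgroup L}
    (hDC : Subgroup.centralizer ((D'.map L.subtype : Subgroup G) : Set G) ≤ L)
    {g : Set (IrrCharacter (Subgroup.centralizer ((D'.map L.subtype : Subgroup G) : Set G)))}
    (hN : IsNormalSubpair p M P e (D'.map L.subtype) g) :
    IsBrauerPairOf p M B₁ D' (irrMap (centEquiv D' hDC).symm '' g) := by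
  classical
  obtain ⟨-, ⟨hDp, hgb⟩, -, -, -, h1⟩ := hN
  have hD'p : IsPGroup p D' := by
    have h2 := hDp.comap_of_injective L.subtype L.subtype_injective
    rwa [Subgroup.comap_map_eq_self_of_injective L.subtype_injective] at h2
  refine ⟨⟨hD'p, isPBlock_irrMap_image _ hgb⟩, hB₁, ?_⟩
  rintro _ ⟨ξ, hξ, rfl⟩
  have h2 := h1 ξ hξ
  have e1 : brauerOmega D' (blockCoeff B₁)
      (irrMap (centEquiv D' hDC).symm ξ : Subgroup.centralizer (D' : Set L) → ℂ) =
      brauerOmega (D'.map L.subtype)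
        (subgroupBlockCoeff (Subgroup.centralizer (P : Set G)) e)
        (ξ : Subgroup.centralizer ((D'.map L.subtype : Subgroup G) : Set G) → ℂ) := by
    unfold brauerOmega
    refine finsum_eq_of_bijective (centEquiv D' hDC).symm (centEquiv D' hDC).symm.bijective
      fun x => ?_
    rw [irrMap_apply, irrMap_apply, map_one, hBc]
    rfl
  rw [e1]
  exact h2

/-- **Containment.** If `(Q, f) ≤ (P, e)`, `T` is the stabilizer of `(Q, f)` and `F` is the block
of `T` with the idempotent of `f`, then `N_P(Q)` lies in a defect group of `F`. -/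
theorem exists_isDefectGroup_ge_inf_normalizer (hpM : IsPModular p M) {P Q T : Subgroup G}
    {e : Set (IrrCharacter (Subgroup.centralizer (P : Set G)))}
    {f : Set (IrrCharacter (Subgroup.centralizer (Q : Set G)))}
    (hPe : IsBrauerPair p M P e) (hQP : Q ≤ P) (hle : SubpairLE p M Q f P e)
    (hT : ∀ y : G, y ∈ T ↔ y ∈ Subgroup.normalizer (Q : Set G) ∧
      StabilizesBlock (Subgroup.centralizer (Q : Set G)) f y)
    {F : Set (IrrCharacter T)} (hF : IsPBlock M F)
    (hFc : ∀ t : T, blockCoeff F t =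
      subgroupBlockCoeff (Subgroup.centralizer (Q : Set G)) f (t : G)) :
    ∃ D : Subgroup T, IsDefectGroup p M F D ∧
      (P ⊓ Subgroup.normalizer (Q : Set G)).subgroupOf T ≤ D := by
  classical
  have hM : M.IsPrime := isPrime_of_isPModular hpM
  have := Fintype.ofFinite (Subgroup.centralizer (Q : Set G))
  have hCT : Subgroup.centralizer (Q : Set G) ≤ T := fun c hc =>
    (hT c).mpr ⟨Subgroup.centralizer_le_normalizer _ hc, stabilizesBlock_of_mem _ f hc⟩
  have hQT : Q ≤ T := fun q hq =>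
    (hT q).mpr ⟨Subgroup.le_normalizer hq, stabilizesBlock_of_mem_self Q f hq⟩
  -- `P₂ = N_P(Q) ∩ T`, which in fact is `N_P(Q)`
  have hP₂P : ((P ⊓ Subgroup.normalizer (Q : Set G)).subgroupOf T).map T.subtype ≤ P := by
    rintro _ ⟨t, ht, rfl⟩
    exact (Subgroup.mem_subgroupOf.mp ht).1
  have hP₂N : ((P ⊓ Subgroup.normalizer (Q : Set G)).subgroupOf T).map T.subtype ≤
      Subgroup.normalizer (Q : Set G) := by
    rintro _ ⟨t, ht, rfl⟩
    exact (Subgroup.mem_subgroupOf.mp ht).2
  have hQP₂ : Q ≤ ((P ⊓ Subgroup.normalizer (Q : Set G)).subgroupOf T).map T.subtype := by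
    intro q hq
    exact ⟨⟨q, hQT hq⟩, Subgroup.mem_subgroupOf.mpr ⟨hQP hq, Subgroup.le_normalizer hq⟩, rfl⟩
  obtain ⟨g₂, hg₂b, hg₂⟩ := Cfsg.Agent.Lib.Helper52.Subpairs.exists_subpairLE hpM _ P
    (((P ⊓ Subgroup.normalizer (Q : Set G)).subgroupOf T).map T.subtype) e rfl hPe hP₂P
  have hP₂g : IsBrauerPair p M
      (((P ⊓ Subgroup.normalizer (Q : Set G)).subgroupOf T).map T.subtype) g₂ :=
    ⟨hPe.1.to_le hP₂P, hg₂b⟩
  obtain ⟨f', hf', -⟩ := Cfsg.Agent.Lib.Helper52.PStable.existsUnique_isNormalSubpair hpM _ Q g₂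
    hP₂g hQP₂ hP₂N
  have hstep : NormalSubpairRel p M ⟨Q, f'⟩
      ⟨((P ⊓ Subgroup.normalizer (Q : Set G)).subgroupOf T).map T.subtype, g₂⟩ := hf'
  have hle' : SubpairLE p M Q f' P e := Relation.ReflTransGen.head hstep hg₂
  have hff' : f = f' :=
    Cfsg.Agent.Lib.Helper52.Subpairs.subpairLE_unique hpM _ P Q e f f' rfl hPe hle hle'
  subst hff'
  have hDC : Subgroup.centralizer
      ((((P ⊓ Subgroup.normalizer (Q : Set G)).subgroupOf T).map T.subtype : Subgroup G) : Set G)
      ≤ T := (Subgroup.centralizer_le hQP₂).trans hCT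
  have hpair := isBrauerPairOf_sub_of_isNormalSubpair hF hFc hDC hf'
  have := Fintype.ofFinite T
  obtain ⟨R, r, hmax, hle2⟩ := exists_isMaximalBrauerPair_ge (p := p) (M := M) (B := F) _
    ((P ⊓ Subgroup.normalizer (Q : Set G)).subgroupOf T) _ rfl hpair
  exact ⟨R, isDefectGroup_of_isMaximalBrauerPair hpM hmax,
    Cfsg.Agent.Lib.Helper52.Subpairs.le_of_reflTransGen hle2⟩

/-- **A pair above `(Q, f)` at a defect group of the block of the stabilizer.** -/
theorem exists_isDefectGroup_isNormalSubpair (hpM : IsPModular p M) {Q T : Subgroup G}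
    (hQp : IsPGroup p Q)
    {f : Set (IrrCharacter (Subgroup.centralizer (Q : Set G)))} (hf : IsPBlock M f)
    (hT : ∀ y : G, y ∈ T ↔ y ∈ Subgroup.normalizer (Q : Set G) ∧
      StabilizesBlock (Subgroup.centralizer (Q : Set G)) f y)
    {F : Set (IrrCharacter T)} (hF : IsPBlock M F)
    (hFc : ∀ t : T, blockCoeff F t =
      subgroupBlockCoeff (Subgroup.centralizer (Q : Set G)) f (t : G)) :
    ∃ (D' : Subgroup T)
      (g : Set (IrrCharacter (Subgroup.centralizer ((D'.map T.subtype : Subgroup G) : Set G)))),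
      IsDefectGroup p M F D' ∧ IsNormalSubpair p M Q f (D'.map T.subtype) g := by
  classical
  have hM : M.IsPrime := isPrime_of_isPModular hpM
  have := Fintype.ofFinite (Subgroup.centralizer (Q : Set G))
  have := Fintype.ofFinite T
  have hCT : Subgroup.centralizer (Q : Set G) ≤ T := fun c hc =>
    (hT c).mpr ⟨Subgroup.centralizer_le_normalizer _ hc, stabilizesBlock_of_mem _ f hc⟩
  have hQT : Q ≤ T := fun q hq =>
    (hT q).mpr ⟨Subgroup.le_normalizer hq, stabilizesBlock_of_mem_self Q f hq⟩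
  have hTN : T ≤ Subgroup.normalizer (Q : Set G) := fun t ht => ((hT t).mp ht).1
  have hTe : ∀ x ∈ T, StabilizesBlock (Subgroup.centralizer (Q : Set G)) f x :=
    fun t ht => ((hT t).mp ht).2
  obtain ⟨χ₁, hχ₁⟩ := hF
  obtain ⟨D', hD'⟩ := exists_isDefectGroup hpM χ₁
  rw [← hχ₁] at hD'
  have hPnorm : (Q.subgroupOf T).Normal := Subgroup.normal_subgroupOf_of_le_normalizer hTN
  have hPD' : Q.subgroupOf T ≤ D' :=
    (Cfsg.Agent.Lib.Helper84.le_pCore hPnorm hQp.comap_subtype).trans
      (Cfsg.Agent.S0912.result p M hpM F ⟨χ₁, hχ₁⟩ D' hD')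
  obtain ⟨g₁, hg₁⟩ := exists_isBrauerPairOf_of_isDefectGroup hpM ⟨χ₁, hχ₁⟩ hD'
  obtain ⟨g, hg⟩ := claimX_b hQp hQT hCT hTN hf hTe hFc hPD' hg₁
  exact ⟨D', g, hD', hg⟩

end Cfsg.Agent.Lib.Helper52.StabBlock
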