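import Cfsg.Agent.Lib.Helper77.Cover
import Cfsg.Agent.Lib.Helper77.StableBlock
import Cfsg.Agent.Lib.Helper77.Transitive
import Cfsg.Agent.Lib.Helper77.BPairD
import Cfsg.Agent.Lib.Helper77.BPairK
import Cfsg.Agent.Lib.Helper52.HtD
import Cfsg.Agent.Lib.Helper52.StabBlock
import Cfsg.Agent.Lib.Helper16.OrbitBlock
import Cfsg.Agent.S0966
import Cfsg.Agent.S4691

/-!
# Blocks of `D C_G(D)` and blocks of `C_G(D)` (helper52)

A block `b` of `H = D C_G(D)` (`D` a `p`-subgroup) covers a block `c₀` of `C_G(D)`, is the only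
block of `H` covering it and is induced from it; an element of `N_G(D)` stabilizing `c₀`
therefore stabilizes `b`.
-/

set_option autoImplicit false

universe u

namespace Cfsg.Agent.Lib.Helper52.HtF

open Cfsg Cfsg.Agent.Lib.Helper81 Cfsg.Agent.Lib.Helper77 Cfsg.Agent.Lib.Helper80

section generic
variable {K : Type u} [Group K] [Fintype K] {p : ℕ} [Fact p.Prime] {M : Ideal AlgInt}

/-- The only block covering a stable block of a normal subgroup of `p`-power index is stable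
under every automorphism stabilizing the block of the normal subgroup. -/
theorem irrMap_mem_of_cover (hpM : IsPModular p M) (N : Subgroup K) [N.Normal] [Fintype N]
    (hidx : ∃ k : ℕ, N.index = p ^ k) {c : Set (IrrCharacter N)} (hc : IsPBlock M c)
    (hst : ∀ g : K, ∀ θ ∈ c, conjIrr N g θ ∈ c) {b : Set (IrrCharacter K)} (hb : IsPBlock M b)
    (hcov : ∃ χ ∈ b, ∃ θ ∈ c, classInner (fun n : N => (χ : K → ℂ) n) (θ : N → ℂ) ≠ 0)
    (α : K ≃* K) (αN : N ≃* N) (hα : ∀ n : N, ((αN n : N) : K) = α (n : K))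
    (hαc : ∀ η ∈ c, irrMap αN η ∈ c) {θ : IrrCharacter K} (hθ : θ ∈ b) : irrMap α θ ∈ b := by
  classical
  have hM := isPrime_of_isPModular hpM
  obtain ⟨η, hη⟩ := Cfsg.Agent.Lib.Helper16.exists_constituent N θ
  have hηc : η ∈ c := mem_of_constituent_of_cover hpM N hc hst hb hcov hθ hη
  have h1 : classInner (fun n : N => (irrMap α θ : K → ℂ) n) (irrMap αN η : N → ℂ) =
      classInner (fun n : N => (θ : K → ℂ) n) (η : N → ℂ) := by
    rw [← Cfsg.Agent.Lib.Helper52.HtD.classInner_comp_mulEquiv αN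
      (fun n : N => (θ : K → ℂ) n) (η : N → ℂ)]
    congr 1
    funext n
    rw [irrMap_apply, hα]
  obtain ⟨B', -, huniq⟩ := Cfsg.Agent.S0966.result p M hpM N hidx c hc
  have e1 : b = B' := huniq b ⟨hb, hcov⟩
  have e2 : blockOf M (irrMap α θ : K → ℂ) = B' :=
    huniq _ ⟨⟨_, rfl⟩, irrMap α θ, sameBlock_refl hM _, irrMap αN η, hαc η hηc, by
      rw [h1]
      exact hη⟩
  rw [e1, ← e2]
  exact sameBlock_refl hM _

end generic

variable {G : Type u} [Group G]

/-- the elements acting on `C` as inner automorphisms of `C` -/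
def innerOn (C : Subgroup G) : Subgroup G where
  carrier := {g | ∃ c ∈ C, ∀ x ∈ C, g * x * g⁻¹ = c * x * c⁻¹}
  one_mem' := ⟨1, C.one_mem, fun x _ => by simp⟩
  mul_mem' := by
    rintro g₁ g₂ ⟨c₁, hc₁, h₁⟩ ⟨c₂, hc₂, h₂⟩
    refine ⟨c₁ * c₂, C.mul_mem hc₁ hc₂, fun x hx => ?_⟩
    have hx' : c₂ * x * c₂⁻¹ ∈ C := C.mul_mem (C.mul_mem hc₂ hx) (C.inv_mem hc₂)
    calc g₁ * g₂ * x * (g₁ * g₂)⁻¹ = g₁ * (g₂ * x * g₂⁻¹) * g₁⁻¹ := by group
      _ = g₁ * (c₂ * x * c₂⁻¹) * g₁⁻¹ := by rw [h₂ x hx]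
      _ = c₁ * (c₂ * x * c₂⁻¹) * c₁⁻¹ := h₁ _ hx'
      _ = c₁ * c₂ * x * (c₁ * c₂)⁻¹ := by group
  inv_mem' := by
    rintro g ⟨c, hc, h⟩
    refine ⟨c⁻¹, C.inv_mem hc, fun x hx => ?_⟩
    have hx' : c⁻¹ * x * c ∈ C := C.mul_mem (C.mul_mem (C.inv_mem hc) hx) hc
    have h1 := h _ hx'
    have h2 : c * (c⁻¹ * x * c) * c⁻¹ = x := by group
    rw [h2] at h1
    rw [inv_inv, inv_inv]
    calc g⁻¹ * x * g = g⁻¹ * (g * (c⁻¹ * x * c) * g⁻¹) * g := by rw [h1]
      _ = c⁻¹ * x * c := by group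

theorem sup_centralizer_le_innerOn (D : Subgroup G) :
    D ⊔ Subgroup.centralizer (D : Set G) ≤ innerOn (Subgroup.centralizer (D : Set G)) := by
  refine sup_le ?_ ?_
  · intro d hd
    refine ⟨1, Subgroup.one_mem _, fun x hx => ?_⟩
    have := Subgroup.mem_centralizer_iff.mp hx d hd
    rw [one_mul, inv_one, mul_one, this, mul_inv_cancel_right]
  · intro c hc
    exact ⟨c, hc, fun x _ => rfl⟩

variable [Fintype G] {p : ℕ} [Fact p.Prime] {M : Ideal AlgInt}

/-- **The block of `C_G(D)` below a block of `D C_G(D)`.** -/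
theorem exists_centralizer_block (hpM : IsPModular p M) {B : Set (IrrCharacter G)}
    {D : Subgroup G} (hDp : IsPGroup p D)
    {b : Set (IrrCharacter ↥(D ⊔ Subgroup.centralizer (D : Set G)))}
    (hind : IsInducedBlock M (D ⊔ Subgroup.centralizer (D : Set G)) b B) :
    ∃ c₀ : Set (IrrCharacter (Subgroup.centralizer (D : Set G))),
      IsInducedBlock M (Subgroup.centralizer (D : Set G)) c₀ B ∧
      ∀ (t : G) (ht : t ∈ Subgroup.normalizer
          ((D ⊔ Subgroup.centralizer (D : Set G) : Subgroup G) : Set G)),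
        StabilizesBlock (Subgroup.centralizer (D : Set G)) c₀ t →
        ∀ θ ∈ b, cjIrr (D ⊔ Subgroup.centralizer (D : Set G)) t ht θ ∈ b := by
  classical
  have hp : p.Prime := Fact.out
  have hM := isPrime_of_isPModular hpM
  have hDH : D ≤ D ⊔ Subgroup.centralizer (D : Set G) := le_sup_left
  have hCH : Subgroup.centralizer (D : Set G) ≤ D ⊔ Subgroup.centralizer (D : Set G) :=
    le_sup_right
  have hDN : D ≤ Subgroup.normalizer (D : Set G) := Subgroup.le_normalizer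
  have hCN : Subgroup.centralizer (D : Set G) ≤ Subgroup.normalizer (D : Set G) :=
    Subgroup.centralizer_le_normalizer _
  have hHN : D ⊔ Subgroup.centralizer (D : Set G) ≤ Subgroup.normalizer (D : Set G) :=
    sup_le hDN hCN
  have : Fintype ↥(D ⊔ Subgroup.centralizer (D : Set G)) := Fintype.ofFinite _
  -- subgroups of `H`
  set N : Subgroup ↥(D ⊔ Subgroup.centralizer (D : Set G)) :=
    (Subgroup.centralizer (D : Set G)).subgroupOf (D ⊔ Subgroup.centralizer (D : Set G)) with hN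
  set Q : Subgroup ↥(D ⊔ Subgroup.centralizer (D : Set G)) :=
    D.subgroupOf (D ⊔ Subgroup.centralizer (D : Set G)) with hQ
  have hNn : N.Normal := by
    refine ⟨fun n hn l => ?_⟩
    show ((l * n * l⁻¹ : ↥(D ⊔ Subgroup.centralizer (D : Set G))) : G) ∈
      Subgroup.centralizer (D : Set G)
    push_cast
    exact (conj_mem_centralizer_iff (hHN l.2)).mpr hn
  have hQn : Q.Normal := by
    refine ⟨fun n hn l => ?_⟩
    show ((l * n * l⁻¹ : ↥(D ⊔ Subgroup.centralizer (D : Set G))) : G) ∈ D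
    push_cast
    exact (Subgroup.mem_normalizer_iff.mp (hHN l.2) _).mp hn
  have : Fintype N := Fintype.ofFinite _
  have hQp : IsPGroup p Q := hDp.comap_subtype
  have hCQ : Subgroup.centralizer (Q : Set ↥(D ⊔ Subgroup.centralizer (D : Set G))) ≤ N := by
    intro x hx
    exact (Cfsg.Agent.Lib.Helper52.StabBlock.mem_centralizer_subgroupOf_iff hDH x).mp hx
  have hidx : ∃ k : ℕ, N.index = p ^ k := by
    have h1 : N.index = (Subgroup.centralizer (D : Set G)).relIndex
      (D ⊔ Subgroup.centralizer (D : Set G)) := rfl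
    have h2 := relIndex_centralizer_sup_eq (P := D) (X := D) hDN
    have h3 : (Subgroup.centralizer (D : Set G)).relIndex D ∣ Nat.card D :=
      Subgroup.index_dvd_card _
    obtain ⟨d, hd⟩ := IsPGroup.iff_card.mp hDp
    rw [hd] at h3
    obtain ⟨k, -, hk⟩ := (Nat.dvd_prime_pow hp).mp h3
    exact ⟨k, by rw [h1, h2, hk]⟩
  -- characters
  obtain ⟨θ₀, hθ₀⟩ := hind.1
  have hθ₀b : θ₀ ∈ b := by
    rw [hθ₀]
    exact sameBlock_refl hM _
  obtain ⟨ψ₀, hψ₀⟩ := Cfsg.Agent.Lib.Helper16.exists_constituent N θ₀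
  set e := Subgroup.subgroupOfEquivOfLe hCH with he
  set c₀ := blockOf M (irrMap e.symm ψ₀ : Subgroup.centralizer (D : Set G) → ℂ) with hc₀
  have himg : irrMap e '' c₀ = blockOf M (ψ₀ : N → ℂ) := by
    rw [hc₀, irrMap_image_blockOf, irrMap_irrMap_symm]
  refine ⟨c₀, ?_, ?_⟩
  · have h1 : IsInducedBlock M N (blockOf M (ψ₀ : N → ℂ))
        (blockOf M (θ₀ : ↥(D ⊔ Subgroup.centralizer (D : Set G)) → ℂ)) :=
      isInducedBlock_of_cover hpM Q hQp N hCQ ψ₀ θ₀ (sameBlock_refl hM _) (sameBlock_refl hM _) hψ₀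
    rw [← himg, ← hθ₀] at h1
    exact isInducedBlock_trans hM hCH ⟨_, rfl⟩ h1 hind
  · intro t ht hst θ hθ
    have hstN : ∀ g : ↥(D ⊔ Subgroup.centralizer (D : Set G)), ∀ η ∈ blockOf M (ψ₀ : N → ℂ),
        conjIrr N g η ∈ blockOf M (ψ₀ : N → ℂ) := by
      intro g η hη
      have hfix : conjIrr N g η = η := by
        apply Subtype.ext
        funext x
        rw [conjIrr_apply]
        obtain ⟨c, hc, hcx⟩ := sup_centralizer_le_innerOn D g.2
        have hxC : ((x : ↥(D ⊔ Subgroup.centralizer (D : Set G))) : G) ∈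
          Subgroup.centralizer (D : Set G) := x.2
        have h1 := hcx _ hxC
        have h2 : (⟨g * (x : ↥(D ⊔ Subgroup.centralizer (D : Set G))) * g⁻¹,
            hNn.conj_mem x x.2 g⟩ : N) =
            (⟨⟨c, hCH hc⟩, hc⟩ : N) * x * (⟨⟨c, hCH hc⟩, hc⟩ : N)⁻¹ := by
          apply Subtype.ext
          apply Subtype.ext
          push_cast
          exact h1
        rw [h2, irr_class η]
      rw [hfix]
      exact hη
    have hcov : ∃ χ ∈ b, ∃ η ∈ blockOf M (ψ₀ : N → ℂ),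
        classInner (fun n : N => (χ : ↥(D ⊔ Subgroup.centralizer (D : Set G)) → ℂ) n)
          (η : N → ℂ) ≠ 0 := ⟨θ₀, hθ₀b, ψ₀, sameBlock_refl hM _, hψ₀⟩
    set α := Cfsg.Agent.S4691.conjAut (D ⊔ Subgroup.centralizer (D : Set G)) t ht with hα
    let αN : N ≃* N :=
      { toFun := fun n => ⟨α (n : ↥(D ⊔ Subgroup.centralizer (D : Set G))),
          (Subgroup.mem_normalizer_iff''.mp hst.1 _).mp n.2⟩
        invFun := fun n => ⟨α.symm (n : ↥(D ⊔ Subgroup.centralizer (D : Set G))),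
          (Subgroup.mem_normalizer_iff.mp hst.1 _).mp n.2⟩
        left_inv := fun n => Subtype.ext (α.symm_apply_apply _)
        right_inv := fun n => Subtype.ext (α.apply_symm_apply _)
        map_mul' := fun a b => Subtype.ext (map_mul α _ _) }
    have hαN : ∀ n : N, ((αN n : N) : ↥(D ⊔ Subgroup.centralizer (D : Set G))) =
        α (n : ↥(D ⊔ Subgroup.centralizer (D : Set G))) := fun n => rfl
    have hαc : ∀ η ∈ blockOf M (ψ₀ : N → ℂ), irrMap αN η ∈ blockOf M (ψ₀ : N → ℂ) := by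
      intro η hη
      rw [← himg] at hη ⊢
      obtain ⟨χ, hχ, rfl⟩ := hη
      obtain ⟨χ', hχ', hconj⟩ := hst.2 χ hχ
      refine ⟨χ', hχ', ?_⟩
      apply Subtype.ext
      funext n
      rw [irrMap_apply, irrMap_apply, irrMap_apply]
      refine hconj (e (αN n)) (e n) ?_
      show ((n : ↥(D ⊔ Subgroup.centralizer (D : Set G))) : G) =
        t * (t⁻¹ * ((n : ↥(D ⊔ Subgroup.centralizer (D : Set G))) : G) * t) * t⁻¹
      group
    exact irrMap_mem_of_cover hpM N hidx ⟨ψ₀, rfl⟩ hstN hind.1 hcov α αN hαN hαc hθ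

end Cfsg.Agent.Lib.Helper52.HtF
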