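import Cfsg.Agent.Lib.Helper77.CtbJ

/-!
# An arithmetic–geometric mean inequality for Galois-stable families divisible by `p ^ h`
(helper52)
-/

set_option autoImplicit false

universe u

namespace Cfsg.Agent.Lib.Helper52.HtB

open Cfsg Cfsg.Agent.Lib.Helper81

variable {p : ℕ} {M : Ideal AlgInt}

/-- a rational integer which is divisible by `p ^ k` in the local ring is divisible by `p ^ k` -/
theorem pow_dvd_of_memLocalRing (hM : IsPModular p M) (n : ℤ) :
    ∀ k : ℕ, MemLocalRing M ((n : ℂ) / ((p ^ k : ℕ) : ℂ)) → ((p : ℤ) ^ k ∣ n) := by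
  have hMp : M.IsPrime := isPrime_of_isPModular hM
  have hp : p.Prime := hM.1
  have hp0 : (p : ℂ) ≠ 0 := by exact_mod_cast hp.ne_zero
  intro k
  induction k generalizing n with
  | zero =>
    intro _
    simp
  | succ k ih =>
    intro h
    have h1 : MemLocalRing M ((n : ℂ) / ((p ^ k : ℕ) : ℂ)) := by
      have e : (n : ℂ) / ((p ^ k : ℕ) : ℂ) = (p : ℂ) * ((n : ℂ) / ((p ^ (k + 1) : ℕ) : ℂ)) := by
        push_cast
        rw [pow_succ]
        have : (p : ℂ) ^ k ≠ 0 := pow_ne_zero _ hp0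
        field_simp
      rw [e]
      exact memLocalRing_mul hMp (memLocalRing_natCast hMp p) h
    obtain ⟨m, rfl⟩ := ih n h1
    have h2 : MemLocalIdeal M ((m : ℤ) : ℂ) := by
      have e : ((m : ℤ) : ℂ) = (p : ℂ) * ((((p : ℤ) ^ k * m : ℤ) : ℂ) / ((p ^ (k + 1) : ℕ) : ℂ)) := by
        push_cast
        rw [pow_succ]
        have : (p : ℂ) ^ k ≠ 0 := pow_ne_zero _ hp0
        field_simp
      rw [e]
      refine memLocalIdeal_mul_right hMp ?_ h
      exact (memLocalIdeal_natCast_iff hM p).mpr dvd_rfl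
    obtain ⟨m', rfl⟩ := (memLocalIdeal_intCast_iff hM m).mp h2
    exact ⟨m', by ring⟩

/-- **AM–GM for a Galois-stable family.**  A finite family of non-zero algebraic integers,
permuted by every field automorphism of `ℂ`, each divisible by `p ^ h` in the local ring, has
sum of absolute values at least `|ι| p ^ h`. -/
theorem card_mul_pow_le_sum_norm (hM : IsPModular p M) {ι : Type*} [Fintype ι] (x : ι → ℂ)
    (hint : ∀ i, IsIntegral ℤ (x i))
    (hperm : ∀ τ : ℂ ≃+* ℂ, ∃ σ : ι ≃ ι, ∀ i, τ (x i) = x (σ i))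
    (hne : ∀ i, x i ≠ 0) (h : ℕ)
    (hloc : ∀ i, MemLocalRing M (x i / ((p ^ h : ℕ) : ℂ))) :
    (Fintype.card ι : ℝ) * (p : ℝ) ^ h ≤ ∑ i, ‖x i‖ := by
  classical
  have hMp : M.IsPrime := isPrime_of_isPModular hM
  have hp : p.Prime := hM.1
  have hp0 : (p : ℂ) ≠ 0 := by exact_mod_cast hp.ne_zero
  have hpR : (0 : ℝ) < (p : ℝ) ^ h := by
    have : (0 : ℝ) < (p : ℝ) := by exact_mod_cast hp.pos
    positivity
  set Q : ℂ := ∏ i, x i with hQ
  have hQint : IsIntegral ℤ Q := IsIntegral.prod _ (fun i _ => hint i)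
  have hQfix : ∀ τ : ℂ ≃+* ℂ, τ Q = Q := by
    intro τ
    obtain ⟨σ, hσ⟩ := hperm τ
    rw [hQ, map_prod, Finset.prod_congr rfl (fun i _ => hσ i)]
    exact Fintype.prod_equiv σ _ _ (fun i => rfl)
  obtain ⟨n, hn⟩ := Cfsg.Agent.Lib.Helper75.exists_int_eq_of_forall_ringEquiv_eq Q hQint hQfix
  have hQne : Q ≠ 0 := Finset.prod_ne_zero_iff.mpr (fun i _ => hne i)
  have hn0 : n ≠ 0 := by
    rintro rfl
    apply hQne
    rw [← hn]
    simp
  -- divisibility
  have hdiv : MemLocalRing M ((n : ℂ) / ((p ^ (h * Fintype.card ι) : ℕ) : ℂ)) := by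
    have e : (n : ℂ) / ((p ^ (h * Fintype.card ι) : ℕ) : ℂ) =
        ∏ i, (x i / ((p ^ h : ℕ) : ℂ)) := by
      rw [Finset.prod_div_distrib, Finset.prod_const, Finset.card_univ, hn, hQ]
      push_cast
      rw [← pow_mul]
    rw [e]
    exact memLocalRing_prod hMp _ _ (fun i _ => hloc i)
  have hdvd := pow_dvd_of_memLocalRing hM n _ hdiv
  have habs : ((p : ℤ) ^ (h * Fintype.card ι)) ≤ |n| := by
    have h1 : ((p : ℤ) ^ (h * Fintype.card ι)) ∣ |n| := (dvd_abs _ _).mpr hdvd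
    exact Int.le_of_dvd (abs_pos.mpr hn0) h1
  have hnorm : ((p : ℝ) ^ h) ^ Fintype.card ι ≤ ‖Q‖ := by
    rw [← hn, Complex.norm_intCast, ← pow_mul]
    have : (((p : ℤ) ^ (h * Fintype.card ι) : ℤ) : ℝ) ≤ ((|n| : ℤ) : ℝ) := by exact_mod_cast habs
    push_cast at this
    exact this
  have hprod : (1 : ℝ) ≤ ∏ i, (‖x i‖ / (p : ℝ) ^ h) := by
    rw [Finset.prod_div_distrib, Finset.prod_const, Finset.card_univ, ← norm_prod, ← hQ]
    rw [le_div_iff₀ (by positivity)]
    simpa using hnorm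
  have key := Cfsg.Agent.Lib.Helper75.card_le_sum_of_one_le_prod (Finset.univ : Finset ι)
    (fun i => ‖x i‖ / (p : ℝ) ^ h) (fun i _ => by positivity) hprod
  rw [Finset.card_univ, ← Finset.sum_div, le_div_iff₀ hpR] at key
  exact key

end Cfsg.Agent.Lib.Helper52.HtB
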