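import Cfsg.Agent.Lib.Helper52.StabBlock
import Cfsg.Agent.Lib.Helper77.TransportDefect

/-!
# Conjugating the stabilizer of a Brauer pair
-/

set_option autoImplicit false

universe u

namespace Cfsg.Agent.Lib.Helper52.StabConj

open Cfsg
open Cfsg.Agent.Lib.Helper77 Cfsg.Agent.Lib.Helper81 Cfsg.Agent.Lib.Helper80
open Cfsg.Agent.Lib.Helper52.ConjPairs

variable {G : Type u} [Group G]

/-- `y` normalizes the subgroup of the pair and stabilizes its block. -/
def StabPair (a : BrauerPairIdx G) (y : G) : Prop :=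
  y ∈ Subgroup.normalizer (a.1 : Set G) ∧
    StabilizesBlock (Subgroup.centralizer (a.1 : Set G)) a.2 y

theorem stabPair_conjIdx (x : G) {a : BrauerPairIdx G} {y : G} (h : StabPair a y) :
    StabPair (conjIdx x a) (x * y * x⁻¹) :=
  ⟨conj_mem_normalizer_conjSub x h.1, stabilizesBlock_conj x h.2⟩

theorem stabPair_conjIdx_iff (x : G) (a : BrauerPairIdx G) (y : G) :
    StabPair (conjIdx x a) y ↔ StabPair a (x⁻¹ * y * x) := by
  constructor
  · intro h
    have h2 := stabPair_conjIdx x⁻¹ h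
    rw [conjIdx_inv_conjIdx, inv_inv] at h2
    exact h2
  · intro h
    have h2 := stabPair_conjIdx x h
    have e1 : x * (x⁻¹ * y * x) * x⁻¹ = y := by group
    rwa [e1] at h2

/-- Conjugation by `x⁻¹`, between a subgroup `T'` and the subgroup `T` of its `x⁻¹`-conjugates. -/
def stabConj {T T' : Subgroup G} (x : G) (h : ∀ y : G, y ∈ T' ↔ x⁻¹ * y * x ∈ T) : T' ≃* T where
  toFun t := ⟨x⁻¹ * (t : G) * x, (h t).mp t.2⟩
  invFun t := ⟨x * (t : G) * x⁻¹, (h _).mpr (by
    have e1 : x⁻¹ * (x * (t : G) * x⁻¹) * x = t := by group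
    rw [e1]
    exact t.2)⟩
  left_inv t := Subtype.ext (by simp [mul_assoc])
  right_inv t := Subtype.ext (by simp [mul_assoc])
  map_mul' a b := Subtype.ext (by simp [mul_assoc])

theorem coe_stabConj {T T' : Subgroup G} (x : G) (h : ∀ y : G, y ∈ T' ↔ x⁻¹ * y * x ∈ T)
    (t : T') : ((stabConj x h t : T) : G) = x⁻¹ * (t : G) * x := rfl

/-- The stabilizer of the conjugate pair is the conjugate of the stabilizer. -/
theorem mem_stab_conj_iff {Q T T' : Subgroup G}
    {f : Set (IrrCharacter (Subgroup.centralizer (Q : Set G)))} (x : G)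
    (hT : ∀ y : G, y ∈ T ↔ y ∈ Subgroup.normalizer (Q : Set G) ∧
      StabilizesBlock (Subgroup.centralizer (Q : Set G)) f y)
    (hT' : ∀ y : G, y ∈ T' ↔ y ∈ Subgroup.normalizer ((conjSub Q x : Subgroup G) : Set G) ∧
      StabilizesBlock (Subgroup.centralizer ((conjSub Q x : Subgroup G) : Set G))
        (conjBlock Q x f) y) (y : G) :
    y ∈ T' ↔ x⁻¹ * y * x ∈ T := by
  rw [hT', hT]
  exact stabPair_conjIdx_iff x ⟨Q, f⟩ y

/-- The block of the stabilizer, transported to the stabilizer of the conjugate pair. -/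
theorem blockCoeff_stabConj {Q T T' : Subgroup G}
    {f : Set (IrrCharacter (Subgroup.centralizer (Q : Set G)))} (x : G)
    (h : ∀ y : G, y ∈ T' ↔ x⁻¹ * y * x ∈ T)
    {F : Set (IrrCharacter T)}
    (hFc : ∀ t : T, blockCoeff F t =
      subgroupBlockCoeff (Subgroup.centralizer (Q : Set G)) f (t : G)) (t' : T') :
    blockCoeff (irrMap (stabConj x h) '' F) t' =
      subgroupBlockCoeff (Subgroup.centralizer ((conjSub Q x : Subgroup G) : Set G))
        (conjBlock Q x f) (t' : G) := by
  rw [blockCoeff_irrMap_image, hFc, coe_stabConj,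
    ← Cfsg.Agent.Lib.Helper52.ConjPairs.subgroupBlockCoeff_conjBlock Q x f]
  refine congrArg _ ?_
  group

end Cfsg.Agent.Lib.Helper52.StabConj
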