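import Cfsg.Agent.Lib.Helper77.LTransC
import Cfsg.Agent.Lib.Helper77.KfG

/-!
# Control of fusion of central subpairs by the stabilizer of a maximal Brauer pair (helper52)

If `(Q, f)` and `(Q', f')` lie below the maximal `B`-pair `(P, e)`, `Q` and `Q'` are central in
`P`, and `g` conjugates `(Q, f)` to `(Q', f')`, then `g = c⁻¹ t` with `t ∈ N_G(P, e)` and
`c ∈ C_G(Q')`.  (Versions of `Helper77.abelian_pair_*` with `P ≤ C_G(Q)` in place of `P` abelian.)
-/

set_option autoImplicit false

universe u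

namespace Cfsg.Agent.Lib.Helper52.HtE

open Cfsg
open Cfsg.Agent.Lib.Helper77 Cfsg.Agent.Lib.Helper77.Kf
open Cfsg.Agent.Lib.Helper81
open Cfsg.Agent.Lib.Helper80
open Cfsg.Agent.Lib.Helper52.ConjPairs (conjIdx conjSub)
open scoped Pointwise

variable {G : Type u} [Group G] [Fintype G] {p : ℕ} [Fact p.Prime] {M : Ideal AlgInt}

/-- **Local structure over a central subpair** (no commutativity hypothesis). -/
theorem central_pair_local (hpM : IsPModular p M) {B : Set (IrrCharacter G)} {P Q : Subgroup G}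
    {e : Set (IrrCharacter (Subgroup.centralizer (P : Set G)))}
    {f : Set (IrrCharacter (Subgroup.centralizer (Q : Set G)))}
    (hBP : IsBrauerPairOf p M B P e) (hdef : IsDefectGroup p M B P)
    (hQP : Q ≤ P) (hle : SubpairLE p M Q f P e)
    (hPL : P ≤ Subgroup.centralizer (Q : Set G)) :
    IsDefectGroup p M f (P.subgroupOf (Subgroup.centralizer (Q : Set G))) ∧
      IsInducedBlock M
        (Subgroup.centralizer ((P.subgroupOf (Subgroup.centralizer (Q : Set G)) :
          Subgroup (Subgroup.centralizer (Q : Set G))) : Set (Subgroup.centralizer (Q : Set G))))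
        (irrMap (cEq hPL (Subgroup.centralizer_le hQP)) '' e) f := by
  classical
  have hM : M.IsPrime := isPrime_of_isPModular hpM
  have := Fintype.ofFinite (Subgroup.centralizer (Q : Set G))
  have hPN : P ≤ Subgroup.normalizer (Q : Set G) :=
    hPL.trans (Subgroup.centralizer_le_normalizer _)
  have hN := isNormalSubpair_of_subpairLE hpM hBP.1 hQP hPN hle
  have hpair := isBrauerPairOf_sub_of_isNormalSubpair hPL hQP hN
  refine ⟨?_, isInducedBlock_of_isBrauerPairOf hpM hpair⟩
  obtain ⟨D, hD, hPD⟩ :=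
    Cfsg.Agent.Lib.Helper52.DefectPairs.exists_isDefectGroup_ge_inf_centralizer hpM hBP.1 hQP hle
  rw [Subgroup.inf_subgroupOf_right] at hPD
  have hQf : IsBrauerPairOf p M B Q f :=
    (Cfsg.Agent.Lib.Helper52.Subpairs.isBrauerPairOf_iff_of_subpairLE hpM hBP.2.1 hle).mp hBP
  have hindG := isInducedBlock_of_isBrauerPairOf hpM hQf
  obtain ⟨E, hE, hDE⟩ := Cfsg.Agent.S0917.result p M hpM _ f hQf.1.2 B hBP.2.1 hindG D hD
  obtain ⟨χ₀, hχ₀⟩ := hBP.2.1
  rw [hχ₀] at hE hdef
  have hcard := card_eq_of_isDefectGroup hpM χ₀ hE hdef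
  have h1 : Nat.card D ≤ Nat.card (P.subgroupOf (Subgroup.centralizer (Q : Set G))) := by
    have e1 : Nat.card (D.map (Subgroup.centralizer (Q : Set G)).subtype) = Nat.card D :=
      Subgroup.card_map_of_injective (Subgroup.subtype_injective _)
    have e2 : Nat.card (P.subgroupOf (Subgroup.centralizer (Q : Set G))) = Nat.card P :=
      Nat.card_congr (Subgroup.subgroupOfEquivOfLe hPL).toEquiv
    rw [← e1, e2, ← hcard]
    exact Subgroup.card_le_of_le hDE
  have h2 := Subgroup.eq_of_le_of_card_ge hPD h1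
  rw [h2]
  exact hD

/-- Two maximal pairs on the same subgroup above a central `(Q, f)` are conjugate under
`C_G(Q) ∩ N_G(P)`. -/
theorem central_pair_conj (hpM : IsPModular p M) {B : Set (IrrCharacter G)} {P Q : Subgroup G}
    {e e' : Set (IrrCharacter (Subgroup.centralizer (P : Set G)))}
    {f : Set (IrrCharacter (Subgroup.centralizer (Q : Set G)))}
    (hBP : IsBrauerPairOf p M B P e) (hBP' : IsBrauerPairOf p M B P e')
    (hdef : IsDefectGroup p M B P)
    (hPL : P ≤ Subgroup.centralizer (Q : Set G)) (hQP : Q ≤ P) (hle : SubpairLE p M Q f P e)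
    (hle' : SubpairLE p M Q f P e') :
    ∃ (m : G) (hm : m ∈ Subgroup.normalizer
        ((Subgroup.centralizer (P : Set G) : Subgroup G) : Set G)),
      m ∈ Subgroup.centralizer (Q : Set G) ∧ m ∈ Subgroup.normalizer (P : Set G) ∧
        cjIrr (Subgroup.centralizer (P : Set G)) m hm '' e' = e := by
  classical
  have := Fintype.ofFinite (Subgroup.centralizer (Q : Set G))
  obtain ⟨hD, hind⟩ := central_pair_local hpM hBP hdef hQP hle hPL
  obtain ⟨-, hind'⟩ := central_pair_local hpM hBP' hdef hQP hle' hPL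
  obtain ⟨m, hmL, hmN, himg⟩ := exists_normalizer_conj_centralizer hpM hD hind' hind
  have hmNG := coe_mem_normalizer_of_subgroupOf hPL hmN
  have hmG := Cfsg.Agent.S4691.normalizer_le_normalizer_centralizer' P hmNG
  refine ⟨(m : G), hmG, m.2, hmNG, ?_⟩
  have h1 := image_cEq_cjIrr hPL (Subgroup.centralizer_le hQP) m hmL hmG e'
  rw [himg] at h1
  exact (Set.image_injective.mpr (irrMap_injective _)) h1

omit [Fintype G] [Fact p.Prime] in
theorem conjSub_le_centralizer_conjSub {P Q : Subgroup G} (g : G)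
    (hPL : P ≤ Subgroup.centralizer (Q : Set G)) :
    conjSub P g ≤ Subgroup.centralizer ((conjSub Q g : Subgroup G) : Set G) := by
  rintro _ ⟨x, hx, rfl⟩
  exact Cfsg.Agent.Lib.Helper52.ConjPairs.conj_mem_centralizer_conjSub g (hPL hx)

/-- **Control of fusion of central subpairs.** -/
theorem central_fusion (hpM : IsPModular p M) {B : Set (IrrCharacter G)} {P : Subgroup G}
    {e : Set (IrrCharacter (Subgroup.centralizer (P : Set G)))}
    (hBP : IsBrauerPairOf p M B P e) (hdef : IsDefectGroup p M B P)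
    {Q Q' : Subgroup G}
    {f : Set (IrrCharacter (Subgroup.centralizer (Q : Set G)))}
    {f' : Set (IrrCharacter (Subgroup.centralizer (Q' : Set G)))}
    (hle : SubpairLE p M Q f P e) (hle' : SubpairLE p M Q' f' P e)
    (hPL : P ≤ Subgroup.centralizer (Q : Set G)) (hPL' : P ≤ Subgroup.centralizer (Q' : Set G))
    (g : G) (hg : conjIdx g (⟨Q, f⟩ : BrauerPairIdx G) = ⟨Q', f'⟩) :
    ∃ t : G, t ∈ Subgroup.normalizer (P : Set G) ∧
      StabilizesBlock (Subgroup.centralizer (P : Set G)) e t ∧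
      ∃ c ∈ Subgroup.centralizer (Q' : Set G), t = c * g := by
  classical
  have hM : M.IsPrime := isPrime_of_isPModular hpM
  have := Fintype.ofFinite (Subgroup.centralizer (Q' : Set G))
  have hf' : IsPBlock M f' := isPBlock_of_subpairLE hBP.1.2 hle'
  have hQ'P : Q' ≤ P := Cfsg.Agent.Lib.Helper52.Subpairs.le_of_reflTransGen hle'
  -- the conjugate maximal pair
  have hBPg : IsBrauerPairOf p M B (conjSub P g) (conjBlock P g e) := isBrauerPairOf_conj hBP g
  have hdefg : IsDefectGroup p M B (conjSub P g) := by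
    show IsDefectGroup p M B (P.map (MulAut.conj g).toMonoidHom)
    rw [← smul_eq_map_conj]
    exact isDefectGroup_conj hdef g
  have hQeq : conjSub Q g = Q' := congrArg Sigma.fst hg
  have hleg : SubpairLE p M Q' f' (conjSub P g) (conjBlock P g e) := by
    have h1 := Cfsg.Agent.Lib.Helper52.ConjPairs.reflTransGen_conjIdx (p := p) (M := M) g hle
    rw [hg] at h1
    exact h1
  have hQ'Pg : Q' ≤ conjSub P g := Cfsg.Agent.Lib.Helper52.Subpairs.le_of_reflTransGen hleg
  have hPLg : conjSub P g ≤ Subgroup.centralizer (Q' : Set G) := by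
    have := conjSub_le_centralizer_conjSub g hPL
    rwa [hQeq] at this
  obtain ⟨hD, -⟩ := central_pair_local hpM hBP hdef hQ'P hle' hPL'
  obtain ⟨hD', -⟩ := central_pair_local hpM hBPg hdefg hQ'Pg hleg hPLg
  obtain ⟨ξ₀, hξ₀⟩ := hf'
  rw [hξ₀] at hD hD'
  obtain ⟨c, hc⟩ := exists_conj_le_of_isDefectGroup hpM ξ₀ hD hD'
  -- `y = c g` normalizes `P`
  have hsub : P.map (MulAut.conj ((c : G) * g)).toMonoidHom ≤ P := by
    rintro _ ⟨a, ha, rfl⟩
    have ha' : g * a * g⁻¹ ∈ conjSub P g := ⟨a, ha, rfl⟩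
    have h1 : (⟨g * a * g⁻¹, hPLg ha'⟩ : Subgroup.centralizer (Q' : Set G)) ∈
        (conjSub P g).subgroupOf (Subgroup.centralizer (Q' : Set G)) := ha'
    have h2 := hc (Subgroup.smul_mem_pointwise_smul _ (MulAut.conj c) _ h1)
    have h3 : ((MulAut.conj c • (⟨g * a * g⁻¹, hPLg ha'⟩ : Subgroup.centralizer (Q' : Set G)) :
        Subgroup.centralizer (Q' : Set G)) : G) ∈ P := h2
    have e1 : ((MulAut.conj c • (⟨g * a * g⁻¹, hPLg ha'⟩ : Subgroup.centralizer (Q' : Set G)) :
        Subgroup.centralizer (Q' : Set G)) : G) = (c : G) * (g * a * g⁻¹) * (c : G)⁻¹ := rfl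
    rw [e1] at h3
    show (c : G) * g * a * ((c : G) * g)⁻¹ ∈ P
    have e2 : (c : G) * g * a * ((c : G) * g)⁻¹ = (c : G) * (g * a * g⁻¹) * (c : G)⁻¹ := by group
    rw [e2]
    exact h3
  have heq : P.map (MulAut.conj ((c : G) * g)).toMonoidHom = P := by
    refine Subgroup.eq_of_le_of_card_ge hsub ?_
    rw [Subgroup.card_map_of_injective (MulAut.conj ((c : G) * g)).injective]
  have hyNP : (c : G) * g ∈ Subgroup.normalizer (P : Set G) :=
    Subgroup.mem_normalizer_iff_map_conj_eq.mpr heq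
  -- the pair `(P, e^y)` lies above `(Q', f')`
  have hyK := Cfsg.Agent.S4691.normalizer_le_normalizer_centralizer' P hyNP
  have hidxP := conj_normalizer_idx e hyNP
  have hBP' : IsBrauerPairOf p M B P (cjIrr _ ((c : G) * g) hyK '' e) :=
    isBrauerPairOf_of_idx_eq hidxP (isBrauerPairOf_conj hBP ((c : G) * g))
  have hle'' : SubpairLE p M Q' f' P (cjIrr _ ((c : G) * g) hyK '' e) := by
    have h1 := Cfsg.Agent.Lib.Helper52.ConjPairs.reflTransGen_conjIdx (p := p) (M := M)
      ((c : G) * g) hle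
    rw [← Cfsg.Agent.Lib.Helper52.ConjPairs.conjIdx_conjIdx, hg,
      conjIdx_of_mem_centralizer hM ⟨ξ₀, hξ₀⟩ c.2] at h1
    show Relation.ReflTransGen _ _ _
    rw [← hidxP]
    exact h1
  obtain ⟨m, hm, hmL, hmN, himg⟩ := central_pair_conj hpM hBP hBP' hdef hPL' hQ'P hle' hle''
  refine ⟨m * ((c : G) * g), Subgroup.mul_mem _ hmN hyNP, ?_, m * (c : G),
    Subgroup.mul_mem _ hmL c.2, by group⟩
  have hmy : m * ((c : G) * g) ∈ Subgroup.normalizer
      ((Subgroup.centralizer (P : Set G) : Subgroup G) : Set G) := Subgroup.mul_mem _ hm hyK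
  refine stabilizesBlock_of_image_eq _ hmy ?_
  have h3 : cjIrr _ (m * ((c : G) * g)) hmy '' e =
      cjIrr _ m hm '' (cjIrr _ ((c : G) * g) hyK '' e) := by
    rw [Set.image_image]
    exact Set.image_congr fun θ _ => cjIrr_mul _ hm hyK hmy θ
  rw [h3, himg]

end Cfsg.Agent.Lib.Helper52.HtE
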