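import Cfsg.Agent.Lib.Helper52.HtA
import Cfsg.Agent.Lib.Helper52.HtB
import Cfsg.Agent.Lib.Helper52.HtE
import Cfsg.Agent.Lib.Helper77.CtbJ
import Cfsg.Agent.Lib.Helper75.GaloisNorm
import Cfsg.Agent.Lib.Helper74.SP4

/-!
# Major subsections at central elements of a defect group: the lower bound (helper52)

For `z` in a subgroup `Z ≤ Z(D)` of the defect group `D` of `B`, with the subsection `(z, b_z)`
determined by the maximal pair `(D, c₀)`: the sum over `z ∈ Z` of `p^d m_{χχ}^{(z, b_z)}` is at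
least `|Z| p^h`, `h` the height of `χ`.
-/

set_option autoImplicit false

universe u

namespace Cfsg.Agent.Lib.Helper52.HtG

open Cfsg Cfsg.Agent.Lib.Helper81 Cfsg.Agent.Lib.Helper74 Cfsg.Agent.Lib.Helper75
  Cfsg.Agent.Lib.Helper77 Cfsg.Agent.Lib.Helper77.Ctb Cfsg.Agent.Lib.Helper80
  Cfsg.Agent.Lib.Helper76 Cfsg.Agent.Lib.Helper16
open scoped ComplexConjugate

variable {G : Type u} [Group G] [Fintype G] {p : ℕ} [Fact p.Prime] {M : Ideal AlgInt}

/-- the data of a subsection at a central subgroup of the defect group -/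
theorem central_section_data (hM : IsPModular p M) {B : Set (IrrCharacter G)} {D Q : Subgroup G}
    {c₀ : Set (IrrCharacter (Subgroup.centralizer (D : Set G)))}
    {f : Set (IrrCharacter (Subgroup.centralizer (Q : Set G)))}
    (hBP : IsBrauerPairOf p M B D c₀) (hdef : IsDefectGroup p M B D)
    (hQD : Q ≤ D) (hDQ : D ≤ Subgroup.centralizer (Q : Set G))
    (hle : SubpairLE p M Q f D c₀) :
    IsPBlock M f ∧ IsInducedBlock M (Subgroup.centralizer (Q : Set G)) f B ∧
      blockDefect p f = blockDefect p B := by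
  classical
  have := Fintype.ofFinite (Subgroup.centralizer (Q : Set G))
  have hMp := isPrime_of_isPModular hM
  have hf : IsPBlock M f := isPBlock_of_subpairLE hBP.1.2 hle
  have hQf : IsBrauerPairOf p M B Q f :=
    (Cfsg.Agent.Lib.Helper52.Subpairs.isBrauerPairOf_iff_of_subpairLE hM hBP.2.1 hle).mp hBP
  refine ⟨hf, isInducedBlock_of_isBrauerPairOf hM hQf, ?_⟩
  obtain ⟨hD, -⟩ := Cfsg.Agent.Lib.Helper52.HtE.central_pair_local hM hBP hdef hQD hle hDQ
  obtain ⟨ξ₀, rfl⟩ := hf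
  obtain ⟨χ₀, hχ₀⟩ := hBP.2.1
  rw [hχ₀] at hdef ⊢
  have h1 := card_eq_pow_blockDefect_of_isDefectGroup hM ξ₀ hD
  have h2 := card_eq_pow_blockDefect_of_isDefectGroup hM χ₀ hdef
  have e2 : Nat.card (D.subgroupOf (Subgroup.centralizer (Q : Set G))) = Nat.card D :=
    Nat.card_congr (Subgroup.subgroupOfEquivOfLe hDQ).toEquiv
  rw [e2, h2] at h1
  exact (Nat.pow_right_injective (Fact.out : p.Prime).two_le h1).symm

omit [Fact p.Prime] in
/-- a diagonal contribution is a non-negative real number -/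
theorem ctb_self_eq_ofReal (z : G) (H : Subgroup G) [Fintype H] (b : Set (IrrCharacter H))
    (χ : G → ℂ) : ∃ r : ℝ, 0 ≤ r ∧ ctb p z H b χ χ = (r : ℂ) := by
  classical
  refine ⟨(Nat.card H : ℝ)⁻¹ * ∑ g : H, if ¬ p ∣ orderOf g then
    Complex.normSq (secPart z H b χ g) else 0, ?_, ?_⟩
  · refine mul_nonneg (inv_nonneg.mpr (Nat.cast_nonneg _)) (Finset.sum_nonneg fun g _ => ?_)
    split_ifs
    · exact le_rfl
    · exact Complex.normSq_nonneg _
  · unfold ctb classInner
    rw [Complex.ofReal_mul, Complex.ofReal_inv, Complex.ofReal_natCast, Complex.ofReal_sum]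
    congr 1
    refine Finset.sum_congr rfl fun g _ => ?_
    rw [Cfsg.Agent.Lib.Helper77.pRegularPart_apply]
    split_ifs with h
    · rw [zero_mul, Complex.ofReal_zero]
    · rw [Complex.mul_conj]

variable [Fintype (IrrCharacter G)]

open Classical in
/-- a diagonal contribution of a major subsection does not vanish on the block -/
theorem ctb_self_ne_zero (hM : IsPModular p M) {B : Set (IrrCharacter G)} {z : G}
    (hz : ∃ k : ℕ, orderOf z = p ^ k)
    (H : Subgroup G) (hH : H = Subgroup.centralizer ({z} : Set G)) [Fintype H]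
    [Fintype (IrrCharacter H)] (ξ₀ : IrrCharacter H)
    (hind : IsInducedBlock M H (blockOf M (ξ₀ : H → ℂ)) B)
    (hdef : blockDefect p (blockOf M (ξ₀ : H → ℂ)) = blockDefect p B)
    (χ : IrrCharacter G) (hχ : χ ∈ B) :
    ctb p z H (blockOf M (ξ₀ : H → ℂ)) (χ : G → ℂ) (χ : G → ℂ) ≠ 0 := by
  have hMp := isPrime_of_isPModular hM
  obtain ⟨ψ₀, hψ₀, hψ₀v⟩ := exists_minDegVal p (⟨χ, hχ⟩ : B.Nonempty)
  have hh0 : blockHeight p B (ψ₀ : G → ℂ) = 0 := by
    rw [blockHeight_eq, hψ₀v, Nat.sub_self]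
  intro h0
  have h1 := sum_ctb_mul_conj hM hz H hH ξ₀ hind (χ : G → ℂ)
  rw [h0] at h1
  have h2 : ∑ ψ ∈ Finset.univ.filter (fun ψ : IrrCharacter G => ψ ∈ B),
      Complex.normSq (ctb p z H (blockOf M (ξ₀ : H → ℂ)) (χ : G → ℂ) (ψ : G → ℂ)) = 0 := by
    have h3 : ((∑ ψ ∈ Finset.univ.filter (fun ψ : IrrCharacter G => ψ ∈ B),
      Complex.normSq (ctb p z H (blockOf M (ξ₀ : H → ℂ)) (χ : G → ℂ) (ψ : G → ℂ)) : ℝ) : ℂ) = 0 := by
      rw [← h1, Complex.ofReal_sum]
      refine Finset.sum_congr rfl fun ψ _ => ?_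
      rw [Complex.mul_conj]
    exact_mod_cast h3
  have h4 := (Finset.sum_eq_zero_iff_of_nonneg (fun ψ _ => Complex.normSq_nonneg _)).mp h2 ψ₀
    (Finset.mem_filter.mpr ⟨Finset.mem_univ _, hψ₀⟩)
  have h5 := Complex.normSq_eq_zero.mp h4
  have h6 := ctb_ne_zero hM hz H hH ξ₀ hind hdef ψ₀ hψ₀ hh0 χ hχ
  apply h6
  rw [← ctb_conj_symm, h5, map_zero]

omit [Fact p.Prime] [Fintype (IrrCharacter G)] in
theorem ctb_congr_subgroup
    [∀ Q : Subgroup G, Fintype (Subgroup.centralizer (Q : Set G))]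
    (F : ∀ Q : Subgroup G, Set (IrrCharacter (Subgroup.centralizer (Q : Set G))))
    {Q Q' : Subgroup G} (h : Q = Q') (w : G) (χ ψ : G → ℂ) :
    ctb p w (Subgroup.centralizer (Q : Set G)) (F Q) χ ψ =
      ctb p w (Subgroup.centralizer (Q' : Set G)) (F Q') χ ψ := by
  subst h
  rfl

omit [Fintype G] [Fact p.Prime] [Fintype (IrrCharacter G)] in
theorem zpowers_pow_eq_of_coprime [Finite G] (z : G) {j : ℕ} (hj : Nat.Coprime (orderOf z) j) :
    Subgroup.zpowers (z ^ j) = Subgroup.zpowers z := by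
  refine Subgroup.eq_of_le_of_card_ge ?_ ?_
  · rw [Subgroup.zpowers_le]
    exact Subgroup.pow_mem _ (Subgroup.mem_zpowers z) j
  · rw [Nat.card_zpowers, Nat.card_zpowers, Nat.Coprime.orderOf_pow hj]

open Classical in
/-- **Lower bound**: the normalised diagonal contributions over a central subgroup of the defect
group add up to at least `|Z| p^h`. -/
theorem lower_bound (hM : IsPModular p M) {B : Set (IrrCharacter G)} {D : Subgroup G}
    {c₀ : Set (IrrCharacter (Subgroup.centralizer (D : Set G)))}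
    (hBP : IsBrauerPairOf p M B D c₀) (hdef : IsDefectGroup p M B D)
    (Z : Subgroup G) (hZD : Z ≤ D) (hDZ : D ≤ Subgroup.centralizer (Z : Set G))
    [∀ Q : Subgroup G, Fintype (Subgroup.centralizer (Q : Set G))]
    [∀ Q : Subgroup G, Fintype (IrrCharacter (Subgroup.centralizer (Q : Set G)))]
    (F : ∀ Q : Subgroup G, Set (IrrCharacter (Subgroup.centralizer (Q : Set G))))
    (hF : ∀ z ∈ Z, SubpairLE p M (Subgroup.zpowers z) (F (Subgroup.zpowers z)) D c₀)
    (χ : IrrCharacter G) (hχ : χ ∈ B) [Fintype Z] :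
    (Fintype.card Z : ℝ) * (p : ℝ) ^ blockHeight p B (χ : G → ℂ) ≤
      ∑ z : Z, ‖((p ^ blockDefect p B : ℕ) : ℂ) *
        ctb p (z : G) (Subgroup.centralizer ((Subgroup.zpowers (z : G) : Subgroup G) : Set G))
          (F (Subgroup.zpowers (z : G))) (χ : G → ℂ) (χ : G → ℂ)‖ := by
  have hp : p.Prime := Fact.out
  have hMp := isPrime_of_isPModular hM
  have hzD : ∀ z : Z, (z : G) ∈ D := fun z => hZD z.2
  have hQD : ∀ z : Z, Subgroup.zpowers (z : G) ≤ D := fun z => by
    rw [Subgroup.zpowers_le]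
    exact hzD z
  have hDQ : ∀ z : Z,
      D ≤ Subgroup.centralizer ((Subgroup.zpowers (z : G) : Subgroup G) : Set G) := fun z =>
    hDZ.trans (Subgroup.centralizer_le (by
      rw [SetLike.coe_subset_coe, Subgroup.zpowers_le]
      exact z.2))
  have hdata := fun z : Z => central_section_data hM hBP hdef (hQD z) (hDQ z) (hF z z.2)
  have hord : ∀ z : Z, ∃ k : ℕ, orderOf (z : G) = p ^ k := by
    intro z
    obtain ⟨k, hk⟩ := IsPGroup.iff_orderOf.mp hBP.1.1 ⟨(z : G), hzD z⟩
    exact ⟨k, by rw [← hk, Subgroup.orderOf_mk]⟩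
  have hcent : ∀ z : G, Subgroup.centralizer ((Subgroup.zpowers z : Subgroup G) : Set G) =
      Subgroup.centralizer ({z} : Set G) := fun z => by
    rw [Subgroup.zpowers_eq_closure, Subgroup.centralizer_closure]
  have hres : ∀ (K : Subgroup G) (χ : IrrCharacter G),
      IsCharacter K (fun c : K => (χ : G → ℂ) (c : G)) := fun K χ =>
    Cfsg.Agent.Lib.Helper3.IsCharacter.restrict
      (Cfsg.Agent.Lib.Helper3.IsIrrCharacter.isCharacter χ.2) _
  have hzmem : ∀ z : G, z ∈ Subgroup.centralizer ((Subgroup.zpowers z : Subgroup G) : Set G) := by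
    intro z
    rw [hcent, Subgroup.mem_centralizer_singleton_iff]
  have hzc : ∀ z : G, (⟨z, hzmem z⟩ :
      Subgroup.centralizer ((Subgroup.zpowers z : Subgroup G) : Set G)) ∈
      Subgroup.center (Subgroup.centralizer ((Subgroup.zpowers z : Subgroup G) : Set G)) := by
    intro z
    rw [Subgroup.mem_center_iff]
    intro c
    apply Subtype.ext
    have hc : (c : G) ∈ Subgroup.centralizer ({z} : Set G) := hcent z ▸ c.2
    have := Subgroup.mem_centralizer_singleton_iff.mp hc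
    simp only [Subgroup.coe_mul]
    exact this
  refine Cfsg.Agent.Lib.Helper52.HtB.card_mul_pow_le_sum_norm hM _ ?_ ?_ ?_ _ ?_
  · -- integrality
    intro z
    have h1 := ctb_eq_cval (p := p) (z : G) _ (hzmem z) (F (Subgroup.zpowers (z : G)))
      (χ : G → ℂ) (χ : G → ℂ) 1
    rw [pow_one, pow_one] at h1
    rw [h1, ← (hdata z).2.2]
    exact cval_integral _ _ _ (hres _ χ) (hres _ χ) _ (hzc z)
  · -- Galois action
    intro τ
    obtain ⟨j, hj, hτ⟩ := exists_pow_of_ringEquiv τ (Nat.card G) Nat.card_pos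
    have hjZ : (Nat.card Z).Coprime j :=
      (Nat.Coprime.coprime_dvd_right (Subgroup.card_subgroup_dvd_card Z) hj).symm
    refine ⟨powCoprime hjZ, fun z => ?_⟩
    have hjz : Nat.Coprime (orderOf (z : G)) j :=
      (Nat.Coprime.coprime_dvd_right (orderOf_dvd_natCard (z : G)) hj).symm
    have hQ := zpowers_pow_eq_of_coprime (z : G) hjz
    have e1 : ((powCoprime hjZ z : Z) : G) = (z : G) ^ j := rfl
    rw [e1, ctb_congr_subgroup F hQ]
    have h1 := ctb_eq_cval (p := p) (z : G) _ (hzmem z) (F (Subgroup.zpowers (z : G)))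
      (χ : G → ℂ) (χ : G → ℂ) 1
    rw [pow_one, pow_one] at h1
    rw [h1, ctb_eq_cval (p := p) (z : G) _ (hzmem z) (F (Subgroup.zpowers (z : G))),
      ← (hdata z).2.2]
    refine cval_galois _ _ _ (hres _ χ) (hres _ χ) _ (hzc z) (Nat.card G) ?_ τ j hτ
    apply Subtype.ext
    simp only [Subgroup.coe_pow, Subgroup.coe_one]
    exact pow_card_eq_one'
  · -- non-vanishing
    intro z
    obtain ⟨ξ₀, hξ₀⟩ := (hdata z).1
    have h2 := (hdata z).2
    rw [hξ₀] at h2 ⊢
    have hne := ctb_self_ne_zero hM (hord z) _ (hcent (z : G)) ξ₀ h2.1 h2.2 χ hχ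
    have hpd : ((p ^ blockDefect p B : ℕ) : ℂ) ≠ 0 :=
      Nat.cast_ne_zero.mpr (pow_pos hp.pos _).ne'
    exact mul_ne_zero hpd hne
  · -- local divisibility
    intro z
    obtain ⟨ξ₀, hξ₀⟩ := (hdata z).1
    rw [hξ₀]
    exact Cfsg.Agent.Lib.Helper52.HtA.memLocalRing_pow_mul_ctb_div hM (hord z) _ (hcent (z : G))
      ξ₀ χ χ hχ

end Cfsg.Agent.Lib.Helper52.HtG
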