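import Cfsg.Agent.Lib.Helper52.HtC
import Cfsg.Agent.Lib.Helper52.HtF
import Cfsg.Agent.Lib.Helper52.HtG
import Cfsg.Agent.Lib.Helper52.Subpairs2
import Cfsg.Agent.Lib.Helper77.AbLocal
import Cfsg.Agent.Lib.Helper77.DefectConj
import Cfsg.Agent.S0973

/-!
# Characters of a block do not vanish on the `p`-sections of the central elements of a defect group
(helper52)

For `χ` in a block `B` with defect group `D` and `x ∈ Z(D)` there is a `p`-regular `y ∈ C_G(x)`
with `χ (x y) ≠ 0`: the diagonal contribution of the major subsection at `x` does not vanish.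
-/

set_option autoImplicit false

universe u

namespace Cfsg.Agent.Lib.Helper52.AbA

open Cfsg Cfsg.Agent.Lib.Helper81 Cfsg.Agent.Lib.Helper74 Cfsg.Agent.Lib.Helper75
  Cfsg.Agent.Lib.Helper77 Cfsg.Agent.Lib.Helper77.Ctb Cfsg.Agent.Lib.Helper80
open scoped ComplexConjugate

variable {G : Type u} [Group G] [Fintype G] {p : ℕ} [Fact p.Prime] {M : Ideal AlgInt}

/-- a maximal Brauer pair on a given defect group -/
theorem exists_isBrauerPairOf_of_isDefectGroup (hM : IsPModular p M) {B : Set (IrrCharacter G)}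
    (hB : IsPBlock M B) {D : Subgroup G} (hdef : IsDefectGroup p M B D) :
    ∃ c₀ : Set (IrrCharacter (Subgroup.centralizer (D : Set G))), IsBrauerPairOf p M B D c₀ := by
  have hDp : IsPGroup p D := isPGroup_of_isDefectGroup hdef
  obtain ⟨⟨b, -, hind⟩, -⟩ := Cfsg.Agent.S0973.result p M hM B hB D hdef
  obtain ⟨c₀, hc₀ind, -⟩ := Cfsg.Agent.Lib.Helper52.HtF.exists_centralizer_block hM hDp hind
  exact ⟨c₀, isBrauerPairOf_of_isInducedBlock hM hDp hc₀ind⟩

open Classical in
/-- **Non-vanishing on the sections of central elements of a defect group.** -/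
theorem exists_pRegular_ne_zero (hM : IsPModular p M) {B : Set (IrrCharacter G)}
    (hB : IsPBlock M B) {D : Subgroup G} (hdef : IsDefectGroup p M B D) {x : G} (hxD : x ∈ D)
    (hxZ : ∀ d ∈ D, d * x = x * d) (χ : IrrCharacter G) (hχ : χ ∈ B) :
    ∃ y : G, y * x = x * y ∧ ¬ p ∣ orderOf y ∧ (χ : G → ℂ) (x * y) ≠ 0 := by
  have := Fintype.ofFinite (IrrCharacter G)
  have hMp := isPrime_of_isPModular hM
  obtain ⟨c₀, hBP⟩ := exists_isBrauerPairOf_of_isDefectGroup hM hB hdef
  have hQD : Subgroup.zpowers x ≤ D := by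
    rw [Subgroup.zpowers_le]
    exact hxD
  have hcent : Subgroup.centralizer ((Subgroup.zpowers x : Subgroup G) : Set G) =
      Subgroup.centralizer ({x} : Set G) := by
    rw [Subgroup.zpowers_eq_closure, Subgroup.centralizer_closure]
  have hDQ : D ≤ Subgroup.centralizer ((Subgroup.zpowers x : Subgroup G) : Set G) := by
    rw [hcent]
    intro d hd
    rw [Subgroup.mem_centralizer_singleton_iff]
    exact hxZ d hd
  obtain ⟨f, -, hle⟩ := Cfsg.Agent.Lib.Helper52.Subpairs.exists_subpairLE hM _ D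
    (Subgroup.zpowers x) c₀ rfl hBP.1 hQD
  obtain ⟨hf, hindf, hdf⟩ := Cfsg.Agent.Lib.Helper52.HtG.central_section_data hM hBP hdef hQD hDQ hle
  have hord : ∃ k : ℕ, orderOf x = p ^ k := by
    obtain ⟨k, hk⟩ := IsPGroup.iff_orderOf.mp hBP.1.1 ⟨x, hxD⟩
    exact ⟨k, by rw [← hk, Subgroup.orderOf_mk]⟩
  have : Fintype (Subgroup.centralizer ((Subgroup.zpowers x : Subgroup G) : Set G)) :=
    Fintype.ofFinite _
  have : Fintype (IrrCharacter (Subgroup.centralizer
    ((Subgroup.zpowers x : Subgroup G) : Set G))) := Fintype.ofFinite _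
  obtain ⟨ξ₀, hξ₀⟩ := hf
  rw [hξ₀] at hindf hdf
  have hne := Cfsg.Agent.Lib.Helper52.HtG.ctb_self_ne_zero hM hord _ hcent ξ₀ hindf hdf χ hχ
  by_contra hcon
  push Not at hcon
  apply hne
  -- all the contributions at `x` vanish
  have hsum := Cfsg.Agent.Lib.Helper52.HtC.sum_blocks_ctb hM x _ hcent χ
  have hzero : ∑ᶠ c : Subgroup.centralizer ({x} : Set G),
      pRegularPart p (fun c : Subgroup.centralizer ({x} : Set G) =>
        (χ : G → ℂ) (x * (c : G)) * conj ((χ : G → ℂ) (x * (c : G)))) c = 0 := by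
    refine finsum_eq_zero_of_forall_eq_zero fun c => ?_
    rw [Cfsg.Agent.Lib.Helper77.pRegularPart_apply]
    split_ifs with h
    · rfl
    · have hc : (c : G) * x = x * (c : G) :=
        (Subgroup.mem_centralizer_singleton_iff.mp c.2)
      have hreg : ¬ p ∣ orderOf (c : G) := by
        rw [Subgroup.orderOf_coe]
        exact h
      rw [hcon (c : G) hc hreg, zero_mul]
  rw [hzero, mul_zero] at hsum
  -- every summand is a non-negative real
  have hr : ∀ b : Set (IrrCharacter (Subgroup.centralizer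
      ((Subgroup.zpowers x : Subgroup G) : Set G))), ∃ r : ℝ, 0 ≤ r ∧
      ctb p x _ b (χ : G → ℂ) (χ : G → ℂ) = (r : ℂ) := fun b =>
    Cfsg.Agent.Lib.Helper52.HtG.ctb_self_eq_ofReal _ _ _ _
  choose r hr0 hr using hr
  have hsum' : ∑ b ∈ blocksFinset M (Subgroup.centralizer
      ((Subgroup.zpowers x : Subgroup G) : Set G)), r b = 0 := by
    have h1 : ((∑ b ∈ blocksFinset M (Subgroup.centralizer
      ((Subgroup.zpowers x : Subgroup G) : Set G)), r b : ℝ) : ℂ) = 0 := by
      rw [Complex.ofReal_sum, ← hsum]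
      exact Finset.sum_congr rfl fun b _ => (hr b).symm
    exact_mod_cast h1
  have hmem : blockOf M (ξ₀ : Subgroup.centralizer
      ((Subgroup.zpowers x : Subgroup G) : Set G) → ℂ) ∈ blocksFinset M (Subgroup.centralizer
      ((Subgroup.zpowers x : Subgroup G) : Set G)) := mem_blocksFinset.mpr ⟨ξ₀, rfl⟩
  have h0 := (Finset.sum_eq_zero_iff_of_nonneg (fun b _ => hr0 b)).mp hsum' _ hmem
  rw [hr, h0, Complex.ofReal_zero]

end Cfsg.Agent.Lib.Helper52.AbA
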