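import Cfsg.Agent.Lib.Helper15.Gallagher
import Cfsg.Agent.Lib.Helper15.IrrCrit
import Cfsg.Agent.Lib.Helper80.Conv
import Cfsg.Agent.Lib.Helper81.OneIrr

/-!
# Irreducible restriction to a normal subgroup from a free action of the linear characters of the
quotient (helper52)
-/

set_option autoImplicit false

universe u

namespace Cfsg.Agent.Lib.Helper52.AbB

open Cfsg Cfsg.Agent.Lib.Helper3 Cfsg.Agent.Lib.Helper15 Cfsg.Agent.Lib.Helper81
open scoped ComplexConjugate

variable {G : Type u} [Group G] [Fintype G]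

/-- If `χ` is a constituent of `φ χ` with `φ` linear, then `φ` is `1` wherever `χ` does not
vanish. -/
theorem eq_one_of_classInner_mul_ne_zero {χ φ : G → ℂ} (hχ : IsIrrCharacter G χ)
    (hφ : IsIrrCharacter G φ) (hφ1 : φ 1 = 1) (hne : classInner χ (φ * χ) ≠ 0) :
    ∀ g : G, χ g ≠ 0 → φ g = 1 := by
  classical
  have hG : (Nat.card G : ℂ) ≠ 0 := Nat.cast_ne_zero.mpr Nat.card_pos.ne'
  obtain ⟨m, hm⟩ := exists_nat_classInner (IsIrrCharacter.isCharacter hχ)
    (IsCharacter.mul (IsIrrCharacter.isCharacter hφ) (IsIrrCharacter.isCharacter hχ))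
  have hm1 : 1 ≤ m := by
    rcases Nat.eq_zero_or_pos m with h | h
    · rw [h, Nat.cast_zero] at hm
      exact absurd hm hne
    · exact h
  have h1 : classInner χ χ = 1 := by rw [classInner_irr hχ hχ, if_pos rfl]
  -- the norm bound for `φ`
  have hle : ∀ g : G, ‖φ g‖ ≤ 1 := by
    intro g
    have := Cfsg.Agent.Lib.Helper80.irr_norm_le (⟨φ, hφ⟩ : IrrCharacter G) g
    simpa [hφ1] using this
  have hre : ∀ g : G, (φ g).re ≤ 1 := fun g => (Complex.re_le_norm _).trans (hle g)
  -- the two sums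
  have e1 : ∑ g : G, χ g * conj (χ g) = (Nat.card G : ℂ) := by
    unfold classInner at h1
    have := congrArg (fun z => (Nat.card G : ℂ) * z) h1
    simpa [mul_inv_cancel_left₀ hG] using this
  have e2 : ∑ g : G, χ g * conj ((φ * χ) g) = (Nat.card G : ℂ) * (m : ℂ) := by
    unfold classInner at hm
    have := congrArg (fun z => (Nat.card G : ℂ) * z) hm
    simpa [mul_inv_cancel_left₀ hG] using this
  have e3 : ∑ g : G, Complex.normSq (χ g) * (1 - (φ g).re) =
      (Nat.card G : ℝ) * (1 - (m : ℝ)) := by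
    have h3 : ((∑ g : G, χ g * conj (χ g)) - ∑ g : G, χ g * conj ((φ * χ) g)).re =
        ∑ g : G, Complex.normSq (χ g) * (1 - (φ g).re) := by
      rw [← Finset.sum_sub_distrib, Complex.re_sum]
      refine Finset.sum_congr rfl fun g _ => ?_
      rw [Pi.mul_apply, map_mul, ← mul_assoc, mul_comm (χ g * conj (φ g)), ← mul_assoc,
        mul_comm (conj (χ g)), Complex.mul_conj]
      simp only [Complex.sub_re, Complex.mul_re, Complex.ofReal_re, Complex.ofReal_im,
        Complex.conj_re, Complex.conj_im, zero_mul, sub_zero]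
      ring
    rw [← h3, e1, e2]
    simp only [Complex.sub_re, Complex.mul_re, Complex.natCast_re, Complex.natCast_im, zero_mul,
      sub_zero]
    ring
  have hnonneg : ∀ g ∈ (Finset.univ : Finset G),
      0 ≤ Complex.normSq (χ g) * (1 - (φ g).re) := fun g _ =>
    mul_nonneg (Complex.normSq_nonneg _) (sub_nonneg.mpr (hre g))
  have hsum0 : ∑ g : G, Complex.normSq (χ g) * (1 - (φ g).re) = 0 := by
    apply le_antisymm
    · rw [e3]
      have hm' : (1 : ℝ) ≤ (m : ℝ) := by exact_mod_cast hm1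
      have hc : (0 : ℝ) ≤ (Nat.card G : ℝ) := Nat.cast_nonneg _
      nlinarith
    · exact Finset.sum_nonneg hnonneg
  intro g hg
  have h4 := (Finset.sum_eq_zero_iff_of_nonneg hnonneg).mp hsum0 g (Finset.mem_univ _)
  have h5 : (φ g).re = 1 := by
    rcases mul_eq_zero.mp h4 with h | h
    · exact absurd (Complex.normSq_eq_zero.mp h) hg
    · linarith
  have h6 : (φ g).im = 0 := by
    have h7 : Complex.normSq (φ g) ≤ 1 := by
      rw [Complex.normSq_eq_norm_sq]
      have := hle g
      have h0 : 0 ≤ ‖φ g‖ := norm_nonneg _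
      nlinarith
    rw [Complex.normSq_apply, h5] at h7
    have : (φ g).im * (φ g).im ≤ 0 := by linarith
    have h8 : 0 ≤ (φ g).im * (φ g).im := mul_self_nonneg _
    exact mul_self_eq_zero.mp (le_antisymm this h8)
  exact Complex.ext (by rw [h5, Complex.one_re]) (by rw [h6, Complex.one_im])

open Classical in
/-- **Irreducible restriction.** -/
theorem isIrrCharacter_restrict_of_free (N : Subgroup G) [N.Normal] [Fintype N]
    (χ : IrrCharacter G)
    (hfree : ∀ φ : IrrCharacter G, (∀ (n : N) (g : G), (φ : G → ℂ) ((n : G) * g) = (φ : G → ℂ) g) →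
      φ ≠ oneIrr G → classInner (χ : G → ℂ) ((φ : G → ℂ) * (χ : G → ℂ)) = 0) :
    IsIrrCharacter N (fun n : N => (χ : G → ℂ) n) := by
  have := Fintype.ofFinite (IrrCharacter G)
  apply isIrrCharacter_of_norm_one
    (IsCharacter.restrict (IsIrrCharacter.isCharacter χ.2) N)
  rw [← cosetAvg_one N (χ : G → ℂ) (χ : G → ℂ),
    cosetAvg_eq_sum N (IsIrrCharacter.isCharacter χ.2)
      (IsCharacter.isClassFunction (IsIrrCharacter.isCharacter χ.2)), Finset.sum_apply]
  have hone : oneIrr G ∈ Finset.univ.filter (fun φ : IrrCharacter G =>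
      ∀ (n : N) (g : G), (φ : G → ℂ) ((n : G) * g) = (φ : G → ℂ) g) := by
    rw [Finset.mem_filter]
    exact ⟨Finset.mem_univ _, fun n g => rfl⟩
  rw [Finset.sum_eq_single_of_mem (oneIrr G) hone]
  · have e : ((oneIrr G : IrrCharacter G) : G → ℂ) * (χ : G → ℂ) = (χ : G → ℂ) := by
      funext g
      rw [Pi.mul_apply, oneIrr_apply, one_mul]
    rw [Pi.smul_apply, e, classInner_irr χ.2 χ.2, if_pos rfl, oneIrr_apply, smul_eq_mul, mul_one]
  · intro φ hφ hne
    rw [Pi.smul_apply, hfree φ (Finset.mem_filter.mp hφ).2 hne, zero_smul]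

end Cfsg.Agent.Lib.Helper52.AbB
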