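import Cfsg.Agent.Lib.Helper52.AbA
import Cfsg.Agent.Lib.Helper52.AbB
import Cfsg.Agent.Lib.Helper77.StableBlock
import Cfsg.Agent.Lib.Helper81.NseNormal
import Cfsg.Agent.Lib.Helper25.CohAbelian
import Cfsg.Agent.S0966

/-!
# Blocks with abelian defect groups over a stable block of a normal subgroup of `p`-power index
(helper52)
-/

set_option autoImplicit false

universe u

namespace Cfsg.Agent.Lib.Helper52.AbC

open Cfsg Cfsg.Agent.Lib.Helper81 Cfsg.Agent.Lib.Helper77 Cfsg.Agent.Lib.Helper80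
  Cfsg.Agent.Lib.Helper3 Cfsg.Agent.Lib.Helper15
open scoped ComplexConjugate Pointwise

variable {G : Type u} [Group G] [Fintype G] {p : ℕ} [Fact p.Prime] {M : Ideal AlgInt}

/-- a character over a member of the covered block lies in the covering block -/
theorem mem_of_over (hM : IsPModular p M) (N : Subgroup G) [N.Normal] [Fintype N]
    (hNi : ∃ k : ℕ, N.index = p ^ k) {b : Set (IrrCharacter N)} (hb : IsPBlock M b)
    {B : Set (IrrCharacter G)} (hB : IsPBlock M B)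
    (hcov : ∃ χ ∈ B, ∃ θ ∈ b, classInner (fun n : N => (χ : G → ℂ) n) (θ : N → ℂ) ≠ 0)
    {χ : IrrCharacter G} {θ : IrrCharacter N} (hθ : θ ∈ b)
    (hne : classInner (fun n : N => (χ : G → ℂ) n) (θ : N → ℂ) ≠ 0) : χ ∈ B := by
  have hMp := isPrime_of_isPModular hM
  obtain ⟨B', -, huniq⟩ := Cfsg.Agent.S0966.result p M hM N hNi b hb
  have e1 : B = B' := huniq B ⟨hB, hcov⟩
  have e2 : blockOf M (χ : G → ℂ) = B' :=
    huniq _ ⟨⟨χ, rfl⟩, χ, sameBlock_refl hMp _, θ, hθ, hne⟩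
  rw [e1, ← e2]
  exact sameBlock_refl hMp _

/-- the block idempotent of the covering block -/
theorem blockCoeff_eq (hM : IsPModular p M) (N : Subgroup G) [N.Normal] [Fintype N]
    (hNi : ∃ k : ℕ, N.index = p ^ k) {b : Set (IrrCharacter N)} (hb : IsPBlock M b)
    (hst : ∀ g : G, ∀ θ ∈ b, conjIrr N g θ ∈ b)
    {B : Set (IrrCharacter G)} (hB : IsPBlock M B)
    (hcov : ∃ χ ∈ B, ∃ θ ∈ b, classInner (fun n : N => (χ : G → ℂ) n) (θ : N → ℂ) ≠ 0) :
    ∀ g : G, blockCoeff B g = subgroupBlockCoeff N b g := by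
  have hMp := isPrime_of_isPModular hM
  obtain ⟨B', hB', hBc⟩ := exists_block_blockCoeff_eq hM N hNi hb hst
  obtain ⟨χ, hχ, θ, hθ, hne⟩ := hcov
  have h1 : omega (χ : G → ℂ) (blockCoeff B') = 1 := by
    have : blockCoeff B' = subgroupBlockCoeff N b := funext hBc
    rw [this, omega_subgroupBlockCoeff N hst χ θ hne, if_pos hθ]
  rw [omega_blockCoeff] at h1
  have hχB' : χ ∈ B' := by
    by_contra h
    rw [if_neg h] at h1
    exact zero_ne_one h1
  have : B = B' := eq_of_isPBlock_of_mem hMp hB hB' hχ hχB'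
  rw [this]
  exact hBc

omit [Fintype G] [Fact p.Prime] in
/-- commutators lie in `N` when `G = N P` with `P` abelian -/
theorem commutator_mem (N : Subgroup G) [N.Normal] {P : Subgroup G} (hsup : N ⊔ P = ⊤)
    (hPab : ∀ x ∈ P, ∀ y ∈ P, x * y = y * x) (g k : G) : g * k * g⁻¹ * k⁻¹ ∈ N := by
  have hdec : ∀ g : G, ∃ n ∈ N, ∃ x ∈ P, n * x = g := by
    intro g
    have hg : g ∈ ((N ⊔ P : Subgroup G) : Set G) := by
      rw [hsup]
      exact Set.mem_univ _
    rw [Subgroup.normal_mul] at hg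
    obtain ⟨n, hn, x, hx, rfl⟩ := Set.mem_mul.mp hg
    exact ⟨n, hn, x, hx, rfl⟩
  obtain ⟨n, hn, x, hx, rfl⟩ := hdec g
  obtain ⟨m, hm, y, hy, rfl⟩ := hdec k
  rw [← QuotientGroup.eq_one_iff]
  have h1 : ((n : G) : G ⧸ N) = 1 := (QuotientGroup.eq_one_iff _).mpr hn
  have h2 : ((m : G) : G ⧸ N) = 1 := (QuotientGroup.eq_one_iff _).mpr hm
  simp only [QuotientGroup.mk_mul, QuotientGroup.mk_inv, h1, h2, one_mul]
  rw [← QuotientGroup.mk_mul, hPab x hx y hy, QuotientGroup.mk_mul]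
  group

/-- the characters of `G / N` are linear -/
theorem linear_of_const (N : Subgroup G) [N.Normal] {P : Subgroup G} (hsup : N ⊔ P = ⊤)
    (hPab : ∀ x ∈ P, ∀ y ∈ P, x * y = y * x) (φ : IrrCharacter G)
    (hφ : ∀ (n : N) (g : G), (φ : G → ℂ) ((n : G) * g) = (φ : G → ℂ) g) :
    (φ : G → ℂ) 1 = 1 := by
  refine Cfsg.Agent.Lib.Helper25.degree_one_of_commutators φ.2 fun g k => ?_
  have h := hφ ⟨_, commutator_mem N hsup hPab g k⟩ 1
  rw [mul_one] at h
  exact h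

/-- **Irreducible restriction** for blocks with abelian defect groups. -/
theorem isIrrCharacter_restrict (hM : IsPModular p M) (N : Subgroup G) [N.Normal] [Fintype N]
    (hNi : ∃ k : ℕ, N.index = p ^ k) {B : Set (IrrCharacter G)} (hB : IsPBlock M B)
    {P : Subgroup G} (hPD : IsDefectGroup p M B P) (hPab : ∀ x ∈ P, ∀ y ∈ P, x * y = y * x)
    (hsup : N ⊔ P = ⊤) (χ : IrrCharacter G) (hχ : χ ∈ B) :
    IsIrrCharacter N (fun n : N => (χ : G → ℂ) n) := by
  have hp : p.Prime := Fact.out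
  refine Cfsg.Agent.Lib.Helper52.AbB.isIrrCharacter_restrict_of_free N χ fun φ hφ hne => ?_
  by_contra hcon
  have hlin := linear_of_const N hsup hPab φ hφ
  have h1 := Cfsg.Agent.Lib.Helper52.AbB.eq_one_of_classInner_mul_ne_zero χ.2 φ.2 hlin hcon
  -- an element of `P` on which `φ` is not `1`
  have hex : ∃ g : G, (φ : G → ℂ) g ≠ 1 := by
    by_contra h
    push Not at h
    apply hne
    apply Subtype.ext
    funext g
    rw [h g, oneIrr_apply]
  obtain ⟨g, hg⟩ := hex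
  have hgm : g ∈ ((N ⊔ P : Subgroup G) : Set G) := by
    rw [hsup]
    exact Set.mem_univ _
  rw [Subgroup.normal_mul] at hgm
  obtain ⟨n, hn, x, hx, rfl⟩ := Set.mem_mul.mp hgm
  have hφx : (φ : G → ℂ) x ≠ 1 := by
    rw [← hφ ⟨n, hn⟩ x]
    exact hg
  obtain ⟨y, hyx, hyreg, hy0⟩ := Cfsg.Agent.Lib.Helper52.AbA.exists_pRegular_ne_zero hM hB hPD hx
    (fun d hd => hPab d hd x hx) χ hχ
  have hyN : y ∈ N := by
    apply Cfsg.Agent.Lib.Helper81.Nse.mem_of_coprime_index N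
    obtain ⟨k, hk⟩ := hNi
    rw [hk]
    exact Nat.Coprime.pow_right k ((Nat.Prime.coprime_iff_not_dvd hp).mpr hyreg).symm
  have h2 := h1 (x * y) hy0
  rw [← hyx, hφ ⟨y, hyN⟩ x] at h2
  exact hφx h2

end Cfsg.Agent.Lib.Helper52.AbC
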