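import Cfsg.Agent.Lib.Helper52.AbC
import Cfsg.Agent.Lib.Helper79.Basic
import Cfsg.Agent.Lib.Helper3.Ortho

/-!
# Counting the extensions: blocks with abelian defect groups over a stable block of a normal
subgroup of `p`-power index (helper52)
-/

set_option autoImplicit false

universe u

namespace Cfsg.Agent.Lib.Helper52.AbD

open Cfsg Cfsg.Agent.Lib.Helper81 Cfsg.Agent.Lib.Helper77 Cfsg.Agent.Lib.Helper80
  Cfsg.Agent.Lib.Helper3 Cfsg.Agent.Lib.Helper15 Cfsg.Agent.Lib.Helper79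
open Cfsg.Agent.Lib.Helper52.AbC
open scoped ComplexConjugate

theorem card_irr_of_forall_comm {A : Type u} [Group A] [Finite A]
    (hA : ∀ a a' : A, a * a' = a' * a) : Nat.card (IrrCharacter A) = Nat.card A := by
  rw [Cfsg.Agent.Lib.Helper3.card_irrCharacter]
  symm
  apply Nat.card_congr
  refine Equiv.ofBijective (ConjClasses.mk : A → ConjClasses A) ⟨?_, ConjClasses.mk_surjective⟩
  intro a b hab
  obtain ⟨c, hc⟩ := isConj_iff.mp (ConjClasses.mk_eq_mk_iff_isConj.mp hab)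
  rw [hA c, mul_assoc, mul_inv_cancel, mul_one] at hc
  exact hc

variable {G : Type u} [Group G] [Fintype G] {p : ℕ} [Fact p.Prime] {M : Ideal AlgInt}

omit [Fact p.Prime] in
/-- the number of irreducible characters of `G` that are constant on the cosets of `N` -/
theorem card_const (N : Subgroup G) [N.Normal] {P : Subgroup G} (hsup : N ⊔ P = ⊤)
    (hPab : ∀ x ∈ P, ∀ y ∈ P, x * y = y * x) :
    Nat.card {φ : IrrCharacter G //
      ∀ (n : N) (g : G), (φ : G → ℂ) ((n : G) * g) = (φ : G → ℂ) g} = N.index := by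
  have hcomm : ∀ a a' : G ⧸ N, a * a' = a' * a := by
    intro a a'
    obtain ⟨g, rfl⟩ := QuotientGroup.mk_surjective a
    obtain ⟨k, rfl⟩ := QuotientGroup.mk_surjective a'
    rw [← QuotientGroup.mk_mul, ← QuotientGroup.mk_mul, QuotientGroup.eq]
    have h := commutator_mem N hsup hPab k⁻¹ g⁻¹
    have e : (g * k)⁻¹ * (k * g) = k⁻¹ * g⁻¹ * k⁻¹⁻¹ * g⁻¹⁻¹ := by group
    rw [e]
    exact h
  rw [Subgroup.index_eq_card, ← card_irr_of_forall_comm hcomm]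
  symm
  apply Nat.card_congr
  refine Equiv.ofBijective (fun ψ : IrrCharacter (G ⧸ N) =>
    (⟨⟨fun g : G => (ψ : G ⧸ N → ℂ) (g : G ⧸ N), isIrrCharacter_inflate N ψ.2⟩, fun n g => by
      show (ψ : G ⧸ N → ℂ) (((n : G) * g : G) : G ⧸ N) = (ψ : G ⧸ N → ℂ) (g : G ⧸ N)
      rw [QuotientGroup.mk_mul, (QuotientGroup.eq_one_iff _).mpr n.2, one_mul]⟩ :
      {φ : IrrCharacter G //
        ∀ (n : N) (g : G), (φ : G → ℂ) ((n : G) * g) = (φ : G → ℂ) g})) ⟨?_, ?_⟩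
  · intro ψ ψ' h
    apply Subtype.ext
    funext a
    obtain ⟨g, rfl⟩ := QuotientGroup.mk_surjective a
    have h1 := congrArg (fun φ : {φ : IrrCharacter G //
        ∀ (n : N) (g : G), (φ : G → ℂ) ((n : G) * g) = (φ : G → ℂ) g} =>
        ((φ : IrrCharacter G) : G → ℂ) g) h
    exact h1
  · rintro ⟨φ, hφ⟩
    have hN : ∀ x ∈ N, (φ : G → ℂ) x = (φ : G → ℂ) 1 := by
      intro x hx
      have := hφ ⟨x, hx⟩ 1
      rw [mul_one] at this
      exact this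
    obtain ⟨ψ, hψ, hψφ⟩ := isIrrCharacter_deflate φ.2 N hN
    refine ⟨⟨ψ, hψ⟩, ?_⟩
    apply Subtype.ext
    apply Subtype.ext
    funext g
    exact hψφ g

/-- **The extensions of a member of the covered block.** -/
theorem card_fiber (hM : IsPModular p M) (N : Subgroup G) [N.Normal] [Fintype N]
    (hNi : ∃ k : ℕ, N.index = p ^ k) {b : Set (IrrCharacter N)} (hb : IsPBlock M b)
    {B : Set (IrrCharacter G)} (hB : IsPBlock M B)
    (hcov : ∃ χ ∈ B, ∃ θ ∈ b, classInner (fun n : N => (χ : G → ℂ) n) (θ : N → ℂ) ≠ 0)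
    {P : Subgroup G} (hPD : IsDefectGroup p M B P) (hPab : ∀ x ∈ P, ∀ y ∈ P, x * y = y * x)
    (hsup : N ⊔ P = ⊤) (θ : IrrCharacter N) (hθ : θ ∈ b) :
    Nat.card {χ : IrrCharacter G // χ ∈ B ∧ ∀ n : N, (χ : G → ℂ) n = (θ : N → ℂ) n} =
      N.index := by
  classical
  obtain ⟨χ₀, hχ₀⟩ := Cfsg.Agent.S0966.exists_over N θ
  have hχ₀B : χ₀ ∈ B := mem_of_over hM N hNi hb hB hcov hθ hχ₀
  have hχ₀N := isIrrCharacter_restrict hM N hNi hB hPD hPab hsup χ₀ hχ₀B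
  have hres : (fun n : N => (χ₀ : G → ℂ) n) = (θ : N → ℂ) := by
    rw [classInner_irr hχ₀N θ.2] at hχ₀
    by_contra h
    rw [if_neg h] at hχ₀
    exact hχ₀ rfl
  rw [← card_const N hsup hPab]
  symm
  apply Nat.card_congr
  refine Equiv.ofBijective (fun φ : {φ : IrrCharacter G //
      ∀ (n : N) (g : G), (φ : G → ℂ) ((n : G) * g) = (φ : G → ℂ) g} =>
    (⟨⟨((φ : IrrCharacter G) : G → ℂ) * (χ₀ : G → ℂ),
      isIrrCharacter_mul_ext N χ₀.2 hχ₀N φ.1.2 φ.2⟩, ?_⟩ :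
      {χ : IrrCharacter G // χ ∈ B ∧ ∀ n : N, (χ : G → ℂ) n = (θ : N → ℂ) n})) ⟨?_, ?_⟩
  · have hlin := linear_of_const N hsup hPab φ.1 φ.2
    have hr : ∀ n : N, (((φ : IrrCharacter G) : G → ℂ) * (χ₀ : G → ℂ)) n = (θ : N → ℂ) n := by
      intro n
      have h1 := φ.2 n 1
      rw [mul_one] at h1
      rw [Pi.mul_apply, h1, hlin, one_mul]
      exact congrFun hres n
    refine ⟨?_, hr⟩
    refine mem_of_over hM N hNi hb hB hcov hθ ?_
    have e : (fun n : N => (((φ : IrrCharacter G) : G → ℂ) * (χ₀ : G → ℂ)) n) = (θ : N → ℂ) :=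
      funext hr
    show classInner (fun n : N => (((φ : IrrCharacter G) : G → ℂ) * (χ₀ : G → ℂ)) n)
      (θ : N → ℂ) ≠ 0
    rw [e, classInner_irr θ.2 θ.2, if_pos rfl]
    exact one_ne_zero
  · intro φ φ' h
    apply Subtype.ext
    apply Subtype.ext
    have h1 : ((φ : IrrCharacter G) : G → ℂ) * (χ₀ : G → ℂ) =
        ((φ' : IrrCharacter G) : G → ℂ) * (χ₀ : G → ℂ) :=
      congrArg (fun χ : {χ : IrrCharacter G // χ ∈ B ∧
        ∀ n : N, (χ : G → ℂ) n = (θ : N → ℂ) n} => ((χ : IrrCharacter G) : G → ℂ)) h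
    exact mul_ext_injective N χ₀.2 hχ₀N φ.1.2 φ.2 φ'.1.2 φ'.2 h1
  · rintro ⟨χ, hχB, hχθ⟩
    have hne : classInner (fun n : N => (χ : G → ℂ) n) (fun n : N => (χ₀ : G → ℂ) n) ≠ 0 := by
      have e : (fun n : N => (χ : G → ℂ) n) = (θ : N → ℂ) := funext hχθ
      rw [e, hres, classInner_irr θ.2 θ.2, if_pos rfl]
      exact one_ne_zero
    obtain ⟨φ, hφ, hφN, hχφ, -⟩ := exists_mul_ext N χ₀.2 hχ₀N χ.2 hne
    refine ⟨⟨⟨φ, hφ⟩, hφN⟩, ?_⟩
    apply Subtype.ext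
    apply Subtype.ext
    exact hχφ.symm

end Cfsg.Agent.Lib.Helper52.AbD
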