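import Cfsg.Agent.Lib.Helper52.AbD

/-!
# Character count and `p`-regular rank over a stable block of a normal subgroup of `p`-power index,
abelian defect groups (helper52)
-/

set_option autoImplicit false

universe u

namespace Cfsg.Agent.Lib.Helper52.AbE

open Cfsg Cfsg.Agent.Lib.Helper81 Cfsg.Agent.Lib.Helper77 Cfsg.Agent.Lib.Helper80
  Cfsg.Agent.Lib.Helper3 Cfsg.Agent.Lib.Helper15
open Cfsg.Agent.Lib.Helper52.AbC Cfsg.Agent.Lib.Helper52.AbD
open scoped ComplexConjugate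

variable {G : Type u} [Group G] [Fintype G] {p : ℕ} [Fact p.Prime] {M : Ideal AlgInt}

/-- the restriction of a member of `B` is a member of `b` -/
theorem exists_restrict (hM : IsPModular p M) (N : Subgroup G) [N.Normal] [Fintype N]
    (hNi : ∃ k : ℕ, N.index = p ^ k) {b : Set (IrrCharacter N)} (hb : IsPBlock M b)
    (hst : ∀ g : G, ∀ θ ∈ b, conjIrr N g θ ∈ b)
    {B : Set (IrrCharacter G)} (hB : IsPBlock M B)
    (hcov : ∃ χ ∈ B, ∃ θ ∈ b, classInner (fun n : N => (χ : G → ℂ) n) (θ : N → ℂ) ≠ 0)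
    {P : Subgroup G} (hPD : IsDefectGroup p M B P) (hPab : ∀ x ∈ P, ∀ y ∈ P, x * y = y * x)
    (hsup : N ⊔ P = ⊤) (χ : IrrCharacter G) (hχ : χ ∈ B) :
    ∃ θ ∈ b, ∀ n : N, (χ : G → ℂ) n = (θ : N → ℂ) n := by
  have hirr := isIrrCharacter_restrict hM N hNi hB hPD hPab hsup χ hχ
  refine ⟨⟨_, hirr⟩, ?_, fun n => rfl⟩
  refine mem_of_constituent_of_cover hM N hb hst hB hcov hχ ?_
  show classInner (fun n : N => (χ : G → ℂ) n) (fun n : N => (χ : G → ℂ) n) ≠ 0
  rw [classInner_irr hirr hirr, if_pos rfl]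
  exact one_ne_zero

open Classical in
/-- **The number of characters.** -/
theorem card_block (hM : IsPModular p M) (N : Subgroup G) [N.Normal] [Fintype N]
    (hNi : ∃ k : ℕ, N.index = p ^ k) {b : Set (IrrCharacter N)} (hb : IsPBlock M b)
    (hst : ∀ g : G, ∀ θ ∈ b, conjIrr N g θ ∈ b)
    {B : Set (IrrCharacter G)} (hB : IsPBlock M B)
    (hcov : ∃ χ ∈ B, ∃ θ ∈ b, classInner (fun n : N => (χ : G → ℂ) n) (θ : N → ℂ) ≠ 0)
    {P : Subgroup G} (hPD : IsDefectGroup p M B P) (hPab : ∀ x ∈ P, ∀ y ∈ P, x * y = y * x)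
    (hsup : N ⊔ P = ⊤) : Nat.card B = N.index * Nat.card b := by
  have := Fintype.ofFinite (IrrCharacter G)
  have := Fintype.ofFinite (IrrCharacter N)
  have hex := fun χ : B => exists_restrict hM N hNi hb hst hB hcov hPD hPab hsup χ.1 χ.2
  choose r hrb hr using hex
  let ρ : B → b := fun χ => ⟨r χ, hrb χ⟩
  have h1 : Nat.card B = Nat.card (Σ θ : b, {χ : B // ρ χ = θ}) :=
    Nat.card_congr (Equiv.sigmaFiberEquiv ρ).symm
  rw [h1, Nat.card_sigma]
  have h2 : ∀ θ : b, Nat.card {χ : B // ρ χ = θ} = N.index := by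
    intro θ
    rw [← card_fiber hM N hNi hb hB hcov hPD hPab hsup θ.1 θ.2]
    apply Nat.card_congr
    refine ⟨fun χ => ⟨χ.1.1, χ.1.2, fun n => ?_⟩, fun χ => ⟨⟨χ.1, χ.2.1⟩, ?_⟩, fun χ => rfl,
      fun χ => rfl⟩
    · rw [hr χ.1 n]
      have := congrArg (fun θ' : b => ((θ' : IrrCharacter N) : N → ℂ) n) χ.2
      exact this
    · apply Subtype.ext
      apply Subtype.ext
      funext n
      show ((r ⟨χ.1, χ.2.1⟩ : IrrCharacter N) : N → ℂ) n = _
      rw [← hr ⟨χ.1, χ.2.1⟩ n]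
      exact χ.2.2 n
  rw [Finset.sum_congr rfl fun θ _ => h2 θ, Finset.sum_const, Finset.card_univ, smul_eq_mul,
    mul_comm, Nat.card_eq_fintype_card]

open Classical in
/-- extension by zero, as a linear map -/
noncomputable def extZero (N : Subgroup G) : (N → ℂ) →ₗ[ℂ] (G → ℂ) where
  toFun f := fun g => if h : g ∈ N then f ⟨g, h⟩ else 0
  map_add' f f' := by
    funext g
    by_cases h : g ∈ N <;> simp [h]
  map_smul' c f := by
    funext g
    by_cases h : g ∈ N <;> simp [h]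

open Classical in
omit [Fintype G] in
theorem extZero_apply_mem (N : Subgroup G) (f : N → ℂ) {g : G} (h : g ∈ N) :
    extZero N f g = f ⟨g, h⟩ := by
  show (if h : g ∈ N then f ⟨g, h⟩ else 0) = _
  rw [dif_pos h]

open Classical in
omit [Fintype G] in
theorem extZero_apply_not_mem (N : Subgroup G) (f : N → ℂ) {g : G} (h : g ∉ N) :
    extZero N f g = 0 := by
  show (if h : g ∈ N then f ⟨g, h⟩ else 0) = _
  rw [dif_neg h]

omit [Fintype G] in
theorem extZero_injective (N : Subgroup G) : Function.Injective (extZero N) := by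
  intro f f' h
  funext n
  have := congrFun h (n : G)
  rw [extZero_apply_mem N f n.2, extZero_apply_mem N f' n.2] at this
  exact this

omit [Fact p.Prime] in
theorem extZero_pRegularPart (N : Subgroup G) [N.Normal] (hp : p.Prime)
    (hNi : ∃ k : ℕ, N.index = p ^ k)
    (χ : IrrCharacter G) (θ : IrrCharacter N) (h : ∀ n : N, (χ : G → ℂ) n = (θ : N → ℂ) n) :
    extZero N (pRegularPart p (θ : N → ℂ)) = pRegularPart p (χ : G → ℂ) := by
  classical
  funext g
  rw [Cfsg.Agent.Lib.Helper77.pRegularPart_apply]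
  by_cases hg : g ∈ N
  · rw [extZero_apply_mem N _ hg, Cfsg.Agent.Lib.Helper77.pRegularPart_apply, Subgroup.orderOf_mk,
      ← h ⟨g, hg⟩]
  · rw [extZero_apply_not_mem N _ hg]
    have hdvd : p ∣ orderOf g := by
      by_contra hnd
      apply hg
      apply Cfsg.Agent.Lib.Helper81.Nse.mem_of_coprime_index N
      obtain ⟨k, hk⟩ := hNi
      rw [hk]
      exact Nat.Coprime.pow_right k ((Nat.Prime.coprime_iff_not_dvd hp).mpr hnd).symm
    rw [if_neg (fun h => h hdvd)]

/-- **The `p`-regular ranks agree.** -/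
theorem blockRank_eq (hM : IsPModular p M) (N : Subgroup G) [N.Normal] [Fintype N]
    (hNi : ∃ k : ℕ, N.index = p ^ k) {b : Set (IrrCharacter N)} (hb : IsPBlock M b)
    (hst : ∀ g : G, ∀ θ ∈ b, conjIrr N g θ ∈ b)
    {B : Set (IrrCharacter G)} (hB : IsPBlock M B)
    (hcov : ∃ χ ∈ B, ∃ θ ∈ b, classInner (fun n : N => (χ : G → ℂ) n) (θ : N → ℂ) ≠ 0)
    {P : Subgroup G} (hPD : IsDefectGroup p M B P) (hPab : ∀ x ∈ P, ∀ y ∈ P, x * y = y * x)
    (hsup : N ⊔ P = ⊤) : blockRank p B = blockRank p b := by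
  have hp : p.Prime := Fact.out
  unfold blockRank
  have himg : (fun χ : IrrCharacter G => pRegularPart p (χ : G → ℂ)) '' B =
      extZero N '' ((fun θ : IrrCharacter N => pRegularPart p (θ : N → ℂ)) '' b) := by
    ext f
    constructor
    · rintro ⟨χ, hχ, rfl⟩
      obtain ⟨θ, hθ, hres⟩ := exists_restrict hM N hNi hb hst hB hcov hPD hPab hsup χ hχ
      exact ⟨_, ⟨θ, hθ, rfl⟩, extZero_pRegularPart N hp hNi χ θ hres⟩
    · rintro ⟨_, ⟨θ, hθ, rfl⟩, rfl⟩
      have hcard := card_fiber hM N hNi hb hB hcov hPD hPab hsup θ hθ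
      have hne : Nat.card {χ : IrrCharacter G // χ ∈ B ∧
          ∀ n : N, (χ : G → ℂ) n = (θ : N → ℂ) n} ≠ 0 := by
        rw [hcard]
        obtain ⟨k, hk⟩ := hNi
        rw [hk]
        exact (pow_pos hp.pos k).ne'
      obtain ⟨⟨χ, hχB, hres⟩⟩ := (Nat.card_ne_zero.mp hne).1
      exact ⟨χ, hχB, (extZero_pRegularPart N hp hNi χ θ hres).symm⟩
  rw [himg, ← Submodule.map_span]
  exact (LinearEquiv.finrank_eq
    (Submodule.equivMapOfInjective (extZero N) (extZero_injective N) _)).symm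

end Cfsg.Agent.Lib.Helper52.AbE
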