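import Mathlib

set_option autoImplicit false

/-!
# Carmichael's presentation of the alternating group

Abstract coset enumeration lemma, the presented group `P m`, the homomorphism onto
`alternatingGroup (Fin (m+2))`, and the resulting isomorphism.
-/

namespace Cfsg.Agent.Lib.Helper52.AltPres

section Abstract

variable {G : Type*} [Group G]

/-- coset representatives: `Y 0 = 1`, `Y (j+1) = Y j * y (min j m)` -/
def Yrep (y : ℕ → G) (m : ℕ) : ℕ → G
  | 0 => 1
  | (j+1) => Yrep y m j * y (min j m)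

/-- The relations, in the reversed indexing `y t = x (m - t)`. -/
structure Sys (y : ℕ → G) (m : ℕ) : Prop where
  cube : y m ^ 3 = 1
  sq : ∀ t, t < m → y t * y t = 1
  r2 : ∀ t, t + 1 ≤ m → (y (t+1) * y t) ^ 3 = 1
  r3 : ∀ s t, s + 1 < t → t ≤ m → (y t * y s) ^ 2 = 1

variable {y : ℕ → G} {m : ℕ}

lemma Yrep_zero : Yrep y m 0 = 1 := rfl

lemma Yrep_succ_le {j : ℕ} (hj : j ≤ m) : Yrep y m (j+1) = Yrep y m j * y j := by
  show Yrep y m j * y (min j m) = _
  rw [min_eq_left hj]

lemma Yrep_last : Yrep y m (m+2) = Yrep y m (m+1) * y m := by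
  show Yrep y m (m+1) * y (min (m+1) m) = _
  rw [min_eq_right (Nat.le_succ m)]

namespace Sys

variable (S : Sys y m)
include S

lemma inv {t : ℕ} (ht : t < m) : (y t)⁻¹ = y t :=
  inv_eq_of_mul_eq_one_right (S.sq t ht)

lemma inv_last : (y m)⁻¹ = y m * y m := by
  apply inv_eq_of_mul_eq_one_right
  have := S.cube
  rw [pow_succ, pow_two] at this
  rw [← mul_assoc]; exact this

lemma comm {s t : ℕ} (hst : s + 1 < t) (ht : t < m) : y s * y t = y t * y s := by
  have h := S.r3 s t hst ht.le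
  rw [pow_two] at h
  have h1 : (y t * y s)⁻¹ = y t * y s := inv_eq_of_mul_eq_one_right h
  rw [mul_inv_rev, S.inv ht, S.inv (show s < m by omega)] at h1
  exact h1

/-- `y m * y s = y s * (y m)⁻¹` for `s + 1 < m`. -/
lemma semi {s : ℕ} (hs : s + 1 < m) : y m * y s = y s * (y m)⁻¹ := by
  have h := S.r3 s m hs le_rfl
  rw [pow_two] at h
  have h1 : (y m * y s)⁻¹ = y m * y s := inv_eq_of_mul_eq_one_right h
  rw [mul_inv_rev, S.inv (show s < m by omega)] at h1
  exact h1.symm

lemma semiconj {s : ℕ} (hs : s + 1 < m) : SemiconjBy (y s) (y m)⁻¹ (y m) :=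
  (S.semi hs).symm

lemma semiconj' {s : ℕ} (hs : s + 1 < m) : SemiconjBy (y s) (y m) (y m)⁻¹ := by
  have := (S.semiconj hs).inv_right
  rwa [inv_inv] at this

lemma braid {t : ℕ} (ht : t + 1 < m) :
    y t * y (t+1) * y t = y (t+1) * y t * y (t+1) := by
  have h := S.r2 t ht.le
  have h1 : (y (t+1) * y t * y (t+1)) * (y t * y (t+1) * y t) = 1 := by
    rw [← h, pow_succ, pow_two]; group
  have h2 := inv_eq_of_mul_eq_one_right h1
  rw [mul_inv_rev, mul_inv_rev, S.inv ht, S.inv (show t < m by omega), ← mul_assoc] at h2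
  exact h2.symm

/-- `b a b = a⁻¹ b a⁻¹` for `a = y m`, `b = y t`, `t + 1 = m`. -/
lemma braid0 {t : ℕ} (ht : t + 1 = m) :
    y t * y m * y t = (y m)⁻¹ * y t * (y m)⁻¹ := by
  have h := S.r2 t ht.le
  rw [ht] at h
  have h1 : (y m * y t * y m) * (y t * y m * y t) = 1 := by
    rw [← h, pow_succ, pow_two]; group
  have h2 := inv_eq_of_mul_eq_one_right h1
  rw [mul_inv_rev, mul_inv_rev, S.inv (show t < m by omega), ← mul_assoc] at h2
  exact h2.symm

/-- `Y j` commutes with `y t` for `j < t < m`. -/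
lemma commY {t : ℕ} (ht : t < m) : ∀ j, j < t → Commute (Yrep y m j) (y t)
  | 0, _ => Commute.one_left _
  | (j+1), hj => by
    rw [Yrep_succ_le (by omega)]
    exact (commY ht j (by omega)).mul_left (S.comm (by omega) ht)

/-- `Y j` semiconjugates `y m` to `y m` or its inverse, for `j < m`. -/
lemma semiY : ∀ j, j < m →
    SemiconjBy (Yrep y m j) (y m) (y m) ∨ SemiconjBy (Yrep y m j) (y m) (y m)⁻¹
  | 0, _ => Or.inl (SemiconjBy.one_left _)
  | (j+1), hj => by
    rw [Yrep_succ_le (by omega)]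
    rcases semiY j (by omega) with h | h
    · right
      exact (h.inv_right).mul_left (S.semiconj' hj)
    · left
      have h' := h.inv_right
      rw [inv_inv] at h'
      exact h'.mul_left (S.semiconj' hj)

variable {H : Subgroup G} (hH : ∀ t, 1 ≤ t → t ≤ m → y t ∈ H)
include hH

lemma semiY_mem {j : ℕ} (hj : j < m) :
    (∃ h ∈ H, Yrep y m j * y m = h * Yrep y m j) ∧
    (∃ h ∈ H, Yrep y m j * (y m)⁻¹ = h * Yrep y m j) := by
  have hm : y m ∈ H := hH m (by omega) le_rfl
  rcases S.semiY j hj with h | h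
  · exact ⟨⟨y m, hm, h⟩, ⟨(y m)⁻¹, H.inv_mem hm, h.inv_right⟩⟩
  · refine ⟨⟨(y m)⁻¹, H.inv_mem hm, h⟩, ⟨y m, hm, ?_⟩⟩
    have := h.inv_right
    rwa [inv_inv] at this

omit hH in
/-- Case A: `Y j * y t = y (t+1) * Y j` for `t + 1 < j ≤ m`. -/
lemma caseA {t : ℕ} : ∀ j, t + 2 ≤ j → j ≤ m → Yrep y m j * y t = y (t+1) * Yrep y m j := by
  intro j hj
  induction j, hj using Nat.le_induction with
  | base =>
    intro hm
    rw [Yrep_succ_le (show t + 1 ≤ m by omega), Yrep_succ_le (show t ≤ m by omega)]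
    have hb := S.braid (show t + 1 < m by omega)
    have hc := (S.commY (show t + 1 < m by omega) t (by omega)).eq
    calc Yrep y m t * y t * y (t+1) * y t = Yrep y m t * (y t * y (t+1) * y t) := by group
      _ = Yrep y m t * (y (t+1) * y t * y (t+1)) := by rw [hb]
      _ = (Yrep y m t * y (t+1)) * y t * y (t+1) := by group
      _ = y (t+1) * (Yrep y m t * y t * y (t+1)) := by rw [hc]; group
  | succ j hj ih =>
    intro hm
    rw [Yrep_succ_le (show j ≤ m by omega)]
    have hc := S.comm (show t + 1 < j by omega) (show j < m by omega)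
    calc Yrep y m j * y j * y t = Yrep y m j * (y j * y t) := by group
      _ = Yrep y m j * y t * y j := by rw [← hc]; group
      _ = y (t+1) * (Yrep y m j * y j) := by rw [ih (by omega)]; group

/-- The set of elements lying in one of the cosets `H * Y j`. -/
def InS (y : ℕ → G) (m : ℕ) (H : Subgroup G) (g : G) : Prop :=
  ∃ j, j ≤ m + 2 ∧ ∃ h ∈ H, g = h * Yrep y m j

/-- Step for `j = m + 1`, `t < m`: lands in `Y (m+2)`. -/
lemma step_m1 {t : ℕ} (ht : t < m) : ∃ h ∈ H, Yrep y m (m+1) * y t = h * Yrep y m (m+2) := by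
  have hY2 : Yrep y m (m+2) = Yrep y m m * y m * y m := by
    rw [Yrep_last, Yrep_succ_le le_rfl]
  rw [Yrep_succ_le le_rfl]
  by_cases h1 : t + 1 = m
  · -- t = m - 1
    have hYm : Yrep y m m = Yrep y m t * y t := by
      rw [← Yrep_succ_le (show t ≤ m by omega), h1]
    obtain ⟨h, hh, he⟩ := (S.semiY_mem hH (show t < m by omega)).2
    refine ⟨h, hh, ?_⟩
    rw [hY2, hYm]
    calc Yrep y m t * y t * y m * y t = Yrep y m t * (y t * y m * y t) := by group
      _ = Yrep y m t * ((y m)⁻¹ * y t * (y m)⁻¹) := by rw [S.braid0 h1]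
      _ = (Yrep y m t * (y m)⁻¹) * y t * (y m)⁻¹ := by group
      _ = h * Yrep y m t * y t * (y m * y m) := by rw [he, S.inv_last]
      _ = h * (Yrep y m t * y t * y m * y m) := by group
  · have h2 : t + 1 < m := by omega
    refine ⟨y (t+1), hH (t+1) (by omega) (by omega), ?_⟩
    rw [hY2]
    calc Yrep y m m * y m * y t = Yrep y m m * (y m * y t) := by group
      _ = (Yrep y m m * y t) * (y m)⁻¹ := by rw [S.semi h2]; group
      _ = y (t+1) * Yrep y m m * (y m * y m) := by
          rw [S.caseA m (by omega) le_rfl, S.inv_last]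
      _ = y (t+1) * (Yrep y m m * y m * y m) := by group

lemma step {j t : ℕ} (hj : j ≤ m + 2) (ht : t ≤ m) : InS y m H (Yrep y m j * y t) := by
  by_cases hjm : j ≤ m
  · -- case (I)
    by_cases h1 : t + 2 ≤ j
    · exact ⟨j, hj, y (t+1), hH (t+1) (by omega) (by omega), S.caseA j h1 hjm⟩
    by_cases h2 : t + 1 = j
    · subst h2
      refine ⟨t, by omega, 1, H.one_mem, ?_⟩
      rw [Yrep_succ_le (by omega), mul_assoc, S.sq t (by omega), one_mul, mul_one]
    by_cases h3 : t = j
    · subst h3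
      refine ⟨t + 1, by omega, 1, H.one_mem, ?_⟩
      rw [Yrep_succ_le hjm, one_mul]
    have h4 : j < t := by omega
    by_cases h5 : t < m
    · exact ⟨j, hj, y t, hH t (by omega) ht, (S.commY h5 j h4).eq⟩
    · have h6 : t = m := by omega
      subst h6
      obtain ⟨h, hh, he⟩ := (S.semiY_mem hH h4).1
      exact ⟨j, hj, h, hh, he⟩
  by_cases hj1 : j = m + 1
  · subst hj1
    by_cases h1 : t = m
    · subst h1
      refine ⟨t + 2, le_rfl, 1, H.one_mem, ?_⟩
      rw [Yrep_last, one_mul]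
    · obtain ⟨h, hh, he⟩ := S.step_m1 hH (show t < m by omega)
      exact ⟨m + 2, le_rfl, h, hh, he⟩
  · have hj2 : j = m + 2 := by omega
    subst hj2
    by_cases h1 : t = m
    · subst h1
      refine ⟨t, by omega, 1, H.one_mem, ?_⟩
      rw [Yrep_last, Yrep_succ_le le_rfl, one_mul]
      have := S.cube
      calc Yrep y t t * y t * y t * y t = Yrep y t t * (y t ^ 3) := by
            rw [pow_succ, pow_two]; group
        _ = Yrep y t t := by rw [this, mul_one]
    · have htm : t < m := by omega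
      obtain ⟨h, hh, he⟩ := S.step_m1 hH htm
      refine ⟨m + 1, by omega, h⁻¹, H.inv_mem hh, ?_⟩
      have : Yrep y m (m+2) = h⁻¹ * (Yrep y m (m+1) * y t) := by rw [he]; group
      rw [this]
      calc h⁻¹ * (Yrep y m (m+1) * y t) * y t = h⁻¹ * Yrep y m (m+1) * (y t * y t) := by group
        _ = h⁻¹ * Yrep y m (m+1) := by rw [S.sq t htm, mul_one]

lemma InS_mul {g : G} (hg : InS y m H g) {t : ℕ} (ht : t ≤ m) : InS y m H (g * y t) := by
  obtain ⟨j, hj, h, hh, rfl⟩ := hg
  obtain ⟨j', hj', h', hh', he⟩ := S.step hH hj ht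
  refine ⟨j', hj', h * h', H.mul_mem hh hh', ?_⟩
  rw [mul_assoc, he, mul_assoc]

theorem mem_InS (g : G) (hg : g ∈ Subgroup.closure (Set.range (fun t : Fin (m+1) => y t))) :
    InS y m H g := by
  induction hg using Subgroup.closure_induction_right with
  | one => exact ⟨0, by omega, 1, H.one_mem, by simp [Yrep_zero]⟩
  | mul_right x _ z hz ih =>
    obtain ⟨t, rfl⟩ := hz
    exact S.InS_mul hH ih (by have := t.isLt; omega)
  | mul_inv_cancel x _ z hz ih =>
    obtain ⟨t, rfl⟩ := hz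
    have htm : t.val ≤ m := by have := t.isLt; omega
    by_cases h : t.val < m
    · show InS y m H (x * (y t.val)⁻¹)
      rw [S.inv h]
      exact S.InS_mul hH ih htm
    · have : t.val = m := by omega
      show InS y m H (x * (y t.val)⁻¹)
      rw [this, S.inv_last, ← mul_assoc]
      exact S.InS_mul hH (S.InS_mul hH ih le_rfl) le_rfl

end Sys

end Abstract

section Presented

/-- The Carmichael relators on `m` generators. -/
def rels (m : ℕ) : Set (FreeGroup (Fin m)) :=
  {g : FreeGroup (Fin m) | ∃ i : Fin m, i.val = 0 ∧ g = FreeGroup.of i ^ 3} ∪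
  {g | ∃ i : Fin m, 1 ≤ i.val ∧ g = FreeGroup.of i ^ 2} ∪
  {g | ∃ i j : Fin m, j.val = i.val + 1 ∧ g = (FreeGroup.of i * FreeGroup.of j) ^ 3} ∪
  {g | ∃ i j : Fin m, i.val + 1 < j.val ∧ g = (FreeGroup.of i * FreeGroup.of j) ^ 2}

/-- The presented group. -/
abbrev P (m : ℕ) := PresentedGroup (rels m)

/-- `ℕ`-indexed generators (trivial out of range). -/
def X (m : ℕ) (i : ℕ) : P m := if h : i < m then PresentedGroup.of ⟨i, h⟩ else 1

lemma X_of {m i : ℕ} (h : i < m) : X m i = PresentedGroup.of ⟨i, h⟩ := by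
  simp [X, h]

lemma X_cube (m : ℕ) : X m 0 ^ 3 = 1 := by
  by_cases h : 0 < m
  · rw [X_of h]
    exact PresentedGroup.one_of_mem (rels := rels m) (x := FreeGroup.of ⟨0, h⟩ ^ 3)
      (Or.inl (Or.inl (Or.inl ⟨⟨0, h⟩, rfl, rfl⟩)))
  · simp [X, h]

lemma X_sq (m : ℕ) {i : ℕ} (hi : 1 ≤ i) : X m i ^ 2 = 1 := by
  by_cases h : i < m
  · rw [X_of h]
    exact PresentedGroup.one_of_mem (rels := rels m) (x := FreeGroup.of ⟨i, h⟩ ^ 2)
      (Or.inl (Or.inl (Or.inr ⟨⟨i, h⟩, hi, rfl⟩)))
  · simp [X, h]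

lemma X_r2 (m : ℕ) {i : ℕ} (hi : i + 1 < m) : (X m i * X m (i+1)) ^ 3 = 1 := by
  rw [X_of hi, X_of (show i < m by omega)]
  exact PresentedGroup.one_of_mem (rels := rels m)
    (x := (FreeGroup.of ⟨i, by omega⟩ * FreeGroup.of ⟨i+1, hi⟩) ^ 3)
    (Or.inl (Or.inr ⟨⟨i, by omega⟩, ⟨i+1, hi⟩, rfl, rfl⟩))

lemma X_r3 (m : ℕ) {i j : ℕ} (hij : i + 1 < j) (hj : j < m) : (X m i * X m j) ^ 2 = 1 := by
  rw [X_of hj, X_of (show i < m by omega)]
  exact PresentedGroup.one_of_mem (rels := rels m)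
    (x := (FreeGroup.of ⟨i, by omega⟩ * FreeGroup.of ⟨j, hj⟩) ^ 2)
    (Or.inr ⟨⟨i, by omega⟩, ⟨j, hj⟩, hij, rfl⟩)

/-- Universal property, `ℕ`-indexed. -/
def liftP {G' : Type*} [Group G'] (m : ℕ) (f : ℕ → G')
    (h0 : 0 < m → f 0 ^ 3 = 1)
    (h1 : ∀ i, 1 ≤ i → i < m → f i ^ 2 = 1)
    (h2 : ∀ i, i + 1 < m → (f i * f (i+1)) ^ 3 = 1)
    (h3 : ∀ i j, i + 1 < j → j < m → (f i * f j) ^ 2 = 1) : P m →* G' :=
  PresentedGroup.toGroup (f := fun i : Fin m => f i.val) (by
    intro r hr
    rcases hr with ((⟨i, hi, rfl⟩ | ⟨i, hi, rfl⟩) | ⟨i, j, hij, rfl⟩) | ⟨i, j, hij, rfl⟩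
    · rw [map_pow, FreeGroup.lift_apply_of, hi]
      exact h0 (by have := i.isLt; omega)
    · rw [map_pow, FreeGroup.lift_apply_of]
      exact h1 _ hi i.isLt
    · rw [map_pow, map_mul, FreeGroup.lift_apply_of, FreeGroup.lift_apply_of, hij]
      exact h2 _ (by have := j.isLt; omega)
    · rw [map_pow, map_mul, FreeGroup.lift_apply_of, FreeGroup.lift_apply_of]
      exact h3 _ _ hij j.isLt)

lemma liftP_X {G' : Type*} [Group G'] (m : ℕ) (f : ℕ → G') (h0 h1 h2 h3) {i : ℕ} (hi : i < m) :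
    liftP m f h0 h1 h2 h3 (X m i) = f i := by
  rw [X_of hi]
  exact PresentedGroup.toGroup.of _

/-- The inclusion `P m → P (m+1)`. -/
def iota (m : ℕ) : P m →* P (m+1) :=
  liftP m (X (m+1)) (fun _ => X_cube _) (fun _ hi _ => X_sq _ hi)
    (fun _ hi => X_r2 _ (by omega)) (fun _ _ hij hj => X_r3 _ hij (by omega))

lemma iota_X (m : ℕ) {i : ℕ} (hi : i < m) : iota m (X m i) = X (m+1) i :=
  liftP_X _ _ _ _ _ _ hi

/-- The reversed generators of `P (m+1)`. -/
def yrev (m : ℕ) (t : ℕ) : P (m+1) := X (m+1) (m - t)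

lemma sys_yrev (m : ℕ) : Sys (yrev m) m where
  cube := by
    show X (m+1) (m - m) ^ 3 = 1
    rw [Nat.sub_self]; exact X_cube _
  sq := by
    intro t ht
    show X (m+1) (m - t) * X (m+1) (m - t) = 1
    rw [← pow_two]; exact X_sq _ (by omega)
  r2 := by
    intro t ht
    show (X (m+1) (m - (t+1)) * X (m+1) (m - t)) ^ 3 = 1
    have : m - t = (m - (t+1)) + 1 := by omega
    rw [this]
    exact X_r2 _ (by omega)
  r3 := by
    intro s t hst ht
    show (X (m+1) (m - t) * X (m+1) (m - s)) ^ 2 = 1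
    exact X_r3 _ (by omega) (by omega)

lemma yrev_mem_range (m : ℕ) (t : ℕ) (h1 : 1 ≤ t) (_h2 : t ≤ m) : yrev m t ∈ (iota m).range :=
  ⟨X m (m - t), iota_X m (by omega)⟩

lemma closure_yrev (m : ℕ) :
    Subgroup.closure (Set.range (fun t : Fin (m+1) => yrev m t)) = ⊤ := by
  rw [eq_top_iff, ← PresentedGroup.closure_range_of (rels (m+1))]
  apply Subgroup.closure_mono
  rintro _ ⟨i, rfl⟩
  refine ⟨⟨m - i.val, by omega⟩, ?_⟩
  show X (m+1) (m - (m - i.val)) = _
  have : m - (m - i.val) = i.val := by have := i.isLt; omega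
  rw [this, X_of i.isLt]

/-- The coset enumeration map. -/
def cosetMap (m : ℕ) : P m × Fin (m+3) → P (m+1) :=
  fun q => iota m q.1 * Yrep (yrev m) m q.2.val

lemma cosetMap_surjective (m : ℕ) : Function.Surjective (cosetMap m) := by
  intro g
  have hg : g ∈ Subgroup.closure (Set.range (fun t : Fin (m+1) => yrev m t)) := by
    rw [closure_yrev]; trivial
  obtain ⟨j, hj, h, ⟨p, rfl⟩, rfl⟩ := (sys_yrev m).mem_InS (yrev_mem_range m) g hg
  exact ⟨(p, ⟨j, by omega⟩), rfl⟩

theorem card_bound : ∀ m : ℕ, Finite (P m) ∧ 2 * Nat.card (P m) ≤ (m+2).factorial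
  | 0 => by
    have hs : Subsingleton (P 0) := by
      refine ⟨fun a b => ?_⟩
      obtain ⟨a', rfl⟩ := PresentedGroup.mk_surjective (rels 0) a
      obtain ⟨b', rfl⟩ := PresentedGroup.mk_surjective (rels 0) b
      rw [Subsingleton.elim a' b']
    refine ⟨inferInstance, ?_⟩
    rw [Nat.card_unique]
    decide
  | (m+1) => by
    obtain ⟨hfin, hcard⟩ := card_bound m
    have hfin' : Finite (P (m+1)) := Finite.of_surjective _ (cosetMap_surjective m)
    refine ⟨hfin', ?_⟩
    have h1 : Nat.card (P (m+1)) ≤ Nat.card (P m × Fin (m+3)) :=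
      Nat.card_le_card_of_surjective _ (cosetMap_surjective m)
    rw [Nat.card_prod, Nat.card_fin] at h1
    have h2 : (m+1+2).factorial = (m+3) * (m+2).factorial := Nat.factorial_succ (m+2)
    rw [h2]
    calc 2 * Nat.card (P (m+1)) ≤ 2 * (Nat.card (P m) * (m+3)) := Nat.mul_le_mul_left _ h1
      _ = (m+3) * (2 * Nat.card (P m)) := by ring
      _ ≤ (m+3) * (m+2).factorial := Nat.mul_le_mul_left _ hcard

end Presented

section PermSide

open Equiv

variable {α : Type*} [DecidableEq α]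

lemma swap_swap_cube [Fintype α] {a b c : α} (ab : a ≠ b) (ac : a ≠ c) (bc : b ≠ c) :
    (swap a b * swap b c) ^ 3 = 1 := by
  have h := Equiv.Perm.isThreeCycle_swap_mul_swap_same (a := b) (b := a) (c := c) ab.symm bc ac
  rw [swap_comm a b, ← h.orderOf]
  exact pow_orderOf_eq_one _

lemma swap_swap_sq {a b c d : α} (h : [a, b, c, d].Nodup) :
    (swap a b * swap c d) ^ 2 = 1 := by
  have hc : Commute (swap a b) (swap c d) := (Equiv.Perm.disjoint_swap_swap h).commute
  rw [hc.mul_pow, pow_two, pow_two, swap_mul_self, swap_mul_self, one_mul]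

lemma swap_conj_swap {a b c : α} (_ab : a ≠ b) (ac : a ≠ c) (bc : b ≠ c) :
    swap a b * swap b c * swap a b = swap a c := by
  have := Equiv.swap_mul_swap_mul_swap (x := c) (y := b) (z := a) bc.symm ac.symm
  rw [swap_comm b a, swap_comm c b] at this
  exact this

/-- points of `Fin (m+2)` indexed by `ℕ` (clamped). -/
def pt (m j : ℕ) : Fin (m+2) := ⟨min j (m+1), by omega⟩

lemma pt_ne {m j k : ℕ} (hj : j ≤ m + 1) (hk : k ≤ m + 1) (h : j ≠ k) : pt m j ≠ pt m k := by
  intro e
  have := congrArg Fin.val e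
  simp only [pt] at this
  omega

/-- adjacent transpositions -/
def sw (m j : ℕ) : Perm (Fin (m+2)) := swap (pt m j) (pt m (j+1))

lemma sw_mul_self (m j : ℕ) : sw m j * sw m j = 1 := swap_mul_self _ _

lemma sw_comm {m j k : ℕ} (hjk : j + 1 < k) (hk : k ≤ m) : sw m j * sw m k = sw m k * sw m j := by
  have : Equiv.Perm.Disjoint (sw m j) (sw m k) := by
    apply Equiv.Perm.disjoint_swap_swap
    simp only [List.nodup_cons, List.mem_cons, List.not_mem_nil, or_false, not_or, List.nodup_nil,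
      and_true, not_false_eq_true]
    refine ⟨⟨?_, ?_, ?_⟩, ⟨?_, ?_⟩, ?_⟩ <;> exact pt_ne (by omega) (by omega) (by omega)
  exact this.commute.eq

/-- image of the generator `x i` -/
def gim (m i : ℕ) : Perm (Fin (m+2)) := sw m 0 * sw m (i+1)

lemma gim_eq_of_pos {m i k : ℕ} (hi : 1 ≤ i) (hi' : i < m) :
    gim m i * (sw m 0 * sw m k) = sw m (i+1) * sw m k := by
  unfold gim
  rw [sw_comm (by omega) (by omega)]
  calc sw m (i+1) * sw m 0 * (sw m 0 * sw m k) = sw m (i+1) * (sw m 0 * sw m 0) * sw m k := by group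
    _ = sw m (i+1) * sw m k := by rw [sw_mul_self, mul_one]

lemma gim_zero_mul {m k : ℕ} (hm : 0 < m) :
    gim m 0 * (sw m 0 * sw m k) = swap (pt m 0) (pt m 2) * sw m k := by
  unfold gim
  have : sw m 0 * sw m (0+1) * sw m 0 = swap (pt m 0) (pt m 2) :=
    swap_conj_swap (a := pt m 0) (b := pt m 1) (c := pt m 2)
      (pt_ne (by omega) (by omega) (by omega))
      (pt_ne (by omega) (by omega) (by omega)) (pt_ne (by omega) (by omega) (by omega))
  rw [← this]; group

lemma gim_cube {m : ℕ} (hm : 0 < m) : gim m 0 ^ 3 = 1 :=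
  swap_swap_cube (pt_ne (by omega) (by omega) (by omega))
      (pt_ne (by omega) (by omega) (by omega)) (pt_ne (by omega) (by omega) (by omega))

lemma gim_sq {m i : ℕ} (hi : 1 ≤ i) (hi' : i < m) : gim m i ^ 2 = 1 := by
  apply swap_swap_sq
  simp only [List.nodup_cons, List.mem_cons, List.not_mem_nil, or_false, not_or, List.nodup_nil,
    and_true, not_false_eq_true]
  refine ⟨⟨?_, ?_, ?_⟩, ⟨?_, ?_⟩, ?_⟩ <;> exact pt_ne (by omega) (by omega) (by omega)

lemma gim_r2 {m i : ℕ} (hi : i + 1 < m) : (gim m i * gim m (i+1)) ^ 3 = 1 := by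
  rcases Nat.eq_zero_or_pos i with h0 | hpos
  · subst h0
    show (gim m 0 * (sw m 0 * sw m (0+1+1))) ^ 3 = 1
    rw [gim_zero_mul (by omega)]
    exact swap_swap_cube (pt_ne (by omega) (by omega) (by omega))
      (pt_ne (by omega) (by omega) (by omega)) (pt_ne (by omega) (by omega) (by omega))
  · show (gim m i * (sw m 0 * sw m (i+1+1))) ^ 3 = 1
    rw [gim_eq_of_pos hpos (by omega)]
    exact swap_swap_cube (pt_ne (by omega) (by omega) (by omega))
      (pt_ne (by omega) (by omega) (by omega)) (pt_ne (by omega) (by omega) (by omega))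

lemma gim_r3 {m i j : ℕ} (hij : i + 1 < j) (hj : j < m) : (gim m i * gim m j) ^ 2 = 1 := by
  rcases Nat.eq_zero_or_pos i with h0 | hpos
  · subst h0
    show (gim m 0 * (sw m 0 * sw m (j+1))) ^ 2 = 1
    rw [gim_zero_mul (by omega)]
    apply swap_swap_sq
    simp only [List.nodup_cons, List.mem_cons, List.not_mem_nil, or_false, not_or, List.nodup_nil,
      and_true, not_false_eq_true]
    refine ⟨⟨?_, ?_, ?_⟩, ⟨?_, ?_⟩, ?_⟩ <;> exact pt_ne (by omega) (by omega) (by omega)
  · show (gim m i * (sw m 0 * sw m (j+1))) ^ 2 = 1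
    rw [gim_eq_of_pos hpos (by omega)]
    apply swap_swap_sq
    simp only [List.nodup_cons, List.mem_cons, List.not_mem_nil, or_false, not_or, List.nodup_nil,
      and_true, not_false_eq_true]
    refine ⟨⟨?_, ?_, ?_⟩, ⟨?_, ?_⟩, ?_⟩ <;> exact pt_ne (by omega) (by omega) (by omega)

/-- the homomorphism to the symmetric group -/
def psi (m : ℕ) : P m →* Perm (Fin (m+2)) :=
  liftP m (gim m) (fun h => gim_cube h) (fun _ h1 h2 => gim_sq h1 h2)
    (fun _ h => gim_r2 h) (fun _ _ h1 h2 => gim_r3 h1 h2)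

lemma psi_X (m : ℕ) {i : ℕ} (hi : i < m) : psi m (X m i) = gim m i :=
  liftP_X _ _ _ _ _ _ hi

lemma sign_gim (m i : ℕ) (hi : i < m) : Equiv.Perm.sign (gim m i) = 1 := by
  unfold gim sw
  rw [map_mul, Equiv.Perm.sign_swap (pt_ne (by omega) (by omega) (by omega)),
    Equiv.Perm.sign_swap (pt_ne (by omega) (by omega) (by omega))]
  rfl

lemma sign_psi (m : ℕ) (p : P m) : Equiv.Perm.sign (psi m p) = 1 := by
  have : (Equiv.Perm.sign.comp (psi m)) = 1 := by
    apply PresentedGroup.ext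
    intro i
    show Equiv.Perm.sign (psi m (PresentedGroup.of i)) = 1
    rw [← X_of i.isLt, psi_X m i.isLt]
    exact sign_gim m i.val i.isLt
  exact DFunLike.congr_fun this p

lemma sw_mul_mem_range (m j : ℕ) (hj : j ≤ m) : sw m 0 * sw m j ∈ (psi m).range := by
  rcases Nat.eq_zero_or_pos j with h0 | hpos
  · subst h0
    rw [sw_mul_self]; exact one_mem _
  · refine ⟨X m (j-1), ?_⟩
    rw [psi_X m (by omega)]
    show sw m 0 * sw m (j - 1 + 1) = _
    rw [Nat.sub_add_cancel hpos]

lemma range_dichotomy (m : ℕ) (σ : Perm (Fin (m+2))) :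
    σ ∈ (psi m).range ∨ sw m 0 * σ ∈ (psi m).range := by
  have hσ : σ ∈ Submonoid.closure
      (Set.range fun i : Fin (m+1) ↦ swap i.castSucc i.succ) := by
    rw [Equiv.Perm.mclosure_swap_castSucc_succ (m+1)]; trivial
  induction hσ using Submonoid.closure_induction_left with
  | one => exact Or.inl (one_mem _)
  | mul_left x hx τ _ ih =>
    obtain ⟨i, rfl⟩ := hx
    have hs : swap i.castSucc i.succ = sw m i.val := by
      unfold sw
      congr 1
      · apply Fin.ext; simp only [pt, Fin.val_castSucc]; have := i.isLt; omega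
      · apply Fin.ext; simp only [pt, Fin.val_succ]; have := i.isLt; omega
    have hi : i.val ≤ m := by have := i.isLt; omega
    have h1 := sw_mul_mem_range m i.val hi
    beta_reduce
    rcases ih with h | h
    · right
      rw [hs, ← mul_assoc]
      exact mul_mem h1 h
    · left
      have h2 : sw m i.val * sw m 0 ∈ (psi m).range := by
        have := inv_mem h1
        rwa [mul_inv_rev, show (sw m 0)⁻¹ = sw m 0 from swap_inv _ _,
          show (sw m i.val)⁻¹ = sw m i.val from swap_inv _ _] at this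
      have : swap i.castSucc i.succ * τ = (sw m i.val * sw m 0) * (sw m 0 * τ) := by
        rw [hs]
        calc sw m i.val * τ = sw m i.val * 1 * τ := by rw [mul_one]
          _ = sw m i.val * (sw m 0 * sw m 0) * τ := by rw [sw_mul_self]
          _ = _ := by group
      rw [this]
      exact mul_mem h2 h

lemma mem_range_of_sign (m : ℕ) (σ : Perm (Fin (m+2))) (hσ : Equiv.Perm.sign σ = 1) :
    σ ∈ (psi m).range := by
  rcases range_dichotomy m σ with h | h
  · exact h
  · exfalso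
    obtain ⟨p, hp⟩ := h
    have h1 := sign_psi m p
    rw [hp, map_mul, hσ, mul_one] at h1
    unfold sw at h1
    rw [Equiv.Perm.sign_swap (pt_ne (by omega) (by omega) (by omega))] at h1
    exact absurd h1 (by decide)

/-- the homomorphism to the alternating group -/
def psiAlt (m : ℕ) : P m →* alternatingGroup (Fin (m+2)) :=
  (psi m).codRestrict (alternatingGroup (Fin (m+2)))
    (fun p => Equiv.Perm.mem_alternatingGroup.mpr (sign_psi m p))

lemma psiAlt_surjective (m : ℕ) : Function.Surjective (psiAlt m) := by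
  rintro ⟨σ, hσ⟩
  obtain ⟨p, hp⟩ := mem_range_of_sign m σ (Equiv.Perm.mem_alternatingGroup.mp hσ)
  exact ⟨p, Subtype.ext hp⟩

theorem psiAlt_bijective (m : ℕ) : Function.Bijective (psiAlt m) := by
  obtain ⟨hfin, hcard⟩ := card_bound m
  apply (psiAlt_surjective m).bijective_of_nat_card_le
  have h1 : 2 * Nat.card (alternatingGroup (Fin (m+2))) = (m+2).factorial := by
    rw [two_mul_nat_card_alternatingGroup, Nat.card_perm, Nat.card_fin]
  omega

/-- Carmichael's presentation. -/
noncomputable def presEquiv (m : ℕ) : P m ≃* alternatingGroup (Fin (m+2)) :=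
  MulEquiv.ofBijective (psiAlt m) (psiAlt_bijective m)

end PermSide

end Cfsg.Agent.Lib.Helper52.AltPres
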