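import Cfsg.Agent.Lib.Helper52.PairUp
import Cfsg.Agent.Lib.Helper77.FusB
import Cfsg.Agent.Lib.Helper77.LTransC
import Cfsg.Prelude.Def_BlockFusion

/-!
# The fusion system of a block on a maximal Brauer pair: construction
-/

set_option autoImplicit false

universe u

namespace Cfsg.Agent.Lib.Helper52.BlockFus

open Cfsg
open Cfsg.Agent.Lib.Helper81 Cfsg.Agent.Lib.Helper80
open Cfsg.Agent.Lib.Helper52.ConjPairs Cfsg.Agent.Lib.Helper52.Subpairs

variable {G : Type u} [Group G] [Fintype G] {p : ℕ} [Fact p.Prime] {M : Ideal AlgInt}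

omit [Fintype G] [Fact p.Prime] in
/-- The lower member of an inclusion of Brauer pairs is a Brauer pair. -/
theorem isBrauerPair_of_le {a c : BrauerPairIdx G} (hc : IsBrauerPair p M c.1 c.2)
    (ha : Relation.ReflTransGen (NormalSubpairRel p M) a c) : IsBrauerPair p M a.1 a.2 := by
  rcases Relation.ReflTransGen.cases_head ha with h | ⟨b, hab, -⟩
  · rw [h]
    exact hc
  · exact hab.1

/-- Two pairs below a pair with the same subgroup coincide. -/
theorem idx_eq_of_le (hpM : IsPModular p M) {a b c : BrauerPairIdx G}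
    (hc : IsBrauerPair p M c.1 c.2)
    (ha : Relation.ReflTransGen (NormalSubpairRel p M) a c)
    (hb : Relation.ReflTransGen (NormalSubpairRel p M) b c) (hab : a.1 = b.1) : a = b := by
  obtain ⟨A, fa⟩ := a
  obtain ⟨A', fb⟩ := b
  obtain ⟨C, fc⟩ := c
  have hab' : A = A' := hab
  subst hab'
  have := subpairLE_unique hpM _ C A fc fa fb rfl hc ha hb
  rw [this]

/-- Two pairs below a pair with nested subgroups are nested. -/
theorem le_of_le_of_le (hpM : IsPModular p M) {a b c : BrauerPairIdx G}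
    (hc : IsBrauerPair p M c.1 c.2)
    (ha : Relation.ReflTransGen (NormalSubpairRel p M) a c)
    (hb : Relation.ReflTransGen (NormalSubpairRel p M) b c) (hab : a.1 ≤ b.1) :
    Relation.ReflTransGen (NormalSubpairRel p M) a b := by
  have hbBP := isBrauerPair_of_le hc hb
  obtain ⟨f', -, hf'⟩ := exists_subpairLE hpM _ b.1 a.1 b.2 rfl hbBP hab
  have hf'' : Relation.ReflTransGen (NormalSubpairRel p M) (⟨a.1, f'⟩ : BrauerPairIdx G) b := hf'
  have heq : (⟨a.1, f'⟩ : BrauerPairIdx G) = a := idx_eq_of_le hpM hc (hf''.trans hb) ha rfl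
  rw [← heq]
  exact hf''

/-- The maps of the fusion system of the block on the maximal pair `(P, e)`. -/
def blockHom (p : ℕ) (M : Ideal AlgInt) (P : Subgroup G)
    (e : Set (IrrCharacter (Subgroup.centralizer (P : Set G)))) (Q : Subgroup G) :
    Set (Q →* G) :=
  {φ | Q ≤ P ∧ ∃ g : G, (∀ u : Q, φ u = g * (u : G) * g⁻¹) ∧
    Q.map (MulAut.conj g).toMonoidHom ≤ P ∧
    ∃ f : Set (IrrCharacter (Subgroup.centralizer (Q : Set G))),
      SubpairLE p M Q f P e ∧
        SubpairLE p M (Q.map (MulAut.conj g).toMonoidHom) (conjBlock Q g f) P e}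

/-- **The fusion system of a block.** -/
def blockFusionSystem (hpM : IsPModular p M) {P : Subgroup G}
    {e : Set (IrrCharacter (Subgroup.centralizer (P : Set G)))} (hPe : IsBrauerPair p M P e) :
    FusionSystem P where
  Hom := blockHom p M P e
  le_of_mem := by
    rintro Q φ ⟨hQP, g, hg, hgP, -⟩
    refine ⟨hQP, fun x => ?_⟩
    rw [hg]
    exact hgP ⟨x, x.2, rfl⟩
  injective_of_mem := by
    rintro Q φ ⟨-, g, hg, -⟩ a b hab
    have h : g * (a : G) * g⁻¹ = g * (b : G) * g⁻¹ := ((hg a).symm.trans hab).trans (hg b)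
    exact Subtype.ext (mul_left_cancel (mul_right_cancel h))
  conj_mem := by
    intro Q g hQP hg
    obtain ⟨f, -, hf⟩ := exists_subpairLE hpM _ P Q e rfl hPe hQP
    refine ⟨hQP, g, fun u => rfl, ?_, f, hf, ?_⟩
    · rintro _ ⟨x, hx, rfl⟩
      exact P.mul_mem (P.mul_mem hg (hQP hx)) (P.inv_mem hg)
    · have h1 : Relation.ReflTransGen (NormalSubpairRel p M) (conjIdx g ⟨Q, f⟩)
          (conjIdx g ⟨P, e⟩) := reflTransGen_conjIdx g hf
      have h2 : conjIdx g (⟨P, e⟩ : BrauerPairIdx G) = ⟨P, e⟩ :=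
        Cfsg.Agent.Lib.Helper77.conj_self_idx e hg
      rw [h2] at h1
      exact h1
  comp_mem := by
    rintro P₁ Q₂ φ ψ ⟨hP₁, g, hg, hgP, f, hf, hfg⟩ ⟨hQ₂, k, hk, hkP, f₂, hf₂, hf₂k⟩ h
    have hgQ₂ : conjSub P₁ g ≤ Q₂ := by
      rintro _ ⟨x, hx, rfl⟩
      have := h ⟨x, hx⟩
      rw [hg] at this
      exact this
    refine ⟨hP₁, k * g, fun u => ?_, ?_, f, hf, ?_⟩
    · show ψ (φ.codRestrict Q₂ h u) = k * g * (u : G) * (k * g)⁻¹
      rw [hk]
      show k * φ u * k⁻¹ = _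
      rw [hg, mul_inv_rev]
      simp only [mul_assoc]
    · rintro _ ⟨x, hx, rfl⟩
      have h1 : g * x * g⁻¹ ∈ Q₂ := hgQ₂ ⟨x, hx, rfl⟩
      have h2 : k * (g * x * g⁻¹) * k⁻¹ ∈ P := hkP ⟨_, h1, rfl⟩
      have e1 : (MulAut.conj (k * g)).toMonoidHom x = k * (g * x * g⁻¹) * k⁻¹ := by
        show k * g * x * (k * g)⁻¹ = _
        group
      rw [e1]
      exact h2
    · have h1 : Relation.ReflTransGen (NormalSubpairRel p M) (conjIdx g ⟨P₁, f⟩)
          (⟨Q₂, f₂⟩ : BrauerPairIdx G) := le_of_le_of_le hpM hPe hfg hf₂ hgQ₂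
      have h2 := reflTransGen_conjIdx k h1
      rw [conjIdx_conjIdx] at h2
      exact h2.trans hf₂k
  inv_mem := by
    rintro P₁ φ ⟨hP₁, g, hg, hgP, f, hf, hfg⟩
    have hr : φ.range = (conjIdx g (⟨P₁, f⟩ : BrauerPairIdx G)).1 := by
      ext y
      constructor
      · rintro ⟨x, rfl⟩
        exact ⟨x, x.2, (hg x).symm⟩
      · rintro ⟨x, hx, rfl⟩
        exact ⟨⟨x, hx⟩, hg _⟩
    have ha : Relation.ReflTransGen (NormalSubpairRel p M) (conjIdx g (⟨P₁, f⟩ : BrauerPairIdx G))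
        ⟨P, e⟩ := hfg
    have ha' : Relation.ReflTransGen (NormalSubpairRel p M)
        (conjIdx g⁻¹ (conjIdx g (⟨P₁, f⟩ : BrauerPairIdx G))) ⟨P, e⟩ := by
      rw [conjIdx_inv_conjIdx]
      exact hf
    generalize conjIdx g (⟨P₁, f⟩ : BrauerPairIdx G) = a at hr ha ha'
    obtain ⟨A, fA⟩ := a
    have hr' : φ.range = A := hr
    subst hr'
    refine ⟨conjHom φ.range g⁻¹, ⟨le_of_reflTransGen ha, g⁻¹, fun _ => rfl,
      le_of_reflTransGen ha', fA, ha, ha'⟩, ?_⟩
    intro x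
    show g⁻¹ * φ x * g⁻¹⁻¹ = x
    rw [hg, inv_inv]
    simp only [mul_assoc, inv_mul_cancel, mul_one, inv_mul_cancel_left]

theorem isBlockFusionSystemOn_blockFusionSystem (hpM : IsPModular p M)
    {B : Set (IrrCharacter G)} {P : Subgroup G}
    {e : Set (IrrCharacter (Subgroup.centralizer (P : Set G)))}
    (hmax : IsMaximalBrauerPair p M B P e) :
    IsBlockFusionSystemOn p M B P e (blockFusionSystem hpM hmax.1.1) :=
  ⟨hmax, fun _ _ => Iff.rfl⟩

end Cfsg.Agent.Lib.Helper52.BlockFus
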