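import Cfsg.Agent.Lib.Helper52.BlockFus
import Cfsg.Agent.Lib.Helper85.RelSaturated
import Cfsg.Agent.Lib.Helper85.RobertsShpectorov

/-!
# Saturation of the fusion system of a block: the local Sylow argument
-/

set_option autoImplicit false

universe u

namespace Cfsg.Agent.Lib.Helper52.BlockSat

open Cfsg
open Cfsg.Agent.Lib.Helper77 Cfsg.Agent.Lib.Helper81 Cfsg.Agent.Lib.Helper80
open Cfsg.Agent.Lib.Helper52.ConjPairs Cfsg.Agent.Lib.Helper52.Subpairs
open Cfsg.Agent.Lib.Helper52.StabBlock Cfsg.Agent.Lib.Helper52.PairUp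
open Cfsg.Agent.Lib.Helper52.BlockFus

variable {G : Type u} [Group G] [Fintype G] {p : ℕ} [Fact p.Prime] {M : Ideal AlgInt}

/-- A pair normally above `(Q, f)` inside the stabilizer `T` has its subgroup inside a defect group
of the block of `T` with the idempotent of `f`. -/
theorem exists_isDefectGroup_ge_of_isNormalSubpair (hpM : IsPModular p M) {Q T : Subgroup G}
    {f : Set (IrrCharacter (Subgroup.centralizer (Q : Set G)))}
    (hCT : Subgroup.centralizer (Q : Set G) ≤ T)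
    {F : Set (IrrCharacter T)} (hF : IsPBlock M F)
    (hFc : ∀ t : T, blockCoeff F t =
      subgroupBlockCoeff (Subgroup.centralizer (Q : Set G)) f (t : G)) :
    ∀ (R : Subgroup G) (r : Set (IrrCharacter (Subgroup.centralizer (R : Set G)))),
      R ≤ T → IsNormalSubpair p M Q f R r →
      ∃ D : Subgroup T, IsDefectGroup p M F D ∧ R.subgroupOf T ≤ D := by
  classical
  intro R r hRT hN
  obtain ⟨R_T, rfl⟩ : ∃ R_T : Subgroup T, R_T.map T.subtype = R :=
    ⟨R.subgroupOf T, Subgroup.map_subgroupOf_eq_of_le hRT⟩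
  have hDC : Subgroup.centralizer (((R_T.map T.subtype : Subgroup G)) : Set G) ≤ T :=
    (Subgroup.centralizer_le hN.2.2.1).trans hCT
  have hpair := isBrauerPairOf_sub_of_isNormalSubpair hF hFc hDC hN
  have := Fintype.ofFinite T
  obtain ⟨R₂, r₂, hmax, hle2⟩ := exists_isMaximalBrauerPair_ge (p := p) (M := M) (B := F) _
    R_T _ rfl hpair
  refine ⟨R₂, isDefectGroup_of_isMaximalBrauerPair hpM hmax, ?_⟩
  have h1 : R_T ≤ R₂ := le_of_reflTransGen hle2
  have h2 : (R_T.map T.subtype).subgroupOf T = R_T :=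
    Subgroup.comap_map_eq_self_of_injective T.subtype_injective R_T
  rw [h2]
  exact h1

/-- The local subgroup `L = N_P(Q) C_G(Q)`. -/
abbrev locL (P Q : Subgroup G) : Subgroup G :=
  (P ⊓ Subgroup.normalizer (Q : Set G)) ⊔ Subgroup.centralizer (Q : Set G)

/-- `N_P(Q)` inside `L`. -/
abbrev locD (P Q : Subgroup G) : Subgroup (locL P Q) :=
  (P ⊓ Subgroup.normalizer (Q : Set G)).subgroupOf (locL P Q)

/-- `N_P(Q)`, as the image of `locD`. -/
abbrev locD₀ (P Q : Subgroup G) : Subgroup G := (locD P Q).map (locL P Q).subtype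

omit [Fintype G] in
theorem locD₀_eq (P Q : Subgroup G) : locD₀ P Q = P ⊓ Subgroup.normalizer (Q : Set G) :=
  Subgroup.map_subgroupOf_eq_of_le le_sup_left

/-- The local setting: `(Q, f) ≤ (P, e)`, `T` the stabilizer of `(Q, f)`, `F` the block of `T` with
the idempotent of `f`, and `N_P(Q)` a defect group of `F`. -/
structure Setting (p : ℕ) (M : Ideal AlgInt) (P Q : Subgroup G)
    (e : Set (IrrCharacter (Subgroup.centralizer (P : Set G))))
    (f : Set (IrrCharacter (Subgroup.centralizer (Q : Set G)))) (T : Subgroup G)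
    (F : Set (IrrCharacter T)) : Prop where
  hPe : IsBrauerPair p M P e
  hQP : Q ≤ P
  hle : SubpairLE p M Q f P e
  hT : ∀ y : G, y ∈ T ↔ y ∈ Subgroup.normalizer (Q : Set G) ∧
    StabilizesBlock (Subgroup.centralizer (Q : Set G)) f y
  hF : IsPBlock M F
  hFc : ∀ t : T, blockCoeff F t =
    subgroupBlockCoeff (Subgroup.centralizer (Q : Set G)) f (t : G)
  hdef : IsDefectGroup p M F ((P ⊓ Subgroup.normalizer (Q : Set G)).subgroupOf T)

namespace Setting

variable {P Q T : Subgroup G}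
  {e : Set (IrrCharacter (Subgroup.centralizer (P : Set G)))}
  {f : Set (IrrCharacter (Subgroup.centralizer (Q : Set G)))} {F : Set (IrrCharacter T)}

omit [Fintype G] [Fact p.Prime] in
theorem hQf (h : Setting p M P Q e f T F) : IsBrauerPair p M Q f :=
  isBrauerPair_of_le (a := ⟨Q, f⟩) (c := ⟨P, e⟩) h.hPe h.hle

theorem hCT (h : Setting p M P Q e f T F) : Subgroup.centralizer (Q : Set G) ≤ T := by
  classical
  intro c hc
  exact (h.hT c).mpr ⟨Subgroup.centralizer_le_normalizer _ hc, stabilizesBlock_of_mem _ f hc⟩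

omit [Fintype G] [Fact p.Prime] in
theorem hTN (h : Setting p M P Q e f T F) : T ≤ Subgroup.normalizer (Q : Set G) :=
  fun t ht => ((h.hT t).mp ht).1

theorem hDT (hpM : IsPModular p M) (h : Setting p M P Q e f T F) :
    P ⊓ Subgroup.normalizer (Q : Set G) ≤ T := by
  intro y hy
  exact (h.hT y).mpr ⟨hy.2, stabilizes_of_mem_of_subpairLE hpM h.hPe h.hle hy.1 hy.2⟩

theorem hLT (hpM : IsPModular p M) (h : Setting p M P Q e f T F) : locL P Q ≤ T :=
  sup_le (h.hDT hpM) h.hCT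

omit [Fintype G] [Fact p.Prime] in
theorem hQD₀ (h : Setting p M P Q e f T F) : Q ≤ locD₀ P Q := by
  rw [locD₀_eq]
  exact le_inf h.hQP Subgroup.le_normalizer

omit [Fintype G] [Fact p.Prime] in
theorem hD₀C (_h : Setting p M P Q e f T F) :
    Subgroup.centralizer ((locD₀ P Q : Subgroup G) : Set G) ≤ locL P Q :=
  (Subgroup.centralizer_le _h.hQD₀).trans le_sup_right

end Setting

/-- **The pair at `N_P(Q)` is a maximal pair of the local block of `L = N_P(Q) C_G(Q)`.** -/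
theorem isMaximal_local (hpM : IsPModular p M) {P Q T : Subgroup G}
    {e : Set (IrrCharacter (Subgroup.centralizer (P : Set G)))}
    {f : Set (IrrCharacter (Subgroup.centralizer (Q : Set G)))} {F : Set (IrrCharacter T)}
    (h : Setting p M P Q e f T F)
    {B₁ : Set (IrrCharacter (locL P Q))} (hB₁ : IsPBlock M B₁)
    (hBc : ∀ l : locL P Q, blockCoeff B₁ l =
      subgroupBlockCoeff (Subgroup.centralizer (Q : Set G)) f (l : G))
    {e₀ : Set (IrrCharacter (Subgroup.centralizer ((locD₀ P Q : Subgroup G) : Set G)))}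
    (he₀ : SubpairLE p M (locD₀ P Q) e₀ P e) :
    IsMaximalBrauerPair p M B₁ (locD P Q)
      (irrMap (centEquiv (locD P Q) h.hD₀C).symm '' e₀) := by
  classical
  have hM : M.IsPrime := isPrime_of_isPModular hpM
  have hD₀e₀ : IsBrauerPair p M (locD₀ P Q) e₀ :=
    isBrauerPair_of_le (a := ⟨locD₀ P Q, e₀⟩) (c := ⟨P, e⟩) h.hPe he₀
  have hD₀N : locD₀ P Q ≤ Subgroup.normalizer (Q : Set G) := by
    rw [locD₀_eq]
    exact inf_le_right
  have hQD₀le : Relation.ReflTransGen (NormalSubpairRel p M) (⟨Q, f⟩ : BrauerPairIdx G)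
      ⟨locD₀ P Q, e₀⟩ := le_of_le_of_le hpM h.hPe h.hle he₀ h.hQD₀
  have hN₀ : IsNormalSubpair p M Q f (locD₀ P Q) e₀ :=
    isNormalSubpair_of_subpairLE hpM hD₀e₀ h.hQD₀ hD₀N hQD₀le
  refine ⟨isBrauerPairOf_sub_of_isNormalSubpair hB₁ hBc h.hD₀C hN₀, ?_⟩
  intro R' r' hR'r' hle'
  -- lift to `G`
  have hup := reflTransGen_up (a := ⟨locD P Q, irrMap (centEquiv (locD P Q) h.hD₀C).symm '' e₀⟩)
    (b := ⟨R', r'⟩) h.hD₀C hle'
  have hup0 : up (⟨locD P Q, irrMap (centEquiv (locD P Q) h.hD₀C).symm '' e₀⟩ :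
      BrauerPairIdx (locL P Q)) = ⟨locD₀ P Q, e₀⟩ := by
    show (⟨locD₀ P Q, upBlock (locD P Q) _⟩ : BrauerPairIdx G) = _
    rw [upBlock_image_symm]
  rw [hup0] at hup
  have hDR' : locD P Q ≤ R' := le_of_reflTransGen' hle'
  have hD₀R : locD₀ P Q ≤ R'.map (locL P Q).subtype := Subgroup.map_mono hDR'
  have hCR : Subgroup.centralizer ((R'.map (locL P Q).subtype : Subgroup G) : Set G) ≤ locL P Q :=
    (Subgroup.centralizer_le hD₀R).trans h.hD₀C
  have hRr : IsBrauerPair p M (R'.map (locL P Q).subtype) (upBlock R' r') := by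
    refine ⟨hR'r'.1.1.map _, ?_⟩
    rw [upBlock_eq_image R' hCR]
    exact isPBlock_irrMap_image _ hR'r'.1.2
  have hQR : Relation.ReflTransGen (NormalSubpairRel p M) (⟨Q, f⟩ : BrauerPairIdx G)
      ⟨R'.map (locL P Q).subtype, upBlock R' r'⟩ := hQD₀le.trans hup
  have hRL : R'.map (locL P Q).subtype ≤ locL P Q := Subgroup.map_subtype_le _
  have hRT : R'.map (locL P Q).subtype ≤ T := hRL.trans (h.hLT hpM)
  have hN : IsNormalSubpair p M Q f (R'.map (locL P Q).subtype) (upBlock R' r') :=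
    isNormalSubpair_of_subpairLE hpM hRr (h.hQD₀.trans hD₀R) (hRT.trans h.hTN) hQR
  obtain ⟨D₂, hD₂, hRD₂⟩ := exists_isDefectGroup_ge_of_isNormalSubpair hpM h.hCT h.hF h.hFc
    _ _ hRT hN
  -- cardinalities
  obtain ⟨χ₁, hχ₁⟩ := h.hF
  have hdef := h.hdef
  rw [hχ₁] at hD₂ hdef
  have hcard := card_eq_of_isDefectGroup hpM χ₁ hD₂ hdef
  have h1 : Nat.card R' ≤ Nat.card (locD P Q) := by
    calc Nat.card R' = Nat.card (R'.map (locL P Q).subtype) :=
          (Subgroup.card_map_of_injective (Subgroup.subtype_injective _)).symm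
      _ = Nat.card ((R'.map (locL P Q).subtype).subgroupOf T) :=
          (Nat.card_congr (Subgroup.subgroupOfEquivOfLe hRT).toEquiv).symm
      _ ≤ Nat.card D₂ := Subgroup.card_le_of_le hRD₂
      _ = Nat.card ((P ⊓ Subgroup.normalizer (Q : Set G)).subgroupOf T) := hcard
      _ = Nat.card (P ⊓ Subgroup.normalizer (Q : Set G) : Subgroup G) :=
          Nat.card_congr (Subgroup.subgroupOfEquivOfLe (h.hDT hpM)).toEquiv
      _ = Nat.card (locD P Q) :=
          (Nat.card_congr (Subgroup.subgroupOfEquivOfLe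
            (le_sup_left : P ⊓ Subgroup.normalizer (Q : Set G) ≤ locL P Q)).toEquiv).symm
  exact (Subgroup.eq_of_le_of_card_ge hDR' h1).symm

/-- **The local Sylow argument.** A pair normally above `(Q, f)` with subgroup inside
`L = N_P(Q) C_G(Q)` is carried below `(P, e)` by an element of `C_G(Q)`. -/
theorem exists_centralizer_conj_le (hpM : IsPModular p M) {P Q T : Subgroup G}
    {e : Set (IrrCharacter (Subgroup.centralizer (P : Set G)))}
    {f : Set (IrrCharacter (Subgroup.centralizer (Q : Set G)))} {F : Set (IrrCharacter T)}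
    (h : Setting p M P Q e f T F) :
    ∀ a₁ : BrauerPairIdx G, NormalSubpairRel p M ⟨Q, f⟩ a₁ → a₁.1 ≤ locL P Q →
      ∃ c ∈ Subgroup.centralizer (Q : Set G),
        Relation.ReflTransGen (NormalSubpairRel p M) (conjIdx c a₁) ⟨P, e⟩ := by
  classical
  have hM : M.IsPrime := isPrime_of_isPModular hpM
  have hf : IsPBlock M f := h.hQf.2
  have hSp : IsPGroup p (P ⊓ Subgroup.normalizer (Q : Set G) : Subgroup G) :=
    h.hPe.1.to_le inf_le_left
  have hSN : P ⊓ Subgroup.normalizer (Q : Set G) ≤ Subgroup.normalizer (Q : Set G) :=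
    inf_le_right
  have hidx := relIndex_centralizer_sup (p := p) hSp hSN
  have hCL : Subgroup.centralizer (Q : Set G) ≤ locL P Q := le_sup_right
  have hLN : locL P Q ≤ Subgroup.normalizer (Q : Set G) :=
    sup_le inf_le_right (Subgroup.centralizer_le_normalizer _)
  have hLe : ∀ x ∈ locL P Q, StabilizesBlock (Subgroup.centralizer (Q : Set G)) f x :=
    fun x hx => ((h.hT x).mp (h.hLT hpM hx)).2
  obtain ⟨B₁, hB₁, hBc, -⟩ := claimX_a hpM hCL hLN hf hLe hidx
  -- the maximal pair of the local block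
  have hD₀P : locD₀ P Q ≤ P := by
    rw [locD₀_eq]
    exact inf_le_left
  obtain ⟨e₀, -, he₀⟩ := exists_subpairLE hpM _ P (locD₀ P Q) e rfl h.hPe hD₀P
  have hmaxL := isMaximal_local hpM h hB₁ hBc he₀
  -- the given pair
  rintro ⟨N₁, f₁⟩ hN₁ hN₁L
  obtain ⟨N₁', rfl⟩ : ∃ N₁' : Subgroup (locL P Q), N₁'.map (locL P Q).subtype = N₁ :=
    ⟨N₁.subgroupOf _, Subgroup.map_subgroupOf_eq_of_le hN₁L⟩
  have hN₁' : IsNormalSubpair p M Q f (N₁'.map (locL P Q).subtype) f₁ := hN₁
  have hC₁ : Subgroup.centralizer ((N₁'.map (locL P Q).subtype : Subgroup G) : Set G) ≤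
      locL P Q := (Subgroup.centralizer_le hN₁'.2.2.1).trans hCL
  have hpair := isBrauerPairOf_sub_of_isNormalSubpair hB₁ hBc hC₁ hN₁'
  have := Fintype.ofFinite (locL P Q)
  obtain ⟨l, hl⟩ := exists_conj_subpairLE hpM hmaxL hpair
  have hl' : Relation.ReflTransGen (NormalSubpairRel p M)
      (conjIdx l (⟨N₁', irrMap (centEquiv N₁' hC₁).symm '' f₁⟩ : BrauerPairIdx (locL P Q)))
      ⟨locD P Q, irrMap (centEquiv (locD P Q) h.hD₀C).symm '' e₀⟩ := hl
  have hCl : Subgroup.centralizer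
      (((conjIdx l (⟨N₁', irrMap (centEquiv N₁' hC₁).symm '' f₁⟩ :
        BrauerPairIdx (locL P Q))).1.map (locL P Q).subtype : Subgroup G) : Set G) ≤ locL P Q := by
    show Subgroup.centralizer (((conjSub N₁' l).map (locL P Q).subtype : Subgroup G) : Set G) ≤ _
    rw [map_conjSub]
    intro y hy
    have h1 : (l : G)⁻¹ * y * (l : G) ∈ locL P Q := hC₁ (mem_centralizer_conjSub.mp hy)
    have e1 : y = (l : G) * ((l : G)⁻¹ * y * (l : G)) * (l : G)⁻¹ := by group
    rw [e1]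
    exact (locL P Q).mul_mem ((locL P Q).mul_mem l.2 h1) ((locL P Q).inv_mem l.2)
  have hup := reflTransGen_up hCl hl'
  have hup0 : up (⟨locD P Q, irrMap (centEquiv (locD P Q) h.hD₀C).symm '' e₀⟩ :
      BrauerPairIdx (locL P Q)) = ⟨locD₀ P Q, e₀⟩ := by
    show (⟨locD₀ P Q, upBlock (locD P Q) _⟩ : BrauerPairIdx G) = _
    rw [upBlock_image_symm]
  have hup1 : up (⟨N₁', irrMap (centEquiv N₁' hC₁).symm '' f₁⟩ : BrauerPairIdx (locL P Q)) =
      ⟨N₁'.map (locL P Q).subtype, f₁⟩ := by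
    show (⟨N₁'.map (locL P Q).subtype, upBlock N₁' _⟩ : BrauerPairIdx G) = _
    rw [upBlock_image_symm]
  rw [up_conjIdx l _ hC₁, hup0, hup1] at hup
  -- decompose `l`
  have hDnC : P ⊓ Subgroup.normalizer (Q : Set G) ≤
      Subgroup.normalizer ((Subgroup.centralizer (Q : Set G) : Subgroup G) : Set G) :=
    fun y hy => Cfsg.Agent.S4691.normalizer_le_normalizer_centralizer' Q hy.2
  have hlmem : (l : G) ∈ ((locL P Q : Subgroup G) : Set G) := l.2
  rw [Subgroup.coe_mul_of_left_le_normalizer_right _ _ hDnC] at hlmem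
  obtain ⟨d, hd, c, hc, hdc⟩ := hlmem
  refine ⟨c, hc, ?_⟩
  have e1 : conjIdx c (⟨N₁'.map (locL P Q).subtype, f₁⟩ : BrauerPairIdx G) =
      conjIdx d⁻¹ (conjIdx (l : G) ⟨N₁'.map (locL P Q).subtype, f₁⟩) := by
    rw [conjIdx_conjIdx]
    have hdc' : d * c = (l : G) := hdc
    rw [← hdc', inv_mul_cancel_left]
  have h3 := reflTransGen_conjIdx d⁻¹ hup
  have hdD₀ : d⁻¹ ∈ locD₀ P Q := by
    rw [locD₀_eq]
    exact Subgroup.inv_mem _ hd
  have h4 : conjIdx d⁻¹ (⟨locD₀ P Q, e₀⟩ : BrauerPairIdx G) = ⟨locD₀ P Q, e₀⟩ :=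
    conj_self_idx e₀ hdD₀
  rw [h4, ← e1] at h3
  exact h3.trans he₀

/-- **Receptivity** in the local setting. -/
theorem isReceptive_of_setting (hpM : IsPModular p M) {P Q T : Subgroup G}
    {e : Set (IrrCharacter (Subgroup.centralizer (P : Set G)))}
    {f : Set (IrrCharacter (Subgroup.centralizer (Q : Set G)))} {F : Set (IrrCharacter T)}
    (h : Setting p M P Q e f T F) :
    (blockFusionSystem hpM h.hPe).IsReceptive Q := by
  classical
  refine ⟨h.hQP, ?_⟩
  rintro R φ ⟨hRP, g, hg, hgP, f_R, hfR, hfRg⟩ hr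
  have hPQ : R.map (Cfsg.Agent.Lib.Helper85.cj g) = Q := by
    rw [← hr]
    ext y
    constructor
    · rintro ⟨x, hx, rfl⟩
      exact ⟨⟨x, hx⟩, hg _⟩
    · rintro ⟨x, rfl⟩
      exact ⟨x, x.2, (hg x).symm⟩
  have hext := Cfsg.Agent.Lib.Helper85.extender_le_of_conj (S := P) φ g hg hPQ
  have hNP : Cfsg.FusionSystem.extender P R φ ≤ P := hext.trans (inf_le_left.trans inf_le_left)
  have hNR : Cfsg.FusionSystem.extender P R φ ≤ Subgroup.normalizer (R : Set G) :=
    hext.trans (inf_le_left.trans inf_le_right)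
  have hRN : R ≤ Cfsg.FusionSystem.extender P R φ := by
    intro y hy
    apply Subgroup.subset_closure
    refine ⟨hRP hy, Subgroup.le_normalizer hy, g * y * g⁻¹, hgP ⟨y, hy, rfl⟩, fun x hx => ?_⟩
    rw [hg, hg]
    show g * (y * (x : G) * y⁻¹) * g⁻¹ = g * y * g⁻¹ * (g * (x : G) * g⁻¹) * (g * y * g⁻¹)⁻¹
    group
  -- the pair at the extender
  obtain ⟨f_N, -, hfN⟩ := exists_subpairLE hpM _ P (Cfsg.FusionSystem.extender P R φ) e rfl
    h.hPe hNP
  have hRNle : Relation.ReflTransGen (NormalSubpairRel p M) (⟨R, f_R⟩ : BrauerPairIdx G)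
      ⟨Cfsg.FusionSystem.extender P R φ, f_N⟩ := le_of_le_of_le hpM h.hPe hfR hfN hRN
  have hNfN : IsBrauerPair p M (Cfsg.FusionSystem.extender P R φ) f_N :=
    isBrauerPair_of_le (a := ⟨_, f_N⟩) (c := ⟨P, e⟩) h.hPe hfN
  have hnorm : IsNormalSubpair p M R f_R (Cfsg.FusionSystem.extender P R φ) f_N :=
    isNormalSubpair_of_subpairLE hpM hNfN hRN hNR hRNle
  have hconj := isNormalSubpair_conj g hnorm
  have hid : (⟨conjSub R g, conjBlock R g f_R⟩ : BrauerPairIdx G) = ⟨Q, f⟩ :=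
    idx_eq_of_le hpM h.hPe hfRg h.hle hPQ
  have hstep : NormalSubpairRel p M ⟨Q, f⟩
      (conjIdx g ⟨Cfsg.FusionSystem.extender P R φ, f_N⟩) := by
    rw [← hid]
    exact hconj
  have hN₁L : (conjIdx g (⟨Cfsg.FusionSystem.extender P R φ, f_N⟩ : BrauerPairIdx G)).1 ≤
      locL P Q := by
    rintro _ ⟨y, hy, rfl⟩
    exact (hext hy).2
  obtain ⟨c, hc, hcle⟩ := exists_centralizer_conj_le hpM h _ hstep hN₁L
  rw [conjIdx_conjIdx] at hcle
  refine ⟨conjHom (Cfsg.FusionSystem.extender P R φ) (c * g),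
    ⟨hNP, c * g, fun _ => rfl, le_of_reflTransGen hcle, f_N, hfN, hcle⟩, ?_⟩
  intro x hxR hxN
  show c * g * x * (c * g)⁻¹ = φ ⟨x, hxR⟩
  rw [hg]
  have hq : g * x * g⁻¹ ∈ Q := by
    rw [← hPQ]
    exact ⟨x, hxR, rfl⟩
  have h1 := (Subgroup.mem_centralizer_iff.mp hc) _ hq
  calc c * g * x * (c * g)⁻¹ = c * (g * x * g⁻¹) * c⁻¹ := by group
    _ = (g * x * g⁻¹) * c * c⁻¹ := by rw [← h1]
    _ = g * x * g⁻¹ := by group

end Cfsg.Agent.Lib.Helper52.BlockSat
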