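import Cfsg.Agent.Lib.Helper52.BlockSat

/-!
# The maximal pair is fully automized in the fusion system of the block
-/

set_option autoImplicit false

universe u

namespace Cfsg.Agent.Lib.Helper52.BlockSat

open Cfsg
open Cfsg.Agent.Lib.Helper77 Cfsg.Agent.Lib.Helper81 Cfsg.Agent.Lib.Helper80
open Cfsg.Agent.Lib.Helper52.ConjPairs Cfsg.Agent.Lib.Helper52.Subpairs
open Cfsg.Agent.Lib.Helper52.StabBlock Cfsg.Agent.Lib.Helper52.PairUp
open Cfsg.Agent.Lib.Helper52.BlockFus

variable {G : Type u} [Group G] [Fintype G] {p : ℕ} [Fact p.Prime] {M : Ideal AlgInt}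

/-- The automorphism group of `P` in the block fusion system is induced by the stabilizer of
`(P, e)`. -/
theorem autGroup_blockFusionSystem (hpM : IsPModular p M) {P T : Subgroup G}
    {e : Set (IrrCharacter (Subgroup.centralizer (P : Set G)))} (hPe : IsBrauerPair p M P e)
    (hT : ∀ y : G, y ∈ T ↔ y ∈ Subgroup.normalizer (P : Set G) ∧
      StabilizesBlock (Subgroup.centralizer (P : Set G)) e y) :
    (blockFusionSystem hpM hPe).autGroup P = Cfsg.autInducedBy T P := by
  classical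
  have hM : M.IsPrime := isPrime_of_isPModular hpM
  unfold Cfsg.FusionSystem.autGroup Cfsg.autInducedBy
  congr 1
  ext α
  constructor
  · rintro ⟨-, g, hgα, hgP, f₁, hf₁, hf₁g⟩
    have h1 : (⟨P, f₁⟩ : BrauerPairIdx G) = ⟨P, e⟩ :=
      idx_eq_of_le hpM (c := ⟨P, e⟩) hPe hf₁ Relation.ReflTransGen.refl rfl
    have hfe : f₁ = e := eq_of_heq (Sigma.mk.inj_iff.mp h1).2
    subst hfe
    have hPg : conjSub P g = P := by
      refine Subgroup.eq_of_le_of_card_ge hgP ?_
      rw [Subgroup.card_map_of_injective (MulAut.conj g).injective]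
    have hgN : g ∈ Subgroup.normalizer (P : Set G) :=
      Subgroup.mem_normalizer_iff_map_conj_eq.mpr hPg
    have h2 : (⟨conjSub P g, conjBlock P g f₁⟩ : BrauerPairIdx G) = ⟨P, f₁⟩ :=
      idx_eq_of_le hpM (c := ⟨P, f₁⟩) hPe hf₁g Relation.ReflTransGen.refl hPg
    rw [conj_normalizer_idx f₁ hgN] at h2
    have h3 := eq_of_heq (Sigma.mk.inj_iff.mp h2).2
    exact ⟨g, (hT g).mpr ⟨hgN, stabilizesBlock_of_image_eq _ _ h3⟩, fun x => hgα x⟩
  · rintro ⟨g, hgT, hg⟩
    obtain ⟨hgN, hgst⟩ := (hT g).mp hgT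
    have h2 := conj_stab_idx hM hPe.2 hgN hgst
    have hPg : conjSub P g = P := congrArg Sigma.fst h2
    refine ⟨le_rfl, g, fun u => hg u, hPg.le, e, Relation.ReflTransGen.refl, ?_⟩
    show Relation.ReflTransGen (NormalSubpairRel p M)
      (⟨conjSub P g, conjBlock P g e⟩ : BrauerPairIdx G) ⟨P, e⟩
    rw [h2]

/-- **The maximal pair is fully automized.** -/
theorem isFullyAutomized_top (hpM : IsPModular p M) {B : Set (IrrCharacter G)} {P : Subgroup G}
    {e : Set (IrrCharacter (Subgroup.centralizer (P : Set G)))}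
    (hmax : IsMaximalBrauerPair p M B P e) :
    (blockFusionSystem hpM hmax.1.1).IsFullyAutomized p P := by
  classical
  have hM : M.IsPrime := isPrime_of_isPModular hpM
  obtain ⟨hBP, hmaxi⟩ := hmax
  have hPp : IsPGroup p P := hBP.1.1
  have he : IsPBlock M e := hBP.1.2
  have := Fintype.ofFinite (Subgroup.centralizer (P : Set G))
  have hPN : P ≤ Subgroup.normalizer (P : Set G) := Subgroup.le_normalizer
  obtain ⟨T, hTdef⟩ : ∃ T : Subgroup G, T = stabSub (Subgroup.centralizer (P : Set G)) e ⊓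
    Subgroup.normalizer (P : Set G) := ⟨_, rfl⟩
  have hmemT : ∀ x : G, x ∈ T ↔ x ∈ Subgroup.normalizer (P : Set G) ∧
      StabilizesBlock (Subgroup.centralizer (P : Set G)) e x := by
    intro x
    rw [hTdef, Subgroup.mem_inf, mem_stabSub_iff hM _ he, and_comm]
  have hTN : T ≤ Subgroup.normalizer (P : Set G) := fun x hx => ((hmemT x).mp hx).1
  have hPT : P ≤ T := fun x hx => (hmemT x).mpr ⟨hPN hx, stabilizesBlock_of_mem_self P e hx⟩
  obtain ⟨Qs, hQs⟩ := (hPp.comap_subtype (K := T)).exists_le_sylow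
  obtain ⟨S, hSdef⟩ : ∃ S : Subgroup G, S = (Qs : Subgroup T).map T.subtype := ⟨_, rfl⟩
  have hSp : IsPGroup p S := by rw [hSdef]; exact Qs.2.map _
  have hST : S ≤ T := by rw [hSdef]; exact Subgroup.map_subtype_le _
  have hPS : P ≤ S := by
    intro x hx
    rw [hSdef]
    exact ⟨⟨x, hPT hx⟩, hQs (show (⟨x, hPT hx⟩ : T) ∈ P.subgroupOf T from hx), rfl⟩
  have hSN : S ≤ Subgroup.normalizer (P : Set G) := hST.trans hTN
  have hSe : ∀ x ∈ S, StabilizesBlock (Subgroup.centralizer (P : Set G)) e x :=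
    fun x hx => ((hmemT x).mp (hST hx)).2
  obtain ⟨D, g, hnorm, hsup, -⟩ := claimX hpM hPp he hSp hPS hSN hSe
  have hDB := isBrauerPairOf_of_isNormalSubpair hpM hnorm hBP
  have hDP : D = P := hmaxi D g hDB (Relation.ReflTransGen.single hnorm)
  subst hDP
  -- the Sylow statement
  have hSyl : Cfsg.Agent.Lib.Helper85.SylIn p S T := by
    rw [hSdef]
    exact Cfsg.Agent.Lib.Helper85.sylow_map_subtype_sylIn Qs
  have hN : Cfsg.Agent.Lib.Helper85.SylIn p (Cfsg.FusionSystem.normalizerIn S D)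
      (T ⊓ Subgroup.normalizer (D : Set G)) := by
    have e1 : Cfsg.FusionSystem.normalizerIn S D = S := inf_eq_left.mpr hSN
    rw [e1, inf_eq_left.mpr hTN]
    exact hSyl
  have h1 := Cfsg.Agent.Lib.Helper85.SylIn.autInducedBy_rel hST hN
  -- `S` and `D` induce the same automorphisms of `D`
  have hDnC : D ≤ Subgroup.normalizer ((Subgroup.centralizer (D : Set G) : Subgroup G) : Set G) :=
    fun y hy => Cfsg.Agent.S4691.normalizer_le_normalizer_centralizer' D (hPN hy)
  have hSD : Cfsg.autInducedBy S D = Cfsg.autInducedBy D D := by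
    ext α
    rw [Cfsg.Agent.Lib.Helper85.mem_autInducedBy_iff, Cfsg.Agent.Lib.Helper85.mem_autInducedBy_iff]
    constructor
    · rintro ⟨s, hs, hα⟩
      have hs' : s ∈ ((D ⊔ Subgroup.centralizer (D : Set G) : Subgroup G) : Set G) := by
        rw [hsup]
        exact (le_sup_left : S ≤ S ⊔ Subgroup.centralizer (D : Set G)) hs
      rw [Subgroup.coe_mul_of_left_le_normalizer_right _ _ hDnC] at hs'
      obtain ⟨u, hu, c, hc, huc⟩ := hs'
      refine ⟨u, hu, fun x => ?_⟩
      rw [hα x]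
      have huc' : u * c = s := huc
      have hcx : (x : G) * c = c * (x : G) := (Subgroup.mem_centralizer_iff.mp hc) _ x.2
      rw [← huc']
      calc u * c * (x : G) * (u * c)⁻¹ = u * (c * (x : G)) * c⁻¹ * u⁻¹ := by group
        _ = u * ((x : G) * c) * c⁻¹ * u⁻¹ := by rw [hcx]
        _ = u * (x : G) * u⁻¹ := by group
    · rintro ⟨u, hu, hα⟩
      exact ⟨u, hPS hu, hα⟩
  refine ⟨le_rfl, ?_⟩
  rw [autGroup_blockFusionSystem hpM hBP.1 hmemT, ← hSD]
  exact h1

end Cfsg.Agent.Lib.Helper52.BlockSat
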