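import Cfsg.Agent.Lib.Helper16.NormalDefect
import Cfsg.Agent.Lib.Helper16.PC3
import Cfsg.Agent.Lib.Helper75.DefectCmp
import Cfsg.Agent.Lib.Helper77.DefectClass
import Cfsg.Agent.Lib.Helper79.Basic

/-!
# Characters of defect zero modulo a central subgroup

`blockDefect_le_of_central_ker`: if `Z` is a central subgroup of `H` and `θ` is an irreducible
character of `H` with `Z` in its kernel whose degree has the `p`-part of `|H : Z|`, then the
block of `θ` has defect at most the exponent of `p` in `|Z|`.
-/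

set_option autoImplicit false

universe u

namespace Cfsg.Agent.Lib.Helper52.CentralDefect

open Cfsg
open Cfsg.Agent.Lib.Helper77 Cfsg.Agent.Lib.Helper81 Cfsg.Agent.Lib.Helper80
open Cfsg.Agent.Lib.Helper16 Cfsg.Agent.Lib.Helper75

variable {H : Type u} [Group H] [Fintype H]

/-- A character with the central subgroup `Z` in its kernel which has defect zero modulo `Z`
lies in a block of defect at most that of `Z`. -/
theorem blockDefect_le_of_central_ker {p : ℕ} [Fact p.Prime] {M : Ideal AlgInt}
    (hpM : IsPModular p M) (Z : Subgroup H) (hZc : ∀ z ∈ Z, ∀ h : H, z * h = h * z)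
    (θ : IrrCharacter H) (hker : ∀ z ∈ Z, (θ : H → ℂ) z = (θ : H → ℂ) 1)
    (hdeg : (charDegree (θ : H → ℂ)).factorization p + (Nat.card Z).factorization p =
      (Nat.card H).factorization p) :
    blockDefect p (blockOf M (θ : H → ℂ)) ≤ (Nat.card Z).factorization p := by
  classical
  have hp : p.Prime := Fact.out
  have hMp : M.IsPrime := isPrime_of_isPModular hpM
  haveI hZn : Z.Normal := ⟨fun z hz g => by
    have h1 := hZc z hz g
    have h2 : g * z * g⁻¹ = z := by rw [← h1]; group
    rw [h2]; exact hz⟩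
  haveI : Fintype (H ⧸ Z) := Fintype.ofFinite _
  obtain ⟨ξ', hξ'irr, hξ'val⟩ := Cfsg.Agent.Lib.Helper79.isIrrCharacter_deflate θ.2 Z hker
  obtain ⟨θb, hθb⟩ : ∃ θb : IrrCharacter (H ⧸ Z), (θb : H ⧸ Z → ℂ) = ξ' := ⟨⟨ξ', hξ'irr⟩, rfl⟩
  have hθbval : ∀ g : H, (θb : H ⧸ Z → ℂ) (g : H ⧸ Z) = (θ : H → ℂ) g := by
    intro g; rw [hθb]; exact hξ'val g
  have hdeg' : charDegree (θb : H ⧸ Z → ℂ) = charDegree (θ : H → ℂ) := by
    unfold charDegree
    have := hθbval 1
    rw [QuotientGroup.mk_one] at this
    rw [this]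
  have hcardq : Nat.card H = Nat.card (H ⧸ Z) * Nat.card Z :=
    Subgroup.card_eq_card_quotient_mul_card_subgroup Z
  have hfac : (Nat.card H).factorization p =
      (Nat.card (H ⧸ Z)).factorization p + (Nat.card Z).factorization p := by
    rw [hcardq, Nat.factorization_mul Nat.card_pos.ne' Nat.card_pos.ne']
    rfl
  have hdz : (charDegree (θb : H ⧸ Z → ℂ)).factorization p =
      (Nat.card (H ⧸ Z)).factorization p := by
    rw [hdeg']; omega
  -- a defect class of the block of the deflated character
  obtain ⟨yb, hyb⟩ := exists_isDefectClass hpM θb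
  have hBb : IsPBlock M (blockOf M (θb : H ⧸ Z → ℂ)) := ⟨θb, rfl⟩
  have hval := val_centralizer_of_isDefectClass p M hpM hBb hyb
  have hmin : minDegVal p (blockOf M (θb : H ⧸ Z → ℂ)) =
      (Nat.card (H ⧸ Z)).factorization p := by
    obtain ⟨χ, hχB, hχ⟩ := exists_minDegVal p
      (⟨θb, self_mem_blockOf hMp θb⟩ : (blockOf M (θb : H ⧸ Z → ℂ)).Nonempty)
    have : θb = χ := eq_of_sameBlock_of_defect_zero hpM θb χ hdz hχB
    rw [← hχ, ← this, hdz]
  rw [hmin, Nat.sub_self] at hval
  obtain ⟨y, rfl⟩ := QuotientGroup.mk_surjective yb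
  have hω : ¬ MemLocalIdeal M (centralChar (θb : H ⧸ Z → ℂ) (y : H ⧸ Z)) :=
    hyb.2.2 θb (self_mem_blockOf hMp θb)
  -- comparison of the class sizes
  have hle : Subgroup.centralizer ({y} : Set H) ≤
      (Subgroup.centralizer ({(y : H ⧸ Z)} : Set (H ⧸ Z))).comap (QuotientGroup.mk' Z) := by
    intro h hh
    rw [Subgroup.mem_comap, Subgroup.mem_centralizer_iff]
    intro t ht
    rw [Set.mem_singleton_iff] at ht
    subst ht
    have := (Subgroup.mem_centralizer_iff.mp hh) y rfl
    show (y : H ⧸ Z) * (h : H ⧸ Z) = (h : H ⧸ Z) * (y : H ⧸ Z)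
    rw [← QuotientGroup.mk_mul, ← QuotientGroup.mk_mul, this]
  have hidx : (Subgroup.centralizer ({(y : H ⧸ Z)} : Set (H ⧸ Z))).index ∣
      (Subgroup.centralizer ({y} : Set H)).index := by
    have h1 := Subgroup.index_dvd_of_le hle
    rwa [Subgroup.index_comap_of_surjective _ (QuotientGroup.mk'_surjective Z)] at h1
  obtain ⟨r, hr⟩ := hidx
  have hZle : Z ≤ Subgroup.centralizer ({y} : Set H) := by
    intro z hz
    rw [Subgroup.mem_centralizer_iff]
    intro t ht
    rw [Set.mem_singleton_iff] at ht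
    subst ht
    exact (hZc z hz t).symm
  have hZdvd : Nat.card Z ∣ Nat.card (Subgroup.centralizer ({y} : Set H)) :=
    Subgroup.card_dvd_of_le hZle
  have hZval : (Nat.card Z).factorization p ≤
      (Nat.card (Subgroup.centralizer ({y} : Set H))).factorization p :=
    (Nat.factorization_le_iff_dvd Nat.card_pos.ne' Nat.card_pos.ne').mpr hZdvd p
  have hH1 : Nat.card H = (Subgroup.centralizer ({y} : Set H)).index *
      Nat.card (Subgroup.centralizer ({y} : Set H)) :=
    (Subgroup.index_mul_card _).symm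
  have hH2 : Nat.card (H ⧸ Z) = (Subgroup.centralizer ({(y : H ⧸ Z)} : Set (H ⧸ Z))).index *
      Nat.card (Subgroup.centralizer ({(y : H ⧸ Z)} : Set (H ⧸ Z))) :=
    (Subgroup.index_mul_card _).symm
  have hi1 : (Subgroup.centralizer ({y} : Set H)).index ≠ 0 := Subgroup.index_ne_zero_of_finite
  have hi2 : (Subgroup.centralizer ({(y : H ⧸ Z)} : Set (H ⧸ Z))).index ≠ 0 :=
    Subgroup.index_ne_zero_of_finite
  have hr0 : r ≠ 0 := by
    rintro rfl
    rw [mul_zero] at hr
    exact hi1 hr
  have hv1 : (Nat.card H).factorization p =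
      ((Subgroup.centralizer ({y} : Set H)).index).factorization p +
        (Nat.card (Subgroup.centralizer ({y} : Set H))).factorization p := by
    conv_lhs => rw [hH1]
    rw [Nat.factorization_mul hi1 Nat.card_pos.ne']
    rfl
  have hv2 : (Nat.card (H ⧸ Z)).factorization p =
      ((Subgroup.centralizer ({(y : H ⧸ Z)} : Set (H ⧸ Z))).index).factorization p +
        (Nat.card (Subgroup.centralizer ({(y : H ⧸ Z)} : Set (H ⧸ Z)))).factorization p := by
    conv_lhs => rw [hH2]
    rw [Nat.factorization_mul hi2 Nat.card_pos.ne']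
    rfl
  have hv3 : ((Subgroup.centralizer ({y} : Set H)).index).factorization p =
      ((Subgroup.centralizer ({(y : H ⧸ Z)} : Set (H ⧸ Z))).index).factorization p +
        r.factorization p := by
    rw [hr, Nat.factorization_mul hi2 hr0]
    rfl
  have hrval : r.factorization p = 0 := by omega
  have hCval : (Nat.card (Subgroup.centralizer ({y} : Set H))).factorization p ≤
      (Nat.card Z).factorization p := by omega
  have hpr : ¬ p ∣ r := by
    intro hdvd
    have := (hp.dvd_iff_one_le_factorization hr0).mp hdvd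
    omega
  -- the central characters
  have hcc : centralChar (θ : H → ℂ) y =
      (r : ℂ) * centralChar (θb : H ⧸ Z → ℂ) (y : H ⧸ Z) := by
    unfold centralChar
    rw [hθbval y, ← QuotientGroup.mk_one, hθbval 1, hr]
    push_cast
    ring
  have hnot : ¬ MemLocalIdeal M (centralChar (θ : H → ℂ) y) := by
    intro hmem
    rw [hcc] at hmem
    apply hω
    refine memLocalIdeal_of_mul_of_not_memLocalIdeal hMp (memLocalRing_natCast hMp r) ?_ hmem
    rw [memLocalIdeal_natCast_iff hpM]
    exact hpr
  exact (blockDefect_le_factorization_of_centralChar hpM θ y hnot).trans hCval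

end Cfsg.Agent.Lib.Helper52.CentralDefect
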