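import Mathlib

/-!
# S4439 (Fh hive): small leaves FH-D, FH-E
-/

set_option autoImplicit false

universe u

namespace Cfsg.Agent.Lib.Helper52.Fh

/-- FH-D (index of the centre is an isomorphism invariant). -/
theorem index_center_congr {D P : Type*} [Group D] [Group P] (e : D ≃* P) :
    (Subgroup.center P).index = (Subgroup.center D).index := by
  have h : (Subgroup.center D).map e.toMonoidHom = Subgroup.center P := by
    ext x
    constructor
    · rintro ⟨y, hy, rfl⟩
      rw [SetLike.mem_coe] at hy
      rw [Subgroup.mem_center_iff] at hy ⊢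
      intro g
      obtain ⟨g', rfl⟩ := e.surjective g
      show e g' * e y = e y * e g'
      rw [← map_mul, ← map_mul, hy g']
    · intro hx
      refine ⟨e.symm x, ?_, by simp⟩
      rw [SetLike.mem_coe, Subgroup.mem_center_iff] at *
      intro g
      apply e.injective
      rw [map_mul, map_mul, e.apply_symm_apply]
      exact hx (e g)
  rw [← h]
  exact Subgroup.index_map_equiv (Subgroup.center D) e

/-- FH-E (arithmetic). -/
theorem val_le_of_dvd {G : Type u} [Group G] [Finite G] {p : ℕ} [Fact p.Prime] (P : Sylow p G)
    (A : Subgroup G)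
    (hZ : ∀ z ∈ (P : Subgroup G), (∀ w ∈ (P : Subgroup G), z * w = w * z) → z ∈ A)
    (c d : ℕ) (hd : d ∣ c) (hc : c ≠ 0) (hpd : ¬ p ∣ d) (hdvd : c / d ∣ A.index) :
    c.factorization p ≤ ((Subgroup.center (P : Subgroup G)).index).factorization p := by
  have hp : p.Prime := Fact.out
  have hd0 : d ≠ 0 := fun h => hc (by rw [h] at hd; exact Nat.eq_zero_of_zero_dvd hd)
  have hq0 : c / d ≠ 0 := by
    intro h
    have := Nat.div_mul_cancel hd
    rw [h, zero_mul] at this
    exact hc this.symm
  have h1 : c.factorization p = (c / d).factorization p := by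
    conv_lhs => rw [← Nat.div_mul_cancel hd]
    rw [Nat.factorization_mul hq0 hd0, Finsupp.add_apply,
      Nat.factorization_eq_zero_of_not_dvd hpd, add_zero]
  have hA0 : A.index ≠ 0 := Subgroup.index_ne_zero_of_finite
  have h2 : (c / d).factorization p ≤ A.index.factorization p :=
    (Nat.factorization_le_iff_dvd hq0 hA0).mpr hdvd p
  -- the centre of `P` inside `G`
  set Z : Subgroup G := (Subgroup.center (P : Subgroup G)).map (P : Subgroup G).subtype with hZdef
  have hZA : Z ≤ A := by
    rintro _ ⟨z, hz, rfl⟩
    apply hZ _ z.2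
    intro w hw
    rw [SetLike.mem_coe, Subgroup.mem_center_iff] at hz
    have := hz ⟨w, hw⟩
    have h3 := congrArg Subtype.val this
    simpa using h3.symm
  have hcardZ : Nat.card Z = Nat.card (Subgroup.center (P : Subgroup G)) :=
    Subgroup.card_map_of_injective (Subgroup.subtype_injective _)
  have hZ0 : Nat.card Z ≠ 0 := Nat.card_pos.ne'
  have hdvdZA : Nat.card Z ∣ Nat.card A := Subgroup.card_dvd_of_le hZA
  have hAcard0 : Nat.card A ≠ 0 := Nat.card_pos.ne'
  have h3 : (Nat.card Z).factorization p ≤ (Nat.card A).factorization p :=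
    (Nat.factorization_le_iff_dvd hZ0 hAcard0).mpr hdvdZA p
  have h4 : A.index.factorization p + (Nat.card A).factorization p =
      (Nat.card G).factorization p := by
    rw [← Finsupp.add_apply, ← Nat.factorization_mul hA0 hAcard0, A.index_mul_card]
  have hP : Nat.card (P : Subgroup G) = p ^ (Nat.card G).factorization p :=
    Sylow.card_eq_multiplicity P
  have hci0 : (Subgroup.center (P : Subgroup G)).index ≠ 0 := Subgroup.index_ne_zero_of_finite
  have h5 : ((Subgroup.center (P : Subgroup G)).index).factorization p +
      (Nat.card Z).factorization p = (Nat.card G).factorization p := by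
    rw [hcardZ, ← Finsupp.add_apply, ← Nat.factorization_mul hci0 Nat.card_pos.ne',
      Subgroup.index_mul_card, hP, Nat.Prime.factorization_pow hp]
    simp
  rw [h1]
  omega

end Cfsg.Agent.Lib.Helper52.Fh

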