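import Cfsg.Agent.Lib.Helper52.FoB
import Cfsg.Agent.Lib.Helper1.FongCover3
import Cfsg.Agent.Lib.Helper16.PC3
import Cfsg.Agent.S0966

/-!
# Blocks over an invariant character of a normal `p'`-subgroup with `p`-power quotient
-/

set_option autoImplicit false

universe u

namespace Cfsg.Agent.Lib.Helper52.FoC

open Cfsg
open Cfsg.Agent.Lib.Helper77 Cfsg.Agent.Lib.Helper80 Cfsg.Agent.Lib.Helper81
open Cfsg.Agent.Lib.Helper16 Cfsg.Agent.Lib.Helper74 Cfsg.Agent.Lib.Helper75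
open Cfsg.Agent.Lib.Helper1
open scoped Pointwise ComplexConjugate

/-- In a `p'`-group every block is a singleton. -/
theorem blockOf_eq_singleton_of_coprime {H : Type u} [Group H] [Fintype H] {p : ℕ}
    [Fact p.Prime] {M : Ideal AlgInt} (hpM : IsPModular p M) (hcop : (Nat.card H).Coprime p)
    (θ : IrrCharacter H) : blockOf M (θ : H → ℂ) = {θ} := by
  have hp : p.Prime := Fact.out
  have hM : M.IsPrime := isPrime_of_isPModular hpM
  have hnd : ¬ p ∣ Nat.card H := fun h => hp.one_lt.ne' (Nat.Coprime.eq_one_of_dvd hcop.symm h)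
  obtain ⟨d, hd0, -, hdc, hdvd⟩ := irr_degree_spec θ
  have hdeg : (charDegree (θ : H → ℂ)).factorization p = (Nat.card H).factorization p := by
    rw [hdc, Nat.factorization_eq_zero_of_not_dvd hnd,
      Nat.factorization_eq_zero_of_not_dvd (fun h => hnd (h.trans hdvd))]
  ext ψ
  constructor
  · intro hψ
    exact (eq_of_sameBlock_of_defect_zero hpM θ ψ hdeg hψ).symm
  · rintro rfl
    exact self_mem_blockOf hM _

variable {G : Type u} [Group G] [Fintype G]
variable (N K : Subgroup G) [hN : N.Normal] [hK : K.Normal] [Fintype N] [Fintype K]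

/-- Transport of the constituent pairing to `N.subgroupOf K`. -/
theorem classInner_subgroupOf (hNK : N ≤ K) [Fintype (N.subgroupOf K)] (ζ : IrrCharacter K)
    (θ : IrrCharacter N) :
    classInner (fun n : N.subgroupOf K => (ζ : K → ℂ) n)
      (irrMap (Subgroup.subgroupOfEquivOfLe hNK) θ : N.subgroupOf K → ℂ) =
    classInner (fun n : N => (ζ : K → ℂ) ⟨(n : G), hNK n.2⟩) (θ : N → ℂ) :=
  classInner_comp_mulEquiv (Subgroup.subgroupOfEquivOfLe hNK)
    (fun n : N => (ζ : K → ℂ) ⟨(n : G), hNK n.2⟩) (θ : N → ℂ)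

/-- Two characters of `K` over the same character of `N`, `K/N` a `p`-group, are in the same
block. -/
theorem mem_blockOf_of_over {p : ℕ} [Fact p.Prime] {M : Ideal AlgInt} (hpM : IsPModular p M)
    (hNK : N ≤ K) (hidx : ∃ k : ℕ, (N.subgroupOf K).index = p ^ k) (θ : IrrCharacter N)
    (ζ₁ ζ₂ : IrrCharacter K)
    (h₁ : classInner (fun n : N => (ζ₁ : K → ℂ) ⟨(n : G), hNK n.2⟩) (θ : N → ℂ) ≠ 0)
    (h₂ : classInner (fun n : N => (ζ₂ : K → ℂ) ⟨(n : G), hNK n.2⟩) (θ : N → ℂ) ≠ 0) :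
    ζ₂ ∈ blockOf M (ζ₁ : K → ℂ) := by
  classical
  have hM : M.IsPrime := isPrime_of_isPModular hpM
  have : Fintype (N.subgroupOf K) := Fintype.ofFinite _
  have hN' : (N.subgroupOf K).Normal := inferInstance
  set e : N.subgroupOf K ≃* N := Subgroup.subgroupOfEquivOfLe hNK with he
  have huniq := Cfsg.Agent.S0966.result p M hpM (N.subgroupOf K) hidx
    (blockOf M (irrMap e θ : N.subgroupOf K → ℂ)) ⟨irrMap e θ, rfl⟩
  have hP : ∀ ζ : IrrCharacter K,
      classInner (fun n : N => (ζ : K → ℂ) ⟨(n : G), hNK n.2⟩) (θ : N → ℂ) ≠ 0 →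
      IsPBlock M (blockOf M (ζ : K → ℂ)) ∧ ∃ χ ∈ blockOf M (ζ : K → ℂ),
        ∃ θ' ∈ blockOf M (irrMap e θ : N.subgroupOf K → ℂ),
          classInner (fun n : N.subgroupOf K => (χ : K → ℂ) n) (θ' : N.subgroupOf K → ℂ) ≠ 0 := by
    intro ζ hζ
    refine ⟨⟨ζ, rfl⟩, ζ, self_mem_blockOf hM ζ, irrMap e θ, self_mem_blockOf hM _, ?_⟩
    rw [classInner_subgroupOf N K hNK ζ θ]
    exact hζ
  have heq := huniq.unique (hP ζ₁ h₁) (hP ζ₂ h₂)
  rw [heq]
  exact self_mem_blockOf hM ζ₂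

/-- A defect group of the block of `K` over an invariant character of the `p'`-group `N`,
`K/N` a `p`-group, supplements `N`. -/
theorem sup_eq_top_of_isDefectGroup {p : ℕ} [Fact p.Prime] {M : Ideal AlgInt}
    (hpM : IsPModular p M) (hNK : N ≤ K) (hidx : ∃ k : ℕ, (N.subgroupOf K).index = p ^ k)
    (hcop : (Nat.card N).Coprime p) (θ : IrrCharacter N)
    (hinv : ∀ (g : G) (n : N), (θ : N → ℂ) ⟨g * n * g⁻¹, hN.conj_mem n n.2 g⟩ = (θ : N → ℂ) n)
    (ζ : IrrCharacter K)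
    (hζ : classInner (fun n : N => (ζ : K → ℂ) ⟨(n : G), hNK n.2⟩) (θ : N → ℂ) ≠ 0)
    (D' : Subgroup K) (hD' : IsDefectGroup p M (blockOf M (ζ : K → ℂ)) D') :
    D' ⊔ N.subgroupOf K = ⊤ := by
  classical
  have hp : p.Prime := Fact.out
  have hM : M.IsPrime := isPrime_of_isPModular hpM
  have : Fintype (N.subgroupOf K) := Fintype.ofFinite _
  have hN' : (N.subgroupOf K).Normal := inferInstance
  set e : N.subgroupOf K ≃* N := Subgroup.subgroupOfEquivOfLe hNK with he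
  have hecoe : ∀ a : N.subgroupOf K, ((e a : N) : G) = ((a : K) : G) := fun a => rfl
  have hcop' : (Nat.card (N.subgroupOf K)).Coprime p := by
    rw [Nat.card_congr e.toEquiv]
    exact hcop
  have hsing := blockOf_eq_singleton_of_coprime hpM hcop' (irrMap e θ)
  have hinv' : GInv (N.subgroupOf K) (blockOf M (irrMap e θ : N.subgroupOf K → ℂ)) := by
    intro g θ₁ hθ₁ θ₂ h
    rw [hsing] at hθ₁ ⊢
    rw [Set.mem_singleton_iff] at hθ₁ ⊢
    subst hθ₁
    apply Subtype.ext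
    funext n
    rw [h n, irrMap_apply, irrMap_apply]
    have := hinv (g : G) (e n)
    rw [← this]
    exact congrArg (θ : N → ℂ) (Subtype.ext rfl)
  have hover : ∀ χ : IrrCharacter K,
      Over (N.subgroupOf K) (blockOf M (irrMap e θ : N.subgroupOf K → ℂ)) χ →
      classInner (fun n : N => (χ : K → ℂ) ⟨(n : G), hNK n.2⟩) (θ : N → ℂ) ≠ 0 := by
    rintro χ ⟨θ', hθ', hne⟩
    rw [hsing, Set.mem_singleton_iff] at hθ'
    subst hθ'
    rw [classInner_subgroupOf N K hNK χ θ] at hne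
    exact hne
  have hcov : ∃ χ ∈ blockOf M (ζ : K → ℂ),
      Over (N.subgroupOf K) (blockOf M (irrMap e θ : N.subgroupOf K → ℂ)) χ := by
    refine ⟨ζ, self_mem_blockOf hM ζ, irrMap e θ, self_mem_blockOf hM _, ?_⟩
    rw [classInner_subgroupOf N K hNK ζ θ]
    exact hζ
  have hmax : ∀ B' : Set (IrrCharacter K), IsPBlock M B' →
      (∃ χ ∈ B', Over (N.subgroupOf K) (blockOf M (irrMap e θ : N.subgroupOf K → ℂ)) χ) →
      blockDefect p B' ≤ blockDefect p (blockOf M (ζ : K → ℂ)) := by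
    rintro B' hB' ⟨χ, hχ, hχo⟩
    have h1 := mem_blockOf_of_over N K hpM hNK hidx θ ζ χ hζ (hover χ hχo)
    rw [eq_blockOf_of_mem hM hB' hχ, eq_blockOf_of_mem hM ⟨ζ, rfl⟩ h1]
  obtain ⟨hnd, -, -⟩ := fong_cover (N.subgroupOf K) hpM ⟨irrMap e θ, rfl⟩ hinv' ⟨ζ, rfl⟩ hcov
    hmax hD'
  obtain ⟨k, hk⟩ := hidx
  have hdvd : (D' ⊔ N.subgroupOf K).index ∣ p ^ k := by
    rw [← hk]
    exact Subgroup.index_dvd_of_le le_sup_right
  obtain ⟨j, -, hj⟩ := (Nat.dvd_prime_pow hp).mp hdvd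
  rw [← Subgroup.index_eq_one]
  cases j with
  | zero => rw [hj, pow_zero]
  | succ j =>
    exfalso
    apply hnd
    rw [hj]
    exact dvd_pow_self p (Nat.succ_ne_zero j)

end Cfsg.Agent.Lib.Helper52.FoC
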