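import Cfsg.Agent.Lib.Helper52.FoC

/-!
# Fong's theorem on the blocks of a `p`-solvable group over an invariant character of `O_{p'}(G)`
-/

set_option autoImplicit false
set_option linter.unusedSectionVars false

universe u

namespace Cfsg.Agent.Lib.Helper52.FoD

open Cfsg
open Cfsg.Agent.Lib.Helper77 Cfsg.Agent.Lib.Helper80 Cfsg.Agent.Lib.Helper81
open Cfsg.Agent.Lib.Helper16 Cfsg.Agent.Lib.Helper74 Cfsg.Agent.Lib.Helper75
open Cfsg.Agent.Lib.Helper1
open Cfsg.Agent.Lib.Helper52.FoA Cfsg.Agent.Lib.Helper52.FoB Cfsg.Agent.Lib.Helper52.FoC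
open scoped Pointwise ComplexConjugate

variable {G : Type u} [Group G] [Fintype G]
variable (N K : Subgroup G) [hN : N.Normal] [hK : K.Normal] [Fintype N] [Fintype K]

/-- The abstract form: `N ≤ K` normal, `N` a `p'`-group, `K/N` a `p`-group, and every supplement
of `N` in `K` has its centralizer in `K`. -/
theorem fong_abstract {p : ℕ} [Fact p.Prime] {M : Ideal AlgInt} (hpM : IsPModular p M)
    (hNK : N ≤ K) (hidx : ∃ k : ℕ, (N.subgroupOf K).index = p ^ k)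
    (hcop : (Nat.card N).Coprime p)
    (hHH : ∀ D : Subgroup G, D ⊔ N = K → Subgroup.centralizer (D : Set G) ≤ K)
    (θ : IrrCharacter N)
    (hinv : ∀ (g : G) (n : N), (θ : N → ℂ) ⟨g * n * g⁻¹, hN.conj_mem n n.2 g⟩ = (θ : N → ℂ) n) :
    ∃ B : Set (IrrCharacter G), IsPBlock M B ∧
      (∀ χ : IrrCharacter G, χ ∈ B ↔ classInner (fun n : N => (χ : G → ℂ) n) (θ : N → ℂ) ≠ 0) ∧
      (∀ P : Sylow p G, IsDefectGroup p M B (P : Subgroup G)) ∧
      ∀ D : Subgroup G, IsDefectGroup p M B D → ∃ P : Sylow p G, D = (P : Subgroup G) := by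
  classical
  have hM : M.IsPrime := isPrime_of_isPModular hpM
  have hp : p.Prime := Fact.out
  -- any two characters over `θ` lie in the same block
  have key : ∀ χ₁ χ₂ : IrrCharacter G,
      classInner (fun n : N => (χ₁ : G → ℂ) n) (θ : N → ℂ) ≠ 0 →
      classInner (fun n : N => (χ₂ : G → ℂ) n) (θ : N → ℂ) ≠ 0 →
      SameBlock M (χ₁ : G → ℂ) (χ₂ : G → ℂ) := by
    intro χ₁ χ₂ h₁ h₂
    obtain ⟨ζ₁, hm₁, hr₁⟩ :=
      Cfsg.Agent.Lib.Helper52.KnI.exists_intermediate_constituent N K hNK χ₁ θ h₁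
    obtain ⟨ζ₂, hm₂, hr₂⟩ :=
      Cfsg.Agent.Lib.Helper52.KnI.exists_intermediate_constituent N K hNK χ₂ θ h₂
    have hζ₂ := mem_blockOf_of_over N K hpM hNK hidx θ ζ₁ ζ₂ hr₁ hr₂
    obtain ⟨D', hD'⟩ := exists_isDefectGroup hpM ζ₁
    have hsup := sup_eq_top_of_isDefectGroup N K hpM hNK hidx hcop θ hinv ζ₁ hr₁ D' hD'
    set D := D'.map K.subtype with hDdef
    have hDK : D ≤ K := Subgroup.map_subtype_le _
    have hDsub : D.subgroupOf K = D' :=
      Subgroup.comap_map_eq_self_of_injective K.subtype_injective D'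
    have hDN : D ⊔ N = K := by
      have h1 := congrArg (Subgroup.map K.subtype) hsup
      rw [Subgroup.map_sup, Subgroup.subgroupOf_map_subtype, inf_eq_left.mpr hNK,
        ← MonoidHom.range_eq_map, Subgroup.range_subtype] at h1
      exact h1
    exact sameBlock_of_centralizer_le K hpM χ₁ χ₂ ζ₁ ζ₁ ζ₂ (self_mem_blockOf hM ζ₁) hζ₂ hm₁ hm₂
      D hDK (by rw [hDsub]; exact hD') (hHH D hDN)
  obtain ⟨χ₀, hχ₀⟩ := Cfsg.Agent.S0966.exists_over N θ
  have hsing := blockOf_eq_singleton_of_coprime hpM hcop θ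
  have hGinv : GInv N (blockOf M (θ : N → ℂ)) := by
    intro g θ₁ hθ₁ θ₂ h
    rw [hsing] at hθ₁ ⊢
    rw [Set.mem_singleton_iff] at hθ₁ ⊢
    subst hθ₁
    apply Subtype.ext
    funext n
    rw [h n]
    exact hinv g n
  have hmemiff : ∀ χ : IrrCharacter G, χ ∈ blockOf M (χ₀ : G → ℂ) ↔
      classInner (fun n : N => (χ : G → ℂ) n) (θ : N → ℂ) ≠ 0 := by
    intro χ
    constructor
    · intro hχ
      have h1 : χ ∈ overSet N (blockOf M (θ : N → ℂ)) :=
        overSet_saturated N hpM ⟨θ, rfl⟩ hGinv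
          (show χ₀ ∈ overSet N (blockOf M (θ : N → ℂ)) from ⟨θ, self_mem_blockOf hM θ, hχ₀⟩) hχ
      obtain ⟨θ', hθ', hne⟩ := h1
      rw [hsing, Set.mem_singleton_iff] at hθ'
      subst hθ'
      exact hne
    · intro hχ
      exact key χ₀ χ hχ₀ hχ
  have hsyl : ∀ D : Subgroup G, IsDefectGroup p M (blockOf M (χ₀ : G → ℂ)) D →
      ∃ P : Sylow p G, D = (P : Subgroup G) := by
    intro D hD
    have hcov : ∃ χ ∈ blockOf M (χ₀ : G → ℂ), Over N (blockOf M (θ : N → ℂ)) χ :=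
      ⟨χ₀, self_mem_blockOf hM χ₀, θ, self_mem_blockOf hM θ, hχ₀⟩
    have hmax : ∀ B' : Set (IrrCharacter G), IsPBlock M B' →
        (∃ χ ∈ B', Over N (blockOf M (θ : N → ℂ)) χ) →
        blockDefect p B' ≤ blockDefect p (blockOf M (χ₀ : G → ℂ)) := by
      rintro B' hB' ⟨χ, hχ, θ', hθ', hne⟩
      rw [hsing, Set.mem_singleton_iff] at hθ'
      subst hθ'
      have h1 : χ ∈ blockOf M (χ₀ : G → ℂ) := key χ₀ χ hχ₀ hne
      rw [eq_blockOf_of_mem hM hB' hχ, eq_blockOf_of_mem hM ⟨χ₀, rfl⟩ h1]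
    obtain ⟨hnd, -, -⟩ := fong_cover N hpM ⟨θ, rfl⟩ hGinv ⟨χ₀, rfl⟩ hcov hmax hD
    have hDp : IsPGroup p D := isPGroup_of_isDefectGroup hD
    have hx : D.relIndex (D ⊔ N) ∣ Nat.card N := by
      have h1 := Cfsg.Agent.Lib.Helper30.card_mul_relIndex_eq (le_sup_left : D ≤ D ⊔ N)
      have h2 := Cfsg.Agent.Lib.Helper30.card_sup_dvd_mul D N
      rw [← h1] at h2
      exact Nat.dvd_of_mul_dvd_mul_left Nat.card_pos h2
    have hnd' : ¬ p ∣ D.index := by
      rw [← Subgroup.relIndex_mul_index (le_sup_left : D ≤ D ⊔ N)]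
      intro h
      rcases (Nat.Prime.dvd_mul hp).mp h with h | h
      · exact hp.one_lt.ne' (Nat.Coprime.eq_one_of_dvd hcop.symm (h.trans hx))
      · exact hnd h
    exact ⟨hDp.toSylow hnd', rfl⟩
  refine ⟨blockOf M (χ₀ : G → ℂ), ⟨χ₀, rfl⟩, hmemiff, ?_, hsyl⟩
  intro P
  obtain ⟨D₀, hD₀⟩ := exists_isDefectGroup hpM χ₀
  obtain ⟨P₀, rfl⟩ := hsyl D₀ hD₀
  obtain ⟨g, rfl⟩ := MulAction.exists_smul_eq G P₀ P
  rw [Sylow.coe_subgroup_smul]
  exact isDefectGroup_conj hD₀ g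

end Cfsg.Agent.Lib.Helper52.FoD
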