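import Cfsg.Agent.Lib.Helper74.FR7
import Cfsg.Agent.Lib.Helper74.FR6
import Cfsg.Agent.Lib.Helper77.DefectConj
import Cfsg.Agent.S4492
import Cfsg.Agent.S0887
import Cfsg.Agent.Lib.Helper8.FhA
import Cfsg.Agent.Lib.Helper74.FhB
import Cfsg.Agent.Lib.Helper32.FhC
import Cfsg.Agent.Lib.Helper52.FhD
import Cfsg.Agent.Lib.Helper52.FoC

/-!
# Fong's height bound for p-solvable groups: the glue (S4439)
-/

set_option autoImplicit false

universe u

namespace Cfsg.Agent.Lib.Helper52.Fh

open Cfsg Cfsg.Agent.Lib.Helper74 Cfsg.Agent.Lib.Helper77 Cfsg.Agent.Lib.Helper81 Cfsg.Agent.Lib.Helper16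
open scoped Pointwise

/-- Fong–Reynolds step. -/
theorem noninv_step {p : ℕ} [Fact p.Prime] {M : Ideal AlgInt} (hpM : IsPModular p M)
    {G : Type u} [Group G] [Fintype G] (N : Subgroup G) [hN : N.Normal] [Fintype N]
    (T : Subgroup G) [Fintype T] (hNT : N ≤ T) (b : Set (IrrCharacter N)) (hb : IsPBlock M b)
    (hst : IsStab N T b) (B : Set (IrrCharacter G)) (hB : IsPBlock M B) (P : Subgroup G)
    (hP : IsDefectGroup p M B P) (χ : IrrCharacter G) (hχ : χ ∈ B)
    (hcov : FrOverG N b (χ : G → ℂ))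
    (ih : ∀ B' : Set (IrrCharacter T), IsPBlock M B' → ∀ D : Subgroup T,
      IsDefectGroup p M B' D → ∀ ψ : IrrCharacter T, ψ ∈ B' →
        blockHeight p B' (ψ : T → ℂ) ≤ ((Subgroup.center D).index).factorization p) :
    blockHeight p B (χ : G → ℂ) ≤ ((Subgroup.center P).index).factorization p := by
  have hM := isPrime_of_isPModular hpM
  obtain ⟨B', hB', hcov', hind⟩ := fr_part_iii N T hNT b hpM hb hst B hB ⟨χ, hχ, hcov⟩
  obtain ⟨B₀, hind₀, -, hirr, hmem₀⟩ := fr_part_i N T hNT b hpM hb hst B' hB' hcov'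
  have hBB : B₀ = B := isInducedBlock_unique hM hind₀ hind
  have hχ₀ : χ ∈ B₀ := by rw [hBB]; exact hχ
  obtain ⟨ψ, hψ, hχψ⟩ := (hmem₀ χ).mp hχ₀
  obtain ⟨hdef, hht⟩ := fr_defect_height N T hNT b hpM hb hst B' hB' hcov' B hind
  obtain ⟨χ', hχ', hχ'eq, hhteq⟩ := hht ψ hψ
  have h1 : blockHeight p B (χ : G → ℂ) = blockHeight p B' (ψ : T → ℂ) := by
    rw [hχψ, ← hχ'eq, hhteq]
  have hB'eq : B' = blockOf M (ψ : T → ℂ) := eq_blockOf_of_mem hM hB' hψ
  obtain ⟨D, hD⟩ := exists_isDefectGroup (p := p) hpM ψ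
  rw [← hB'eq] at hD
  have hDG := hdef D hD
  have hBeq : B = blockOf M (χ : G → ℂ) := eq_blockOf_of_mem hM hB hχ
  rw [hBeq] at hP hDG
  obtain ⟨x, hx⟩ := exists_conj_le_of_isDefectGroup hpM χ hP hDG
  have hcard := card_eq_of_isDefectGroup hpM χ hP hDG
  have hcard2 : Nat.card (MulAut.conj x • D.map T.subtype : Subgroup G) = Nat.card P := by
    rw [card_conj_smul, hcard]
  have hEq : (MulAut.conj x • D.map T.subtype : Subgroup G) = P := by
    apply SetLike.coe_injective
    exact Set.eq_of_subset_of_ncard_le hx (by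
      show Nat.card P ≤ Nat.card (MulAut.conj x • D.map T.subtype : Subgroup G)
      rw [hcard2]) (Set.toFinite _)
  have e1 : D ≃* (D.map T.subtype) := D.equivMapOfInjective T.subtype T.subtype_injective
  have e2 : (D.map T.subtype) ≃* (MulAut.conj x • D.map T.subtype : Subgroup G) :=
    Subgroup.equivSMul (MulAut.conj x) (D.map T.subtype)
  have e3 : (MulAut.conj x • D.map T.subtype : Subgroup G) ≃* P := MulEquiv.subgroupCongr hEq
  rw [h1, index_center_congr ((e1.trans e2).trans e3)]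
  exact ih B' hB' D hD ψ hψ

/-- The degree bound in the invariant case. -/
theorem deg_bound {p : ℕ} [Fact p.Prime] {G : Type u} [Group G] [Fintype G]
    [Fintype (pPrimeCore p G)]
    (hsolv : IsPSolvable p G) (P : Sylow p G) (θ : IrrCharacter (pPrimeCore p G))
    (hinv : ∀ (g : G) (n : pPrimeCore p G),
      (θ : pPrimeCore p G → ℂ) ⟨g * n * g⁻¹, (pPrimeCore_normal p G).conj_mem n n.2 g⟩ =
        (θ : pPrimeCore p G → ℂ) n)
    (χ : IrrCharacter G)
    (hov : classInner (fun n : pPrimeCore p G => (χ : G → ℂ) n) (θ : pPrimeCore p G → ℂ) ≠ 0) :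
    (charDegree (χ : G → ℂ)).factorization p ≤
      ((Subgroup.center (P : Subgroup G)).index).factorization p := by
  classical
  have hp : p.Prime := Fact.out
  obtain ⟨A, hAn, hKA, ⟨k, hk⟩, hab, hZ⟩ := exists_abelian_section hsolv P
  have := hAn
  have : Fintype A := Fintype.ofFinite _
  obtain ⟨η, hη1, hη2⟩ := exists_intermediate (pPrimeCore p G) A hKA χ θ hov
  have hKcop : (Nat.card (pPrimeCore p G)).Coprime p :=
    Cfsg.Agent.Lib.Helper30.pPrimeCore_card_coprime p
  have hcop : (Nat.card (pPrimeCore p G)).Coprime ((pPrimeCore p G).relIndex A) := by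
    rw [hk]
    exact Nat.Coprime.pow_right k hKcop
  have hdeg := degree_eq_of_abelian_coprime (pPrimeCore p G) A hKA hcop hab θ hinv η hη2
  obtain ⟨c, hc0, hc1, hc2, -⟩ := irr_degree_spec χ
  obtain ⟨d, hd0, hd1, -, hd3⟩ := irr_degree_spec θ
  have hηd : (η : A → ℂ) 1 = (d : ℂ) := by rw [hdeg, hd1]
  obtain ⟨h1, h2⟩ := Cfsg.Agent.S0887.result A (χ : G → ℂ) χ.2 (η : A → ℂ) η.2 hη1 c d hc1 hηd
  have hpd : ¬ p ∣ d := by
    intro h
    have := Nat.Coprime.eq_one_of_dvd hKcop.symm (h.trans hd3)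
    exact hp.one_lt.ne' this
  rw [hc2]
  exact val_le_of_dvd P A hZ c d h1 hc0.ne' hpd h2

/-- The invariant step. -/
theorem inv_step {p : ℕ} [Fact p.Prime] {M : Ideal AlgInt} (hpM : IsPModular p M)
    {G : Type u} [Group G] [Fintype G] [Fintype (pPrimeCore p G)] (hsolv : IsPSolvable p G)
    (θ : IrrCharacter (pPrimeCore p G))
    (hinv : ∀ (g : G) (n : pPrimeCore p G),
      (θ : pPrimeCore p G → ℂ) ⟨g * n * g⁻¹, (pPrimeCore_normal p G).conj_mem n n.2 g⟩ =
        (θ : pPrimeCore p G → ℂ) n)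
    (B : Set (IrrCharacter G)) (hB : IsPBlock M B) (P : Subgroup G)
    (hP : IsDefectGroup p M B P) (χ : IrrCharacter G) (hχ : χ ∈ B)
    (hov : classInner (fun n : pPrimeCore p G => (χ : G → ℂ) n) (θ : pPrimeCore p G → ℂ) ≠ 0) :
    blockHeight p B (χ : G → ℂ) ≤ ((Subgroup.center P).index).factorization p := by
  classical
  have hM := isPrime_of_isPModular hpM
  obtain ⟨B₀, hB₀, hmem, -, hsyl⟩ :=
    Cfsg.Agent.S4492.result p M hpM hsolv (pPrimeCore p G) rfl θ hinv
  have hχ₀ : χ ∈ B₀ := (hmem χ).mpr hov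
  have hBB : B₀ = B := by
    rw [eq_blockOf_of_mem hM hB₀ hχ₀, eq_blockOf_of_mem hM hB hχ]
  rw [← hBB] at hP
  obtain ⟨S, rfl⟩ := hsyl P hP
  refine le_trans ?_ (deg_bound hsolv S θ hinv χ hov)
  unfold blockHeight
  exact Nat.sub_le _ _

/-- The stabilizer of the singleton block `{θ}` is the inertia group. -/
theorem isStab_singleton {G : Type u} [Group G] [Fintype G] (N : Subgroup G) [hN : N.Normal]
    [Fintype N] (θ : IrrCharacter N) [Fintype (Cfsg.Agent.S0887.inertia N (θ : N → ℂ))] :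
    IsStab N (Cfsg.Agent.S0887.inertia N (θ : N → ℂ)) {θ} := by
  apply isStab_of
  intro g
  rw [Cfsg.Agent.S0887.mem_inertia]
  constructor
  · intro h θ₁ hθ₁ θ' hθ'
    rw [Set.mem_singleton_iff] at hθ₁ ⊢
    subst hθ₁
    apply Subtype.ext
    funext n
    rw [hθ' n, h n]
  · intro h n
    have hmem : Cfsg.Agent.Lib.Helper77.conjIrr N g θ ∈ ({θ} : Set (IrrCharacter N)) :=
      h θ rfl _ (fun n => Cfsg.Agent.Lib.Helper77.conjIrr_apply N g θ n)
    rw [Set.mem_singleton_iff] at hmem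
    rw [← Cfsg.Agent.Lib.Helper77.conjIrr_apply N g θ n, hmem]

/-- **Fong**: heights in `p`-solvable groups are bounded by the central quotient of a defect
group. -/
theorem fong_height_aux {p : ℕ} [Fact p.Prime] {M : Ideal AlgInt} (hpM : IsPModular p M) :
    ∀ n : ℕ, ∀ (G : Type u) [Group G] [Fintype G], Fintype.card G = n → IsPSolvable p G →
      ∀ B : Set (IrrCharacter G), IsPBlock M B → ∀ P : Subgroup G, IsDefectGroup p M B P →
        ∀ χ : IrrCharacter G, χ ∈ B →
          blockHeight p B (χ : G → ℂ) ≤ ((Subgroup.center P).index).factorization p := by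
  intro n
  induction n using Nat.strong_induction_on with
  | _ n ih =>
    intro G _ _ hn hsolv B hB P hP χ hχ
    classical
    have hM := isPrime_of_isPModular hpM
    have : Fintype (pPrimeCore p G) := Fintype.ofFinite _
    obtain ⟨θ, hθ⟩ := exists_constituent (pPrimeCore p G) χ
    by_cases hT : Cfsg.Agent.S0887.inertia (pPrimeCore p G) (θ : pPrimeCore p G → ℂ) = ⊤
    · apply inv_step hpM hsolv θ ?_ B hB P hP χ hχ hθ
      intro g m
      have hg : g ∈ Cfsg.Agent.S0887.inertia (pPrimeCore p G) (θ : pPrimeCore p G → ℂ) := by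
        rw [hT]; trivial
      exact (Cfsg.Agent.S0887.mem_inertia _ _ g).mp hg m
    · set T := Cfsg.Agent.S0887.inertia (pPrimeCore p G) (θ : pPrimeCore p G → ℂ) with hTdef
      have : Fintype T := Fintype.ofFinite _
      have hNT : pPrimeCore p G ≤ T := Cfsg.Agent.S0887.le_inertia _ _ θ.2
      have hb : IsPBlock M ({θ} : Set (IrrCharacter (pPrimeCore p G))) :=
        ⟨θ, (Cfsg.Agent.Lib.Helper52.FoC.blockOf_eq_singleton_of_coprime hpM
          (Cfsg.Agent.Lib.Helper30.pPrimeCore_card_coprime p) θ).symm⟩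
      have hst := isStab_singleton (pPrimeCore p G) θ
      have hlt : Fintype.card T < n := by
        rw [← hn, ← Nat.card_eq_fintype_card, ← Nat.card_eq_fintype_card]
        have hne : T.index ≠ 1 := fun h => hT (Subgroup.index_eq_one.mp h)
        have h0 : T.index ≠ 0 := Subgroup.index_ne_zero_of_finite
        have := T.card_mul_index
        have hpos : 0 < Nat.card T := Nat.card_pos
        nlinarith [Nat.two_le_iff T.index |>.mpr ⟨h0, hne⟩]
      have hsolvT : IsPSolvable p T := Cfsg.Agent.Lib.Helper76.isPSolvable_subgroup T hsolv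
      exact noninv_step hpM (pPrimeCore p G) T hNT {θ} hb hst B hB P hP χ hχ ⟨θ, rfl, hθ⟩
        (fun B' hB' D hD ψ hψ => ih _ hlt T rfl hsolvT B' hB' D hD ψ hψ)

end Cfsg.Agent.Lib.Helper52.Fh
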