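import Mathlib

set_option autoImplicit false

namespace Cfsg.Agent.Lib.Helper52.FH

open Matrix

/-- Abstract torsor counting: a surjection whose fibres are free orbits of `H`. -/
theorem card_eq_mul_of_torsor {X Y H : Type*} [Finite X] [Finite Y] [Finite H]
    (Φ : X → Y) (hsurj : Function.Surjective Φ) (act : H → X → X)
    (h1 : ∀ h x, Φ (act h x) = Φ x)
    (h2 : ∀ x x', Φ x = Φ x' → ∃ h, x' = act h x)
    (h3 : ∀ x h h', act h x = act h' x → h = h') :
    Nat.card X = Nat.card Y * Nat.card H := by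
  classical
  choose s hs using hsurj
  have hbij : Function.Bijective (fun yh : Y × H => act yh.2 (s yh.1)) := by
    constructor
    · rintro ⟨y, h⟩ ⟨y', h'⟩ heq
      simp only at heq
      have hy : y = y' := by
        have := congrArg Φ heq
        rwa [h1, h1, hs, hs] at this
      subst hy
      have := h3 _ _ _ heq
      rw [this]
    · intro x
      obtain ⟨h, hh⟩ := h2 (s (Φ x)) x (hs (Φ x))
      exact ⟨(Φ x, h), hh.symm⟩
  rw [← Nat.card_prod]
  exact (Nat.card_congr (Equiv.ofBijective _ hbij)).symm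

variable {F : Type*} [Field F]

/-- rank of a block matrix with only the lower right block nonzero -/
theorem rank_fromBlocks_zero_right {k m : ℕ} (B : Matrix (Fin m) (Fin m) F) :
    (fromBlocks (0 : Matrix (Fin k) (Fin k) F) 0 0 B).rank = B.rank := by
  apply le_antisymm
  · -- fromBlocks 0 0 0 B = J * B * Jt
    let J : Matrix (Fin k ⊕ Fin m) (Fin m) F := Matrix.of fun i j => Sum.elim (fun _ => 0) (fun i' => if i' = j then 1 else 0) i
    let Jt : Matrix (Fin m) (Fin k ⊕ Fin m) F := Matrix.of fun i j => Sum.elim (fun _ => 0) (fun j' => if i = j' then 1 else 0) j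
    have h : fromBlocks (0 : Matrix (Fin k) (Fin k) F) 0 0 B = J * B * Jt := by
      ext i j
      rcases i with i | i <;> rcases j with j | j <;>
        simp [J, Jt, Matrix.mul_apply, Matrix.fromBlocks]
    rw [h]
    calc (J * B * Jt).rank ≤ (J * B).rank := Matrix.rank_mul_le_left _ _
      _ ≤ B.rank := Matrix.rank_mul_le_right _ _
  · have h : B = (fromBlocks (0 : Matrix (Fin k) (Fin k) F) 0 0 B).submatrix Sum.inr Sum.inr := by
      ext i j
      simp
    conv_lhs => rw [h]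
    exact Matrix.rank_submatrix_le _ _ _


theorem pow_card_eq_zero_of_isNilpotent {k : ℕ} {N : Matrix (Fin k) (Fin k) F} (hN : IsNilpotent N) :
    N ^ k = 0 := by
  have h1 := Matrix.isNilpotent_charpoly_sub_pow_of_isNilpotent hN
  have h2 : N.charpoly - Polynomial.X ^ (Fintype.card (Fin k)) = 0 := h1.eq_zero
  have h3 : N.charpoly = Polynomial.X ^ k := by
    rw [sub_eq_zero] at h2
    rw [h2, Fintype.card_fin]
  have h4 := Matrix.aeval_self_charpoly N
  rw [h3] at h4
  simpa using h4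

theorem pow_eq_zero_of_isNilpotent_of_le {k n : ℕ} {N : Matrix (Fin k) (Fin k) F} (hN : IsNilpotent N)
    (h : k ≤ n) : N ^ n = 0 := by
  obtain ⟨j, rfl⟩ := Nat.exists_eq_add_of_le h
  rw [pow_add, pow_card_eq_zero_of_isNilpotent hN, zero_mul]

/-- block diagonal matrix -/
def bd {k m : ℕ} (N : Matrix (Fin k) (Fin k) F) (A : Matrix (Fin m) (Fin m) F) :
    Matrix (Fin k ⊕ Fin m) (Fin k ⊕ Fin m) F := fromBlocks N 0 0 A

theorem bd_mul {k m : ℕ} (N N' : Matrix (Fin k) (Fin k) F) (A A' : Matrix (Fin m) (Fin m) F) :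
    bd N A * bd N' A' = bd (N * N') (A * A') := by
  simp [bd, fromBlocks_multiply]

theorem bd_one {k m : ℕ} : bd (1 : Matrix (Fin k) (Fin k) F) (1 : Matrix (Fin m) (Fin m) F) = 1 :=
  fromBlocks_one

theorem bd_pow {k m : ℕ} (N : Matrix (Fin k) (Fin k) F) (A : Matrix (Fin m) (Fin m) F) (j : ℕ) :
    (bd N A) ^ j = bd (N ^ j) (A ^ j) := fromBlocks_diagonal_pow N A j

theorem bd_inj {k m : ℕ} {N N' : Matrix (Fin k) (Fin k) F} {A A' : Matrix (Fin m) (Fin m) F}
    (h : bd N A = bd N' A') : N = N' ∧ A = A' := by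
  have := fromBlocks_inj.mp h
  exact ⟨this.1, this.2.2.2⟩

/-- block diagonal element of GL -/
def bdGL {k m : ℕ} (B : GL (Fin k) F) (C : GL (Fin m) F) : GL (Fin k ⊕ Fin m) F :=
  ⟨bd (B : Matrix (Fin k) (Fin k) F) (C : Matrix (Fin m) (Fin m) F),
   bd ((B⁻¹ : GL (Fin k) F) : Matrix (Fin k) (Fin k) F) ((C⁻¹ : GL (Fin m) F) : Matrix (Fin m) (Fin m) F),
   by rw [bd_mul, Units.mul_inv, Units.mul_inv, bd_one],
   by rw [bd_mul, Units.inv_mul, Units.inv_mul, bd_one]⟩

theorem bdGL_val {k m : ℕ} (B : GL (Fin k) F) (C : GL (Fin m) F) :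
    ((bdGL B C : GL (Fin k ⊕ Fin m) F) : Matrix (Fin k ⊕ Fin m) (Fin k ⊕ Fin m) F) = bd (B : Matrix _ _ F) (C : Matrix _ _ F) := rfl

theorem bdGL_inv_val {k m : ℕ} (B : GL (Fin k) F) (C : GL (Fin m) F) :
    (((bdGL B C)⁻¹ : GL (Fin k ⊕ Fin m) F) : Matrix (Fin k ⊕ Fin m) (Fin k ⊕ Fin m) F) =
      bd ((B⁻¹ : GL (Fin k) F) : Matrix _ _ F) ((C⁻¹ : GL (Fin m) F) : Matrix _ _ F) := rfl


theorem cancel_aux {M : Type*} [Monoid M] (p x q dm di : M) (h : di * dm = 1) :
    (p * di) * (dm * x * di) * (dm * q) = p * x * q := by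
  calc (p * di) * (dm * x * di) * (dm * q) = p * (di * dm) * x * (di * dm) * q := by
        simp only [mul_assoc]
    _ = p * x * q := by rw [h]; simp

/-- the domain of the parametrisation -/
abbrev Dom (k m : ℕ) (F : Type*) [Field F] :=
  GL (Fin k ⊕ Fin m) F × {N : Matrix (Fin k) (Fin k) F // IsNilpotent N} × GL (Fin m) F

/-- `P * (N ⊕ A) * P⁻¹` -/
def phiMat {k m : ℕ} (d : Dom k m F) : Matrix (Fin k ⊕ Fin m) (Fin k ⊕ Fin m) F :=
  (d.1 : Matrix _ _ F) * bd d.2.1.1 (d.2.2 : Matrix _ _ F) * ((d.1⁻¹ : GL _ F) : Matrix _ _ F)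

theorem rank_conj {ι : Type*} [Fintype ι] [DecidableEq ι] (P : GL ι F) (X : Matrix ι ι F) :
    ((P : Matrix ι ι F) * X * ((P⁻¹ : GL ι F) : Matrix ι ι F)).rank = X.rank := by
  rw [Matrix.rank_mul_eq_left_of_isUnit_det _ _ (Matrix.isUnits_det_units P⁻¹),
    Matrix.rank_mul_eq_right_of_isUnit_det _ _ (Matrix.isUnits_det_units P)]

theorem rank_phiMat_pow {k m : ℕ} (d : Dom k m F) : ((phiMat d) ^ (k + m)).rank = m := by
  obtain ⟨P, ⟨N, hN⟩, A⟩ := d
  unfold phiMat
  simp only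
  rw [Units.conj_pow, rank_conj, bd_pow, pow_eq_zero_of_isNilpotent_of_le hN (Nat.le_add_right k m)]
  unfold bd
  rw [rank_fromBlocks_zero_right]
  have : ((A : Matrix (Fin m) (Fin m) F)) ^ (k + m) = ((A ^ (k + m) : GL (Fin m) F) : Matrix _ _ F) := by
    simp
  rw [this, Matrix.rank_unit, Fintype.card_fin]

theorem isNilpotent_conj {k : ℕ} (B : GL (Fin k) F) {N : Matrix (Fin k) (Fin k) F} (hN : IsNilpotent N) :
    IsNilpotent ((B : Matrix _ _ F) * N * ((B⁻¹ : GL _ F) : Matrix _ _ F)) := by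
  obtain ⟨j, hj⟩ := hN
  refine ⟨j, ?_⟩
  rw [Units.conj_pow, hj, mul_zero, zero_mul]

/-- the action of `GL_k × GL_m` -/
def act {k m : ℕ} (h : GL (Fin k) F × GL (Fin m) F) (d : Dom k m F) : Dom k m F :=
  (d.1 * (bdGL h.1 h.2)⁻¹,
   ⟨(h.1 : Matrix _ _ F) * d.2.1.1 * ((h.1⁻¹ : GL _ F) : Matrix _ _ F), isNilpotent_conj h.1 d.2.1.2⟩,
   h.2 * d.2.2 * h.2⁻¹)

theorem phiMat_act {k m : ℕ} (h : GL (Fin k) F × GL (Fin m) F) (d : Dom k m F) :
    phiMat (act h d) = phiMat d := by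
  obtain ⟨P, ⟨N, hN⟩, A⟩ := d
  obtain ⟨B, C⟩ := h
  unfold phiMat act
  simp only
  have hPD : ((P * (bdGL B C)⁻¹ : GL (Fin k ⊕ Fin m) F) : Matrix (Fin k ⊕ Fin m) (Fin k ⊕ Fin m) F) =
      (P : Matrix (Fin k ⊕ Fin m) (Fin k ⊕ Fin m) F) *
        bd ((B⁻¹ : GL (Fin k) F) : Matrix (Fin k) (Fin k) F) ((C⁻¹ : GL (Fin m) F) : Matrix (Fin m) (Fin m) F) := by
    rw [Units.val_mul, bdGL_inv_val]
  have hPDi : (((P * (bdGL B C)⁻¹)⁻¹ : GL (Fin k ⊕ Fin m) F) : Matrix (Fin k ⊕ Fin m) (Fin k ⊕ Fin m) F) =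
      bd (B : Matrix (Fin k) (Fin k) F) (C : Matrix (Fin m) (Fin m) F) *
        ((P⁻¹ : GL (Fin k ⊕ Fin m) F) : Matrix (Fin k ⊕ Fin m) (Fin k ⊕ Fin m) F) := by
    rw [_root_.mul_inv_rev, inv_inv, Units.val_mul, bdGL_val]
  have h1 : bd ((B : Matrix (Fin k) (Fin k) F) * N * ((B⁻¹ : GL (Fin k) F) : Matrix (Fin k) (Fin k) F))
      ((C * A * C⁻¹ : GL (Fin m) F) : Matrix (Fin m) (Fin m) F) =
      bd (B : Matrix (Fin k) (Fin k) F) (C : Matrix (Fin m) (Fin m) F) * bd N (A : Matrix (Fin m) (Fin m) F) *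
        bd ((B⁻¹ : GL (Fin k) F) : Matrix (Fin k) (Fin k) F) ((C⁻¹ : GL (Fin m) F) : Matrix (Fin m) (Fin m) F) := by
    rw [bd_mul, bd_mul]
    simp
  rw [hPD, hPDi, h1]
  apply cancel_aux
  rw [bd_mul, Units.inv_mul, Units.inv_mul, bd_one]

theorem act_injective {k m : ℕ} (d : Dom k m F) (h h' : GL (Fin k) F × GL (Fin m) F)
    (heq : act h d = act h' d) : h = h' := by
  have h1 : d.1 * (bdGL h.1 h.2)⁻¹ = d.1 * (bdGL h'.1 h'.2)⁻¹ := congrArg Prod.fst heq
  have h2 : bdGL h.1 h.2 = bdGL h'.1 h'.2 := inv_injective (mul_left_cancel h1)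
  have h3 : bd (h.1 : Matrix (Fin k) (Fin k) F) (h.2 : Matrix (Fin m) (Fin m) F) =
      bd (h'.1 : Matrix (Fin k) (Fin k) F) (h'.2 : Matrix (Fin m) (Fin m) F) := by
    have := congrArg (fun g : GL (Fin k ⊕ Fin m) F => (g : Matrix (Fin k ⊕ Fin m) (Fin k ⊕ Fin m) F)) h2
    simpa [bdGL_val] using this
  obtain ⟨h4, h5⟩ := bd_inj h3
  exact Prod.ext (Units.ext h4) (Units.ext h5)


theorem conj_eq_aux {M : Type*} [Monoid M] (u u' : Mˣ) (x x' : M)
    (h : (u : M) * x * ((u⁻¹ : Mˣ) : M) = (u' : M) * x' * ((u'⁻¹ : Mˣ) : M)) :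
    ((u'⁻¹ * u : Mˣ) : M) * x = x' * ((u'⁻¹ * u : Mˣ) : M) := by
  calc ((u'⁻¹ * u : Mˣ) : M) * x
      = ((u'⁻¹ : Mˣ) : M) * ((u : M) * x * ((u⁻¹ : Mˣ) : M)) * (u : M) := by
        simp [mul_assoc]
    _ = ((u'⁻¹ : Mˣ) : M) * ((u' : M) * x' * ((u'⁻¹ : Mˣ) : M)) * (u : M) := by rw [h]
    _ = x' * ((u'⁻¹ * u : Mˣ) : M) := by
        simp [mul_assoc]

theorem exists_act_of_phiMat_eq {k m : ℕ} (d d' : Dom k m F) (heq : phiMat d = phiMat d') :
    ∃ h : GL (Fin k) F × GL (Fin m) F, d' = act h d := by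
  obtain ⟨P, ⟨N, hN⟩, A⟩ := d
  obtain ⟨P', ⟨N', hN'⟩, A'⟩ := d'
  unfold phiMat at heq
  simp only at heq
  have hQeq := conj_eq_aux P P' _ _ heq
  set Q : GL (Fin k ⊕ Fin m) F := P'⁻¹ * P with hQ
  set Qm : Matrix (Fin k ⊕ Fin m) (Fin k ⊕ Fin m) F := (Q : Matrix (Fin k ⊕ Fin m) (Fin k ⊕ Fin m) F) with hQm
  set Am : Matrix (Fin m) (Fin m) F := (A : Matrix (Fin m) (Fin m) F) with hAm
  set Am' : Matrix (Fin m) (Fin m) F := (A' : Matrix (Fin m) (Fin m) F) with hAm'
  have hQb : Qm = fromBlocks Qm.toBlocks₁₁ Qm.toBlocks₁₂ Qm.toBlocks₂₁ Qm.toBlocks₂₂ :=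
    (fromBlocks_toBlocks Qm).symm
  set Q11 := Qm.toBlocks₁₁
  set Q12 := Qm.toBlocks₁₂
  set Q21 := Qm.toBlocks₂₁
  set Q22 := Qm.toBlocks₂₂
  have e : fromBlocks Q11 Q12 Q21 Q22 * bd N Am = bd N' Am' * fromBlocks Q11 Q12 Q21 Q22 := by
    rw [← hQb]; exact hQeq
  unfold bd at e
  rw [fromBlocks_multiply, fromBlocks_multiply] at e
  simp only [Matrix.mul_zero, Matrix.zero_mul, add_zero, zero_add] at e
  obtain ⟨e11, e12, e21, e22⟩ := fromBlocks_inj.mp e
  -- Q12 = 0
  have h12 : ∀ j : ℕ, Q12 * Am ^ j = N' ^ j * Q12 := by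
    intro j
    induction j with
    | zero => simp
    | succ j ih =>
      rw [pow_succ, ← Matrix.mul_assoc, ih, Matrix.mul_assoc, e12, ← Matrix.mul_assoc, ← pow_succ]
  have hQ12 : Q12 = 0 := by
    have h1 : Q12 * Am ^ k = 0 := by
      rw [h12 k, pow_card_eq_zero_of_isNilpotent hN', Matrix.zero_mul]
    have h2 : Am ^ k * (((A⁻¹ : GL (Fin m) F) : Matrix (Fin m) (Fin m) F)) ^ k = 1 := by
      rw [hAm, ← Units.val_pow_eq_pow_val, ← Units.val_pow_eq_pow_val, ← Units.val_mul, inv_pow,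
        mul_inv_cancel, Units.val_one]
    calc Q12 = Q12 * (Am ^ k * (((A⁻¹ : GL (Fin m) F) : Matrix (Fin m) (Fin m) F)) ^ k) := by
          rw [h2, Matrix.mul_one]
      _ = 0 := by rw [← Matrix.mul_assoc, h1, Matrix.zero_mul]
  have h21 : ∀ j : ℕ, Q21 * N ^ j = Am' ^ j * Q21 := by
    intro j
    induction j with
    | zero => simp
    | succ j ih =>
      rw [pow_succ, ← Matrix.mul_assoc, ih, Matrix.mul_assoc, e21, ← Matrix.mul_assoc, ← pow_succ]
  have hQ21 : Q21 = 0 := by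
    have h1 : Am' ^ k * Q21 = 0 := by
      rw [← h21 k, pow_card_eq_zero_of_isNilpotent hN, Matrix.mul_zero]
    have h2 : (((A'⁻¹ : GL (Fin m) F) : Matrix (Fin m) (Fin m) F)) ^ k * Am' ^ k = 1 := by
      rw [hAm', ← Units.val_pow_eq_pow_val, ← Units.val_pow_eq_pow_val, ← Units.val_mul, inv_pow,
        inv_mul_cancel, Units.val_one]
    calc Q21 = ((((A'⁻¹ : GL (Fin m) F) : Matrix (Fin m) (Fin m) F)) ^ k * Am' ^ k) * Q21 := by
          rw [h2, Matrix.one_mul]
      _ = 0 := by rw [Matrix.mul_assoc, h1, Matrix.mul_zero]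
  have hQbd : Qm = bd Q11 Q22 := by
    rw [hQb, hQ12, hQ21]; rfl
  have hdet : IsUnit (Q11.det * Q22.det) := by
    have h1 : IsUnit Qm.det := Matrix.isUnits_det_units Q
    rw [hQbd] at h1
    unfold bd at h1
    rwa [Matrix.det_fromBlocks_zero₂₁] at h1
  have h11 : IsUnit Q11.det := isUnit_of_mul_isUnit_left hdet
  have h22 : IsUnit Q22.det := isUnit_of_mul_isUnit_right hdet
  let B : GL (Fin k) F := Matrix.GeneralLinearGroup.mk'' Q11 h11
  let C : GL (Fin m) F := Matrix.GeneralLinearGroup.mk'' Q22 h22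
  have hB : (B : Matrix (Fin k) (Fin k) F) = Q11 := rfl
  have hC : (C : Matrix (Fin m) (Fin m) F) = Q22 := rfl
  have hbd : bdGL B C = Q := by
    apply Units.ext
    rw [bdGL_val, hB, hC]
    exact hQbd.symm
  refine ⟨(B, C), ?_⟩
  unfold act
  simp only
  refine Prod.ext ?_ (Prod.ext ?_ ?_)
  · show P' = P * (bdGL B C)⁻¹
    rw [hbd, hQ]
    group
  · apply Subtype.ext
    show N' = (B : Matrix (Fin k) (Fin k) F) * N * ((B⁻¹ : GL (Fin k) F) : Matrix (Fin k) (Fin k) F)
    rw [hB, e11, Matrix.mul_assoc, ← hB, Units.mul_inv, Matrix.mul_one]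
  · show A' = C * A * C⁻¹
    have : C * A = A' * C := by
      apply Units.ext
      rw [Units.val_mul, Units.val_mul, hC]
      exact e22
    rw [this, mul_inv_cancel_right]


theorem isCompl_ker_range_pow_finrank {V : Type*} [AddCommGroup V] [Module F V] [FiniteDimensional F V]
    (f : Module.End F V) :
    IsCompl (LinearMap.ker (f ^ Module.finrank F V)) (LinearMap.range (f ^ Module.finrank F V)) := by
  set n := Module.finrank F V with hn
  obtain ⟨i₀, hi₀⟩ := Filter.eventually_atTop.mp (LinearMap.eventually_isCompl_ker_pow_range_pow f)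
  set i := max i₀ n with hi
  have h1 := hi₀ i (le_max_left _ _)
  have hni : n ≤ i := le_max_right _ _
  have hker : LinearMap.ker (f ^ i) = LinearMap.ker (f ^ n) :=
    Module.End.ker_pow_eq_ker_pow_finrank_of_le hni
  have hrange : LinearMap.range (f ^ i) = LinearMap.range (f ^ n) := by
    apply Submodule.eq_of_le_of_finrank_eq
    · obtain ⟨j, hj⟩ := Nat.exists_eq_add_of_le hni
      rw [hj, pow_add]
      exact LinearMap.range_comp_le_range _ _
    · have e1 := LinearMap.finrank_range_add_finrank_ker (f ^ i)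
      have e2 := LinearMap.finrank_range_add_finrank_ker (f ^ n)
      rw [hker] at e1
      omega
  rw [hker, hrange] at h1
  exact h1


theorem isUnit_of_rank_eq {m : ℕ} (B : Matrix (Fin m) (Fin m) F) (h : B.rank = m) : IsUnit B := by
  rw [← Matrix.mulVec_surjective_iff_isUnit]
  have h1 : LinearMap.range B.mulVecLin = ⊤ := by
    apply Submodule.eq_top_of_finrank_eq
    rw [Module.finrank_fintype_fun_eq_card, Fintype.card_fin]
    exact h
  have := LinearMap.range_eq_top.mp h1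
  exact this


/-- Block-diagonal decomposition from an invariant complementary pair. -/
theorem exists_basis_blocks {k m : ℕ} {V : Type*} [AddCommGroup V] [Module F V]
    (K R : Submodule F V) (hc : IsCompl K R)
    (hK : Module.finrank F K = k) (hR : Module.finrank F R = m) [FiniteDimensional F V] :
    ∃ b : Module.Basis (Fin k ⊕ Fin m) F V,
      (∀ j, b (Sum.inl j) ∈ K) ∧ (∀ j, b (Sum.inr j) ∈ R) ∧
      (∀ x ∈ K, ∀ i, b.repr x (Sum.inr i) = 0) ∧ (∀ x ∈ R, ∀ i, b.repr x (Sum.inl i) = 0) := by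
  classical
  let bK := Module.finBasisOfFinrankEq F K hK
  let bR := Module.finBasisOfFinrankEq F R hR
  let b : Module.Basis (Fin k ⊕ Fin m) F V := (bK.prod bR).map (K.prodEquivOfIsCompl R hc)
  refine ⟨b, ?_, ?_, ?_, ?_⟩
  · intro j
    have : b (Sum.inl j) = (bK j : V) := by
      simp [b]
    rw [this]
    exact (bK j).2
  · intro j
    have : b (Sum.inr j) = (bR j : V) := by
      simp [b]
    rw [this]
    exact (bR j).2
  · intro x hx i
    have h1 : (K.prodEquivOfIsCompl R hc).symm x = (⟨x, hx⟩, 0) :=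
      Submodule.prodEquivOfIsCompl_symm_apply_left K R hc ⟨x, hx⟩
    simp [b, h1]
  · intro x hx i
    have h1 : (K.prodEquivOfIsCompl R hc).symm x = (0, ⟨x, hx⟩) :=
      Submodule.prodEquivOfIsCompl_symm_apply_right K R hc ⟨x, hx⟩
    simp [b, h1]


/-- the Fitting normal form of a matrix -/
theorem exists_fitting_form {k m : ℕ} (T : Matrix (Fin k ⊕ Fin m) (Fin k ⊕ Fin m) F)
    (hT : (T ^ (k + m)).rank = m) :
    ∃ (P : GL (Fin k ⊕ Fin m) F) (N : Matrix (Fin k) (Fin k) F) (A : GL (Fin m) F),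
      IsNilpotent N ∧
      (P : Matrix _ _ F) * bd N (A : Matrix _ _ F) * ((P⁻¹ : GL _ F) : Matrix _ _ F) = T := by
  classical
  have hV : Module.finrank F (Fin k ⊕ Fin m → F) = k + m := by simp
  set f : Module.End F (Fin k ⊕ Fin m → F) := Matrix.toLin' T with hf
  have hfn : f ^ (k + m) = Matrix.toLin' (T ^ (k + m)) := (Matrix.toLin'_pow T _).symm
  have hc : IsCompl (LinearMap.ker (f ^ (k + m))) (LinearMap.range (f ^ (k + m))) := by
    have := isCompl_ker_range_pow_finrank f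
    rwa [hV] at this
  set K := LinearMap.ker (f ^ (k + m)) with hKdef
  set R := LinearMap.range (f ^ (k + m)) with hRdef
  have hR : Module.finrank F R = m := by
    have h1 : (T ^ (k + m)).rank = Module.finrank F R := by
      rw [hRdef, hfn]
      rfl
    rw [← h1, hT]
  have hK : Module.finrank F K = k := by
    have := LinearMap.finrank_range_add_finrank_ker (f ^ (k + m))
    rw [hV, ← hKdef, ← hRdef] at this
    omega
  have hfK : ∀ x ∈ K, f x ∈ K := by
    intro x hx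
    rw [hKdef, LinearMap.mem_ker] at hx ⊢
    have : (f ^ (k + m)) (f x) = f ((f ^ (k + m)) x) := by
      rw [← Module.End.mul_apply, ← Module.End.mul_apply, ← pow_succ, ← pow_succ']
    rw [this, hx, map_zero]
  have hfR : ∀ x ∈ R, f x ∈ R := by
    intro x hx
    rw [hRdef, LinearMap.mem_range] at hx ⊢
    obtain ⟨y, rfl⟩ := hx
    refine ⟨f y, ?_⟩
    rw [← Module.End.mul_apply, ← Module.End.mul_apply, ← pow_succ, ← pow_succ']
  obtain ⟨b, hbK, hbR, hrK, hrR⟩ := exists_basis_blocks K R hc hK hR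
  set M := LinearMap.toMatrix b b f with hM
  set P := (Pi.basisFun F (Fin k ⊕ Fin m)).toMatrix b with hP
  set Q := b.toMatrix (Pi.basisFun F (Fin k ⊕ Fin m)) with hQ
  have hPQ : P * Q = 1 := Module.Basis.toMatrix_mul_toMatrix_flip _ _
  have hQP : Q * P = 1 := Module.Basis.toMatrix_mul_toMatrix_flip _ _
  have hPMQ : P * M * Q = T := by
    rw [hP, hM, hQ, basis_toMatrix_mul_linearMap_toMatrix_mul_basis_toMatrix,
      LinearMap.toMatrix_eq_toMatrix', hf, LinearMap.toMatrix'_toLin']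
  let PG : GL (Fin k ⊕ Fin m) F := ⟨P, Q, hPQ, hQP⟩
  have hM21 : M.toBlocks₂₁ = 0 := by
    ext i j
    simp only [Matrix.toBlocks₂₁, Matrix.of_apply, Matrix.zero_apply]
    rw [hM, LinearMap.toMatrix_apply]
    exact hrK _ (hfK _ (hbK j)) i
  have hM12 : M.toBlocks₁₂ = 0 := by
    ext i j
    simp only [Matrix.toBlocks₁₂, Matrix.of_apply, Matrix.zero_apply]
    rw [hM, LinearMap.toMatrix_apply]
    exact hrR _ (hfR _ (hbR j)) i
  set N := M.toBlocks₁₁ with hN
  set A := M.toBlocks₂₂ with hA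
  have hMbd : M = bd N A := by
    rw [← fromBlocks_toBlocks M, hM12, hM21]
    rfl
  have hMn : M ^ (k + m) = bd (N ^ (k + m)) (A ^ (k + m)) := by
    rw [hMbd, bd_pow]
  have hNn : N ^ (k + m) = 0 := by
    have h1 : (M ^ (k + m)).toBlocks₁₁ = N ^ (k + m) := by
      rw [hMn]; unfold bd; rw [toBlocks_fromBlocks₁₁]
    rw [← h1]
    ext i j
    simp only [Matrix.toBlocks₁₁, Matrix.of_apply, Matrix.zero_apply]
    rw [hM, LinearMap.toMatrix_pow, LinearMap.toMatrix_apply]
    have : (f ^ (k + m)) (b (Sum.inl j)) = 0 := hbK j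
    rw [this, map_zero]
    rfl
  have hrankM : (M ^ (k + m)).rank = m := by
    have h1 : T ^ (k + m) = (PG : Matrix _ _ F) * M ^ (k + m) * ((PG⁻¹ : GL _ F) : Matrix _ _ F) := by
      rw [← Units.conj_pow]
      congr 1
      exact hPMQ.symm
    rw [h1, rank_conj] at hT
    exact hT
  have hAn : IsUnit (A ^ (k + m)) := by
    apply isUnit_of_rank_eq
    rw [hMn, hNn] at hrankM
    unfold bd at hrankM
    rwa [rank_fromBlocks_zero_right] at hrankM
  have hAu : IsUnit A := by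
    rcases Nat.eq_zero_or_pos m with hm | hm
    · subst hm
      rw [Matrix.isUnit_iff_isUnit_det, Matrix.det_isEmpty]
      exact isUnit_one
    · exact (isUnit_pow_iff (by omega)).mp hAn
  refine ⟨PG, N, hAu.unit, ⟨k + m, hNn⟩, ?_⟩
  rw [IsUnit.unit_spec, ← hMbd]
  exact hPMQ



section Count

variable (F : Type*) [Field F] [Fintype F]

/-- number of nilpotent `k × k` matrices -/
noncomputable def nilCount (k : ℕ) : ℕ := Nat.card {N : Matrix (Fin k) (Fin k) F // IsNilpotent N}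

/-- order of `GL_k` -/
noncomputable def glCount (k : ℕ) : ℕ := Nat.card (GL (Fin k) F)

/-- number of `n × n` matrices whose `n`-th power has rank `m` -/
noncomputable def rkCount (n m : ℕ) : ℕ := Nat.card {T : Matrix (Fin n) (Fin n) F // (T ^ n).rank = m}

theorem glCount_pos (k : ℕ) : 0 < glCount F k := Nat.card_pos

theorem card_sum_rk (k m : ℕ) :
    Nat.card {T : Matrix (Fin k ⊕ Fin m) (Fin k ⊕ Fin m) F // (T ^ (k + m)).rank = m} =
      rkCount F (k + m) m := by
  unfold rkCount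
  apply Nat.card_congr
  let e := Matrix.reindexAlgEquiv F F (finSumFinEquiv : Fin k ⊕ Fin m ≃ Fin (k + m))
  refine Equiv.subtypeEquiv e.toEquiv ?_
  intro T
  show _ ↔ ((e T) ^ (k + m)).rank = m
  rw [← map_pow]
  show _ ↔ (Matrix.reindex finSumFinEquiv finSumFinEquiv (T ^ (k + m))).rank = m
  rw [Matrix.rank_reindex]

theorem card_sum_gl (k m : ℕ) :
    Nat.card (GL (Fin k ⊕ Fin m) F) = glCount F (k + m) := by
  unfold glCount
  apply Nat.card_congr
  exact (Units.mapEquiv (Matrix.reindexAlgEquiv F F (finSumFinEquiv : Fin k ⊕ Fin m ≃ Fin (k + m))).toMulEquiv).toEquiv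

theorem rk_mul_gl (k m : ℕ) :
    rkCount F (k + m) m * glCount F k = glCount F (k + m) * nilCount F k := by
  have h := card_eq_mul_of_torsor
    (X := Dom k m F)
    (Y := {T : Matrix (Fin k ⊕ Fin m) (Fin k ⊕ Fin m) F // (T ^ (k + m)).rank = m})
    (H := GL (Fin k) F × GL (Fin m) F)
    (fun d => ⟨phiMat d, rank_phiMat_pow d⟩)
    (by
      rintro ⟨T, hT⟩
      obtain ⟨P, N, A, hN, hPT⟩ := exists_fitting_form T hT
      exact ⟨(P, ⟨N, hN⟩, A), Subtype.ext hPT⟩)
    act
    (fun h d => Subtype.ext (phiMat_act h d))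
    (fun d d' hdd => exists_act_of_phiMat_eq d d' (congrArg Subtype.val hdd))
    act_injective
  rw [Nat.card_prod, Nat.card_prod, Nat.card_prod, card_sum_rk, card_sum_gl] at h
  have hm := glCount_pos F m
  have h' : (rkCount F (k + m) m * glCount F k) * glCount F m =
      (glCount F (k + m) * nilCount F k) * glCount F m := by
    unfold nilCount glCount at *
    rw [mul_assoc, ← h, mul_assoc]
  exact Nat.eq_of_mul_eq_mul_right hm h'

theorem sum_rk (n : ℕ) : ∑ m ∈ Finset.range (n + 1), rkCount F n m = Fintype.card F ^ (n * n) := by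
  classical
  have h1 : Nat.card (Matrix (Fin n) (Fin n) F) = Fintype.card F ^ (n * n) := by
    unfold Matrix
    rw [Nat.card_fun, Nat.card_fun, Nat.card_eq_fintype_card, Nat.card_eq_fintype_card,
      Fintype.card_fin, ← pow_mul]
  rw [← h1, Nat.card_eq_fintype_card, ← Finset.card_univ]
  rw [Finset.card_eq_sum_card_fiberwise (f := fun T : Matrix (Fin n) (Fin n) F => (T ^ n).rank)
    (s := Finset.univ) (t := Finset.range (n + 1))]
  · apply Finset.sum_congr rfl
    intro m _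
    unfold rkCount
    rw [Nat.card_eq_fintype_card, Fintype.card_subtype]
  · intro T _
    simp only [Finset.coe_range, Set.mem_Iio]
    exact Nat.lt_succ_of_le (Matrix.rank_le_width _)

theorem glCount_succ (n : ℕ) :
    glCount F (n + 1) = Fintype.card F ^ n * (Fintype.card F ^ (n + 1) - 1) * glCount F n := by
  unfold glCount
  rw [Matrix.card_GL_field, Matrix.card_GL_field, Fin.prod_univ_succ]
  simp only [Fin.val_zero, pow_zero, Fin.val_succ]
  have h : ∀ i : Fin n, Fintype.card F ^ (n + 1) - Fintype.card F ^ ((i : ℕ) + 1) =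
      Fintype.card F * (Fintype.card F ^ n - Fintype.card F ^ (i : ℕ)) := by
    intro i
    rw [Nat.mul_sub, pow_succ, pow_succ, mul_comm, mul_comm (Fintype.card F ^ (i : ℕ))]
  rw [Finset.prod_congr rfl (fun i _ => h i), Finset.prod_mul_distrib, Finset.prod_const,
    Finset.card_univ, Fintype.card_fin]
  ring


theorem nilCount_eq_rk (n : ℕ) : nilCount F n = rkCount F n 0 := by
  have h := rk_mul_gl F n 0
  simp only [add_zero] at h
  have hg := glCount_pos F n
  rw [mul_comm (glCount F n)] at h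
  exact (Nat.eq_of_mul_eq_mul_right hg h).symm

theorem rk_succ (n m : ℕ) (hm : m ≤ n) :
    rkCount F (n + 1) (m + 1) =
      Fintype.card F ^ n * (Fintype.card F ^ (n + 1) - 1) * rkCount F n m := by
  obtain ⟨k, rfl⟩ := Nat.exists_eq_add_of_le hm
  -- n = m + k
  have h1 := rk_mul_gl F k (m + 1)
  have h2 := rk_mul_gl F k m
  have e1 : k + (m + 1) = m + k + 1 := by omega
  have e2 : k + m = m + k := by omega
  rw [e1] at h1
  rw [e2] at h2
  have hk := glCount_pos F k
  have hn := glCount_pos F (m + k)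
  have hs := glCount_succ F (m + k)
  set r := Fintype.card F ^ (m + k) * (Fintype.card F ^ (m + k + 1) - 1) with hr
  have h3 : rkCount F (m + k + 1) (m + 1) * (glCount F k * glCount F (m + k)) =
      (r * rkCount F (m + k) m) * (glCount F k * glCount F (m + k)) := by
    calc rkCount F (m + k + 1) (m + 1) * (glCount F k * glCount F (m + k))
        = (rkCount F (m + k + 1) (m + 1) * glCount F k) * glCount F (m + k) := by ring
      _ = (glCount F (m + k + 1) * nilCount F k) * glCount F (m + k) := by rw [h1]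
      _ = (r * glCount F (m + k)) * (glCount F (m + k) * nilCount F k) := by rw [hs]; ring
      _ = (r * glCount F (m + k)) * (rkCount F (m + k) m * glCount F k) := by rw [h2]
      _ = (r * rkCount F (m + k) m) * (glCount F k * glCount F (m + k)) := by ring
  exact Nat.eq_of_mul_eq_mul_right (Nat.mul_pos hk hn) h3

theorem nilCount_eq (n : ℕ) : nilCount F n = Fintype.card F ^ (n * (n - 1)) := by
  have hq : 1 ≤ Fintype.card F := Fintype.card_pos
  rcases n with _ | n
  · rw [nilCount_eq_rk]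
    have := sum_rk F 0
    simpa using this
  · rw [nilCount_eq_rk]
    have h1 := sum_rk F (n + 1)
    have h2 := sum_rk F n
    rw [Finset.sum_range_succ'] at h1
    have h3 : ∑ m ∈ Finset.range (n + 1), rkCount F (n + 1) (m + 1) =
        Fintype.card F ^ n * (Fintype.card F ^ (n + 1) - 1) * Fintype.card F ^ (n * n) := by
      rw [← h2, Finset.mul_sum]
      apply Finset.sum_congr rfl
      intro m hm
      exact rk_succ F n m (Nat.lt_succ_iff.mp (Finset.mem_range.mp hm))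
    rw [h3] at h1
    set q := Fintype.card F with hqdef
    have hq1 : 1 ≤ q ^ (n + 1) := Nat.one_le_pow _ _ hq
    have h4 : q ^ ((n + 1) * (n + 1 - 1)) + q ^ n * (q ^ (n + 1) - 1) * q ^ (n * n) =
        q ^ ((n + 1) * (n + 1)) := by
      obtain ⟨t, ht⟩ : ∃ t, q ^ (n + 1) = t + 1 := ⟨q ^ (n + 1) - 1, by omega⟩
      have e1 : q ^ ((n + 1) * (n + 1 - 1)) = q ^ n * q ^ (n * n) := by
        rw [← pow_add]; congr 1; simp; ring
      have e2 : q ^ ((n + 1) * (n + 1)) = q ^ n * q ^ (n * n) * q ^ (n + 1) := by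
        rw [← pow_add, ← pow_add]; congr 1; ring
      rw [e1, e2, ht]
      simp only [Nat.add_sub_cancel]
      ring
    omega


theorem isNilpotent_sub_one_of_orderOf {p : ℕ} [Fact p.Prime] [CharP F p] {n : ℕ}
    (g : GL (Fin n) F) (j : ℕ) (hg : orderOf g = p ^ j) :
    IsNilpotent ((g : Matrix (Fin n) (Fin n) F) - 1) := by
  rcases Nat.eq_zero_or_pos n with hn | hn
  · subst hn
    refine ⟨1, Subsingleton.elim _ _⟩
  · have : Nonempty (Fin n) := ⟨⟨0, hn⟩⟩
    have : CharP (Matrix (Fin n) (Fin n) F) p := Matrix.charP p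
    refine ⟨p ^ j, ?_⟩
    rw [sub_pow_char_pow_of_commute p j (Commute.one_right _), one_pow, sub_eq_zero]
    have h1 : g ^ (p ^ j) = 1 := by rw [← hg]; exact pow_orderOf_eq_one g
    have h2 := congrArg (fun u : GL (Fin n) F => (u : Matrix (Fin n) (Fin n) F)) h1
    simpa using h2

theorem exists_unit_of_isNilpotent {p : ℕ} [Fact p.Prime] [CharP F p] {n : ℕ}
    (N : Matrix (Fin n) (Fin n) F) (hN : IsNilpotent N) :
    ∃ g : GL (Fin n) F, (∃ j : ℕ, orderOf g = p ^ j) ∧ (g : Matrix (Fin n) (Fin n) F) - 1 = N := by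
  have hu : IsUnit (1 + N) := hN.isUnit_one_add
  refine ⟨hu.unit, ?_, ?_⟩
  · obtain ⟨i, hi⟩ := hN
    have hpi : i ≤ p ^ i := (Nat.lt_pow_self (Fact.out : p.Prime).one_lt).le
    have hNp : N ^ (p ^ i) = 0 := by
      obtain ⟨t, ht⟩ := Nat.exists_eq_add_of_le hpi
      rw [ht, pow_add, hi, zero_mul]
    have h1 : hu.unit ^ (p ^ i) = 1 := by
      apply Units.ext
      rw [Units.val_pow_eq_pow_val, IsUnit.unit_spec, Units.val_one]
      rcases Nat.eq_zero_or_pos n with hn | hn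
      · subst hn
        exact Subsingleton.elim _ _
      · have : Nonempty (Fin n) := ⟨⟨0, hn⟩⟩
        have : CharP (Matrix (Fin n) (Fin n) F) p := Matrix.charP p
        rw [add_pow_char_pow_of_commute p i (Commute.one_left _), one_pow, hNp, add_zero]
    have h2 := orderOf_dvd_of_pow_eq_one h1
    obtain ⟨j, _, hj⟩ := (Nat.dvd_prime_pow (Fact.out : p.Prime)).mp h2
    exact ⟨j, hj⟩
  · rw [IsUnit.unit_spec]
    simp

theorem card_unipotent {p : ℕ} [Fact p.Prime] [CharP F p] (n : ℕ) :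
    Nat.card {g : GL (Fin n) F // ∃ k : ℕ, orderOf g = p ^ k} = Fintype.card F ^ (n * (n - 1)) := by
  rw [← nilCount_eq]
  unfold nilCount
  apply Nat.card_congr
  refine Equiv.ofBijective
    (fun g => ⟨(g.1 : Matrix (Fin n) (Fin n) F) - 1,
      by obtain ⟨j, hj⟩ := g.2; exact isNilpotent_sub_one_of_orderOf F g.1 j hj⟩) ⟨?_, ?_⟩
  · rintro ⟨g, hg⟩ ⟨g', hg'⟩ h
    have h1 : (g : Matrix (Fin n) (Fin n) F) - 1 = (g' : Matrix (Fin n) (Fin n) F) - 1 :=
      congrArg Subtype.val h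
    have h2 : (g : Matrix (Fin n) (Fin n) F) = (g' : Matrix (Fin n) (Fin n) F) := sub_left_injective h1
    exact Subtype.ext (Units.ext h2)
  · rintro ⟨N, hN⟩
    obtain ⟨g, hg, hgN⟩ := exists_unit_of_isNilpotent F (p := p) N hN
    exact ⟨⟨g, hg⟩, Subtype.ext hgN⟩

end Count

end Cfsg.Agent.Lib.Helper52.FH
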