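import Cfsg.Agent.Lib.Helper52.KnI
import Cfsg.Agent.S0929

/-!
# Uniqueness of the covering block when the centralizer of a defect group lies in the normal
subgroup
-/

set_option autoImplicit false

universe u

namespace Cfsg.Agent.Lib.Helper52.FoA

open Cfsg
open Cfsg.Agent.Lib.Helper77 Cfsg.Agent.Lib.Helper80 Cfsg.Agent.Lib.Helper81
open Cfsg.Agent.Lib.Helper16 Cfsg.Agent.Lib.Helper74 Cfsg.Agent.Lib.Helper75
open Cfsg.Agent.Lib.Helper52.KnE
open scoped Pointwise ComplexConjugate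

variable {G : Type u} [Group G] [Fintype G] (K : Subgroup G) [hK : K.Normal] [Fintype K]

/-- The central character of a character over a block with defect group `D`, `C_G(D) ≤ K`,
is not a unit outside `K`. -/
theorem memLocalIdeal_centralChar_of_not_mem {p : ℕ} [Fact p.Prime] {M : Ideal AlgInt}
    (hpM : IsPModular p M) (χ : IrrCharacter G) (θ₀ θ : IrrCharacter K)
    (hθ : θ ∈ blockOf M (θ₀ : K → ℂ))
    (hne : classInner (fun n : K => (χ : G → ℂ) n) (θ : K → ℂ) ≠ 0)
    (D : Subgroup G) (hDK : D ≤ K)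
    (hD : IsDefectGroup p M (blockOf M (θ₀ : K → ℂ)) (D.subgroupOf K))
    (hC : Subgroup.centralizer (D : Set G) ≤ K) {g : G} (hg : g ∉ K) :
    MemLocalIdeal M (centralChar (χ : G → ℂ) g) := by
  classical
  have hM : M.IsPrime := isPrime_of_isPModular hpM
  obtain ⟨P, hP, hPK⟩ := knorr K hpM χ θ₀ ⟨χ, self_mem_blockOf hM χ, θ, hθ, hne⟩ D hDK hD
  by_contra hunit
  obtain ⟨x, hconj, hx, -⟩ := Cfsg.Agent.S0929.result p M hpM (blockOf M (χ : G → ℂ)) ⟨χ, rfl⟩ P hP g
    ⟨χ, self_mem_blockOf hM χ, hunit⟩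
  have hDP : D ≤ P := by
    rw [← hPK]
    exact inf_le_left
  have hxK : x ∈ K := hC (Subgroup.centralizer_le (show (D : Set G) ⊆ P from hDP) hx)
  obtain ⟨c, hc⟩ := isConj_iff.mp hconj
  apply hg
  have h1 := hK.conj_mem x hxK c⁻¹
  rw [← hc] at h1
  have e : c⁻¹ * (c * g * c⁻¹) * c⁻¹⁻¹ = g := by group
  rwa [e] at h1

/-- **Uniqueness of the covering block.**  Two characters of `G` over the same block of `K`,
with a defect group `D` such that `C_G(D) ≤ K`, lie in the same block. -/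
theorem sameBlock_of_centralizer_le {p : ℕ} [Fact p.Prime] {M : Ideal AlgInt}
    (hpM : IsPModular p M) (χ₁ χ₂ : IrrCharacter G) (θ₀ θ₁ θ₂ : IrrCharacter K)
    (hθ₁ : θ₁ ∈ blockOf M (θ₀ : K → ℂ)) (hθ₂ : θ₂ ∈ blockOf M (θ₀ : K → ℂ))
    (hne₁ : classInner (fun n : K => (χ₁ : G → ℂ) n) (θ₁ : K → ℂ) ≠ 0)
    (hne₂ : classInner (fun n : K => (χ₂ : G → ℂ) n) (θ₂ : K → ℂ) ≠ 0)
    (D : Subgroup G) (hDK : D ≤ K)
    (hD : IsDefectGroup p M (blockOf M (θ₀ : K → ℂ)) (D.subgroupOf K))
    (hC : Subgroup.centralizer (D : Set G) ≤ K) :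
    SameBlock M (χ₁ : G → ℂ) (χ₂ : G → ℂ) := by
  classical
  have hM : M.IsPrime := isPrime_of_isPModular hpM
  intro g
  by_cases hg : g ∈ K
  · have hacl : IsClassFunction K (fun n : K => classInd g (n : G)) := by
      intro n k
      show classInd g ((k * n * k⁻¹ : K) : G) = classInd g (n : G)
      push_cast
      exact classInd_isClassFunction g _ _
    have hvan : ∀ y, y ∉ K → classInd g y = 0 := by
      intro y hy
      unfold classInd
      rw [if_neg]
      intro hc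
      apply hy
      obtain ⟨c, rfl⟩ := isConj_iff.mp hc
      exact hK.conj_mem _ hg c
    rw [← omega_classInd (isClassFunction_of_isCharacter χ₁.2),
      ← omega_classInd (isClassFunction_of_isCharacter χ₂.2),
      omega_eq_of_classInner_ne_zero K χ₁.2 θ₁.2 hne₁ (classInd_isClassFunction g) hvan,
      omega_eq_of_classInner_ne_zero K χ₂.2 θ₂.2 hne₂ (classInd_isClassFunction g) hvan]
    have hs : SameBlock M (θ₁ : K → ℂ) (θ₂ : K → ℂ) :=
      sameBlock_trans hM (sameBlock_symm hθ₁) hθ₂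
    refine memLocalIdeal_omega_sub hM (isClassFunction_of_isCharacter θ₁.2)
      (isClassFunction_of_isCharacter θ₂.2) hs hacl ?_
    intro n
    unfold classInd
    split_ifs
    · exact memLocalRing_one hM
    · exact memLocalRing_zero hM
  · exact memLocalIdeal_sub hM
      (memLocalIdeal_centralChar_of_not_mem K hpM χ₁ θ₀ θ₁ hθ₁ hne₁ D hDK hD hC hg)
      (memLocalIdeal_centralChar_of_not_mem K hpM χ₂ θ₀ θ₂ hθ₂ hne₂ D hDK hD hC hg)

end Cfsg.Agent.Lib.Helper52.FoA
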