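import Cfsg.Agent.Lib.Helper52.FoA
import Cfsg.Agent.Lib.Helper76.PSolvable
import Cfsg.Agent.Lib.Helper30.PPrimeCore
import Cfsg.Agent.Lib.Helper22.Fitting

/-!
# `O_{p'}` and `O_{p',p}` of a `p`-solvable group
-/

set_option autoImplicit false

universe u

namespace Cfsg.Agent.Lib.Helper52.FoB

open Cfsg
open scoped Pointwise

variable {G : Type u} [Group G]

theorem pPrimePCore_normal (p : ℕ) : (pPrimePCore p G).Normal := by
  unfold pPrimePCore
  exact Subgroup.Normal.comap (Cfsg.pCore_normal p _) _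

theorem pPrimeCore_le_pPrimePCore (p : ℕ) : pPrimeCore p G ≤ pPrimePCore p G := by
  intro x hx
  unfold pPrimePCore
  rw [Subgroup.mem_comap]
  have : (QuotientGroup.mk' (pPrimeCore p G)) x = 1 := (QuotientGroup.eq_one_iff x).mpr hx
  rw [this]
  exact Subgroup.one_mem _

/-- `O_{p',p}(G)/O_{p'}(G)` is a `p`-group. -/
theorem relIndex_pPrimeCore_pPrimePCore [Finite G] (p : ℕ) [Fact p.Prime] :
    ∃ k : ℕ, (pPrimeCore p G).relIndex (pPrimePCore p G) = p ^ k := by
  have h1 : (pPrimeCore p G).relIndex (pPrimePCore p G) =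
      Nat.card (pCore p (G ⧸ pPrimeCore p G)) := by
    have h2 := Subgroup.relIndex_ker (pPrimePCore p G) (QuotientGroup.mk' (pPrimeCore p G))
    rw [QuotientGroup.ker_mk'] at h2
    rw [h2]
    unfold pPrimePCore
    rw [Subgroup.map_comap_eq_self_of_surjective (QuotientGroup.mk'_surjective _)]
  rw [h1]
  exact (Cfsg.Agent.Lib.Helper22.pCore_isPGroup' p (G ⧸ pPrimeCore p G)).exists_card_eq

/-- **Hall–Higman**: in a `p`-solvable group, a subgroup `D` with `D O_{p'}(G) = O_{p',p}(G)`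
has its centralizer in `O_{p',p}(G)`. -/
theorem centralizer_le_pPrimePCore [Finite G] {p : ℕ} [Fact p.Prime] (hsolv : IsPSolvable p G)
    (D : Subgroup G) (hD : D ⊔ pPrimeCore p G = pPrimePCore p G) :
    Subgroup.centralizer (D : Set G) ≤ pPrimePCore p G := by
  intro x hx
  have hHH := Cfsg.Agent.Lib.Helper76.centralizer_pCore_le_of_isPSolvable
    (Cfsg.Agent.Lib.Helper76.isPSolvable_quotient (pPrimeCore p G) hsolv)
    (Cfsg.Agent.Lib.Helper30.pPrimeCore_quotient_eq_bot p)
  show x ∈ (pCore p (G ⧸ pPrimeCore p G)).comap (QuotientGroup.mk' (pPrimeCore p G))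
  rw [Subgroup.mem_comap]
  apply hHH
  rw [Subgroup.mem_centralizer_iff]
  intro ybar hybar
  obtain ⟨y, rfl⟩ := QuotientGroup.mk'_surjective (pPrimeCore p G) ybar
  have hy : y ∈ pPrimePCore p G := hybar
  rw [← hD] at hy
  have hy' : y ∈ ((D : Set G) * (pPrimeCore p G : Set G)) := by
    rw [← Subgroup.mul_normal]
    exact hy
  obtain ⟨d, hd, n, hn, rfl⟩ := hy'
  have hn1 : (QuotientGroup.mk' (pPrimeCore p G)) n = 1 := (QuotientGroup.eq_one_iff n).mpr hn
  have hdx : d * x = x * d := hx d hd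
  rw [map_mul, hn1, mul_one, ← map_mul, ← map_mul, hdx]

end Cfsg.Agent.Lib.Helper52.FoB
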