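import Cfsg.Agent.Lib.Helper76.BGSigU4

/-!
# The centralizer hypothesis of `FoD.fong_abstract` from a Sylow subgroup (helper52)

`K ≤ L` normal in `G`, `K` a `p'`-group, `Q` a `p`-subgroup of `L` of index prime to `p` with
`C_G(Q) ≤ L`.  Then every `D` with `D K = L` has `C_G(D) ≤ L`.
-/

set_option autoImplicit false

namespace Cfsg.Agent.Lib.Helper52.FoE

open scoped Pointwise

variable {G : Type*} [Group G] [Finite G]

theorem centralizer_le_of_sylow_centralizer_le {p : ℕ} [Fact p.Prime] (K L Q : Subgroup G)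
    [hK : K.Normal] (hKL : K ≤ L) (hcop : (Nat.card K).Coprime p)
    (hQL : Q ≤ L) (hQp : IsPGroup p Q) (hQS : ¬ p ∣ Q.relIndex L)
    (hCQ : Subgroup.centralizer (Q : Set G) ≤ L) :
    ∀ D : Subgroup G, D ⊔ K = L → Subgroup.centralizer (D : Set G) ≤ L := by
  intro D hD c hc
  have hp : p.Prime := Fact.out
  -- `c` centralizes `Q` modulo `K`
  have h1 : ∀ q ∈ Q, c * q * c⁻¹ * q⁻¹ ∈ K := by
    intro q hq
    have hqL : q ∈ D ⊔ K := by rw [hD]; exact hQL hq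
    have hq' : q ∈ ((D : Set G) * (K : Set G)) := by
      rw [← Subgroup.mul_normal]
      exact hqL
    obtain ⟨d, hd, k, hk, rfl⟩ := hq'
    have hcd : d * c = c * d := (Subgroup.mem_centralizer_iff.mp hc) d hd
    have e : c * (d * k) * c⁻¹ * (d * k)⁻¹ = d * (c * k * c⁻¹ * k⁻¹) * d⁻¹ := by
      have hcd' : c * d = d * c := hcd.symm
      calc c * (d * k) * c⁻¹ * (d * k)⁻¹ = (c * d) * k * c⁻¹ * k⁻¹ * d⁻¹ := by group
        _ = (d * c) * k * c⁻¹ * k⁻¹ * d⁻¹ := by rw [hcd']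
        _ = d * (c * k * c⁻¹ * k⁻¹) * d⁻¹ := by group
    rw [e]
    apply hK.conj_mem
    exact K.mul_mem (hK.conj_mem k hk c) (K.inv_mem hk)
  -- the conjugate of `Q`
  have hQ'p : IsPGroup p (Q.map (MulAut.conj c).toMonoidHom) := hQp.map _
  have hQ'le : Q.map (MulAut.conj c).toMonoidHom ≤ Q ⊔ K := by
    rintro _ ⟨q, hq, rfl⟩
    show c * q * c⁻¹ ∈ Q ⊔ K
    have : c * q * c⁻¹ = (c * q * c⁻¹ * q⁻¹) * q := by group
    rw [this]
    exact Subgroup.mul_mem _ (Subgroup.mem_sup_right (h1 q hq)) (Subgroup.mem_sup_left hq)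
  have hQKL : Q ⊔ K ≤ L := sup_le hQL hKL
  have hnd : ¬ p ∣ Q.relIndex (Q ⊔ K) := by
    intro h
    apply hQS
    rw [← Subgroup.relIndex_mul_relIndex Q (Q ⊔ K) L le_sup_left hQKL]
    exact dvd_mul_of_dvd_left h _
  obtain ⟨m, hm, hmQ⟩ := Cfsg.Agent.Lib.Helper76.BGSigU.exists_conj_le_of_not_dvd
    (le_sup_left : Q ≤ Q ⊔ K) hnd hQ'p hQ'le
  -- write `m = k₀ q₀`
  have hm' : m ∈ ((K : Set G) * (Q : Set G)) := by
    rw [← Subgroup.normal_mul, sup_comm]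
    exact hm
  obtain ⟨k₀, hk₀, q₀, hq₀, rfl⟩ := hm'
  have h2 : ∀ q ∈ Q, k₀⁻¹ * (c * q * c⁻¹) * k₀ ∈ Q := by
    intro q hq
    have h3 := hmQ (c * q * c⁻¹) ⟨q, hq, rfl⟩
    have h4 : k₀⁻¹ * (c * q * c⁻¹) * k₀ = q₀ * ((k₀ * q₀)⁻¹ * (c * q * c⁻¹) * (k₀ * q₀)) * q₀⁻¹ := by
      group
    rw [h4]
    exact Q.mul_mem (Q.mul_mem hq₀ h3) (Q.inv_mem hq₀)
  -- `n = k₀⁻¹ c` centralizes `Q`
  have hQK : Q ⊓ K = ⊥ := by
    apply disjoint_iff.mp
    apply Subgroup.disjoint_of_coprime_natCard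
    obtain ⟨j, hj⟩ := IsPGroup.iff_card.mp hQp
    rw [hj]
    exact (Nat.Coprime.pow_right j hcop).symm
  have hn : k₀⁻¹ * c ∈ Subgroup.centralizer (Q : Set G) := by
    rw [Subgroup.mem_centralizer_iff]
    intro q hq
    have h5 : (k₀⁻¹ * c) * q * (k₀⁻¹ * c)⁻¹ * q⁻¹ ∈ Q ⊓ K := by
      constructor
      · have : (k₀⁻¹ * c) * q * (k₀⁻¹ * c)⁻¹ * q⁻¹ = (k₀⁻¹ * (c * q * c⁻¹) * k₀) * q⁻¹ := by group
        rw [this]
        exact Q.mul_mem (h2 q hq) (Q.inv_mem hq)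
      · have : (k₀⁻¹ * c) * q * (k₀⁻¹ * c)⁻¹ * q⁻¹ =
            k₀⁻¹ * (c * q * c⁻¹ * q⁻¹) * (q * k₀ * q⁻¹) := by group
        rw [this]
        exact K.mul_mem (K.mul_mem (K.inv_mem hk₀) (h1 q hq)) (hK.conj_mem k₀ hk₀ q)
    rw [hQK, Subgroup.mem_bot] at h5
    have h6 : (k₀⁻¹ * c) * q * (k₀⁻¹ * c)⁻¹ = q := by
      have := congrArg (fun z => z * q) h5
      simpa using this
    have h7 := congrArg (fun z => z * (k₀⁻¹ * c)) h6
    simp only [inv_mul_cancel_right] at h7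
    exact h7.symm
  have hnL := hCQ hn
  have : c = k₀ * (k₀⁻¹ * c) := by group
  rw [this]
  exact L.mul_mem (hKL hk₀) hnL

end Cfsg.Agent.Lib.Helper52.FoE
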