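import Cfsg.Agent.Lib.Helper52.FoD
import Cfsg.Agent.Lib.Helper77.AbLocal
import Cfsg.Agent.Lib.Helper77.BrauerCorr2

/-!
# Harris–Knörr, part A: covering goes up along block induction
-/

set_option autoImplicit false
set_option linter.unusedSectionVars false

universe u

namespace Cfsg.Agent.Lib.Helper52.HkA

open Cfsg
open Cfsg.Agent.Lib.Helper77 Cfsg.Agent.Lib.Helper80 Cfsg.Agent.Lib.Helper81
open Cfsg.Agent.Lib.Helper16 Cfsg.Agent.Lib.Helper74 Cfsg.Agent.Lib.Helper75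
open scoped Pointwise ComplexConjugate

variable {G : Type u} [Group G] [Fintype G]
variable (N H : Subgroup G) [hN : N.Normal] [Fintype N] [Fintype H] [Fintype ↥(H ⊓ N)]

/-- The copy of `H ⊓ N` inside `H`. -/
abbrev LH : Subgroup H := (H ⊓ N).subgroupOf H

/-- The copy of `H ⊓ N` inside `N`. -/
abbrev LN : Subgroup N := (H ⊓ N).subgroupOf N

/-- The identification of `LH` with `H ⊓ N`. -/
abbrev phiH : LH N H ≃* ↥(H ⊓ N) := Subgroup.subgroupOfEquivOfLe inf_le_left

/-- The identification of `LN` with `H ⊓ N`. -/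
abbrev phiN : LN N H ≃* ↥(H ⊓ N) := Subgroup.subgroupOfEquivOfLe inf_le_right

theorem lh_normal : (LH N H).Normal := by
  have : LH N H = N.subgroupOf H := Subgroup.inf_subgroupOf_left N H
  rw [this]
  infer_instance

/-- The pairing of a character of `H` with a character of `H ⊓ N`, transported into `H`. -/
theorem classInner_phiH [Fintype (LH N H)] (ψ : H → ℂ) (ξ : ↥(H ⊓ N) → ℂ) :
    classInner (fun l : LH N H => ψ l) (fun l : LH N H => ξ (phiH N H l)) =
      classInner (fun l : ↥(H ⊓ N) => ψ (Subgroup.inclusion inf_le_left l)) ξ :=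
  classInner_comp_mulEquiv (phiH N H) (fun l : ↥(H ⊓ N) => ψ (Subgroup.inclusion inf_le_left l)) ξ

/-- Central characters of a character of `H` over a character of `H ⊓ N`, at functions supported
on `N`. -/
theorem omega_eq_of_cover {ψ : IrrCharacter H} {ξ : IrrCharacter ↥(H ⊓ N)}
    (hne : classInner (fun l : ↥(H ⊓ N) => (ψ : H → ℂ) (Subgroup.inclusion inf_le_left l))
      (ξ : ↥(H ⊓ N) → ℂ) ≠ 0) {a : G → ℂ} (ha : IsClassFunction G a)
    (haN : ∀ g, g ∉ N → a g = 0) :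
    omega (ψ : H → ℂ) (fun h : H => a h) = omega (ξ : ↥(H ⊓ N) → ℂ) (fun l : ↥(H ⊓ N) => a l) := by
  classical
  have : Fintype (LH N H) := Fintype.ofFinite _
  have hne' : classInner (fun l : LH N H => (ψ : H → ℂ) l)
      (irrMap (phiH N H) ξ : LH N H → ℂ) ≠ 0 := by
    have := classInner_phiH N H (ψ : H → ℂ) (ξ : ↥(H ⊓ N) → ℂ)
    show classInner (fun l : LH N H => (ψ : H → ℂ) l)
      (fun l : LH N H => (ξ : ↥(H ⊓ N) → ℂ) (phiH N H l)) ≠ 0
    rw [this]
    exact hne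
  have hacl : IsClassFunction H (fun h : H => a h) := by
    intro h k
    show a ((k * h * k⁻¹ : H) : G) = a h
    push_cast
    exact ha _ _
  have hvan : ∀ h : H, h ∉ LH N H → a (h : G) = 0 := by
    intro h hh
    apply haN
    intro hn
    apply hh
    rw [Subgroup.mem_subgroupOf]
    exact ⟨h.2, hn⟩
  rw [omega_eq_of_classInner_ne_zero (LH N H) ψ.2 (irrMap (phiH N H) ξ).2 hne' hacl hvan]
  exact omega_comp_mulEquiv (phiH N H) (ξ : ↥(H ⊓ N) → ℂ) (fun l : ↥(H ⊓ N) => a l)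

/-- **Covering goes up.**  If the block `c` of `H` covers the block `e` of `H ⊓ N`, `c` induces
the block `B` of `G` and `e` induces the block `d` of `N`, then `B` covers `d`. -/
theorem cover_of_induced {p : ℕ} [Fact p.Prime] {M : Ideal AlgInt} (hpM : IsPModular p M)
    {c : Set (IrrCharacter H)} {e : Set (IrrCharacter ↥(H ⊓ N))} {d : Set (IrrCharacter N)}
    {B : Set (IrrCharacter G)}
    (hcov : ∃ ψ ∈ c, ∃ ξ ∈ e,
      classInner (fun l : ↥(H ⊓ N) => (ψ : H → ℂ) (Subgroup.inclusion inf_le_left l))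
        (ξ : ↥(H ⊓ N) → ℂ) ≠ 0)
    (hcB : IsInducedBlock M H c B) (hed : IsInducedBlockIn M N (H ⊓ N) e d) :
    ∃ χ ∈ B, ∃ θ ∈ d, classInner (fun n : N => (χ : G → ℂ) n) (θ : N → ℂ) ≠ 0 := by
  classical
  have hM : M.IsPrime := isPrime_of_isPModular hpM
  have : Fintype (LN N H) := Fintype.ofFinite _
  obtain ⟨ψ, hψ, ξ, hξ, hne⟩ := hcov
  obtain ⟨χ, hB⟩ := hcB.2.1
  have hχ : χ ∈ B := by rw [hB]; exact self_mem_blockOf hM χ
  obtain ⟨θ₀, hd⟩ := hed.2.1
  have hθ₀ : θ₀ ∈ d := by rw [hd]; exact self_mem_blockOf hM θ₀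
  set a := orbitIdem N d with ha
  have hZ : ZS M a := ⟨orbitIdem_isClassFunction N d, memLocalRing_orbitIdem N hpM hed.2.1⟩
  have k1 := memLocalIdeal_omega_restrict_sub hM H hcB hψ hχ hZ
  rw [omega_eq_of_cover N H hne hZ.1 (fun g hg => orbitIdem_of_not_mem N d hg)] at k1
  -- down to `N`
  have haN : (fun n : N => a (n : G)) = blockCoeff (orbitBlock N d) := by
    funext n
    exact orbitIdem_coe N d n
  have hZN : ZS M (fun n : N => a (n : G)) := by
    refine ⟨?_, fun n => hZ.2 _⟩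
    rw [haN]
    exact blockCoeff_isClassFunction _
  have hind' := isInducedBlock_of_In (phiN N H) (fun _ => rfl) hed
  have k3 := memLocalIdeal_omega_restrict_sub hM (LN N H) hind' (Set.mem_image_of_mem _ hξ) hθ₀ hZN
  have e3 : omega (irrMap (phiN N H) ξ : LN N H → ℂ)
      (fun l : LN N H => (fun n : N => a (n : G)) l) =
      omega (ξ : ↥(H ⊓ N) → ℂ) (fun l : ↥(H ⊓ N) => a l) :=
    omega_comp_mulEquiv (phiN N H) (ξ : ↥(H ⊓ N) → ℂ) (fun l : ↥(H ⊓ N) => a l)
  rw [e3] at k3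
  have k4 : omega (θ₀ : N → ℂ) (fun n : N => a (n : G)) = 1 := by
    rw [haN, omega_blockCoeff, if_pos (mem_orbitBlock_of_mem N hθ₀)]
  rw [k4] at k3
  have k5 : MemLocalIdeal M (1 - omega (χ : G → ℂ) a) := cong_trans hM (cong_symm k3) k1
  obtain ⟨θ₂, hθ₂⟩ := exists_constituent N χ
  rw [omega_orbitIdem N d χ θ₂ hθ₂] at k5
  have hmem : θ₂ ∈ orbitBlock N d := by
    by_contra hcon
    rw [if_neg hcon, sub_zero] at k5
    exact not_memLocalIdeal_one hM k5
  obtain ⟨g, hg⟩ := hmem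
  refine ⟨χ, hχ, Cfsg.Agent.Lib.Helper16.conjIrr N g θ₂, hg, ?_⟩
  show classInner (fun n : N => (χ : G → ℂ) n) (conjFun N g (θ₂ : N → ℂ)) ≠ 0
  have h2 := classInner_conjFun N g (fun n : N => (χ : G → ℂ) n) (θ₂ : N → ℂ)
  rw [conjFun_restrict N g (isClassFunction_of_isCharacter χ.2)] at h2
  rw [h2]
  exact hθ₂

end Cfsg.Agent.Lib.Helper52.HkA
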