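import Cfsg.Agent.Lib.Helper52.HkA
import Cfsg.Agent.S4670
import Cfsg.Agent.S0958

/-!
# Harris–Knörr, part B: blocks of `H ≥ N_G(P)` with defect group `P`
-/

set_option autoImplicit false
set_option linter.unusedSectionVars false

universe u

namespace Cfsg.Agent.Lib.Helper52.HkB

open Cfsg
open Cfsg.Agent.Lib.Helper77 Cfsg.Agent.Lib.Helper80 Cfsg.Agent.Lib.Helper81
open scoped Pointwise ComplexConjugate

variable {G : Type u} [Group G] [Fintype G]

/-- A block of `H ≥ N_G(P)` with defect group `P` inducing `B`: then `P` is a defect group of `B`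
and the idempotents agree on `C_G(P)`. -/
theorem isDefectGroup_of_induced_of_normalizer_le {p : ℕ} [Fact p.Prime] {M : Ideal AlgInt}
    (hM : IsPModular p M) {P H : Subgroup G} (hP : IsPGroup p P)
    (hH : Subgroup.normalizer (P : Set G) ≤ H) {c : Set (IrrCharacter H)}
    {B : Set (IrrCharacter G)} (hdefc : IsDefectGroup p M c (P.subgroupOf H))
    (hcB : IsInducedBlock M H c B) :
    IsDefectGroup p M B P ∧ ∀ x : G, x ∈ Subgroup.centralizer (P : Set G) →
      MemLocalIdeal M (blockCoeff B x - subgroupBlockCoeff H c x) := by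
  classical
  have hMp : M.IsPrime := isPrime_of_isPModular hM
  have hPN : P ≤ Subgroup.normalizer (P : Set G) := Subgroup.le_normalizer
  have hPH : P ≤ H := hPN.trans hH
  have := Fintype.ofFinite H
  have := Fintype.ofFinite (Subgroup.normalizer (P : Set G))
  have := Fintype.ofFinite ((Subgroup.normalizer (P : Set G)).subgroupOf H)
  have hQK := subgroupOf_le_normalizer_subgroupOf P H
  have hCK := centralizer_subgroupOf_le hPH
  have hKN := normalizer_subgroupOf_le P H
  have hPp' : IsPGroup p (P.subgroupOf H) := hP.comap_subtype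
  obtain ⟨ζc, rfl⟩ := hcB.1
  obtain ⟨b₁, hb₁ind⟩ := (Cfsg.Agent.S0958.result p M hM (P.subgroupOf H)
    ((Subgroup.normalizer (P : Set G)).subgroupOf H) hPp' (sup_le hQK hCK) hKN
    (blockOf M (ζc : H → ℂ)) ⟨ζc, rfl⟩).2 ⟨P.subgroupOf H, hdefc, 1, by
      intro y hy
      obtain ⟨z, hz, rfl⟩ := hy
      simpa using hz⟩
  obtain ⟨ψ₁, hb₁⟩ := hb₁ind.1
  subst hb₁
  have hdefb₁ := isDefectGroup_of_induced hM hQK hKN hb₁ind hdefc
  have hdefb : IsDefectGroup p M
      (blockOf M (irrMap (Subgroup.subgroupOfEquivOfLe hH).symm ψ₁ :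
        Subgroup.normalizer (P : Set G) → ℂ))
      (P.subgroupOf (Subgroup.normalizer (P : Set G))) := by
    have h := isDefectGroup_irrMap_image (Subgroup.subgroupOfEquivOfLe hH).symm hdefb₁
    rw [irrMap_image_blockOf] at h
    convert h using 1
    ext y
    rfl
  obtain ⟨χ₀, ζ₀, h1, h2, h3, h4, h5⟩ := brauerCorr_core hM hP hH _ hdefb
  have hcB' : IsInducedBlock M H (blockOf M (ζ₀ : H → ℂ)) (blockOf M (χ₀ : G → ℂ)) :=
    isInducedBlock_of_trans hMp hH h3 h1
  rw [irrMap_image_blockOf, irrMap_irrMap_symm] at h3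
  have hceq := isInducedBlock_unique hMp hb₁ind h3
  rw [← hceq] at hcB' h5
  have hBeq := isInducedBlock_unique hMp hcB hcB'
  rw [hBeq]
  exact ⟨h2, h5⟩

/-- Two blocks of `H ≥ N_G(P)` with defect group `P` inducing the same block are equal. -/
theorem eq_of_induced_of_normalizer_le {p : ℕ} [Fact p.Prime] {M : Ideal AlgInt}
    (hM : IsPModular p M) {P H : Subgroup G} (hP : IsPGroup p P)
    (hH : Subgroup.normalizer (P : Set G) ≤ H) {c c' : Set (IrrCharacter H)}
    {B : Set (IrrCharacter G)} (hdefc : IsDefectGroup p M c (P.subgroupOf H))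
    (hdefc' : IsDefectGroup p M c' (P.subgroupOf H))
    (hcB : IsInducedBlock M H c B) (hcB' : IsInducedBlock M H c' B) : c = c' := by
  obtain ⟨hdefB, hcong⟩ := isDefectGroup_of_induced_of_normalizer_le hM hP hH hdefc hcB
  obtain ⟨-, hcong'⟩ := isDefectGroup_of_induced_of_normalizer_le hM hP hH hdefc' hcB'
  have huniq := (Cfsg.Agent.S4670.result p M hM P H hP hH).1 B hcB.2.1 hdefB
  exact huniq.unique ⟨hcB.1, hdefc, hcong⟩ ⟨hcB'.1, hdefc', hcong'⟩

end Cfsg.Agent.Lib.Helper52.HkB
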