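import Cfsg.Agent.Lib.Helper52.HkB
import Cfsg.Agent.S4691

/-!
# Harris–Knörr, part C: conjugation by elements of the normalizer
-/

set_option autoImplicit false
set_option linter.unusedSectionVars false

universe u

namespace Cfsg.Agent.Lib.Helper52.HkC

open Cfsg
open Cfsg.Agent.Lib.Helper77 Cfsg.Agent.Lib.Helper80 Cfsg.Agent.Lib.Helper81
open Cfsg.Agent.Lib.Helper16 Cfsg.Agent.Lib.Helper74 Cfsg.Agent.Lib.Helper75
open Cfsg.Agent.Lib.Helper52.KnG
open scoped Pointwise ComplexConjugate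

variable {G : Type u} [Group G]

/-- Conjugation `k ↦ h k h⁻¹` on a subgroup normalized by `h`. -/
noncomputable abbrev cj (K : Subgroup G) (h : G) (hh : h ∈ Subgroup.normalizer (K : Set G)) :
    K ≃* K := (Cfsg.Agent.S4691.conjAut K h hh).symm

theorem cj_coe (K : Subgroup G) (h : G) (hh : h ∈ Subgroup.normalizer (K : Set G)) (k : K) :
    ((cj K h hh k : K) : G) = h * (k : G) * h⁻¹ := rfl

/-- The induced central character of a conjugate character. -/
theorem inducedCentralCharIn_cj (N K : Subgroup G) [hN : N.Normal] (h : G)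
    (hh : h ∈ Subgroup.normalizer (K : Set G)) (ξ : IrrCharacter K) (x : G) :
    inducedCentralCharIn N K (irrMap (cj K h hh) ξ : K → ℂ) x =
      inducedCentralCharIn N K (ξ : K → ℂ) (h * x * h⁻¹) := by
  unfold inducedCentralCharIn
  refine finsum_mem_eq_of_bijOn (cj K h hh) ⟨?_, (cj K h hh).injective.injOn, ?_⟩ fun k _ => ?_
  · rintro k ⟨n, hn⟩
    refine ⟨⟨h * (n : G) * h⁻¹, hN.conj_mem _ n.2 h⟩, ?_⟩
    rw [cj_coe, ← hn]
    push_cast
    group
  · rintro k ⟨n, hn⟩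
    refine ⟨(cj K h hh).symm k, ⟨⟨h⁻¹ * (n : G) * h⁻¹⁻¹, hN.conj_mem _ n.2 h⁻¹⟩, ?_⟩,
      (cj K h hh).apply_symm_apply k⟩
    have h1 : (((cj K h hh).symm k : K) : G) = h⁻¹ * (k : G) * h := rfl
    rw [h1]
    push_cast
    have : (k : G) = (n : G)⁻¹ * (h * x * h⁻¹) * (n : G) := by
      rw [← hn]; group
    rw [this]
    group
  · rw [irrMap_apply, irrMap_apply, map_one]

variable [Fintype G]

/-- Induction inside `N` commutes with conjugation by an element normalizing the subgroup. -/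
theorem isInducedBlockIn_cj {M : Ideal AlgInt} (N K : Subgroup G) [hN : N.Normal] [Fintype N]
    (h : G) (hh : h ∈ Subgroup.normalizer (K : Set G))
    {e : Set (IrrCharacter K)} {d : Set (IrrCharacter N)} (hed : IsInducedBlockIn M N K e d) :
    IsInducedBlockIn M N K (irrMap (cj K h hh) '' e)
      (Cfsg.Agent.Lib.Helper16.conjIrr N h '' d) := by
  refine ⟨isPBlock_irrMap_image _ hed.1, ?_, ?_⟩
  · obtain ⟨θ₀, rfl⟩ := hed.2.1
    exact ⟨_, conjIrr_image_blockOf N h θ₀⟩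
  · rintro _ ⟨ξ, hξ, rfl⟩ _ ⟨θ, hθ, rfl⟩ x
    rw [inducedCentralCharIn_cj]
    have h1 : centralChar (Cfsg.Agent.Lib.Helper16.conjIrr N h θ : N → ℂ) x =
        centralChar (θ : N → ℂ) (MulAut.conjNormal h x) := by
      show centralChar (conjFun N h (θ : N → ℂ)) x = _
      rw [conjFun_eq_comp, centralChar_comp_mulEquiv]
    rw [h1]
    exact hed.2.2 ξ hξ θ hθ (MulAut.conjNormal h x)

/-- The defect group `Q` is preserved under conjugation by elements normalizing `Q`. -/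
theorem isDefectGroup_cj {p : ℕ} [Fact p.Prime] {M : Ideal AlgInt} (K Q : Subgroup G) (h : G)
    (hh : h ∈ Subgroup.normalizer (K : Set G)) (hQ : h ∈ Subgroup.normalizer (Q : Set G))
    {e : Set (IrrCharacter K)} (he : IsDefectGroup p M e (Q.subgroupOf K)) :
    IsDefectGroup p M (irrMap (cj K h hh) '' e) (Q.subgroupOf K) := by
  have := isDefectGroup_irrMap_image (cj K h hh) he
  convert this using 1
  ext k
  show (k : G) ∈ Q ↔ h * (k : G) * h⁻¹ ∈ Q
  exact Subgroup.mem_normalizer_iff.mp hQ (k : G)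

/-- Conjugation by an element of `H` does not change the pairing with a class function of `H`. -/
theorem classInner_cj (H K : Subgroup G) [Fintype K] (hKH : K ≤ H) (h : G) (hH : h ∈ H)
    (hh : h ∈ Subgroup.normalizer (K : Set G)) {ψ : H → ℂ} (hψ : IsClassFunction H ψ)
    (ξ : IrrCharacter K) :
    classInner (fun l : K => ψ (Subgroup.inclusion hKH l)) (irrMap (cj K h hh) ξ : K → ℂ) =
      classInner (fun l : K => ψ (Subgroup.inclusion hKH l)) (ξ : K → ℂ) := by
  have h1 := classInner_comp_mulEquiv (cj K h hh) (fun l : K => ψ (Subgroup.inclusion hKH l))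
    (ξ : K → ℂ)
  have h2 : (fun a : K => ψ (Subgroup.inclusion hKH (cj K h hh a))) =
      fun l : K => ψ (Subgroup.inclusion hKH l) := by
    funext a
    have : Subgroup.inclusion hKH (cj K h hh a) =
        (⟨h, hH⟩ : H) * Subgroup.inclusion hKH a * (⟨h, hH⟩ : H)⁻¹ := Subtype.ext rfl
    rw [this]
    exact hψ _ _
  rw [h2] at h1
  exact h1

variable (N : Subgroup G) [hN : N.Normal] [Fintype N]

/-- Conjugation by elements of `N` fixes the irreducible characters of `N`. -/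
theorem conjIrr_of_mem {n : G} (hn : n ∈ N) (θ : IrrCharacter N) :
    Cfsg.Agent.Lib.Helper16.conjIrr N n θ = θ := by
  apply Subtype.ext
  funext x
  show conjFun N n (θ : N → ℂ) x = (θ : N → ℂ) x
  rw [conjFun_apply]
  have hcl := isClassFunction_of_isCharacter θ.2
  have : (⟨n * (x : G) * n⁻¹, hN.conj_mem x x.2 n⟩ : N) = (⟨n, hn⟩ : N) * x * (⟨n, hn⟩ : N)⁻¹ :=
    Subtype.ext rfl
  rw [this]
  exact hcl _ _

/-- If two blocks of `N` with the same defect group `Q` are conjugate in `G`, they are conjugate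
under the normalizer of `Q`. -/
theorem exists_mem_normalizer_conjIrr {p : ℕ} [Fact p.Prime] {M : Ideal AlgInt}
    (hpM : IsPModular p M) (Q : Subgroup G) (hQN : Q ≤ N) (θ₁ θ : IrrCharacter N)
    (hd₁ : IsDefectGroup p M (blockOf M (θ₁ : N → ℂ)) (Q.subgroupOf N))
    (hd : IsDefectGroup p M (blockOf M (θ : N → ℂ)) (Q.subgroupOf N)) (g : G)
    (hg : Cfsg.Agent.Lib.Helper16.conjIrr N g θ₁ ∈ blockOf M (θ : N → ℂ)) :
    ∃ h ∈ Subgroup.normalizer (Q : Set G),
      Cfsg.Agent.Lib.Helper16.conjIrr N h θ₁ ∈ blockOf M (θ : N → ℂ) := by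
  classical
  have hM : M.IsPrime := isPrime_of_isPModular hpM
  have h1 := isDefectGroup_irrMap_image (MulAut.conjNormal g : N ≃* N) hd₁
  rw [← conjIrr_eq_irrMap, conjIrr_image_blockOf, blockOf_eq_of_mem hM hg] at h1
  obtain ⟨n, hn⟩ := exists_conj_le_of_isDefectGroup hpM θ hd h1
  have hneq := eq_of_le_of_isDefectGroup hpM θ (isDefectGroup_conj h1 n) hd hn
  -- `h = g n⁻¹`
  have hmem : ∀ y : G, y ∈ Q ↔ (g * (n : G)⁻¹) * y * (g * (n : G)⁻¹)⁻¹ ∈ Q := by
    intro y
    by_cases hy : y ∈ N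
    · have h2 : (⟨y, hy⟩ : N) ∈ Q.subgroupOf N ↔
          (⟨y, hy⟩ : N) ∈ MulAut.conj n • ((Q.subgroupOf N).comap
            (MulAut.conjNormal g : N ≃* N).toMonoidHom) := by rw [hneq]
      rw [Subgroup.mem_pointwise_smul_iff_inv_smul_mem] at h2
      have h3 : (⟨y, hy⟩ : N) ∈ Q.subgroupOf N ↔ y ∈ Q := Iff.rfl
      rw [h3] at h2
      rw [h2]
      show g * ((n⁻¹ * (⟨y, hy⟩ : N) * n : N) : G) * g⁻¹ ∈ Q ↔ _
      have e1 : g * ((n⁻¹ * (⟨y, hy⟩ : N) * n : N) : G) * g⁻¹ =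
          (g * (n : G)⁻¹) * y * (g * (n : G)⁻¹)⁻¹ := by
        push_cast
        group
      rw [e1]
    · constructor
      · intro hyQ
        exact absurd (hQN hyQ) hy
      · intro hyQ
        exfalso
        apply hy
        have h4 := hN.conj_mem _ (hQN hyQ) (g * (n : G)⁻¹)⁻¹
        have e2 : (g * (n : G)⁻¹)⁻¹ * ((g * (n : G)⁻¹) * y * (g * (n : G)⁻¹)⁻¹) *
            (g * (n : G)⁻¹)⁻¹⁻¹ = y := by group
        rwa [e2] at h4
  refine ⟨g * (n : G)⁻¹, Subgroup.mem_normalizer_iff.mpr hmem, ?_⟩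
  have e3 : g * (n : G)⁻¹ = (g * (n : G)⁻¹ * g⁻¹) * g := by group
  rw [e3, ← Cfsg.Agent.Lib.Helper16.conjIrr_conjIrr,
    conjIrr_of_mem N (hN.conj_mem _ (N.inv_mem n.2) g)]
  exact hg

end Cfsg.Agent.Lib.Helper52.HkC
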