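import Cfsg.Agent.Lib.Helper52.HkC
import Cfsg.Agent.S0919
import Cfsg.Agent.S0917
import Cfsg.Agent.S0912
import Cfsg.Agent.Lib.Helper22.Fitting

/-!
# Harris–Knörr, part D: a block of `N_G(Q)` inducing a block over `d` covers the Brauer
correspondent of `d`
-/

set_option autoImplicit false
set_option linter.unusedSectionVars false

universe u

namespace Cfsg.Agent.Lib.Helper52.HkD

open Cfsg
open Cfsg.Agent.Lib.Helper77 Cfsg.Agent.Lib.Helper80 Cfsg.Agent.Lib.Helper81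
open Cfsg.Agent.Lib.Helper16 Cfsg.Agent.Lib.Helper74 Cfsg.Agent.Lib.Helper75
open Cfsg.Agent.Lib.Helper52.KnG Cfsg.Agent.Lib.Helper52.HkA Cfsg.Agent.Lib.Helper52.HkB
open Cfsg.Agent.Lib.Helper52.HkC
open scoped Pointwise ComplexConjugate

variable {G : Type u} [Group G]
variable (N : Subgroup G) [hN : N.Normal] (Q : Subgroup G)

/-- Elements of `N_G(Q)` normalize `N_G(Q) ⊓ N`. -/
theorem mem_normalizer_inf {h : G} (hh : h ∈ Subgroup.normalizer (Q : Set G)) :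
    h ∈ Subgroup.normalizer ((Subgroup.normalizer (Q : Set G) ⊓ N : Subgroup G) : Set G) := by
  rw [Subgroup.mem_normalizer_iff]
  intro x
  constructor
  · rintro ⟨hx1, hx2⟩
    exact ⟨Subgroup.mul_mem _ (Subgroup.mul_mem _ hh hx1) (Subgroup.inv_mem _ hh),
      hN.conj_mem x hx2 h⟩
  · rintro ⟨hx1, hx2⟩
    refine ⟨?_, ?_⟩
    · have := Subgroup.mul_mem _ (Subgroup.mul_mem _ (Subgroup.inv_mem _ hh) hx1) hh
      have e : h⁻¹ * (h * x * h⁻¹) * h = x := by group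
      rwa [e] at this
    · have := hN.conj_mem _ hx2 h⁻¹
      have e : h⁻¹ * (h * x * h⁻¹) * h⁻¹⁻¹ = x := by group
      rwa [e] at this

/-- The normalizer in `N` of `Q` lies in the copy of `N_G(Q) ⊓ N`. -/
theorem normalizer_subgroupOf_le_LN (hQN : Q ≤ N) :
    Subgroup.normalizer ((Q.subgroupOf N : Subgroup N) : Set N) ≤
      LN N (Subgroup.normalizer (Q : Set G)) := by
  intro n hn
  rw [Subgroup.mem_subgroupOf]
  refine ⟨?_, n.2⟩
  show (n : G) ∈ Subgroup.normalizer (Q : Set G)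
  rw [Subgroup.mem_normalizer_iff]
  intro y
  by_cases hy : y ∈ N
  · have := Subgroup.mem_normalizer_iff.mp hn ⟨y, hy⟩
    exact this
  · constructor
    · intro hyQ
      exact absurd (hQN hyQ) hy
    · intro hyQ
      exfalso
      apply hy
      have h4 := hN.conj_mem _ (hQN hyQ) (n : G)⁻¹
      have e2 : (n : G)⁻¹ * ((n : G) * y * (n : G)⁻¹) * (n : G)⁻¹⁻¹ = y := by group
      rwa [e2] at h4

theorem LN_le_normalizer_subgroupOf :
    LN N (Subgroup.normalizer (Q : Set G)) ≤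
      Subgroup.normalizer ((Q.subgroupOf N : Subgroup N) : Set N) := by
  intro n hn
  rw [Subgroup.mem_subgroupOf] at hn
  rw [Subgroup.mem_normalizer_iff]
  intro y
  exact Subgroup.mem_normalizer_iff.mp hn.1 (y : G)

theorem subgroupOf_le_LN :
    Q.subgroupOf N ≤ LN N (Subgroup.normalizer (Q : Set G)) := by
  intro n hn
  rw [Subgroup.mem_subgroupOf]
  exact ⟨Subgroup.le_normalizer hn, n.2⟩

theorem centralizer_subgroupOf_le_LN (hQN : Q ≤ N) :
    Subgroup.centralizer ((Q.subgroupOf N : Subgroup N) : Set N) ≤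
      LN N (Subgroup.normalizer (Q : Set G)) :=
  (Subgroup.centralizer_le_normalizer _).trans (normalizer_subgroupOf_le_LN N Q hQN)

variable [Fintype G] [Fintype N]

local notation "HQ" => Subgroup.normalizer ((Q : Subgroup G) : Set G)

/-- **Going down.**  Let `d` be a block of `N` with defect group `Q`, `e` its Brauer correspondent
in `N_G(Q) ⊓ N`, and `B` a block of `G` covering `d`.  Every block `c` of `N_G(Q)` inducing `B`
covers `e`. -/
theorem cover_down {p : ℕ} [Fact p.Prime] {M : Ideal AlgInt} (hpM : IsPModular p M)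
    (hQ : IsPGroup p Q) (hQN : Q ≤ N)
    [Fintype ↥(Subgroup.normalizer (Q : Set G))]
    [Fintype ↥(Subgroup.normalizer (Q : Set G) ⊓ N)]
    {d : Set (IrrCharacter N)} (hdQ : IsDefectGroup p M d (Q.subgroupOf N))
    {e : Set (IrrCharacter ↥(Subgroup.normalizer (Q : Set G) ⊓ N))}
    (heQ : IsDefectGroup p M e (Q.subgroupOf (Subgroup.normalizer (Q : Set G) ⊓ N)))
    (hed : IsInducedBlockIn M N (Subgroup.normalizer (Q : Set G) ⊓ N) e d)
    {c : Set (IrrCharacter ↥(Subgroup.normalizer (Q : Set G)))} {B : Set (IrrCharacter G)}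
    (hcB : IsInducedBlock M (Subgroup.normalizer (Q : Set G)) c B)
    (hBd : ∃ χ ∈ B, ∃ θ ∈ d, classInner (fun n : N => (χ : G → ℂ) n) (θ : N → ℂ) ≠ 0) :
    ∃ ψ ∈ c, ∃ ξ ∈ e,
      classInner (fun l : ↥(Subgroup.normalizer (Q : Set G) ⊓ N) =>
        (ψ : ↥(Subgroup.normalizer (Q : Set G)) → ℂ) (Subgroup.inclusion inf_le_left l))
        (ξ : ↥(Subgroup.normalizer (Q : Set G) ⊓ N) → ℂ) ≠ 0 := by
  classical
  have hM : M.IsPrime := isPrime_of_isPModular hpM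
  have : Fintype (LH N HQ) := Fintype.ofFinite _
  have : Fintype (LN N HQ) := Fintype.ofFinite _
  have hQp' : IsPGroup p (Q.subgroupOf N) := hQ.comap_subtype
  have hnormLN := normalizer_subgroupOf_le_LN N Q hQN
  -- step 1: a constituent
  obtain ⟨ψ, hc⟩ := hcB.1
  have hψc : ψ ∈ c := by rw [hc]; exact self_mem_blockOf hM ψ
  obtain ⟨ξ₁', hξ₁'⟩ := exists_constituent (LH N HQ) ψ
  set ξ₁ : IrrCharacter ↥(HQ ⊓ N) := irrMap (phiH N HQ).symm ξ₁' with hξ₁def
  have hne₁ : classInner (fun l : ↥(HQ ⊓ N) => (ψ : HQ → ℂ) (Subgroup.inclusion inf_le_left l))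
      (ξ₁ : ↥(HQ ⊓ N) → ℂ) ≠ 0 := by
    rw [← classInner_phiH N HQ (ψ : HQ → ℂ) (ξ₁ : ↥(HQ ⊓ N) → ℂ)]
    have : (fun l : LH N HQ => (ξ₁ : ↥(HQ ⊓ N) → ℂ) (phiH N HQ l)) = (ξ₁' : LH N HQ → ℂ) := by
      funext l
      show (ξ₁' : LH N HQ → ℂ) ((phiH N HQ).symm (phiH N HQ l)) = _
      rw [MulEquiv.symm_apply_apply]
    rw [this]
    exact hξ₁'
  -- step 2: the induced block `d₁`
  set e₁ := blockOf M (ξ₁ : ↥(HQ ⊓ N) → ℂ) with he₁
  have he₁B : IsPBlock M e₁ := ⟨ξ₁, rfl⟩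
  obtain ⟨d₁, hind₁⟩ := Cfsg.Agent.S0919.result p M hpM (Q.subgroupOf N) (LN N HQ) hQp'
    (subgroupOf_le_LN N Q) (centralizer_subgroupOf_le_LN N Q hQN)
    (LN_le_normalizer_subgroupOf N Q) (irrMap (phiN N HQ) '' e₁) (isPBlock_irrMap_image _ he₁B)
  have hed₁ : IsInducedBlockIn M N (HQ ⊓ N) e₁ d₁ :=
    isInducedBlockIn_of_isInducedBlock (phiN N HQ) (fun _ => rfl) he₁B hind₁
  -- step 3: `B` covers `d₁`
  obtain ⟨χ₁, hχ₁, θ₁, hθ₁, hneχ₁⟩ := cover_of_induced N HQ hpM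
    ⟨ψ, hψc, ξ₁, self_mem_blockOf hM ξ₁, hne₁⟩ hcB hed₁
  obtain ⟨χ, hχ, θ, hθ, hneχ⟩ := hBd
  have hd₁eq : d₁ = blockOf M (θ₁ : N → ℂ) := eq_blockOf_of_mem hM hed₁.2.1 hθ₁
  have hdeq : d = blockOf M (θ : N → ℂ) := eq_blockOf_of_mem hM hed.2.1 hθ
  -- step 4: `d₁` is conjugate to `d`
  have hZ : ZS M (orbitIdem N d) :=
    ⟨orbitIdem_isClassFunction N d, memLocalRing_orbitIdem N hpM hed.2.1⟩
  have hsame : SameBlock M (χ₁ : G → ℂ) (χ : G → ℂ) := by
    obtain ⟨χ₀, hB⟩ := hcB.2.1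
    rw [hB] at hχ₁ hχ
    exact sameBlock_trans hM (sameBlock_symm hχ₁) hχ
  have k1 := memLocalIdeal_omega_sub hM (isClassFunction_of_isCharacter χ₁.2)
    (isClassFunction_of_isCharacter χ.2) hsame hZ.1 hZ.2
  rw [omega_orbitIdem N d χ θ hneχ, if_pos (mem_orbitBlock_of_mem N hθ),
    omega_orbitIdem N d χ₁ θ₁ hneχ₁] at k1
  have hmem : θ₁ ∈ orbitBlock N d := by
    by_contra hcon
    rw [if_neg hcon, zero_sub] at k1
    exact not_memLocalIdeal_one hM (by simpa using memLocalIdeal_neg k1)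
  obtain ⟨g, hg⟩ := hmem
  rw [hdeq] at hg
  -- step 5: defect groups
  obtain ⟨D₁, hD₁⟩ := exists_isDefectGroup hpM ξ₁
  have hQLnormal : (Q.subgroupOf (HQ ⊓ N)).Normal :=
    (Subgroup.normal_subgroupOf_iff_le_normalizer (le_inf Subgroup.le_normalizer hQN)).mpr
      inf_le_left
  have hQLD₁ : Q.subgroupOf (HQ ⊓ N) ≤ D₁ :=
    (Cfsg.Agent.Lib.Helper22.le_pCore' hQLnormal hQ.comap_subtype).trans
      (Cfsg.Agent.S0912.result p M hpM _ he₁B D₁ hD₁)
  have hD₁' := isDefectGroup_irrMap_image (phiN N HQ) hD₁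
  obtain ⟨E, hE, hDE⟩ := Cfsg.Agent.S0917.result p M hpM (LN N HQ) _
    (isPBlock_irrMap_image _ he₁B) d₁ hed₁.2.1 hind₁ _ hD₁'
  -- a defect group of `d` of the same order as `E`
  have hdg := isDefectGroup_irrMap_image (MulAut.conjNormal g : N ≃* N) (hd₁eq ▸ hE)
  rw [← conjIrr_eq_irrMap, conjIrr_image_blockOf, blockOf_eq_of_mem hM hg] at hdg
  have hcardE : Nat.card E = Nat.card Q := by
    have h1 := card_eq_of_isDefectGroup hpM θ hdg (hdeq ▸ hdQ)
    have h2 : Nat.card (E.comap (MulAut.conjNormal g : N ≃* N).toMonoidHom) = Nat.card E :=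
      Nat.card_congr ((MulAut.conjNormal g : N ≃* N).toEquiv.subtypeEquiv (fun _ => Iff.rfl))
    have h3 : Nat.card (Q.subgroupOf N) = Nat.card Q :=
      Nat.card_congr (Subgroup.subgroupOfEquivOfLe hQN).toEquiv
    rw [← h2, h1, h3]
  have hcardD₁ : Nat.card D₁ ≤ Nat.card Q := by
    rw [← hcardE]
    have h1 : Nat.card D₁ = Nat.card ((D₁.comap (phiN N HQ).toMonoidHom).map (LN N HQ).subtype) := by
      rw [Subgroup.card_map_of_injective (LN N HQ).subtype_injective]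
      exact (Nat.card_congr ((phiN N HQ).toEquiv.subtypeEquiv (fun _ => Iff.rfl))).symm
    rw [h1]
    exact Subgroup.card_le_of_le hDE
  have hD₁eq : D₁ = Q.subgroupOf (HQ ⊓ N) := by
    symm
    apply Subgroup.eq_of_le_of_card_ge hQLD₁
    have h3 : Nat.card (Q.subgroupOf (HQ ⊓ N)) = Nat.card Q :=
      Nat.card_congr (Subgroup.subgroupOfEquivOfLe (le_inf Subgroup.le_normalizer hQN)).toEquiv
    rw [h3]
    exact hcardD₁
  rw [hD₁eq] at hD₁
  -- the transported defect groups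
  have htr : ∀ {e' : Set (IrrCharacter ↥(HQ ⊓ N))},
      IsDefectGroup p M e' (Q.subgroupOf (HQ ⊓ N)) →
      IsDefectGroup p M (irrMap (phiN N HQ) '' e') ((Q.subgroupOf N).subgroupOf (LN N HQ)) := by
    intro e' he'
    have := isDefectGroup_irrMap_image (phiN N HQ) he'
    convert this using 1
    ext y
    rfl
  have hd₁Q : IsDefectGroup p M d₁ (Q.subgroupOf N) :=
    (isDefectGroup_of_induced_of_normalizer_le hpM hQp' hnormLN (htr hD₁) hind₁).1
  -- step 6: conjugation by an element of `HQ`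
  obtain ⟨h, hhH, hh⟩ := exists_mem_normalizer_conjIrr N hpM Q hQN θ₁ θ (hd₁eq ▸ hd₁Q)
    (hdeq ▸ hdQ) g hg
  have hhL := mem_normalizer_inf N Q hhH
  set e₂ := irrMap (cj (HQ ⊓ N) h hhL) '' e₁ with he₂
  have hed₂ := isInducedBlockIn_cj (M := M) N (HQ ⊓ N) h hhL hed₁
  have hd₂ : Cfsg.Agent.Lib.Helper16.conjIrr N h '' d₁ = d := by
    rw [hd₁eq, conjIrr_image_blockOf, blockOf_eq_of_mem hM hh, hdeq]
  rw [hd₂] at hed₂
  have hdef₂ : IsDefectGroup p M e₂ (Q.subgroupOf (HQ ⊓ N)) := isDefectGroup_cj (HQ ⊓ N) Q h hhL hhH hD₁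
  -- step 7: uniqueness in `N`
  have hind₂ := isInducedBlock_of_In (phiN N HQ) (fun _ => rfl) hed₂
  have hind := isInducedBlock_of_In (phiN N HQ) (fun _ => rfl) hed
  have heq := eq_of_induced_of_normalizer_le hpM hQp' hnormLN (htr hdef₂) (htr heQ) hind₂ hind
  have he₂e : e₂ = e := (irrMap_injective (phiN N HQ)).image_injective heq
  -- conclusion
  refine ⟨ψ, hψc, irrMap (cj (HQ ⊓ N) h hhL) ξ₁, ?_, ?_⟩
  · rw [← he₂e]
    exact ⟨ξ₁, self_mem_blockOf hM ξ₁, rfl⟩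
  · rw [classInner_cj HQ (HQ ⊓ N) inf_le_left h hhH hhL (isClassFunction_of_isCharacter ψ.2) ξ₁]
    exact hne₁

end Cfsg.Agent.Lib.Helper52.HkD
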