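import Cfsg.Agent.Lib.Helper52.HkD

/-!
# Harris–Knörr, part E: existence and uniqueness of the block of `N_G(Q)` inducing `B`
-/

set_option autoImplicit false
set_option linter.unusedSectionVars false

universe u

namespace Cfsg.Agent.Lib.Helper52.HkE

open Cfsg
open Cfsg.Agent.Lib.Helper77 Cfsg.Agent.Lib.Helper80 Cfsg.Agent.Lib.Helper81
open Cfsg.Agent.Lib.Helper16 Cfsg.Agent.Lib.Helper74 Cfsg.Agent.Lib.Helper75
open Cfsg.Agent.Lib.Helper52.KnE Cfsg.Agent.Lib.Helper52.KnG Cfsg.Agent.Lib.Helper52.HkA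
open Cfsg.Agent.Lib.Helper52.HkB Cfsg.Agent.Lib.Helper52.HkC Cfsg.Agent.Lib.Helper52.HkD
open scoped Pointwise ComplexConjugate

variable {G : Type u} [Group G] [Fintype G]
variable (N : Subgroup G) [hN : N.Normal] [Fintype N] (Q : Subgroup G)

local notation "HQ" => Subgroup.normalizer ((Q : Subgroup G) : Set G)

/-- **Existence.**  A block of `G` covering a block of `N` with defect group `Q` is induced from
a block of `N_G(Q)`. -/
theorem exists_induced {p : ℕ} [Fact p.Prime] {M : Ideal AlgInt} (hpM : IsPModular p M)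
    (hQ : IsPGroup p Q) (hQN : Q ≤ N)
    {d : Set (IrrCharacter N)} (hd : IsPBlock M d) (hdQ : IsDefectGroup p M d (Q.subgroupOf N))
    {B : Set (IrrCharacter G)} (hB : IsPBlock M B)
    (hBd : ∃ χ ∈ B, ∃ θ ∈ d, classInner (fun n : N => (χ : G → ℂ) n) (θ : N → ℂ) ≠ 0) :
    ∃ c : Set (IrrCharacter ↥HQ), IsInducedBlock M HQ c B := by
  classical
  obtain ⟨χ₀, rfl⟩ := hB
  obtain ⟨θ₀, rfl⟩ := hd
  obtain ⟨P, hP, hPN⟩ := knorr N hpM χ₀ θ₀ hBd Q hQN hdQ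
  refine (Cfsg.Agent.S0958.result p M hpM Q HQ hQ
    (sup_le Subgroup.le_normalizer (Subgroup.centralizer_le_normalizer _)) le_rfl
    (blockOf M (χ₀ : G → ℂ)) ⟨χ₀, rfl⟩).2 ⟨P, hP, 1, ?_⟩
  rintro y ⟨z, hz, rfl⟩
  rw [← hPN] at hz
  simpa using hz.1

/-- **Uniqueness.**  Two blocks of `N_G(Q)` covering `e` (a block of `N_G(Q) ⊓ N` with defect
group `Q`) and inducing the same block of `G` are equal. -/
theorem eq_of_induced {p : ℕ} [Fact p.Prime] {M : Ideal AlgInt} (hpM : IsPModular p M)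
    (hQ : IsPGroup p Q) (hQN : Q ≤ N)
    [Fintype ↥HQ] [Fintype ↥(HQ ⊓ N)]
    {e : Set (IrrCharacter ↥(HQ ⊓ N))} (he : IsPBlock M e)
    (heQ : IsDefectGroup p M e (Q.subgroupOf (HQ ⊓ N)))
    {c₁ c₂ : Set (IrrCharacter ↥HQ)} {B : Set (IrrCharacter G)}
    (hc₁B : IsInducedBlock M HQ c₁ B) (hc₂B : IsInducedBlock M HQ c₂ B)
    (hcov₁ : ∃ ψ ∈ c₁, ∃ ξ ∈ e, classInner (fun l : ↥(HQ ⊓ N) =>
        (ψ : ↥HQ → ℂ) (Subgroup.inclusion inf_le_left l)) (ξ : ↥(HQ ⊓ N) → ℂ) ≠ 0)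
    (hcov₂ : ∃ ψ ∈ c₂, ∃ ξ ∈ e, classInner (fun l : ↥(HQ ⊓ N) =>
        (ψ : ↥HQ → ℂ) (Subgroup.inclusion inf_le_left l)) (ξ : ↥(HQ ⊓ N) → ℂ) ≠ 0) :
    c₁ = c₂ := by
  classical
  have hM : M.IsPrime := isPrime_of_isPModular hpM
  have : Fintype (LH N HQ) := Fintype.ofFinite _
  have hLHn : (LH N HQ).Normal := lh_normal N HQ
  obtain ⟨ξ₀, rfl⟩ := he
  -- the transported block
  have hQHL : Q.subgroupOf HQ ≤ LH N HQ := by
    intro y hy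
    rw [Subgroup.mem_subgroupOf]
    exact ⟨y.2, hQN hy⟩
  have hdef' : IsDefectGroup p M (blockOf M (irrMap (phiH N HQ) ξ₀ : LH N HQ → ℂ))
      ((Q.subgroupOf HQ).subgroupOf (LH N HQ)) := by
    have := isDefectGroup_irrMap_image (phiH N HQ) heQ
    rw [irrMap_image_blockOf] at this
    convert this using 1
    ext y
    rfl
  -- the defect groups from Knörr's theorem
  have key : ∀ c : Set (IrrCharacter ↥HQ), IsInducedBlock M HQ c B →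
      (∃ ψ ∈ c, ∃ ξ ∈ blockOf M (ξ₀ : ↥(HQ ⊓ N) → ℂ), classInner (fun l : ↥(HQ ⊓ N) =>
        (ψ : ↥HQ → ℂ) (Subgroup.inclusion inf_le_left l)) (ξ : ↥(HQ ⊓ N) → ℂ) ≠ 0) →
      ∃ P : Subgroup G, IsPGroup p P ∧ Subgroup.normalizer (P : Set G) ≤ HQ ∧ P ⊓ N = Q ∧
        IsDefectGroup p M c (P.subgroupOf HQ) ∧ IsDefectGroup p M B P := by
    intro c hcB hcov
    obtain ⟨ψ, hψ, ξ, hξ, hne⟩ := hcov
    have hceq : c = blockOf M (ψ : ↥HQ → ℂ) := eq_blockOf_of_mem hM hcB.1 hψ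
    have hcov' : ∃ χ ∈ blockOf M (ψ : ↥HQ → ℂ),
        ∃ θ ∈ blockOf M (irrMap (phiH N HQ) ξ₀ : LH N HQ → ℂ),
        classInner (fun n : LH N HQ => (χ : ↥HQ → ℂ) n) (θ : LH N HQ → ℂ) ≠ 0 := by
      refine ⟨ψ, self_mem_blockOf hM ψ, irrMap (phiH N HQ) ξ, ?_, ?_⟩
      · rw [← irrMap_image_blockOf]
        exact ⟨ξ, hξ, rfl⟩
      · have := classInner_phiH N HQ (ψ : ↥HQ → ℂ) (ξ : ↥(HQ ⊓ N) → ℂ)
        show classInner (fun l : LH N HQ => (ψ : ↥HQ → ℂ) l)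
          (fun l : LH N HQ => (ξ : ↥(HQ ⊓ N) → ℂ) (phiH N HQ l)) ≠ 0
        rw [this]
        exact hne
    obtain ⟨P', hP', hP'L⟩ := knorr (LH N HQ) hpM ψ (irrMap (phiH N HQ) ξ₀) hcov'
      (Q.subgroupOf HQ) hQHL hdef'
    set P := P'.map (HQ).subtype with hPdef
    have hPH : P ≤ HQ := Subgroup.map_subtype_le _
    have hPsub : P.subgroupOf HQ = P' :=
      Subgroup.comap_map_eq_self_of_injective (HQ).subtype_injective P'
    have hPN : P ⊓ N = Q := by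
      ext x
      constructor
      · rintro ⟨hxP, hxN⟩
        obtain ⟨y, hy, rfl⟩ := hxP
        have h1 : y ∈ P' ⊓ LH N HQ := ⟨hy, Subgroup.mem_subgroupOf.mpr ⟨y.2, hxN⟩⟩
        rw [hP'L] at h1
        exact h1
      · intro hxQ
        have hxH : x ∈ HQ := Subgroup.le_normalizer hxQ
        have h1 : (⟨x, hxH⟩ : ↥HQ) ∈ P' ⊓ LH N HQ := by
          rw [hP'L]
          exact hxQ
        exact ⟨⟨⟨x, hxH⟩, h1.1, rfl⟩, hQN hxQ⟩
    have hPp : IsPGroup p P := (isPGroup_of_isDefectGroup hP').map _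
    have hnorm : Subgroup.normalizer (P : Set G) ≤ HQ := by
      intro g hg
      rw [Subgroup.mem_normalizer_iff]
      intro x
      rw [← hPN]
      constructor
      · rintro ⟨h1, h2⟩
        exact ⟨(Subgroup.mem_normalizer_iff.mp hg x).mp h1, hN.conj_mem x h2 g⟩
      · rintro ⟨h1, h2⟩
        refine ⟨(Subgroup.mem_normalizer_iff.mp hg x).mpr h1, ?_⟩
        have := hN.conj_mem _ h2 g⁻¹
        have e : g⁻¹ * (g * x * g⁻¹) * g⁻¹⁻¹ = x := by group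
        rwa [e] at this
    have hdefc : IsDefectGroup p M c (P.subgroupOf HQ) := by
      rw [hPsub, hceq]
      exact hP'
    exact ⟨P, hPp, hnorm, hPN, hdefc,
      (isDefectGroup_of_induced_of_normalizer_le hpM hPp hnorm hdefc hcB).1⟩
  obtain ⟨P₁, hP₁p, hnorm₁, hP₁N, hdef₁, hB₁⟩ := key c₁ hc₁B hcov₁
  obtain ⟨P₂, hP₂p, hnorm₂, hP₂N, hdef₂, hB₂⟩ := key c₂ hc₂B hcov₂
  obtain ⟨χ₀, hBeq⟩ := hc₁B.2.1
  rw [hBeq] at hB₁ hB₂
  obtain ⟨g, hg⟩ := exists_conj_le_of_isDefectGroup hpM χ₀ hB₁ hB₂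
  have hgeq : MulAut.conj g • P₂ = P₁ :=
    eq_of_le_of_isDefectGroup hpM χ₀ (isDefectGroup_conj hB₂ g) hB₁ hg
  have hQ₁ : ∀ x, x ∈ Q ↔ x ∈ P₁ ∧ x ∈ N := fun x => by
    have : x ∈ P₁ ⊓ N ↔ x ∈ Q := by rw [hP₁N]
    exact this.symm.trans Subgroup.mem_inf
  have hQ₂ : ∀ x, x ∈ Q ↔ x ∈ P₂ ∧ x ∈ N := fun x => by
    have : x ∈ P₂ ⊓ N ↔ x ∈ Q := by rw [hP₂N]
    exact this.symm.trans Subgroup.mem_inf
  have hconj : ∀ x, g * x * g⁻¹ ∈ P₁ ↔ x ∈ P₂ := by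
    intro x
    rw [← hgeq, Subgroup.mem_pointwise_smul_iff_inv_smul_mem]
    have e1 : (MulAut.conj g)⁻¹ • (g * x * g⁻¹) = x := by
      show g⁻¹ * (g * x * g⁻¹) * g = x
      group
    rw [e1]
  have hgH : g ∈ HQ := by
    rw [Subgroup.mem_normalizer_iff]
    intro x
    rw [hQ₂ x, hQ₁ (g * x * g⁻¹), hconj]
    constructor
    · rintro ⟨h1, h2⟩
      exact ⟨h1, hN.conj_mem x h2 g⟩
    · rintro ⟨h1, h2⟩
      refine ⟨h1, ?_⟩
      have := hN.conj_mem _ h2 g⁻¹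
      have e : g⁻¹ * (g * x * g⁻¹) * g⁻¹⁻¹ = x := by group
      rwa [e] at this
  have hdef₂' : IsDefectGroup p M c₂ (P₁.subgroupOf HQ) := by
    have h1 := isDefectGroup_conj hdef₂ (⟨g, hgH⟩ : ↥HQ)
    convert h1 using 1
    ext y
    rw [Subgroup.mem_pointwise_smul_iff_inv_smul_mem]
    show (y : G) ∈ P₁ ↔ g⁻¹ * (y : G) * g ∈ P₂
    rw [← hconj]
    have e : g * (g⁻¹ * (y : G) * g) * g⁻¹ = (y : G) := by group
    rw [e]
  exact eq_of_induced_of_normalizer_le hpM hP₁p hnorm₁ hdef₁ hdef₂' hc₁B hc₂B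

end Cfsg.Agent.Lib.Helper52.HkE
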