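import Cfsg.Agent.Lib.Helper77.CtbJ

/-!
# Contributions and heights: local integrality (helper52)

For an arbitrary subsection `(z, b)` of the block `B` of defect `d` and `χ ∈ B` of height `h`, the
number `p ^ d * m_{χψ} / p ^ h` lies in the local ring at `M`, for every irreducible `ψ`.
-/

set_option autoImplicit false

universe u

namespace Cfsg.Agent.Lib.Helper52.HtA

open Cfsg Cfsg.Agent.Lib.Helper81 Cfsg.Agent.Lib.Helper74 Cfsg.Agent.Lib.Helper76
  Cfsg.Agent.Lib.Helper16 Cfsg.Agent.Lib.Helper25 Cfsg.Agent.Lib.Helper77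
  Cfsg.Agent.Lib.Helper77.Ctb
open scoped ComplexConjugate

variable {G : Type u} [Group G] [Fintype G] [Fintype (IrrCharacter G)] {p : ℕ} [Fact p.Prime]
  {M : Ideal AlgInt}

open Classical in
/-- `|G| conj(m_{ψ₀φ}) / φ(1)` is a local integer. -/
theorem memLocalRing_card_mul_ctb_div (hM : IsPModular p M) {z : G}
    (hz : ∃ k : ℕ, orderOf z = p ^ k)
    (H : Subgroup G) (hH : H = Subgroup.centralizer ({z} : Set G)) [Fintype H]
    [Fintype (IrrCharacter H)] (ξ₀ : IrrCharacter H) (ψ₀ φ : IrrCharacter G) :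
    MemLocalRing M ((Nat.card G : ℂ) *
      conj (ctb p z H (blockOf M (ξ₀ : H → ℂ)) (ψ₀ : G → ℂ) (φ : G → ℂ)) / (φ : G → ℂ) 1) := by
  have hp : p.Prime := Fact.out
  have hMp : M.IsPrime := isPrime_of_isPModular hM
  set b := blockOf M (ξ₀ : H → ℂ) with hb
  obtain ⟨k, hk⟩ := hz
  have hzH : z ∈ H := by
    rw [hH, Subgroup.mem_centralizer_singleton_iff]
  set zH : H := ⟨z, hzH⟩ with hzHdef
  have hzc : zH ∈ Subgroup.center H := by
    rw [Subgroup.mem_center_iff]
    intro c
    apply Subtype.ext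
    have hc : (c : G) ∈ Subgroup.centralizer ({z} : Set G) := hH ▸ c.2
    have := Subgroup.mem_centralizer_singleton_iff.mp hc
    simp only [Subgroup.coe_mul, hzHdef]
    exact this
  have hres : ∀ χ : IrrCharacter G, IsCharacter H (fun c : H => (χ : G → ℂ) (c : G)) := fun χ =>
    Cfsg.Agent.Lib.Helper3.IsCharacter.restrict
      (Cfsg.Agent.Lib.Helper3.IsIrrCharacter.isCharacter χ.2) _
  set v : H → ℂ := pRegularPart p (secPart z H b (ψ₀ : G → ℂ)) with hv
  have hvcl : IsClassFunction H v :=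
    pRegularPart_isClassFunction p (isClassFunction_secPart z H _ _)
  have hvint : ∀ c : H, IsIntegral ℤ (v c) := by
    intro c
    rw [hv, Cfsg.Agent.Lib.Helper77.pRegularPart_apply]
    by_cases hc : p ∣ orderOf c
    · rw [if_neg (fun h => h hc)]
      exact isIntegral_zero
    · rw [if_pos hc]
      exact isIntegral_blockPart_twist b _ (hres ψ₀) zH hzc c
  set θ : H → ℂ := fun h => conj (v (zH⁻¹ * h)) with hθ
  have hθcl : IsClassFunction H θ := by
    intro g h
    simp only [hθ]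
    congr 1
    have hzi : zH⁻¹ ∈ Subgroup.center H := Subgroup.inv_mem _ hzc
    have e : zH⁻¹ * (h * g * h⁻¹) = h * (zH⁻¹ * g) * h⁻¹ := by
      have h1 : zH⁻¹ * h = h * zH⁻¹ := ((Subgroup.mem_center_iff.mp hzi) h).symm
      calc zH⁻¹ * (h * g * h⁻¹) = (zH⁻¹ * h) * g * h⁻¹ := by group
        _ = (h * zH⁻¹) * g * h⁻¹ := by rw [h1]
        _ = h * (zH⁻¹ * g) * h⁻¹ := by group
    rw [e, hvcl]
  have hθR : ∀ t, MemLocalRing M (θ t) := fun t =>
    memLocalRing_algInt hMp ⟨_, map_isIntegral_int (starRingEnd ℂ) (hvint _)⟩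
  set a : G → ℂ := indFun H θ with ha
  have hacl : IsClassFunction G a := indFun_isClassFunction H θ
  have haS : ∀ g, MemLocalRing M (a g) := fun g => memLocalRing_indFun H hMp hθcl hθR g
  have hnH : (Nat.card H : ℂ) ≠ 0 := Nat.cast_ne_zero.mpr Nat.card_pos.ne'
  have hsum : ∑ g : G, a g * (φ : G → ℂ) g =
      (Nat.card G : ℂ) * conj (ctb p z H b (ψ₀ : G → ℂ) (φ : G → ℂ)) := by
    have hφcl : IsClassFunction G (φ : G → ℂ) := isClassFunction_of_isCharacter φ.2
    have h1 := sum_mul_indFun H θ hφcl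
    have h2 : ∑ t : H, (φ : G → ℂ) t * θ t =
        ∑ c : H, (φ : G → ℂ) (z * (c : G)) * conj (v c) := by
      refine Fintype.sum_equiv (Equiv.mulLeft zH⁻¹) _ _ ?_
      intro t
      simp only [Equiv.coe_mulLeft, hθ]
      congr 2
      simp [hzHdef]
    rw [ctb_eq_conj hM H hH ξ₀ _ φ, Complex.conj_conj]
    unfold classInner
    rw [← h2]
    calc ∑ g : G, a g * (φ : G → ℂ) g = ∑ g : G, (φ : G → ℂ) g * indFun H θ g :=
          Finset.sum_congr rfl fun g _ => mul_comm _ _
      _ = _ := by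
          rw [h1]
          ring
  have homega : omega (φ : G → ℂ) a =
      (Nat.card G : ℂ) * conj (ctb p z H b (ψ₀ : G → ℂ) (φ : G → ℂ)) / (φ : G → ℂ) 1 := by
    unfold omega
    rw [hsum]
  rw [← homega]
  exact memLocalRing_omega hMp φ.2 hacl haS

open Classical in
/-- **Heights and contributions.**  For `χ ∈ B` of height `h`, `p ^ d m_{χψ} / p ^ h` is a local
integer (`d` the defect of `B`), for any subsection `(z, b)` and any `ψ`. -/
theorem memLocalRing_pow_mul_ctb_div (hM : IsPModular p M) {B : Set (IrrCharacter G)} {z : G}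
    (hz : ∃ k : ℕ, orderOf z = p ^ k)
    (H : Subgroup G) (hH : H = Subgroup.centralizer ({z} : Set G)) [Fintype H]
    [Fintype (IrrCharacter H)] (ξ₀ : IrrCharacter H) (ψ₀ χ : IrrCharacter G) (hχ : χ ∈ B) :
    MemLocalRing M (((p ^ blockDefect p B : ℕ) : ℂ) *
      ctb p z H (blockOf M (ξ₀ : H → ℂ)) (χ : G → ℂ) (ψ₀ : G → ℂ) /
        ((p ^ blockHeight p B (χ : G → ℂ) : ℕ) : ℂ)) := by
  have hp : p.Prime := Fact.out
  have hMp : M.IsPrime := isPrime_of_isPModular hM
  have key := memLocalRing_card_mul_ctb_div hM hz H hH ξ₀ ψ₀ χ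
  rw [ctb_conj_symm] at key
  set X := ctb p z H (blockOf M (ξ₀ : H → ℂ)) (χ : G → ℂ) (ψ₀ : G → ℂ) with hX
  obtain ⟨f, hf0, hf1, hf2, hf3⟩ := irr_degree_spec χ
  set s := minDegVal p B with hs
  set h := blockHeight p B (χ : G → ℂ) with hh
  set a := (Nat.card G).factorization p with ha
  have hsle : s ≤ (charDegree (χ : G → ℂ)).factorization p := minDegVal_le p hχ
  have hhdef : h = (charDegree (χ : G → ℂ)).factorization p - s := blockHeight_eq p B _
  have hval : f.factorization p = s + h := by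
    rw [← hf2]
    omega
  have hfa : f.factorization p ≤ a :=
    (Nat.factorization_le_iff_dvd hf0.ne' Nat.card_pos.ne').mpr hf3 p
  have hd : blockDefect p B = a - s := blockDefect_eq p B
  set n' := Nat.card G / p ^ a with hn'def
  set f' := f / p ^ f.factorization p with hf'def
  have hn : Nat.card G = p ^ a * n' := (Nat.ordProj_mul_ordCompl_eq_self (Nat.card G) p).symm
  have hf : f = p ^ f.factorization p * f' := (Nat.ordProj_mul_ordCompl_eq_self f p).symm
  have hn' : ¬ p ∣ n' := Nat.not_dvd_ordCompl hp Nat.card_pos.ne'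
  have hp0 : (p : ℂ) ≠ 0 := by exact_mod_cast hp.ne_zero
  have hf'0 : (f' : ℂ) ≠ 0 := by
    intro h0
    have : f' = 0 := by exact_mod_cast h0
    rw [this, mul_zero] at hf
    omega
  have hn'0 : (n' : ℂ) ≠ 0 := by
    intro h0
    have : n' = 0 := by exact_mod_cast h0
    exact hn' (this ▸ dvd_zero p)
  -- the identity
  have e1 : ((p ^ blockDefect p B : ℕ) : ℂ) * X / ((p ^ h : ℕ) : ℂ) =
      ((Nat.card G : ℂ) * X / (χ : G → ℂ) 1) * ((f' : ℂ) * (n' : ℂ)⁻¹) := by
    rw [hf1]
    have hfC : (f : ℂ) = (p : ℂ) ^ (s + h) * (f' : ℂ) := by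
      conv_lhs => rw [hf, hval]
      push_cast
      ring
    have hnC : (Nat.card G : ℂ) = (p : ℂ) ^ (a - s - h) * ((p : ℂ) ^ (s + h)) * (n' : ℂ) := by
      conv_lhs => rw [hn]
      push_cast
      rw [← pow_add]
      congr 2
      omega
    have hdC : ((p ^ blockDefect p B : ℕ) : ℂ) = (p : ℂ) ^ (a - s - h) * (p : ℂ) ^ h := by
      rw [hd]
      push_cast
      rw [← pow_add]
      congr 1
      omega
    rw [hfC, hnC, hdC]
    push_cast
    have hph : (p : ℂ) ^ h ≠ 0 := pow_ne_zero _ hp0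
    have hpsh : (p : ℂ) ^ (s + h) ≠ 0 := pow_ne_zero _ hp0
    field_simp
  rw [e1]
  exact memLocalRing_mul hMp key
    (memLocalRing_mul hMp (memLocalRing_natCast hMp f') (memLocalRing_inv_natCast hM hn'))

end Cfsg.Agent.Lib.Helper52.HtA
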