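import Cfsg.Agent.Lib.Helper77.CtbJ

/-!
# The diagonal contributions of all subsections add up to one (helper52)
-/

set_option autoImplicit false

universe u

namespace Cfsg.Agent.Lib.Helper52.HtC

open Cfsg Cfsg.Agent.Lib.Helper81 Cfsg.Agent.Lib.Helper74 Cfsg.Agent.Lib.Helper75
  Cfsg.Agent.Lib.Helper77 Cfsg.Agent.Lib.Helper77.Ctb
open scoped ComplexConjugate

section one
variable {H : Type u} [Group H] [Fintype H] [Fintype (IrrCharacter H)] {p : ℕ} [Fact p.Prime]
  {M : Ideal AlgInt}

open Classical in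
/-- a class function is the sum of its block parts -/
theorem sum_blockPart_eq (hMp : M.IsPrime) {F : H → ℂ} (hF : IsClassFunction H F) :
    ∑ b ∈ blocksFinset M H, blockPart b F = F := by
  funext y
  rw [Finset.sum_apply]
  have h1 := congrFun (Cfsg.Agent.Lib.Helper3.classFunction_eq_sum hF) y
  rw [Finset.sum_apply] at h1
  simp only [Pi.smul_apply, smul_eq_mul] at h1
  conv_rhs => rw [h1]
  have h2 := sum_filter_blockOf (C := H) hMp (fun _ => True)
    (fun ψ : IrrCharacter H => classInner F (ψ : H → ℂ) * (ψ : H → ℂ) y)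
  simp only [Finset.filter_true] at h2
  rw [h2]
  refine Finset.sum_congr rfl fun b _ => ?_
  rw [blockPart_eq_sum]

open Classical in
/-- the sum over all blocks `b` of `[ (F_b)°, F_b ]` is `[F°, F]` -/
theorem sum_classInner_blockPart (hM : IsPModular p M) {F : H → ℂ} (hF : IsClassFunction H F) :
    ∑ b ∈ blocksFinset M H,
      classInner (pRegularPart p (blockPart b F)) (blockPart b F) =
      classInner (pRegularPart p F) F := by
  have hMp : M.IsPrime := isPrime_of_isPModular hM
  have h1 : ∀ b ∈ blocksFinset M H,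
      classInner (pRegularPart p (blockPart b F)) (blockPart b F) =
        classInner (pRegularPart p (blockPart b F)) F := by
    intro b hb
    obtain ⟨ξ₀, rfl⟩ := mem_blocksFinset.mp hb
    exact classInner_blockPart_right _ hF
      (fun ξ' hξ' => classInner_pRegularPart_blockPart_of_not_mem hM ξ₀ _ ξ' hξ')
  rw [Finset.sum_congr rfl h1, ← Cfsg.Agent.Lib.Helper3.classInner_sum_left]
  congr 1
  have h2 : pRegularPart p F = pRegularPart p (∑ b ∈ blocksFinset M H, (1 : ℂ) • blockPart b F) := by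
    simp only [one_smul]
    rw [sum_blockPart_eq hMp hF]
  rw [h2, pRegularPart_sum]
  simp only [one_smul]

end one

variable {G : Type u} [Group G] [Fintype G] [Fintype (IrrCharacter G)] {p : ℕ} [Fact p.Prime]
  {M : Ideal AlgInt}

omit [Fintype (IrrCharacter G)] in
open Classical in
/-- the contributions at one `p`-element -/
theorem sum_blocks_ctb (hM : IsPModular p M) (x : G) (H : Subgroup G)
    (hH : H = Subgroup.centralizer ({x} : Set G)) [Fintype H] [Fintype (IrrCharacter H)]
    (χ : IrrCharacter G) :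
    ∑ b ∈ blocksFinset M H, ctb p x H b (χ : G → ℂ) (χ : G → ℂ) =
      (Nat.card (Subgroup.centralizer ({x} : Set G)) : ℂ)⁻¹ *
        ∑ᶠ c : Subgroup.centralizer ({x} : Set G),
          pRegularPart p (fun c : Subgroup.centralizer ({x} : Set G) =>
            (χ : G → ℂ) (x * (c : G)) * conj ((χ : G → ℂ) (x * (c : G)))) c := by
  subst hH
  have hF := isClassFunction_shift χ x
  have h1 := sum_classInner_blockPart hM hF
  unfold ctb secPart
  rw [h1, finsum_eq_sum_of_fintype]
  unfold classInner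
  congr 1
  refine Finset.sum_congr rfl fun c _ => ?_
  rw [Cfsg.Agent.Lib.Helper77.pRegularPart_apply, Cfsg.Agent.Lib.Helper77.pRegularPart_apply]
  split_ifs
  · rw [zero_mul]
  · rfl

open Classical in
/-- **All diagonal contributions add up to one.** -/
theorem sum_sections_ctb (hM : IsPModular p M) (X : Finset G)
    (hX : ∀ x ∈ X, ∃ k : ℕ, orderOf x = p ^ k)
    (hXrep : ∀ g : G, (∃ k : ℕ, orderOf g = p ^ k) → ∃! x, x ∈ X ∧ IsConj g x)
    (Hx : G → Subgroup G) (hHx : ∀ x, Hx x = Subgroup.centralizer ({x} : Set G))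
    [∀ x, Fintype (Hx x)] [∀ x, Fintype (IrrCharacter (Hx x))] (χ : IrrCharacter G) :
    ∑ x ∈ X, ∑ b ∈ blocksFinset M (Hx x), ctb p x (Hx x) b (χ : G → ℂ) (χ : G → ℂ) = 1 := by
  have hp : p.Prime := Fact.out
  have hGC : (Nat.card G : ℂ) ≠ 0 := Nat.cast_ne_zero.mpr Nat.card_pos.ne'
  have hcl : IsClassFunction G (χ : G → ℂ) := isClassFunction_of_isCharacter χ.2
  have hFcl : IsClassFunction G (fun g => (χ : G → ℂ) g * conj ((χ : G → ℂ) g)) := by
    intro g h
    show (χ : G → ℂ) (h * g * h⁻¹) * conj ((χ : G → ℂ) (h * g * h⁻¹)) = _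
    rw [hcl]
  have h1 := sum_eq_sum_sections hp X hX hXrep _ hFcl
  have h2 : classInner (χ : G → ℂ) (χ : G → ℂ) = 1 := by
    rw [Cfsg.Agent.Lib.Helper3.classInner_irr χ.2 χ.2, if_pos rfl]
  unfold classInner at h2
  rw [h1, Finset.mul_sum] at h2
  rw [← h2]
  refine Finset.sum_congr rfl fun x _ => ?_
  rw [sum_blocks_ctb hM x (Hx x) (hHx x) χ, ← mul_assoc]
  congr 1
  have hidx : ((Subgroup.centralizer ({x} : Set G)).index : ℂ) *
      (Nat.card (Subgroup.centralizer ({x} : Set G)) : ℂ) = (Nat.card G : ℂ) := by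
    rw [← Nat.cast_mul, mul_comm, Subgroup.card_mul_index]
  have hC0 : (Nat.card (Subgroup.centralizer ({x} : Set G)) : ℂ) ≠ 0 :=
    Nat.cast_ne_zero.mpr Nat.card_pos.ne'
  have hi0 : ((Subgroup.centralizer ({x} : Set G)).index : ℂ) ≠ 0 := by
    intro h0
    rw [h0, zero_mul] at hidx
    exact hGC hidx.symm
  rw [← hidx]
  field_simp

end Cfsg.Agent.Lib.Helper52.HtC
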