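import Cfsg.Agent.Lib.Helper52.HtC
import Cfsg.Agent.Lib.Helper52.HtD
import Cfsg.Agent.Lib.Helper52.HtE
import Cfsg.Agent.Lib.Helper52.HtG
import Cfsg.Agent.Lib.Helper77.KfH
import Cfsg.Agent.Lib.Helper75.DefectOne1

/-!
# Major subsections at central elements of a defect group: the upper bound (helper52)

The diagonal contributions `m_{χχ}^{(z, b_z)}`, `z` in a subgroup `Z ≤ Z(D)`, add up to at most
the largest size of an orbit of `N_G(D, c₀)` on `Z`: the subsections `(z, b_z)` are conjugate in `G`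
only if they are conjugate under `N_G(D, c₀)`, and the contributions of all subsections add up
to `1`.
-/

set_option autoImplicit false

universe u

namespace Cfsg.Agent.Lib.Helper52.HtH

open Cfsg Cfsg.Agent.Lib.Helper81 Cfsg.Agent.Lib.Helper74 Cfsg.Agent.Lib.Helper75
  Cfsg.Agent.Lib.Helper77 Cfsg.Agent.Lib.Helper77.Ctb Cfsg.Agent.Lib.Helper80
  Cfsg.Agent.Lib.Helper77.Kf
open Cfsg.Agent.Lib.Helper52.ConjPairs (conjIdx conjSub)
open scoped ComplexConjugate

variable {G : Type u} [Group G] [Fintype G] {p : ℕ} {M : Ideal AlgInt}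

/-- indices of subsections -/
abbrev SecIdx (G : Type u) [Group G] : Type u :=
  Σ x : G, Set (IrrCharacter (Subgroup.centralizer ((Subgroup.zpowers x : Subgroup G) : Set G)))

theorem ctb_idx_congr [∀ Q : Subgroup G, Fintype (Subgroup.centralizer (Q : Set G))]
    {a a' : BrauerPairIdx G} (h : a = a') (w : G) (χ ψ : G → ℂ) :
    ctb p w (Subgroup.centralizer (a.1 : Set G)) a.2 χ ψ =
      ctb p w (Subgroup.centralizer (a'.1 : Set G)) a'.2 χ ψ := by
  subst h
  rfl

variable [Fact p.Prime] [Fintype (IrrCharacter G)]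

open Classical in
/-- **Upper bound.** -/
theorem upper_bound (hM : IsPModular p M) {B : Set (IrrCharacter G)} {D : Subgroup G}
    {c₀ : Set (IrrCharacter (Subgroup.centralizer (D : Set G)))}
    (hBP : IsBrauerPairOf p M B D c₀) (hdef : IsDefectGroup p M B D)
    (Z : Subgroup G) (hZD : Z ≤ D) (hDZ : D ≤ Subgroup.centralizer (Z : Set G))
    [∀ Q : Subgroup G, Fintype (Subgroup.centralizer (Q : Set G))]
    [∀ Q : Subgroup G, Fintype (IrrCharacter (Subgroup.centralizer (Q : Set G)))]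
    (F : ∀ Q : Subgroup G, Set (IrrCharacter (Subgroup.centralizer (Q : Set G))))
    (hF : ∀ z ∈ Z, SubpairLE p M (Subgroup.zpowers z) (F (Subgroup.zpowers z)) D c₀)
    (χ : IrrCharacter G) [Fintype Z] (m : ℕ)
    (horb : ∀ (z₀ : Z) (S : Finset Z), (∀ z ∈ S, ∃ t : G, t ∈ Subgroup.normalizer (D : Set G) ∧
      StabilizesBlock (Subgroup.centralizer (D : Set G)) c₀ t ∧
        t * (z₀ : G) * t⁻¹ = (z : G)) → S.card ≤ m) :
    ∑ z : Z, ‖ctb p (z : G)
        (Subgroup.centralizer ((Subgroup.zpowers (z : G) : Subgroup G) : Set G))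
          (F (Subgroup.zpowers (z : G))) (χ : G → ℂ) (χ : G → ℂ)‖ ≤ (m : ℝ) := by
  have hp : p.Prime := Fact.out
  have hMp := isPrime_of_isPModular hM
  obtain ⟨X, -, -, hX, hXrep⟩ := exists_pElement_reps p (1 : G)
    ⟨0, by rw [orderOf_one, pow_zero]⟩
  have hcent : ∀ z : G, Subgroup.centralizer ((Subgroup.zpowers z : Subgroup G) : Set G) =
      Subgroup.centralizer ({z} : Set G) := fun z => by
    rw [Subgroup.zpowers_eq_closure, Subgroup.centralizer_closure]
  have hχcl : IsClassFunction G (χ : G → ℂ) := isClassFunction_of_isCharacter χ.2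
  have hDQ : ∀ z : Z,
      D ≤ Subgroup.centralizer ((Subgroup.zpowers (z : G) : Subgroup G) : Set G) := fun z =>
    hDZ.trans (Subgroup.centralizer_le (by
      rw [SetLike.coe_subset_coe, Subgroup.zpowers_le]
      exact z.2))
  -- the total sum
  have htot := Cfsg.Agent.Lib.Helper52.HtC.sum_sections_ctb hM X hX hXrep
    (fun x => Subgroup.centralizer ((Subgroup.zpowers x : Subgroup G) : Set G)) hcent χ
  set val : SecIdx G → ℂ := fun y =>
    ctb p y.1 (Subgroup.centralizer ((Subgroup.zpowers y.1 : Subgroup G) : Set G)) y.2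
      (χ : G → ℂ) (χ : G → ℂ) with hvaldef
  set Ysig : Finset (SecIdx G) := X.sigma (fun x =>
    blocksFinset M (Subgroup.centralizer ((Subgroup.zpowers x : Subgroup G) : Set G))) with hYsig
  have htot' : ∑ y ∈ Ysig, val y = 1 := by
    rw [hYsig, Finset.sum_sigma]
    exact htot
  -- tying the elements of `Z` to subsections at the representatives
  have hex : ∀ z : Z, ∃ y : SecIdx G, y ∈ Ysig ∧ ∃ g : G, g * (z : G) * g⁻¹ = y.1 ∧
      conjIdx g (⟨Subgroup.zpowers (z : G), F (Subgroup.zpowers (z : G))⟩ : BrauerPairIdx G) =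
        ⟨Subgroup.zpowers y.1, y.2⟩ := by
    intro z
    have hzD : (z : G) ∈ D := hZD z.2
    have hup : ∃ k : ℕ, orderOf (z : G) = p ^ k := by
      obtain ⟨k, hk⟩ := IsPGroup.iff_orderOf.mp hBP.1.1 ⟨(z : G), hzD⟩
      exact ⟨k, by rw [← hk, Subgroup.orderOf_mk]⟩
    obtain ⟨x, ⟨hxX, hconj⟩, -⟩ := hXrep (z : G) hup
    obtain ⟨g, hg⟩ := isConj_iff.mp hconj
    have hfst : (conjIdx g (⟨Subgroup.zpowers (z : G), F (Subgroup.zpowers (z : G))⟩ :
        BrauerPairIdx G)).1 = Subgroup.zpowers x := by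
      show conjSub (Subgroup.zpowers (z : G)) g = _
      rw [conjSub_zpowers, hg]
    obtain ⟨f', hf'⟩ := exists_idx_eq hfst
    have hfB : IsBrauerPairOf p M B (Subgroup.zpowers (z : G)) (F (Subgroup.zpowers (z : G))) :=
      (Cfsg.Agent.Lib.Helper52.Subpairs.isBrauerPairOf_iff_of_subpairLE hM hBP.2.1
        (hF z z.2)).mp hBP
    have hB' : IsBrauerPairOf p M B (Subgroup.zpowers x) f' := by
      have h1 := Cfsg.Agent.Lib.Helper52.ConjPairs.isBrauerPairOf_conjIdx (p := p) (M := M)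
        (B := B) g
        (a := (⟨Subgroup.zpowers (z : G), F (Subgroup.zpowers (z : G))⟩ : BrauerPairIdx G)) hfB
      rw [hf'] at h1
      exact h1
    refine ⟨⟨x, f'⟩, ?_, g, hg, hf'⟩
    rw [hYsig, Finset.mem_sigma]
    exact ⟨hxX, mem_blocksFinset.mpr hB'.1.2⟩
  choose s hsY gg hgg hidx using hex
  have hval : ∀ z : Z, val (s z) = ctb p (z : G)
      (Subgroup.centralizer ((Subgroup.zpowers (z : G) : Subgroup G) : Set G))
        (F (Subgroup.zpowers (z : G))) (χ : G → ℂ) (χ : G → ℂ) := by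
    intro z
    have h1 := Cfsg.Agent.Lib.Helper52.HtD.ctb_conjBlock p (gg z) (z : G)
      (Subgroup.zpowers (z : G)) (F (Subgroup.zpowers (z : G))) hχcl hχcl
    rw [← h1, hgg z]
    exact (ctb_idx_congr (hidx z) _ _ _).symm
  -- the values are non-negative reals
  have hr : ∀ y : SecIdx G, ∃ r : ℝ, 0 ≤ r ∧ val y = (r : ℂ) := fun y =>
    Cfsg.Agent.Lib.Helper52.HtG.ctb_self_eq_ofReal _ _ _ _
  choose r hr0 hr using hr
  have hsum_r : ∑ y ∈ Ysig, r y = 1 := by
    have h1 : ((∑ y ∈ Ysig, r y : ℝ) : ℂ) = 1 := by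
      rw [Complex.ofReal_sum, ← htot']
      exact Finset.sum_congr rfl fun y _ => (hr y).symm
    exact_mod_cast h1
  have hnorm : ∀ z : Z, ‖ctb p (z : G)
      (Subgroup.centralizer ((Subgroup.zpowers (z : G) : Subgroup G) : Set G))
        (F (Subgroup.zpowers (z : G))) (χ : G → ℂ) (χ : G → ℂ)‖ = r (s z) := by
    intro z
    rw [← hval z, hr, Complex.norm_real, Real.norm_of_nonneg (hr0 _)]
  -- the fibres
  have hfib : ∀ y ∈ Ysig, (Finset.univ.filter (fun z : Z => s z = y)).card ≤ m := by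
    intro y _
    by_cases hne : (Finset.univ.filter (fun z : Z => s z = y)).Nonempty
    · obtain ⟨z₀, hz₀⟩ := hne
      have hs0 : s z₀ = y := (Finset.mem_filter.mp hz₀).2
      refine horb z₀ _ ?_
      intro z hz
      have hsz : s z = y := (Finset.mem_filter.mp hz).2
      have h1 : conjIdx ((gg z)⁻¹ * gg z₀)
          (⟨Subgroup.zpowers (z₀ : G), F (Subgroup.zpowers (z₀ : G))⟩ : BrauerPairIdx G) =
          ⟨Subgroup.zpowers (z : G), F (Subgroup.zpowers (z : G))⟩ := by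
        rw [← Cfsg.Agent.Lib.Helper52.ConjPairs.conjIdx_conjIdx, hidx z₀, hs0, ← hsz, ← hidx z,
          Cfsg.Agent.Lib.Helper52.ConjPairs.conjIdx_inv_conjIdx]
      obtain ⟨t, htN, hst, c, hc, htc⟩ := Cfsg.Agent.Lib.Helper52.HtE.central_fusion hM hBP hdef
        (hF z₀ z₀.2) (hF z z.2) (hDQ z₀) (hDQ z) _ h1
      refine ⟨t, htN, hst, ?_⟩
      have hk : (gg z)⁻¹ * gg z₀ * (z₀ : G) * ((gg z)⁻¹ * gg z₀)⁻¹ = (z : G) := by
        have e : (gg z)⁻¹ * gg z₀ * (z₀ : G) * ((gg z)⁻¹ * gg z₀)⁻¹ =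
            (gg z)⁻¹ * (gg z₀ * (z₀ : G) * (gg z₀)⁻¹) * gg z := by group
        rw [e, hgg z₀, hs0, ← hsz, ← hgg z]
        group
      have hcz : c * (z : G) = (z : G) * c :=
        (Subgroup.mem_centralizer_iff.mp hc (z : G) (Subgroup.mem_zpowers _)).symm
      rw [htc]
      calc c * ((gg z)⁻¹ * gg z₀) * (z₀ : G) * (c * ((gg z)⁻¹ * gg z₀))⁻¹ =
          c * ((gg z)⁻¹ * gg z₀ * (z₀ : G) * ((gg z)⁻¹ * gg z₀)⁻¹) * c⁻¹ := by group
        _ = c * (z : G) * c⁻¹ := by rw [hk]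
        _ = (z : G) := by rw [hcz, mul_inv_cancel_right]
    · rw [Finset.not_nonempty_iff_eq_empty.mp hne, Finset.card_empty]
      exact Nat.zero_le _
  calc ∑ z : Z, ‖ctb p (z : G)
        (Subgroup.centralizer ((Subgroup.zpowers (z : G) : Subgroup G) : Set G))
          (F (Subgroup.zpowers (z : G))) (χ : G → ℂ) (χ : G → ℂ)‖ = ∑ z : Z, r (s z) :=
        Finset.sum_congr rfl fun z _ => hnorm z
    _ = ∑ y ∈ Ysig, ∑ z ∈ Finset.univ.filter (fun z : Z => s z = y), r (s z) :=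
        (Finset.sum_fiberwise_of_maps_to (fun z _ => hsY z) _).symm
    _ = ∑ y ∈ Ysig, ((Finset.univ.filter (fun z : Z => s z = y)).card : ℝ) * r y := by
        refine Finset.sum_congr rfl fun y _ => ?_
        rw [Finset.sum_congr rfl (fun z hz => by rw [(Finset.mem_filter.mp hz).2]),
          Finset.sum_const, nsmul_eq_mul]
    _ ≤ ∑ y ∈ Ysig, (m : ℝ) * r y := Finset.sum_le_sum fun y hy =>
        mul_le_mul_of_nonneg_right (by exact_mod_cast hfib y hy) (hr0 y)
    _ = (m : ℝ) := by rw [← Finset.mul_sum, hsum_r, mul_one]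

end Cfsg.Agent.Lib.Helper52.HtH
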