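import Mathlib

/-!
# Orbits of a subgroup `T` on a subgroup centralized by `H` have at most `|T : T ∩ H|` elements
(helper52)
-/

set_option autoImplicit false

namespace Cfsg.Agent.Lib.Helper52.HtI

theorem card_le_relIndex_of_conj {G : Type*} [Group G] [Finite G] (H T Z : Subgroup G)
    (hHZ : H ≤ Subgroup.centralizer (Z : Set G)) (z₀ : Z) (S : Finset Z)
    (hS : ∀ z ∈ S, ∃ t ∈ T, t * (z₀ : G) * t⁻¹ = (z : G)) : S.card ≤ H.relIndex T := by
  classical
  choose! τ hτT hτ using hS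
  have : Fintype (T ⧸ H.subgroupOf T) := Fintype.ofFinite _
  let φ : Z → T ⧸ H.subgroupOf T := fun z =>
    if h : τ z ∈ T then QuotientGroup.mk ⟨τ z, h⟩ else QuotientGroup.mk 1
  have hinj : Set.InjOn φ (S : Set Z) := by
    intro z hz z' hz' heq
    simp only [φ, dif_pos (hτT z hz), dif_pos (hτT z' hz')] at heq
    rw [QuotientGroup.eq] at heq
    have hmem : (τ z)⁻¹ * τ z' ∈ H := heq
    have hcomm := Subgroup.mem_centralizer_iff.mp (hHZ hmem) (z₀ : G) z₀.2
    apply Subtype.ext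
    rw [← hτ z hz, ← hτ z' hz']
    have e1 : τ z' = τ z * ((τ z)⁻¹ * τ z') := by group
    rw [e1]
    calc τ z * (z₀ : G) * (τ z)⁻¹ =
        τ z * (((τ z)⁻¹ * τ z') * (z₀ : G) * ((τ z)⁻¹ * τ z')⁻¹) * (τ z)⁻¹ := by
          rw [← hcomm, mul_inv_cancel_right]
      _ = τ z * ((τ z)⁻¹ * τ z') * (z₀ : G) * (τ z * ((τ z)⁻¹ * τ z'))⁻¹ := by group
  calc S.card ≤ (Finset.univ : Finset (T ⧸ H.subgroupOf T)).card :=
        Finset.card_le_card_of_injOn φ (fun _ _ => Finset.mem_univ _) hinj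
    _ = H.relIndex T := by
        rw [Finset.card_univ, ← Nat.card_eq_fintype_card]
        rfl

end Cfsg.Agent.Lib.Helper52.HtI
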