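import Mathlib

/-!
# A nilpotency lemma for crossed products `F[G] = ⊕ F[N] g`

Let `N` be a normal subgroup of the finite group `G` and `F` a field.  If `x ∈ F[G]` is a finite
sum of elements `u i = a i * g i` (`a i ∈ F[N]`, `g i ∈ G`), each of which is nilpotent, commutes
with `F[N]` and commutes with `g i`, then `x` is nilpotent.  (Each `a i` lies in the Jacobson
radical `J` of `F[N]`, which is nilpotent and invariant under conjugation by `G`, so that
`J · F[G]` is a nilpotent two-sided ideal of `F[G]`.)
-/

set_option autoImplicit false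

namespace Cfsg.Agent.Lib.Helper52.KnA

open MonoidAlgebra

variable {F : Type*} [Field F] {G : Type*} [Group G] (N : Subgroup G) [hN : N.Normal]

/-- The inclusion `F[N] → F[G]`. -/
noncomputable def inc : MonoidAlgebra F N →+* MonoidAlgebra F G :=
  mapDomainRingHom F N.subtype

theorem inc_injective : Function.Injective (inc (F := F) N) := by
  intro x y h
  simp only [inc, mapDomainRingHom_apply] at h
  exact mapDomain_injective N.subtype_injective h

theorem inc_single (n : N) (r : F) : inc N (single n r) = single (n : G) r := by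
  simp [inc, mapDomainRingHom_apply, mapDomain_single]

theorem inc_smul (r : F) (x : MonoidAlgebra F N) : inc N (r • x) = r • inc N x := by
  simp only [inc, mapDomainRingHom_apply]
  exact mapDomain_smul _ r x

/-- Conjugation by `g ∈ G` as a ring automorphism of `F[N]`. -/
noncomputable def conjAut (g : G) : MonoidAlgebra F N ≃+* MonoidAlgebra F N :=
  (domCongr F F (MulAut.conjNormal g : N ≃* N)).toRingEquiv

theorem conjAut_single (g : G) (n : N) (r : F) :
    conjAut N g (single n r) = single (MulAut.conjNormal g n) r := by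
  simp [conjAut]

theorem conj_inc (g : G) (x : MonoidAlgebra F N) :
    of F G g * inc N x = inc N (conjAut N g x) * of F G g := by
  refine MonoidAlgebra.induction_on (motive := fun x => of F G g * inc N x = inc N (conjAut N g x) * of F G g) x ?_ ?_ ?_
  · intro n
    show of F G g * inc N (of F N n) = inc N (conjAut N g (of F N n)) * of F G g
    rw [of_apply, of_apply, inc_single, conjAut_single, inc_single, single_mul_single,
      single_mul_single]
    congr 1
    simp [MulAut.conjNormal_apply]
  · intro x y hx hy
    rw [map_add, map_add, map_add, mul_add, add_mul, hx, hy]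
  · intro r x hx
    have : conjAut N g (r • x) = r • conjAut N g x := by
      simp [conjAut]
    rw [this, inc_smul, inc_smul, mul_smul_comm, smul_mul_assoc, hx]

variable [Finite G]

/-- **Nilpotency lemma.** -/
theorem isNilpotent_sum {I : Type*} (s : Finset I) (g : I → G) (a : I → MonoidAlgebra F N)
    (hcomm : ∀ i ∈ s, ∀ y : MonoidAlgebra F N,
      inc N y * (inc N (a i) * of F G (g i)) = (inc N (a i) * of F G (g i)) * inc N y)
    (hg : ∀ i ∈ s,
      of F G (g i) * (inc N (a i) * of F G (g i)) = (inc N (a i) * of F G (g i)) * of F G (g i))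
    (hnil : ∀ i ∈ s, IsNilpotent (inc N (a i) * of F G (g i))) :
    IsNilpotent (∑ i ∈ s, inc N (a i) * of F G (g i)) := by
  classical
  haveI : IsArtinianRing (MonoidAlgebra F N) := IsArtinianRing.of_finite F _
  set J : Ideal (MonoidAlgebra F N) := Ring.jacobson _ with hJ
  -- (i) each `a i` lies in the radical
  have hai : ∀ i ∈ s, a i ∈ J := by
    intro i hi
    rw [hJ, ← Ideal.jacobson_bot, Ideal.mem_jacobson_iff]
    intro y
    set u := inc N (a i) * of F G (g i) with hu
    have hgg : of F G (g i) * of F G (g i)⁻¹ = 1 := by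
      rw [← map_mul, mul_inv_cancel, map_one]
    have hgg' : of F G (g i)⁻¹ * of F G (g i) = 1 := by
      rw [← map_mul, inv_mul_cancel, map_one]
    have hua : u * of F G (g i)⁻¹ = inc N (a i) := by
      rw [hu, mul_assoc, hgg, mul_one]
    have hc1 : Commute u (inc N y) := (hcomm i hi y).symm
    have hc2 : Commute u (of F G (g i)⁻¹) := by
      have h := hg i hi
      show u * of F G (g i)⁻¹ = of F G (g i)⁻¹ * u
      calc u * of F G (g i)⁻¹ = of F G (g i)⁻¹ * (of F G (g i) * u) * of F G (g i)⁻¹ := by
            rw [← mul_assoc, hgg', one_mul]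
        _ = of F G (g i)⁻¹ * (u * of F G (g i)) * of F G (g i)⁻¹ := by rw [h]
        _ = of F G (g i)⁻¹ * u := by
            rw [mul_assoc, mul_assoc, hgg, mul_one]
    have hc : Commute u (inc N y * of F G (g i)⁻¹) := hc1.mul_right hc2
    have hnil' : IsNilpotent (y * a i) := by
      obtain ⟨k, hk⟩ := hnil i hi
      refine ⟨k, ?_⟩
      apply inc_injective N
      rw [map_pow, map_mul, map_zero, ← hua]
      have : inc N y * (u * of F G (g i)⁻¹) = u * (inc N y * of F G (g i)⁻¹) := by
        rw [← mul_assoc, ← hc1.eq, mul_assoc]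
      rw [this, hc.mul_pow, hk, zero_mul]
    obtain ⟨z, hz⟩ := (IsNilpotent.isUnit_one_add hnil').exists_left_inv
    refine ⟨z, ?_⟩
    rw [Ideal.mem_bot]
    have : z * y * a i + z - 1 = z * (1 + y * a i) - 1 := by noncomm_ring
    rw [this, hz, sub_self]
  -- (iii) the radical is nilpotent
  obtain ⟨m, hm⟩ : ∃ m : ℕ, J ^ m = ⊥ := by
    have h := IsArtinianRing.isNilpotent_jacobson_bot (R := MonoidAlgebra F N)
    rw [Ideal.jacobson_bot] at h
    obtain ⟨m, hm⟩ := h
    exact ⟨m, by rw [hJ, hm]; rfl⟩
  -- the filtration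
  let Rk : ℕ → AddSubgroup (MonoidAlgebra F G) := fun k =>
    AddSubgroup.closure {x | ∃ j ∈ J ^ k, ∃ h : G, x = inc N j * of F G h}
  have hconj : ∀ (h : G) (j : MonoidAlgebra F N), j ∈ J → conjAut N h j ∈ J := by
    intro h j hj
    haveI : RingHomSurjective ((conjAut N h : MonoidAlgebra F N ≃+* MonoidAlgebra F N) :
        MonoidAlgebra F N →+* MonoidAlgebra F N) := ⟨(conjAut N h).surjective⟩
    exact Ring.le_comap_jacobson ((conjAut N h : MonoidAlgebra F N ≃+* MonoidAlgebra F N) :
        MonoidAlgebra F N →+* MonoidAlgebra F N) hj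
  have hmul : ∀ k : ℕ, ∀ x ∈ Rk k, ∀ y ∈ Rk 1, x * y ∈ Rk (k + 1) := by
    intro k x hx y hy
    induction hy using AddSubgroup.closure_induction with
    | mem y hy =>
      obtain ⟨j', hj', h', rfl⟩ := hy
      rw [Submodule.pow_one] at hj'
      induction hx using AddSubgroup.closure_induction with
      | mem x hx =>
        obtain ⟨j, hj, h, rfl⟩ := hx
        apply AddSubgroup.subset_closure
        refine ⟨j * conjAut N h j', ?_, h * h', ?_⟩
        · rw [Submodule.pow_succ]
          exact Ideal.mul_mem_mul hj (hconj h j' hj')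
        · rw [map_mul, map_mul, mul_assoc, mul_assoc, ← mul_assoc (of F G h), conj_inc,
            mul_assoc]
      | zero => rw [zero_mul]; exact zero_mem _
      | add x y _ _ hx hy => rw [add_mul]; exact add_mem hx hy
      | neg x _ hx => rw [neg_mul]; exact neg_mem hx
    | zero => rw [mul_zero]; exact zero_mem _
    | add y z _ _ hy hz => rw [mul_add]; exact add_mem hy hz
    | neg y _ hy => rw [mul_neg]; exact neg_mem hy
  set x := ∑ i ∈ s, inc N (a i) * of F G (g i) with hx
  have hx1 : x ∈ Rk 1 := by
    rw [hx]
    refine sum_mem fun i hi => ?_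
    apply AddSubgroup.subset_closure
    exact ⟨a i, by rw [Submodule.pow_one]; exact hai i hi, g i, rfl⟩
  have hxk : ∀ k : ℕ, x ^ (k + 1) ∈ Rk (k + 1) := by
    intro k
    induction k with
    | zero => simpa using hx1
    | succ k ih =>
      rw [pow_succ]
      exact hmul (k + 1) _ ih _ hx1
  refine ⟨m + 1, ?_⟩
  have hbot : Rk (m + 1) = ⊥ := by
    rw [AddSubgroup.closure_eq_bot_iff]
    rintro y ⟨j, hj, h, rfl⟩
    have hj0 : j = 0 := by
      have : J ^ (m + 1) ≤ J ^ m := Ideal.pow_le_pow_right (Nat.le_succ m)
      have := this hj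
      rw [hm] at this
      exact this
    rw [Set.mem_singleton_iff, hj0, map_zero, zero_mul]
  have := hxk m
  rw [hbot] at this
  exact this

end Cfsg.Agent.Lib.Helper52.KnA
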