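import Cfsg.Agent.Lib.Helper52.KnA
import Cfsg.Agent.Lib.Helper77.BPairB
import Cfsg.Agent.Lib.Helper77.LocalTrace
import Cfsg.Agent.Lib.Helper77.DefectClass
import Cfsg.Agent.Lib.Helper77.InducedBlock2

/-!
# Reduction of coefficient functions modulo the local ideal, and coset parts

`red a` is the element of the group algebra over the residue field whose coefficients are the
residues of the values of the function `a`.  The coset parts of a block idempotent cannot all be
nilpotent modulo the local ideal.
-/

set_option autoImplicit false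

universe u

namespace Cfsg.Agent.Lib.Helper52.KnB

open Cfsg MonoidAlgebra
open Cfsg.Agent.Lib.Helper77 Cfsg.Agent.Lib.Helper80 Cfsg.Agent.Lib.Helper81
open Cfsg.Agent.Lib.Helper52.KnA
open Cfsg.Agent.Lib.Helper77.IdemTrace

variable {M : Ideal AlgInt} (hM : M.IsPrime)

/-- The residue field of the local ring at `M`. -/
abbrev FF : Type := IsLocalRing.ResidueField (localSubring M hM)

open Classical in
/-- The residue of a complex number (zero outside the local ring). -/
noncomputable def resC (z : ℂ) : FF hM :=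
  if h : MemLocalRing M z then IsLocalRing.residue (localSubring M hM) ⟨z, h⟩ else 0

theorem resC_of_mem {z : ℂ} (h : MemLocalRing M z) :
    resC hM z = IsLocalRing.residue (localSubring M hM) ⟨z, h⟩ := dif_pos h

theorem resC_zero : resC hM 0 = 0 := by
  rw [resC_of_mem hM (memLocalRing_zero hM)]
  exact map_zero _

theorem resC_one : resC hM 1 = 1 := by
  rw [resC_of_mem hM (memLocalRing_one hM)]
  exact map_one _

theorem resC_add {x y : ℂ} (hx : MemLocalRing M x) (hy : MemLocalRing M y) :
    resC hM (x + y) = resC hM x + resC hM y := by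
  rw [resC_of_mem hM hx, resC_of_mem hM hy, resC_of_mem hM (memLocalRing_add hM hx hy), ← map_add]
  rfl

theorem resC_mul {x y : ℂ} (hx : MemLocalRing M x) (hy : MemLocalRing M y) :
    resC hM (x * y) = resC hM x * resC hM y := by
  rw [resC_of_mem hM hx, resC_of_mem hM hy, resC_of_mem hM (memLocalRing_mul hM hx hy), ← map_mul]
  rfl

theorem resC_sum {ι : Type*} (s : Finset ι) (f : ι → ℂ) (hf : ∀ i ∈ s, MemLocalRing M (f i)) :
    resC hM (∑ i ∈ s, f i) = ∑ i ∈ s, resC hM (f i) := by
  classical
  induction s using Finset.induction_on with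
  | empty => simp [resC_zero]
  | insert i s hi ih =>
    rw [Finset.sum_insert hi, Finset.sum_insert hi,
      resC_add hM (hf i (Finset.mem_insert_self i s))
        (memLocalRing_sum hM s f (fun j hj => hf j (Finset.mem_insert_of_mem hj))),
      ih (fun j hj => hf j (Finset.mem_insert_of_mem hj))]

theorem resC_eq_zero_iff {x : ℂ} (hx : MemLocalRing M x) :
    resC hM x = 0 ↔ MemLocalIdeal M x := by
  rw [resC_of_mem hM hx, IsLocalRing.residue_eq_zero_iff, mem_maximalIdeal_iff]

variable {G : Type u} [Group G] [Fintype G]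

/-- Reduction of a coefficient function modulo the local ideal. -/
noncomputable def red (a : G → ℂ) : MonoidAlgebra (FF hM) G :=
  ∑ g : G, single g (resC hM (a g))

theorem red_coeff (a : G → ℂ) (g : G) : (red hM a).coeff g = resC hM (a g) := by
  classical
  rw [red, coeff_sum, Finsupp.finset_sum_apply, Finset.sum_eq_single g]
  · rw [coeff_single, Finsupp.single_eq_same]
  · intro b _ hb
    rw [coeff_single, Finsupp.single_eq_of_ne hb.symm]
  · intro h
    exact absurd (Finset.mem_univ _) h

theorem red_ext {a b : G → ℂ} (h : ∀ g, resC hM (a g) = resC hM (b g)) : red hM a = red hM b := by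
  apply MonoidAlgebra.ext
  ext g
  rw [red_coeff, red_coeff, h]

theorem of_mul_red (a : G → ℂ) (h : G) :
    of (FF hM) G h * red hM a = red hM (fun x => a (h⁻¹ * x)) := by
  apply MonoidAlgebra.ext
  ext g
  rw [of_apply, coeff_single_mul_apply, red_coeff, red_coeff, one_mul]

theorem red_mul_of (a : G → ℂ) (h : G) :
    red hM a * of (FF hM) G h = red hM (fun x => a (x * h⁻¹)) := by
  apply MonoidAlgebra.ext
  ext g
  rw [of_apply, coeff_mul_single_apply, red_coeff, red_coeff, mul_one]

theorem red_comm_of {a : G → ℂ} {h : G} (ha : ∀ x, a (h * x * h⁻¹) = a x) :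
    of (FF hM) G h * red hM a = red hM a * of (FF hM) G h := by
  rw [of_mul_red, red_mul_of]
  refine red_ext hM fun g => ?_
  have : g * h⁻¹ = h * (h⁻¹ * g) * h⁻¹ := by group
  rw [this, ha]

theorem red_conv {a b : G → ℂ} (ha : ∀ g, MemLocalRing M (a g)) (hb : ∀ g, MemLocalRing M (b g)) :
    red hM (conv a b) = red hM a * red hM b := by
  classical
  apply MonoidAlgebra.ext
  ext g
  rw [red_coeff]
  have h1 : red hM a * red hM b = ∑ h : G, single h (resC hM (a h)) * red hM b := by
    conv_lhs => rw [red, Finset.sum_mul]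
  rw [h1, coeff_sum, Finsupp.finset_sum_apply]
  simp_rw [coeff_single_mul_apply, red_coeff]
  unfold conv
  rw [resC_sum hM _ _ (fun h _ => memLocalRing_mul hM (ha _) (hb _))]
  exact Finset.sum_congr rfl fun h _ => resC_mul hM (ha _) (hb _)

theorem red_deltaOne : red hM (deltaOne : G → ℂ) = 1 := by
  classical
  apply MonoidAlgebra.ext
  ext g
  rw [red_coeff, one_def, coeff_single, Finsupp.single_apply]
  unfold deltaOne
  by_cases hg : g = 1
  · rw [if_pos hg, if_pos hg.symm, resC_one]
  · rw [if_neg hg, if_neg (fun h => hg h.symm), resC_zero]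

include hM in
theorem memLocalRing_conv {a b : G → ℂ} (ha : ∀ g, MemLocalRing M (a g))
    (hb : ∀ g, MemLocalRing M (b g)) (g : G) : MemLocalRing M (conv a b g) :=
  memLocalRing_sum hM _ _ fun _ _ => memLocalRing_mul hM (ha _) (hb _)

include hM in
theorem memLocalRing_deltaOne (g : G) : MemLocalRing M ((deltaOne : G → ℂ) g) :=
  (ZS.deltaOne hM).2 g

include hM in
theorem memLocalRing_convPow {a : G → ℂ} (ha : ∀ g, MemLocalRing M (a g)) (k : ℕ) (g : G) :
    MemLocalRing M (convPow a k g) := by
  induction k generalizing g with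
  | zero => exact memLocalRing_deltaOne hM g
  | succ k ih => exact memLocalRing_conv hM ih ha g

theorem red_convPow {a : G → ℂ} (ha : ∀ g, MemLocalRing M (a g)) (k : ℕ) :
    red hM (convPow a k) = red hM a ^ k := by
  induction k with
  | zero => rw [convPow_zero, red_deltaOne, pow_zero]
  | succ k ih => rw [convPow_succ, red_conv hM (memLocalRing_convPow hM ha k) ha, ih, pow_succ]

theorem red_eq_zero_iff {a : G → ℂ} (ha : ∀ g, MemLocalRing M (a g)) :
    red hM a = 0 ↔ ∀ g, MemLocalIdeal M (a g) := by
  constructor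
  · intro h g
    rw [← resC_eq_zero_iff hM (ha g), ← red_coeff, h]
    rfl
  · intro h
    apply MonoidAlgebra.ext
    ext g
    rw [red_coeff, (resC_eq_zero_iff hM (ha g)).mpr (h g)]
    rfl

variable (N : Subgroup G)

theorem inc_coeff_mem [Fintype N] (y : MonoidAlgebra (FF hM) N) (n : N) :
    (inc N y).coeff (n : G) = y.coeff n := by
  simp only [inc, mapDomainRingHom_apply, coeff_mapDomain]
  exact Finsupp.mapDomain_apply N.subtype_injective _ _

theorem inc_coeff_not_mem [Fintype N] (y : MonoidAlgebra (FF hM) N) {g : G} (hg : g ∉ N) :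
    (inc N y).coeff g = 0 := by
  simp only [inc, mapDomainRingHom_apply, coeff_mapDomain]
  apply Finsupp.mapDomain_of_notMem_range
  rintro ⟨n, rfl⟩
  exact hg n.2

theorem red_extK [Fintype N] (f : N → ℂ) : red hM (extK N f) = inc N (red hM f) := by
  apply MonoidAlgebra.ext
  ext g
  rw [red_coeff]
  by_cases hg : g ∈ N
  · obtain ⟨n, rfl⟩ : ∃ n : N, (n : G) = g := ⟨⟨g, hg⟩, rfl⟩
    rw [extK_coe, inc_coeff_mem, red_coeff]
  · rw [extK_not_mem _ hg, inc_coeff_not_mem hM N _ hg, resC_zero]

open Classical in
/-- The part of a coefficient function supported on the coset `c` of `N`. -/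
noncomputable def cosetPart (c : G ⧸ N) (a : G → ℂ) : G → ℂ :=
  fun x => if (QuotientGroup.mk x : G ⧸ N) = c then a x else 0

theorem cosetPart_pos {c : G ⧸ N} (a : G → ℂ) {x : G} (h : (QuotientGroup.mk x : G ⧸ N) = c) :
    cosetPart N c a x = a x := if_pos h

theorem cosetPart_neg {c : G ⧸ N} (a : G → ℂ) {x : G} (h : (QuotientGroup.mk x : G ⧸ N) ≠ c) :
    cosetPart N c a x = 0 := if_neg h

include hM in
theorem memLocalRing_cosetPart (c : G ⧸ N) {a : G → ℂ} (ha : ∀ g, MemLocalRing M (a g)) (g : G) :
    MemLocalRing M (cosetPart N c a g) := by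
  unfold cosetPart
  split_ifs
  · exact ha g
  · exact memLocalRing_zero hM

variable [hN : N.Normal]

theorem cosetPart_conj {c : G ⧸ N} {a : G → ℂ} {h : G} (ha : ∀ x, a (h * x * h⁻¹) = a x)
    (hc : (QuotientGroup.mk h : G ⧸ N) * c * (QuotientGroup.mk h : G ⧸ N)⁻¹ = c) (x : G) :
    cosetPart N c a (h * x * h⁻¹) = cosetPart N c a x := by
  have hiff : (QuotientGroup.mk (h * x * h⁻¹) : G ⧸ N) = c ↔ (QuotientGroup.mk x : G ⧸ N) = c := by
    rw [QuotientGroup.mk_mul, QuotientGroup.mk_mul, QuotientGroup.mk_inv]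
    have hc' : (QuotientGroup.mk h : G ⧸ N)⁻¹ * c * (QuotientGroup.mk h : G ⧸ N) = c := by
      conv_lhs => rw [← hc]
      group
    constructor
    · intro h1
      have : (QuotientGroup.mk x : G ⧸ N) =
          (QuotientGroup.mk h : G ⧸ N)⁻¹ * ((QuotientGroup.mk h : G ⧸ N) * (QuotientGroup.mk x : G ⧸ N) *
            (QuotientGroup.mk h : G ⧸ N)⁻¹) * (QuotientGroup.mk h : G ⧸ N) := by group
      rw [this, h1, hc']
    · intro h1
      rw [h1, hc]
  by_cases hx : (QuotientGroup.mk x : G ⧸ N) = c
  · rw [cosetPart_pos N a hx, cosetPart_pos N a (hiff.mpr hx), ha]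
  · rw [cosetPart_neg N a hx, cosetPart_neg N a (fun h' => hx (hiff.mp h'))]

theorem cosetPart_conj_of_mem {c : G ⧸ N} {a : G → ℂ} (ha : IsClassFunction G a) {n : G}
    (hn : n ∈ N) (x : G) : cosetPart N c a (n * x * n⁻¹) = cosetPart N c a x := by
  apply cosetPart_conj N (fun x => ha x n)
  rw [(QuotientGroup.eq_one_iff n).mpr hn, one_mul, inv_one, mul_one]

theorem red_cosetPart [Fintype N] (c : G ⧸ N) (a : G → ℂ) (g : G)
    (hg : (QuotientGroup.mk g : G ⧸ N) = c) :
    red hM (cosetPart N c a) =
      inc N (red hM (fun n : N => a ((n : G) * g))) * of (FF hM) G g := by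
  rw [← red_extK, red_mul_of]
  refine red_ext hM fun x => ?_
  congr 1
  have hiff : (QuotientGroup.mk x : G ⧸ N) = c ↔ x * g⁻¹ ∈ N := by
    rw [← hg, eq_comm, QuotientGroup.eq]
    constructor
    · intro h
      have := hN.conj_mem _ h g
      have e : g * (g⁻¹ * x) * g⁻¹ = x * g⁻¹ := by group
      rwa [e] at this
    · intro h
      have := hN.conj_mem _ h g⁻¹
      have e : g⁻¹ * (x * g⁻¹) * g⁻¹⁻¹ = g⁻¹ * x := by group
      rwa [e] at this
  by_cases hx : (QuotientGroup.mk x : G ⧸ N) = c
  · rw [cosetPart_pos N a hx, extK_mem _ (hiff.mp hx)]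
    show a x = a (x * g⁻¹ * g)
    rw [inv_mul_cancel_right]
  · rw [cosetPart_neg N a hx, extK_not_mem _ (fun h => hx (hiff.mpr h))]

theorem red_eq_sum_cosetPart [Fintype (G ⧸ N)] (a : G → ℂ) :
    red hM a = ∑ c : G ⧸ N, red hM (cosetPart N c a) := by
  classical
  apply MonoidAlgebra.ext
  ext g
  rw [coeff_sum, Finsupp.finset_sum_apply, red_coeff]
  simp_rw [red_coeff]
  rw [Finset.sum_eq_single (QuotientGroup.mk g : G ⧸ N)]
  · rw [cosetPart_pos N a rfl]
  · intro c _ hc
    rw [cosetPart_neg N a (fun h => hc h.symm), resC_zero]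
  · intro h
    exact absurd (Finset.mem_univ _) h

/-- An element commuting with the group elements of `N` commutes with the group algebra of `N`. -/
theorem comm_inc_of_comm_of [Fintype N] {U : MonoidAlgebra (FF hM) G}
    (hU : ∀ n : N, of (FF hM) G (n : G) * U = U * of (FF hM) G (n : G))
    (y : MonoidAlgebra (FF hM) N) : inc N y * U = U * inc N y := by
  refine MonoidAlgebra.induction_on (motive := fun y => inc N y * U = U * inc N y) y ?_ ?_ ?_
  · intro n
    show inc N (of (FF hM) N n) * U = U * inc N (of (FF hM) N n)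
    rw [of_apply, inc_single, ← of_apply]
    exact hU n
  · intro x y hx hy
    rw [map_add, add_mul, mul_add, hx, hy]
  · intro r x hx
    rw [inc_smul, smul_mul_assoc, mul_smul_comm, hx]

/-- **Key fact**: some coset part of a block idempotent is not nilpotent modulo the local ideal. -/
theorem exists_not_isNilpotent [Fintype N] {p : ℕ} (hpM : IsPModular p M) (χ₀ : IrrCharacter G) :
    ∃ c : G ⧸ N, ¬ IsNilpotent (red hM (cosetPart N c (blockCoeff (blockOf M (χ₀ : G → ℂ))))) := by
  classical
  haveI : Fintype (G ⧸ N) := Fintype.ofFinite _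
  set e := blockCoeff (blockOf M (χ₀ : G → ℂ)) with he
  have heS : ∀ g, MemLocalRing M (e g) := memLocalRing_blockCoeff hpM χ₀
  have hecl : IsClassFunction G e := blockCoeff_isClassFunction _
  by_contra hcon
  push Not at hcon
  have hsum : red hM e = ∑ c : G ⧸ N,
      inc N (red hM (fun n : N => e ((n : G) * Quotient.out c))) *
        of (FF hM) G (Quotient.out c) := by
    rw [red_eq_sum_cosetPart hM N e]
    refine Finset.sum_congr rfl fun c _ => ?_
    exact red_cosetPart hM N c e _ (QuotientGroup.out_eq' c)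
  have hnil : IsNilpotent (red hM e) := by
    rw [hsum]
    refine isNilpotent_sum N Finset.univ _ _ ?_ ?_ ?_
    · intro c _ y
      rw [← red_cosetPart hM N c e _ (QuotientGroup.out_eq' c)]
      apply comm_inc_of_comm_of hM N
      intro n
      exact red_comm_of hM (fun x => cosetPart_conj_of_mem N hecl n.2 x)
    · intro c _
      rw [← red_cosetPart hM N c e _ (QuotientGroup.out_eq' c)]
      apply red_comm_of hM
      intro x
      apply cosetPart_conj N (fun x => hecl x _)
      rw [QuotientGroup.out_eq' c]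
      group
    · intro c _
      rw [← red_cosetPart hM N c e _ (QuotientGroup.out_eq' c)]
      exact hcon c
  have hidem : IsIdempotentElem (red hM e) := by
    show red hM e * red hM e = red hM e
    rw [← red_conv hM heS heS, he, conv_blockCoeff_self]
  have h0 : red hM e = 0 := hidem.eq_zero_of_isNilpotent hnil
  rw [red_eq_zero_iff hM heS] at h0
  obtain ⟨g, hg⟩ := exists_isDefectClass hpM χ₀
  exact hg.2.1 (h0 g)

end Cfsg.Agent.Lib.Helper52.KnB
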