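import Cfsg.Agent.Lib.Helper52.KnB
import Cfsg.Agent.Lib.Helper16.OrbitBlock
import Cfsg.Agent.Lib.Helper74.FR4
import Cfsg.Agent.Lib.Helper77.Radical3

/-!
# From a non-nilpotent coset part to a unit central character value on the covered block
-/

set_option autoImplicit false

universe u

namespace Cfsg.Agent.Lib.Helper52.KnC

open Cfsg MonoidAlgebra
open Cfsg.Agent.Lib.Helper77 Cfsg.Agent.Lib.Helper80 Cfsg.Agent.Lib.Helper81
open Cfsg.Agent.Lib.Helper16 Cfsg.Agent.Lib.Helper74 Cfsg.Agent.Lib.Helper75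
open Cfsg.Agent.Lib.Helper52.KnA Cfsg.Agent.Lib.Helper52.KnB
open Cfsg.Agent.Lib.Helper77.IdemTrace

variable {G : Type u} [Group G] [Fintype G]

theorem conv_assoc (a b c : G → ℂ) : conv (conv a b) c = conv a (conv b c) := by
  funext g
  unfold conv
  simp_rw [Finset.sum_mul, Finset.mul_sum]
  rw [Finset.sum_comm]
  refine Finset.sum_congr rfl fun k _ => ?_
  refine Fintype.sum_equiv (Equiv.mulLeft k⁻¹) _ _ ?_
  intro h
  simp only [Equiv.coe_mulLeft]
  rw [mul_assoc]
  congr 3
  group

theorem convPow_succ_conv {u f : G → ℂ} (h : conv u f = u) (k : ℕ) :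
    conv (convPow u (k + 1)) f = convPow u (k + 1) := by
  rw [convPow_succ, conv_assoc, h]

/-! ### Conjugation of coefficient functions -/

/-- Conjugation of a coefficient function. -/
def conjG (g : G) (a : G → ℂ) : G → ℂ := fun x => a (g * x * g⁻¹)

theorem conjG_conv (g : G) (a b : G → ℂ) : conv (conjG g a) (conjG g b) = conjG g (conv a b) := by
  funext x
  unfold conv conjG
  refine Fintype.sum_equiv (MulAut.conj g).toEquiv _ _ ?_
  intro h
  show a (g * h * g⁻¹) * b (g * (h⁻¹ * x) * g⁻¹) =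
    a (g * h * g⁻¹) * b ((g * h * g⁻¹)⁻¹ * (g * x * g⁻¹))
  congr 2
  group

theorem conjG_deltaOne (g : G) : conjG g (deltaOne : G → ℂ) = deltaOne := by
  funext x
  exact deltaOne_isClassFunction x g

theorem conjG_convPow (g : G) (a : G → ℂ) (k : ℕ) :
    convPow (conjG g a) k = conjG g (convPow a k) := by
  induction k with
  | zero => rw [convPow_zero, convPow_zero, conjG_deltaOne]
  | succ k ih => rw [convPow_succ, convPow_succ, ih, conjG_conv]

variable (N : Subgroup G) [hN : N.Normal]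

theorem conjG_cosetPart (g : G) (c : G ⧸ N) {a : G → ℂ} (ha : IsClassFunction G a) :
    conjG g (cosetPart N c a) =
      cosetPart N ((QuotientGroup.mk g : G ⧸ N)⁻¹ * c * (QuotientGroup.mk g : G ⧸ N)) a := by
  funext x
  show cosetPart N c a (g * x * g⁻¹) = _
  have hiff : (QuotientGroup.mk (g * x * g⁻¹) : G ⧸ N) = c ↔ (QuotientGroup.mk x : G ⧸ N) =
      (QuotientGroup.mk g : G ⧸ N)⁻¹ * c * (QuotientGroup.mk g : G ⧸ N) := by
    rw [QuotientGroup.mk_mul, QuotientGroup.mk_mul, QuotientGroup.mk_inv]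
    constructor
    · intro h
      rw [← h]
      group
    · intro h
      rw [h]
      group
  by_cases hx : (QuotientGroup.mk (g * x * g⁻¹) : G ⧸ N) = c
  · rw [cosetPart_pos N a hx, cosetPart_pos N a (hiff.mp hx), ha]
  · rw [cosetPart_neg N a hx, cosetPart_neg N a (fun h => hx (hiff.mpr h))]

/-! ### Supports -/

/-- `a` is supported on the coset `c` of `N`. -/
def SuppIn (c : G ⧸ N) (a : G → ℂ) : Prop :=
  ∀ x, (QuotientGroup.mk x : G ⧸ N) ≠ c → a x = 0

theorem suppIn_cosetPart (c : G ⧸ N) (a : G → ℂ) : SuppIn N c (cosetPart N c a) :=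
  fun _ hx => cosetPart_neg N a hx

theorem suppIn_deltaOne : SuppIn N 1 (deltaOne : G → ℂ) := by
  classical
  intro x hx
  unfold deltaOne
  rw [if_neg]
  rintro rfl
  exact hx (QuotientGroup.mk_one N)

variable {N} in
theorem SuppIn.conv {c d : G ⧸ N} {a b : G → ℂ} (ha : SuppIn N c a) (hb : SuppIn N d b) :
    SuppIn N (c * d) (conv a b) := by
  intro x hx
  unfold Helper77.conv
  refine Finset.sum_eq_zero fun h _ => ?_
  by_cases hh : (QuotientGroup.mk h : G ⧸ N) = c
  · have : (QuotientGroup.mk (h⁻¹ * x) : G ⧸ N) ≠ d := by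
      intro hd
      apply hx
      rw [← hh, ← hd, ← QuotientGroup.mk_mul, mul_inv_cancel_left]
    rw [hb _ this, mul_zero]
  · rw [ha _ hh, zero_mul]

variable {N} in
theorem SuppIn.convPow {c : G ⧸ N} {a : G → ℂ} (ha : SuppIn N c a) (k : ℕ) :
    SuppIn N (c ^ k) (convPow a k) := by
  induction k with
  | zero => rw [pow_zero, convPow_zero]; exact suppIn_deltaOne N
  | succ k ih => rw [pow_succ, convPow_succ]; exact ih.conv ha

variable {N} in
theorem SuppIn.eq_zero {a : G → ℂ} (ha : SuppIn N 1 a) {x : G} (hx : x ∉ N) : a x = 0 := by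
  apply ha
  intro h
  exact hx ((QuotientGroup.eq_one_iff x).mp h)

variable {N} in
theorem SuppIn.extK_eq {a : G → ℂ} (ha : SuppIn N 1 a) : extK N (fun n : N => a (n : G)) = a := by
  funext x
  by_cases hx : x ∈ N
  · rw [extK_mem _ hx]
  · rw [extK_not_mem _ hx, ha.eq_zero hx]

/-! ### Invariance under conjugation by `N` -/

/-- `a` is invariant under conjugation by the elements of `N`. -/
def NInv (a : G → ℂ) : Prop := ∀ n ∈ N, ∀ x, a (n * x * n⁻¹) = a x

variable {N} in
theorem NInv.conv {a b : G → ℂ} (ha : NInv N a) (hb : NInv N b) : NInv N (conv a b) :=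
  fun n hn x => conv_conj_invariant n (ha n hn) (hb n hn) x

theorem nInv_of_isClassFunction {a : G → ℂ} (ha : IsClassFunction G a) : NInv N a :=
  fun n _ x => ha x n

theorem nInv_deltaOne : NInv N (deltaOne : G → ℂ) :=
  nInv_of_isClassFunction N deltaOne_isClassFunction

variable {N} in
theorem NInv.convPow {a : G → ℂ} (ha : NInv N a) (k : ℕ) : NInv N (convPow a k) := by
  induction k with
  | zero => exact nInv_deltaOne N
  | succ k ih => exact ih.conv ha

theorem nInv_cosetPart (c : G ⧸ N) {a : G → ℂ} (ha : IsClassFunction G a) :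
    NInv N (cosetPart N c a) :=
  fun _ hn x => cosetPart_conj_of_mem N ha hn x

theorem nInv_extK {w : N → ℂ} (hw : IsClassFunction N w) : NInv N (extK N w) := by
  intro n hn x
  by_cases hx : x ∈ N
  · have hx' : n * x * n⁻¹ ∈ N := N.mul_mem (N.mul_mem hn hx) (N.inv_mem hn)
    rw [extK_mem _ hx', extK_mem _ hx]
    exact hw ⟨x, hx⟩ ⟨n, hn⟩
  · have hx' : n * x * n⁻¹ ∉ N := by
      intro h
      apply hx
      have := N.mul_mem (N.mul_mem (N.inv_mem hn) h) hn
      have e : n⁻¹ * (n * x * n⁻¹) * n = x := by group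
      rwa [e] at this
    rw [extK_not_mem _ hx', extK_not_mem _ hx]

variable {N} in
theorem NInv.isClassFunction_res {a : G → ℂ} (ha : NInv N a) :
    IsClassFunction N (fun n : N => a (n : G)) := by
  intro h k
  show a ((k * h * k⁻¹ : N) : G) = a h
  push_cast
  exact ha k k.2 h

theorem resN_conjG (g : G) (Z : G → ℂ) :
    (fun n : N => conjG g Z (n : G)) = conjFun N g (fun n : N => Z (n : G)) := rfl

/-! ### Existence of a character with unit value -/

variable {M : Ideal AlgInt} (hM : M.IsPrime)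

include hM in
theorem exists_omega_not_mem [Fintype N] {p : ℕ} (hpM : IsPModular p M) {u : G → ℂ}
    (huS : ∀ g, MemLocalRing M (u g)) (hinv : NInv N u) {c : G ⧸ N} (hsupp : SuppIn N c u)
    {k : ℕ} (hk : c ^ k = 1) (hnil : ¬ IsNilpotent (red hM u)) :
    ∃ θ' : IrrCharacter N,
      ¬ MemLocalIdeal M (omega (θ' : N → ℂ) (fun n : N => convPow u k (n : G))) := by
  by_contra hcon
  push Not at hcon
  set Z := convPow u k with hZ
  have hZS : ∀ g, MemLocalRing M (Z g) := memLocalRing_convPow hM huS k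
  have hZsupp : SuppIn N 1 Z := by
    have := hsupp.convPow k
    rwa [hk] at this
  have hz : ZS M (fun n : N => Z (n : G)) := ⟨(hinv.convPow k).isClassFunction_res, fun n => hZS _⟩
  obtain ⟨n, hn⟩ := exists_convPow_memLocalIdeal hpM hz hcon
  have h1 : red hM (fun n : N => Z (n : G)) ^ (n + 1) = 0 := by
    rw [← red_convPow hM hz.2, red_eq_zero_iff hM (memLocalRing_convPow hM hz.2 _)]
    exact hn
  have h2 : inc N (red hM (fun n : N => Z (n : G))) = red hM u ^ k := by
    rw [← red_extK, hZsupp.extK_eq, hZ, red_convPow hM huS]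
  apply hnil
  refine ⟨k * (n + 1), ?_⟩
  rw [pow_mul, ← h2, ← map_pow, h1, map_zero]

/-! ### The orbit idempotent -/

theorem orbitIdem_eq_extK (b : Set (IrrCharacter N)) :
    orbitIdem N b = extK N (blockCoeff (orbitBlock N b)) := by
  funext x
  by_cases hx : x ∈ N
  · obtain ⟨n, rfl⟩ : ∃ n : N, (n : G) = x := ⟨⟨x, hx⟩, rfl⟩
    rw [orbitIdem_coe, extK_coe]
  · rw [orbitIdem_of_not_mem N b hx, extK_not_mem _ hx]

theorem conv_orbitIdem_eq [Fintype N] {p : ℕ} (hpM : IsPModular p M) (χ₀ : IrrCharacter G)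
    {b : Set (IrrCharacter N)} (hb : IsPBlock M b)
    (hcov : ∃ χ ∈ blockOf M (χ₀ : G → ℂ), ∃ θ ∈ b,
      classInner (fun n : N => (χ : G → ℂ) n) (θ : N → ℂ) ≠ 0) :
    conv (blockCoeff (blockOf M (χ₀ : G → ℂ))) (orbitIdem N b) =
      blockCoeff (blockOf M (χ₀ : G → ℂ)) := by
  classical
  have hM' : M.IsPrime := isPrime_of_isPModular hpM
  obtain ⟨χ₁, hχ₁, hov⟩ := hcov
  apply eq_of_omega_eq (conv_isClassFunction (blockCoeff_isClassFunction _)
    (orbitIdem_isClassFunction N b)) (blockCoeff_isClassFunction _)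
  intro χ
  rw [omega_conv χ.2 (blockCoeff_isClassFunction _) (orbitIdem_isClassFunction N b),
    omega_blockCoeff]
  by_cases hχ : χ ∈ blockOf M (χ₀ : G → ℂ)
  · rw [if_pos hχ, one_mul]
    have hs : SameBlock M (χ₁ : G → ℂ) (χ : G → ℂ) := sameBlock_trans hM' (sameBlock_symm hχ₁) hχ
    obtain ⟨θ, hθ, hne⟩ := overG_of_sameBlock N b hpM hb χ₁ χ hs hov
    rw [omega_orbitIdem N b χ θ hne, if_pos (mem_orbitBlock_of_mem N hθ)]
  · rw [if_neg hχ, zero_mul]

theorem cosetPart_conv_of_supp (c : G ⧸ N) (a : G → ℂ) {f : G → ℂ}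
    (hf : ∀ x, x ∉ N → f x = 0) :
    cosetPart N c (conv a f) = conv (cosetPart N c a) f := by
  funext x
  by_cases hx : (QuotientGroup.mk x : G ⧸ N) = c
  · rw [cosetPart_pos N _ hx]
    unfold conv
    refine Finset.sum_congr rfl fun h _ => ?_
    by_cases hh : (QuotientGroup.mk h : G ⧸ N) = c
    · rw [cosetPart_pos N _ hh]
    · rw [cosetPart_neg N _ hh, zero_mul, hf, mul_zero]
      intro hmem
      apply hh
      rw [← hx]
      exact QuotientGroup.eq.mpr hmem
  · rw [cosetPart_neg N _ hx]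
    symm
    unfold conv
    refine Finset.sum_eq_zero fun h _ => ?_
    by_cases hh : (QuotientGroup.mk h : G ⧸ N) = c
    · rw [hf, mul_zero]
      intro hmem
      apply hx
      rw [← hh]
      exact (QuotientGroup.eq.mpr hmem).symm
    · rw [cosetPart_neg N _ hh, zero_mul]

/-- A character with unit value lies in the orbit of `b`. -/
theorem mem_orbitBlock_of_omega [Fintype N] {b : Set (IrrCharacter N)}
    {Z : G → ℂ} (hZinv : NInv N Z) (hZsupp : SuppIn N 1 Z)
    (hZε : conv Z (orbitIdem N b) = Z) (θ' : IrrCharacter N)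
    (hθ' : omega (θ' : N → ℂ) (fun n : N => Z (n : G)) ≠ 0) : θ' ∈ orbitBlock N b := by
  classical
  set z : N → ℂ := fun n : N => Z (n : G) with hz
  have hzcl : IsClassFunction N z := hZinv.isClassFunction_res
  have h1 : conv z (blockCoeff (orbitBlock N b)) = z := by
    have h2 : extK N (conv z (blockCoeff (orbitBlock N b))) = extK N z := by
      rw [← extK_conv, ← orbitIdem_eq_extK, hz, hZsupp.extK_eq, hZε]
    funext n
    have := congrFun h2 (n : G)
    rwa [extK_coe, extK_coe] at this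
  by_contra hmem
  apply hθ'
  rw [← h1, omega_conv θ'.2 hzcl (blockCoeff_isClassFunction _), omega_blockCoeff, if_neg hmem,
    mul_zero]

/-- **Unit coset part.**  If `B` covers `b`, some coset part `u` of the idempotent of `B` has a
power `u ^ k` supported on `N` with unit central character value at a member of `b`. -/
theorem exists_unit_coset [Fintype N] {p : ℕ} (hpM : IsPModular p M) (χ₀ : IrrCharacter G)
    {b : Set (IrrCharacter N)} (hb : IsPBlock M b)
    (hcov : ∃ χ ∈ blockOf M (χ₀ : G → ℂ), ∃ θ ∈ b,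
      classInner (fun n : N => (χ : G → ℂ) n) (θ : N → ℂ) ≠ 0) :
    ∃ (c : G ⧸ N) (θ : IrrCharacter N), θ ∈ b ∧
      ¬ MemLocalIdeal M (omega (θ : N → ℂ) (fun n : N =>
        convPow (cosetPart N c (blockCoeff (blockOf M (χ₀ : G → ℂ)))) (Nat.card (G ⧸ N)) (n : G))) := by
  classical
  have hM' : M.IsPrime := isPrime_of_isPModular hpM
  set e := blockCoeff (blockOf M (χ₀ : G → ℂ)) with he
  have heS : ∀ g, MemLocalRing M (e g) := memLocalRing_blockCoeff hpM χ₀
  have hecl : IsClassFunction G e := blockCoeff_isClassFunction _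
  obtain ⟨c, hc⟩ := exists_not_isNilpotent hM' N hpM χ₀
  set k := Nat.card (G ⧸ N) with hk
  have hkpos : 0 < k := Nat.card_pos
  obtain ⟨k', hk'⟩ : ∃ k', k = k' + 1 := ⟨k - 1, by omega⟩
  set u := cosetPart N c e with hu
  have huS : ∀ g, MemLocalRing M (u g) := memLocalRing_cosetPart hM' N c heS
  have huinv : NInv N u := nInv_cosetPart N c hecl
  have husupp : SuppIn N c u := suppIn_cosetPart N c e
  have hck : c ^ k = 1 := pow_card_eq_one'
  obtain ⟨θ', hθ'⟩ := exists_omega_not_mem N hM' hpM huS huinv husupp hck hc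
  -- `θ'` lies in the orbit of `b`
  have hε : conv e (orbitIdem N b) = e := conv_orbitIdem_eq N hpM χ₀ hb hcov
  have huε : conv u (orbitIdem N b) = u := by
    rw [hu, ← cosetPart_conv_of_supp N c e (fun x hx => orbitIdem_of_not_mem N b hx), hε]
  have hZε : conv (convPow u k) (orbitIdem N b) = convPow u k := by
    rw [hk']
    exact convPow_succ_conv huε k'
  have hZsupp : SuppIn N 1 (convPow u k) := by
    have := husupp.convPow k
    rwa [hck] at this
  have hθ'0 : omega (θ' : N → ℂ) (fun n : N => convPow u k (n : G)) ≠ 0 := by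
    intro h0
    apply hθ'
    rw [h0]
    exact memLocalIdeal_zero hM'
  obtain ⟨g, hg⟩ := mem_orbitBlock_of_omega N (huinv.convPow k) hZsupp hZε θ' hθ'0
  -- conjugate
  refine ⟨(QuotientGroup.mk g : G ⧸ N)⁻¹ * c * (QuotientGroup.mk g : G ⧸ N),
    Cfsg.Agent.Lib.Helper16.conjIrr N g θ', hg, ?_⟩
  rw [← conjG_cosetPart N g c hecl, conjG_convPow, resN_conjG]
  show ¬ MemLocalIdeal M (omega (conjFun N g (θ' : N → ℂ)) _)
  rw [omega_conjFun, conjFun_conjFun, mul_inv_cancel, conjFun_one]
  exact hθ'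

end Cfsg.Agent.Lib.Helper52.KnC
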