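import Cfsg.Agent.Lib.Helper52.KnC
import Cfsg.Agent.Lib.Helper77.MinMax

/-!
# The Brauer map on elements stable under a `p`-group, and units in centralizers
-/

set_option autoImplicit false

universe u

namespace Cfsg.Agent.Lib.Helper52.KnD

open Cfsg MonoidAlgebra
open Cfsg.Agent.Lib.Helper77 Cfsg.Agent.Lib.Helper80 Cfsg.Agent.Lib.Helper81
open Cfsg.Agent.Lib.Helper16 Cfsg.Agent.Lib.Helper74 Cfsg.Agent.Lib.Helper75
open Cfsg.Agent.Lib.Helper52.KnA Cfsg.Agent.Lib.Helper52.KnB Cfsg.Agent.Lib.Helper52.KnC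

variable {G : Type u} [Group G] [Fintype G]

/-- `a` is stable under conjugation by `Q`, with local-integral values. -/
structure QS (M : Ideal AlgInt) (Q : Subgroup G) (a : G → ℂ) : Prop where
  stable : ∀ q ∈ Q, ∀ x, a (q * x * q⁻¹) = a x
  int : ∀ x, MemLocalRing M (a x)

theorem QS.of_nInv {M : Ideal AlgInt} {N Q : Subgroup G} (hQN : Q ≤ N) {a : G → ℂ}
    (ha : NInv N a) (haS : ∀ x, MemLocalRing M (a x)) : QS M Q a :=
  ⟨fun q hq x => ha q (hQN hq) x, haS⟩

open Classical in
/-- The Brauer map is multiplicative modulo the local ideal on `Q`-stable elements. -/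
theorem memLocalIdeal_conv_sub_sum {p : ℕ} [Fact p.Prime] {M : Ideal AlgInt}
    (hpM : IsPModular p M) (Q : Subgroup G) (hQ : IsPGroup p Q) {a b : G → ℂ}
    (ha : QS M Q a) (hb : QS M Q b) {h : G} (hc : h ∈ Subgroup.centralizer (Q : Set G)) :
    MemLocalIdeal M (conv a b h -
      ∑ x : G, if x ∈ Subgroup.centralizer (Q : Set G) then a x * b (x⁻¹ * h) else 0) := by
  classical
  have hM : M.IsPrime := isPrime_of_isPModular hpM
  have h2 : conv a b h -
      (∑ x : G, if x ∈ Subgroup.centralizer (Q : Set G) then a x * b (x⁻¹ * h) else 0) =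
      ∑ x : G, if x ∈ Subgroup.centralizer (Q : Set G) then 0 else a x * b (x⁻¹ * h) := by
    unfold conv
    rw [← Finset.sum_sub_distrib]
    refine Finset.sum_congr rfl fun x _ => ?_
    by_cases hx : x ∈ Subgroup.centralizer (Q : Set G)
    · rw [if_pos hx, if_pos hx, sub_self]
    · rw [if_neg hx, if_neg hx, sub_zero]
  rw [h2]
  let := conjActionOf Q
  refine pgroup_sum_mem (Q := Q) (X := G) hQ hpM _ ?_ ?_ ?_
  · intro q x
    show (if (q : G) * x * (q : G)⁻¹ ∈ Subgroup.centralizer (Q : Set G) then 0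
      else a ((q : G) * x * (q : G)⁻¹) * b (((q : G) * x * (q : G)⁻¹)⁻¹ * h)) =
      if x ∈ Subgroup.centralizer (Q : Set G) then 0 else a x * b (x⁻¹ * h)
    have hqN : (q : G) ∈ Subgroup.normalizer (Q : Set G) := Subgroup.le_normalizer q.2
    have hiff := conj_mem_centralizer_iff (h := x) hqN
    have hqh : (q : G) * h = h * q := (Subgroup.mem_centralizer_iff.mp hc) q q.2
    have e1 : ((q : G) * x * (q : G)⁻¹)⁻¹ * (h : G) = (q : G) * (x⁻¹ * h) * (q : G)⁻¹ := by
      have : (h : G) = (q : G) * h * (q : G)⁻¹ := by rw [hqh]; group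
      conv_lhs => rw [this]
      group
    by_cases hx : x ∈ Subgroup.centralizer (Q : Set G)
    · rw [if_pos hx, if_pos (hiff.mpr hx)]
    · rw [if_neg hx, if_neg (fun h' => hx (hiff.mp h')), e1, ha.stable q q.2, hb.stable q q.2]
  · intro x
    split_ifs
    · exact memLocalRing_zero hM
    · exact memLocalRing_mul hM (ha.int _) (hb.int _)
  · intro x hx
    have hxc : x ∈ Subgroup.centralizer (Q : Set G) := by
      rw [Subgroup.mem_centralizer_iff]
      intro q hq
      have h3 : q * x * q⁻¹ = x := hx ⟨q, hq⟩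
      calc q * x = q * x * q⁻¹ * q := by group
        _ = x * q := by rw [h3]
    rw [if_pos hxc]
    exact memLocalIdeal_zero hM

/-- If a convolution of `Q`-stable elements is a unit at a point of `C_G(Q)`, both factors are
units at points of `C_G(Q)`. -/
theorem exists_of_conv_not_mem {p : ℕ} [Fact p.Prime] {M : Ideal AlgInt}
    (hpM : IsPModular p M) (Q : Subgroup G) (hQ : IsPGroup p Q) {a b : G → ℂ}
    (ha : QS M Q a) (hb : QS M Q b) {h : G} (hc : h ∈ Subgroup.centralizer (Q : Set G))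
    (hne : ¬ MemLocalIdeal M (conv a b h)) :
    ∃ x ∈ Subgroup.centralizer (Q : Set G), x⁻¹ * h ∈ Subgroup.centralizer (Q : Set G) ∧
      ¬ MemLocalIdeal M (a x) ∧ ¬ MemLocalIdeal M (b (x⁻¹ * h)) := by
  classical
  have hM : M.IsPrime := isPrime_of_isPModular hpM
  by_contra hcon
  push Not at hcon
  apply hne
  have h1 := memLocalIdeal_conv_sub_sum hpM Q hQ ha hb hc
  have h2 : MemLocalIdeal M
      (∑ x : G, if x ∈ Subgroup.centralizer (Q : Set G) then a x * b (x⁻¹ * h) else 0) := by
    refine memLocalIdeal_sum hM _ _ fun x _ => ?_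
    by_cases hx : x ∈ Subgroup.centralizer (Q : Set G)
    · rw [if_pos hx]
      have hx' : x⁻¹ * h ∈ Subgroup.centralizer (Q : Set G) :=
        Subgroup.mul_mem _ (Subgroup.inv_mem _ hx) hc
      by_cases hax : MemLocalIdeal M (a x)
      · exact memLocalIdeal_mul_right hM hax (hb.int _)
      · exact memLocalIdeal_mul_left hM (ha.int _) (hcon x hx hx' hax)
    · rw [if_neg hx]
      exact memLocalIdeal_zero hM
  have := memLocalIdeal_add hM h1 h2
  rwa [sub_add_cancel] at this

variable (N : Subgroup G) [hN : N.Normal] [Fintype N]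

/-- **Units in centralizers.**  Let `u` be the part on the coset `c` of the idempotent of the block
of `χ₀`, with `u ^ (k' + 1)` supported on `N` and with unit central character value at `θ`.  If the
idempotent of the block of `θ` is a unit at `n₀` and the `p`-subgroup `Q` of `N` centralizes `n₀`,
then the idempotent of the block of `χ₀` is a unit at some element of the coset `c` centralizing
`Q`. -/
theorem exists_centralizer_unit {p : ℕ} [Fact p.Prime] {M : Ideal AlgInt}
    (hpM : IsPModular p M) (χ₀ : IrrCharacter G) (c : G ⧸ N) (θ : IrrCharacter N) (k' : ℕ)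
    (hsupp : SuppIn N 1 (convPow (cosetPart N c (blockCoeff (blockOf M (χ₀ : G → ℂ)))) (k' + 1)))
    (hunit : ¬ MemLocalIdeal M (omega (θ : N → ℂ) (fun n : N =>
      convPow (cosetPart N c (blockCoeff (blockOf M (χ₀ : G → ℂ)))) (k' + 1) (n : G))))
    (n₀ : N) (hn₀ : ¬ MemLocalIdeal M (blockCoeff (blockOf M (θ : N → ℂ)) n₀))
    (Q : Subgroup G) (hQ : IsPGroup p Q) (hQN : Q ≤ N)
    (hQn₀ : (n₀ : G) ∈ Subgroup.centralizer (Q : Set G)) :
    ∃ y ∈ Subgroup.centralizer (Q : Set G), (QuotientGroup.mk y : G ⧸ N) = c ∧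
      ¬ MemLocalIdeal M (blockCoeff (blockOf M (χ₀ : G → ℂ)) y) := by
  classical
  have hM : M.IsPrime := isPrime_of_isPModular hpM
  set e := blockCoeff (blockOf M (χ₀ : G → ℂ)) with he
  have heS : ∀ g, MemLocalRing M (e g) := memLocalRing_blockCoeff hpM χ₀
  have hecl : IsClassFunction G e := blockCoeff_isClassFunction _
  set u := cosetPart N c e with hu
  have huS : ∀ g, MemLocalRing M (u g) := memLocalRing_cosetPart hM N c heS
  have huinv : NInv N u := nInv_cosetPart N c hecl
  set Y := convPow u k' with hY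
  set Z := convPow u (k' + 1) with hZ
  have hZY : Z = conv Y u := rfl
  have hYS : ∀ g, MemLocalRing M (Y g) := memLocalRing_convPow hM huS k'
  have hZS : ∀ g, MemLocalRing M (Z g) := memLocalRing_convPow hM huS (k' + 1)
  have hYinv : NInv N Y := huinv.convPow k'
  have hZinv : NInv N Z := huinv.convPow (k' + 1)
  set z : N → ℂ := fun n : N => Z (n : G) with hz
  have hzcl : IsClassFunction N z := hZinv.isClassFunction_res
  have hzS : ∀ n, MemLocalRing M (z n) := fun n => hZS _
  obtain ⟨w, hwcl, hwS, hw⟩ := exists_conv_eq_blockCoeff hpM θ hzcl hzS hunit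
  set eb := blockCoeff (blockOf M (θ : N → ℂ)) with heb
  have hebS : ∀ n, MemLocalRing M (eb n) := memLocalRing_blockCoeff hpM θ
  have hebcl : IsClassFunction N eb := blockCoeff_isClassFunction _
  -- lift to `G`
  have hlift : conv (conv Z (extK N w)) (extK N eb) = extK N eb := by
    have : Z = extK N z := hsupp.extK_eq.symm
    rw [this, extK_conv, extK_conv, hw]
  have hwS' : ∀ g, MemLocalRing M (extK N w g) := by
    intro g
    by_cases hg : g ∈ N
    · rw [extK_mem _ hg]; exact hwS _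
    · rw [extK_not_mem _ hg]; exact memLocalRing_zero hM
  have hebS' : ∀ g, MemLocalRing M (extK N eb g) := by
    intro g
    by_cases hg : g ∈ N
    · rw [extK_mem _ hg]; exact hebS _
    · rw [extK_not_mem _ hg]; exact memLocalRing_zero hM
  have hQw : QS M Q (extK N w) := QS.of_nInv hQN (nInv_extK N hwcl) hwS'
  have hQeb : QS M Q (extK N eb) := QS.of_nInv hQN (nInv_extK N hebcl) hebS'
  have hQZ : QS M Q Z := QS.of_nInv hQN hZinv hZS
  have hQY : QS M Q Y := QS.of_nInv hQN hYinv hYS
  have hQu : QS M Q u := QS.of_nInv hQN huinv huS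
  have hQZw : QS M Q (conv Z (extK N w)) :=
    QS.of_nInv hQN (hZinv.conv (nInv_extK N hwcl)) (memLocalRing_conv hM hZS hwS')
  -- peel
  have h0 : ¬ MemLocalIdeal M (conv (conv Z (extK N w)) (extK N eb) (n₀ : G)) := by
    rw [hlift, extK_coe]
    exact hn₀
  obtain ⟨x₁, hx₁, -, hx₁a, -⟩ := exists_of_conv_not_mem hpM Q hQ hQZw hQeb hQn₀ h0
  obtain ⟨x₂, hx₂, -, hx₂a, -⟩ := exists_of_conv_not_mem hpM Q hQ hQZ hQw hx₁ hx₁a
  rw [hZY] at hx₂a
  obtain ⟨x₃, -, hx₃', -, hx₃b⟩ := exists_of_conv_not_mem hpM Q hQ hQY hQu hx₂ hx₂a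
  refine ⟨x₃⁻¹ * x₂, hx₃', ?_, ?_⟩
  · by_contra hne
    apply hx₃b
    rw [hu, cosetPart_neg N e hne]
    exact memLocalIdeal_zero hM
  · intro hmem
    apply hx₃b
    by_cases hcs : (QuotientGroup.mk (x₃⁻¹ * x₂) : G ⧸ N) = c
    · rw [hu, cosetPart_pos N e hcs]
      exact hmem
    · rw [hu, cosetPart_neg N e hcs]
      exact memLocalIdeal_zero hM

end Cfsg.Agent.Lib.Helper52.KnD
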