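import Cfsg.Agent.Lib.Helper52.KnD
import Cfsg.Agent.Lib.Helper1.FongCover3
import Cfsg.Agent.Lib.Helper77.TransportDefect
import Cfsg.Agent.Lib.Helper77.DefectConj

/-!
# Knörr's theorem on defect groups of covering blocks
-/

set_option autoImplicit false

universe u

namespace Cfsg.Agent.Lib.Helper52.KnE

open Cfsg MonoidAlgebra
open Cfsg.Agent.Lib.Helper77 Cfsg.Agent.Lib.Helper80 Cfsg.Agent.Lib.Helper81
open Cfsg.Agent.Lib.Helper16 Cfsg.Agent.Lib.Helper74 Cfsg.Agent.Lib.Helper75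
open Cfsg.Agent.Lib.Helper1
open Cfsg.Agent.Lib.Helper52.KnA Cfsg.Agent.Lib.Helper52.KnB Cfsg.Agent.Lib.Helper52.KnC
open Cfsg.Agent.Lib.Helper52.KnD
open scoped Pointwise

variable {G : Type u} [Group G] [Fintype G] (N : Subgroup G) [hN : N.Normal] [Fintype N]

theorem QS.of_isClassFunction {M : Ideal AlgInt} (Q : Subgroup G) {a : G → ℂ}
    (ha : IsClassFunction G a) (haS : ∀ x, MemLocalRing M (a x)) : QS M Q a :=
  ⟨fun q _ x => ha x q, haS⟩

/-- Conjugate blocks of `N` have defect groups of the same order. -/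
theorem card_defectGroup_of_mem_orbitBlock {p : ℕ} [Fact p.Prime] {M : Ideal AlgInt}
    (hpM : IsPModular p M) (θ₀ : IrrCharacter N) (ψ : IrrCharacter N)
    (hψ : ψ ∈ orbitBlock N (blockOf M (θ₀ : N → ℂ))) {D D₂ : Subgroup N}
    (hD : IsDefectGroup p M (blockOf M (θ₀ : N → ℂ)) D)
    (hD₂ : IsDefectGroup p M (blockOf M (ψ : N → ℂ)) D₂) : Nat.card D₂ = Nat.card D := by
  have hM : M.IsPrime := isPrime_of_isPModular hpM
  obtain ⟨g, hg⟩ := hψ
  set e : N ≃* N := MulAut.conjNormal g with he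
  have h1 := isDefectGroup_irrMap_image e hD₂
  rw [irrMap_image_blockOf] at h1
  have h2 : irrMap e ψ = Cfsg.Agent.Lib.Helper16.conjIrr N g ψ := by
    apply Subtype.ext
    funext x
    rfl
  rw [h2, blockOf_eq_of_mem hM hg] at h1
  rw [← card_eq_of_isDefectGroup hpM θ₀ h1 hD]
  exact (Nat.card_congr (e.toEquiv.subtypeEquiv (fun y => Iff.rfl))).symm

/-- **The easy half**: the intersection with `N` of a defect group of a block covering `b` is no
larger than a defect group of `b`. -/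
theorem card_inf_le {p : ℕ} [Fact p.Prime] {M : Ideal AlgInt}
    (hpM : IsPModular p M) (χ₀ : IrrCharacter G) (θ₀ : IrrCharacter N)
    (hcov : ∃ χ ∈ blockOf M (χ₀ : G → ℂ), ∃ θ ∈ blockOf M (θ₀ : N → ℂ),
      classInner (fun n : N => (χ : G → ℂ) n) (θ : N → ℂ) ≠ 0)
    {P : Subgroup G} (hP : IsDefectGroup p M (blockOf M (χ₀ : G → ℂ)) P)
    {D : Subgroup N} (hD : IsDefectGroup p M (blockOf M (θ₀ : N → ℂ)) D) :
    Nat.card (P ⊓ N : Subgroup G) ≤ Nat.card D := by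
  classical
  have hM : M.IsPrime := isPrime_of_isPModular hpM
  set b := blockOf M (θ₀ : N → ℂ) with hb
  have hbB : IsPBlock M b := ⟨θ₀, rfl⟩
  set e := blockCoeff (blockOf M (χ₀ : G → ℂ)) with he
  have heS : ∀ g, MemLocalRing M (e g) := memLocalRing_blockCoeff hpM χ₀
  have hecl : IsClassFunction G e := blockCoeff_isClassFunction _
  have hPp : IsPGroup p P := isPGroup_of_isDefectGroup hP
  obtain ⟨g', hg', P₁, hP₁⟩ := hP
  set R : Subgroup G := P ⊓ N with hR
  have hRp : IsPGroup p R := hPp.to_le inf_le_left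
  have hRc : R ≤ Subgroup.centralizer ({g'} : Set G) := by
    intro r hr
    have : r ∈ P := hr.1
    rw [hP₁] at this
    exact Subgroup.map_subtype_le _ this
  have hg'c : g' ∈ Subgroup.centralizer (R : Set G) := by
    rw [Subgroup.mem_centralizer_iff]
    intro r hr
    exact Subgroup.mem_centralizer_singleton_iff.mp (hRc hr)
  have hε : conv e (orbitIdem N b) = e := conv_orbitIdem_eq N hpM χ₀ hbB hcov
  have hne : ¬ MemLocalIdeal M (conv e (orbitIdem N b) g') := by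
    rw [hε]
    exact hg'.2.1
  obtain ⟨x, -, hmc, -, hm⟩ := exists_of_conv_not_mem hpM R hRp
    (QS.of_isClassFunction R hecl heS)
    (QS.of_isClassFunction R (orbitIdem_isClassFunction N b) (memLocalRing_orbitIdem N hpM hbB))
    hg'c hne
  set m := x⁻¹ * g' with hmdef
  have hmN : m ∈ N := by
    by_contra hmN
    apply hm
    rw [orbitIdem_of_not_mem N b hmN]
    exact memLocalIdeal_zero hM
  have hm' : ¬ MemLocalIdeal M (blockCoeff (orbitBlock N b) ⟨m, hmN⟩) := by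
    rw [← orbitIdem_coe]
    exact hm
  obtain ⟨ψ, hψ, hψm⟩ := exists_block_coeff_unit hM (orbitBlock N b)
    (orbitBlock_closed N hM hbB) ⟨m, hmN⟩ hm'
  obtain ⟨n₁, hn₁⟩ := exists_isDefectClass hpM ψ
  obtain P₂ : Sylow p (Subgroup.centralizer ({n₁} : Set N)) := default
  have hdef := defLE_of_blockCoeff hpM ψ n₁ (hn₁.2.2 ψ (self_mem_blockOf hM ψ)) P₂ ⟨m, hmN⟩ hψm
  have hR'p : IsPGroup p (R.subgroupOf N) := hRp.comap_subtype
  have hR'c : R.subgroupOf N ≤ Subgroup.centralizer ({(⟨m, hmN⟩ : N)} : Set N) := by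
    intro r hr
    rw [Subgroup.mem_centralizer_singleton_iff]
    have hr' : (r : G) ∈ R := hr
    have := (Subgroup.mem_centralizer_iff.mp hmc) (r : G) hr'
    apply Subtype.ext
    push_cast
    exact this
  obtain ⟨y, hy⟩ := hdef (R.subgroupOf N) hR'p hR'c
  have hD₂ : IsDefectGroup p M (blockOf M (ψ : N → ℂ))
      ((P₂ : Subgroup (Subgroup.centralizer ({n₁} : Set N))).map
        (Subgroup.centralizer ({n₁} : Set N)).subtype) := ⟨n₁, hn₁, P₂, rfl⟩
  have hcard := card_defectGroup_of_mem_orbitBlock N hpM θ₀ ψ hψ hD hD₂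
  have h1 := Subgroup.card_le_of_le hy
  rw [card_conj_smul, hcard] at h1
  have h2 : Nat.card (R.subgroupOf N) = Nat.card R :=
    Nat.card_congr (Subgroup.subgroupOfEquivOfLe (inf_le_right : R ≤ N)).toEquiv
  rw [← h2]
  exact h1

/-- **Knörr's theorem.** -/
theorem knorr {p : ℕ} [Fact p.Prime] {M : Ideal AlgInt}
    (hpM : IsPModular p M) (χ₀ : IrrCharacter G) (θ₀ : IrrCharacter N)
    (hcov : ∃ χ ∈ blockOf M (χ₀ : G → ℂ), ∃ θ ∈ blockOf M (θ₀ : N → ℂ),
      classInner (fun n : N => (χ : G → ℂ) n) (θ : N → ℂ) ≠ 0)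
    (Q : Subgroup G) (hQN : Q ≤ N)
    (hQ : IsDefectGroup p M (blockOf M (θ₀ : N → ℂ)) (Q.subgroupOf N)) :
    ∃ P : Subgroup G, IsDefectGroup p M (blockOf M (χ₀ : G → ℂ)) P ∧ P ⊓ N = Q := by
  classical
  have hM : M.IsPrime := isPrime_of_isPModular hpM
  set b := blockOf M (θ₀ : N → ℂ) with hb
  have hbB : IsPBlock M b := ⟨θ₀, rfl⟩
  obtain ⟨c, θ, hθ, hunit⟩ := exists_unit_coset N hpM χ₀ hbB hcov
  have hkpos : 0 < Nat.card (G ⧸ N) := Nat.card_pos
  obtain ⟨k', hk'⟩ : ∃ k', Nat.card (G ⧸ N) = k' + 1 := ⟨Nat.card (G ⧸ N) - 1, by omega⟩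
  rw [hk'] at hunit
  have hsupp : SuppIn N 1
      (convPow (cosetPart N c (blockCoeff (blockOf M (χ₀ : G → ℂ)))) (k' + 1)) := by
    have := (suppIn_cosetPart N c (blockCoeff (blockOf M (χ₀ : G → ℂ)))).convPow
      (Nat.card (G ⧸ N))
    rw [pow_card_eq_one'] at this
    rw [hk'] at this
    exact this
  have hbθ : blockOf M (θ : N → ℂ) = b := blockOf_eq_of_mem hM hθ
  -- the defect class of `b` belonging to `Q`
  have hQp : IsPGroup p Q := by
    have h1 := isPGroup_of_isDefectGroup hQ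
    exact h1.of_equiv (Subgroup.subgroupOfEquivOfLe hQN)
  obtain ⟨n₀, hn₀, P₀, hP₀⟩ := hQ
  have hQn₀ : (n₀ : G) ∈ Subgroup.centralizer (Q : Set G) := by
    rw [Subgroup.mem_centralizer_iff]
    intro q hq
    have h1 : (⟨q, hQN hq⟩ : N) ∈ Q.subgroupOf N := hq
    rw [hP₀] at h1
    have h2 := Subgroup.map_subtype_le _ h1
    rw [Subgroup.mem_centralizer_singleton_iff] at h2
    exact congrArg Subtype.val h2
  have hn₀' : ¬ MemLocalIdeal M (blockCoeff (blockOf M (θ : N → ℂ)) n₀) := by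
    rw [hbθ]
    exact hn₀.2.1
  obtain ⟨y, hyc, -, hy⟩ := exists_centralizer_unit N hpM χ₀ c θ k' hsupp hunit n₀ hn₀' Q hQp hQN hQn₀
  -- a defect group of `B` containing `Q`
  obtain ⟨g₁, hg₁⟩ := exists_isDefectClass hpM χ₀
  obtain P₁ : Sylow p (Subgroup.centralizer ({g₁} : Set G)) := default
  have hdef := defLE_of_blockCoeff hpM χ₀ g₁ (hg₁.2.2 χ₀ (self_mem_blockOf hM χ₀)) P₁ y hy
  have hQy : Q ≤ Subgroup.centralizer ({y} : Set G) := by
    intro q hq
    rw [Subgroup.mem_centralizer_singleton_iff]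
    exact (Subgroup.mem_centralizer_iff.mp hyc) q hq
  obtain ⟨x, hx⟩ := hdef Q hQp hQy
  set D := (P₁ : Subgroup (Subgroup.centralizer ({g₁} : Set G))).map
    (Subgroup.centralizer ({g₁} : Set G)).subtype with hD
  have hDdef : IsDefectGroup p M (blockOf M (χ₀ : G → ℂ)) D := ⟨g₁, hg₁, P₁, rfl⟩
  have hP'def : IsDefectGroup p M (blockOf M (χ₀ : G → ℂ)) (MulAut.conj x⁻¹ • D) :=
    isDefectGroup_conj hDdef x⁻¹
  have hQP' : Q ≤ MulAut.conj x⁻¹ • D := by
    intro q hq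
    rw [Subgroup.mem_pointwise_smul_iff_inv_smul_mem, map_inv, inv_inv]
    exact hx (Subgroup.smul_mem_pointwise_smul _ _ _ hq)
  refine ⟨MulAut.conj x⁻¹ • D, hP'def, ?_⟩
  have hle : Q ≤ (MulAut.conj x⁻¹ • D) ⊓ N := le_inf hQP' hQN
  have hQdef : IsDefectGroup p M b (Q.subgroupOf N) := ⟨n₀, hn₀, P₀, hP₀⟩
  have hcard := card_inf_le N hpM χ₀ θ₀ hcov hP'def hQdef
  have h2 : Nat.card (Q.subgroupOf N) = Nat.card Q :=
    Nat.card_congr (Subgroup.subgroupOfEquivOfLe hQN).toEquiv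
  rw [h2] at hcard
  exact (Subgroup.eq_of_le_of_card_ge hle hcard).symm

end Cfsg.Agent.Lib.Helper52.KnE
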