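import Cfsg.Agent.Lib.Helper52.KnE

/-!
# Every character of a covered block lies under a character of the covering block
-/

set_option autoImplicit false

universe u

namespace Cfsg.Agent.Lib.Helper52.KnF

open Cfsg MonoidAlgebra
open Cfsg.Agent.Lib.Helper77 Cfsg.Agent.Lib.Helper80 Cfsg.Agent.Lib.Helper81
open Cfsg.Agent.Lib.Helper16 Cfsg.Agent.Lib.Helper74 Cfsg.Agent.Lib.Helper75
open Cfsg.Agent.Lib.Helper52.KnA Cfsg.Agent.Lib.Helper52.KnB Cfsg.Agent.Lib.Helper52.KnC
open Cfsg.Agent.Lib.Helper52.KnD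

variable {G : Type u} [Group G] [Fintype G] (N : Subgroup G) [hN : N.Normal] [Fintype N]

theorem conv_zero_right (a : G → ℂ) : conv a (0 : G → ℂ) = 0 := by
  funext g
  unfold conv
  simp

theorem cosetPart_zero (c : G ⧸ N) : cosetPart N c (0 : G → ℂ) = 0 := by
  funext x
  unfold cosetPart
  split_ifs <;> rfl

theorem extK_zero : extK N (0 : N → ℂ) = 0 := by
  funext g
  by_cases hg : g ∈ N
  · rw [extK_mem _ hg]; rfl
  · rw [extK_not_mem _ hg]; rfl

theorem exists_over {p : ℕ} [Fact p.Prime] {M : Ideal AlgInt}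
    (hpM : IsPModular p M) (χ₀ : IrrCharacter G) (θ₀ : IrrCharacter N)
    (hcov : ∃ χ ∈ blockOf M (χ₀ : G → ℂ), ∃ θ ∈ blockOf M (θ₀ : N → ℂ),
      classInner (fun n : N => (χ : G → ℂ) n) (θ : N → ℂ) ≠ 0)
    (θ : IrrCharacter N) (hθ : θ ∈ blockOf M (θ₀ : N → ℂ)) :
    ∃ χ ∈ blockOf M (χ₀ : G → ℂ), classInner (fun n : N => (χ : G → ℂ) n) (θ : N → ℂ) ≠ 0 := by
  classical
  have hM : M.IsPrime := isPrime_of_isPModular hpM
  set b := blockOf M (θ₀ : N → ℂ) with hb
  have hbB : IsPBlock M b := ⟨θ₀, rfl⟩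
  obtain ⟨c, θ₁, hθ₁, hunit⟩ := exists_unit_coset N hpM χ₀ hbB hcov
  have hkpos : 0 < Nat.card (G ⧸ N) := Nat.card_pos
  obtain ⟨k', hk'⟩ : ∃ k', Nat.card (G ⧸ N) = k' + 1 := ⟨Nat.card (G ⧸ N) - 1, by omega⟩
  set e := blockCoeff (blockOf M (χ₀ : G → ℂ)) with he
  have heS : ∀ g, MemLocalRing M (e g) := memLocalRing_blockCoeff hpM χ₀
  have hecl : IsClassFunction G e := blockCoeff_isClassFunction _
  set u := cosetPart N c e with hu
  have huS : ∀ g, MemLocalRing M (u g) := memLocalRing_cosetPart hM N c heS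
  have huinv : NInv N u := nInv_cosetPart N c hecl
  have hsupp : SuppIn N 1 (convPow u (Nat.card (G ⧸ N))) := by
    have := (suppIn_cosetPart N c e).convPow (Nat.card (G ⧸ N))
    rwa [pow_card_eq_one'] at this
  rw [hk'] at hunit hsupp
  set Z := convPow u (k' + 1) with hZ
  have hZS : ∀ g, MemLocalRing M (Z g) := memLocalRing_convPow hM huS (k' + 1)
  have hZinv : NInv N Z := huinv.convPow (k' + 1)
  set z : N → ℂ := fun n : N => Z (n : G) with hz
  have hzcl : IsClassFunction N z := hZinv.isClassFunction_res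
  have hzS : ∀ n, MemLocalRing M (z n) := fun n => hZS _
  have hsame : SameBlock M (θ₁ : N → ℂ) (θ : N → ℂ) := sameBlock_trans hM (sameBlock_symm hθ₁) hθ
  have hd := memLocalIdeal_omega_sub hM (isClassFunction_of_isCharacter θ₁.2)
    (isClassFunction_of_isCharacter θ.2) hsame hzcl hzS
  have hθz : omega (θ : N → ℂ) z ≠ 0 := by
    intro h0
    rw [h0, sub_zero] at hd
    exact hunit hd
  by_contra hcon
  push Not at hcon
  have hεcl := orbitIdem_isClassFunction N ({θ} : Set (IrrCharacter N))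
  have h1 : conv e (orbitIdem N ({θ} : Set (IrrCharacter N))) = 0 := by
    apply eq_of_omega_eq (conv_isClassFunction hecl hεcl) (fun _ _ => rfl)
    intro χ
    rw [omega_conv χ.2 hecl hεcl, omega_blockCoeff, omega_zero]
    by_cases hχ : χ ∈ blockOf M (χ₀ : G → ℂ)
    · rw [if_pos hχ, one_mul]
      obtain ⟨ψ, hψ⟩ := exists_constituent N χ
      rw [omega_orbitIdem N _ χ ψ hψ, if_neg]
      rintro ⟨g, hg⟩
      apply hψ
      have hg' : Cfsg.Agent.Lib.Helper16.conjIrr N g ψ = θ := hg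
      have h2 := classInner_conjFun N g (fun n : N => (χ : G → ℂ) n) (ψ : N → ℂ)
      rw [conjFun_restrict N g (isClassFunction_of_isCharacter χ.2)] at h2
      rw [← h2]
      have h3 : conjFun N g (ψ : N → ℂ) = (θ : N → ℂ) := congrArg Subtype.val hg'
      rw [h3]
      exact hcon χ hχ
    · rw [if_neg hχ, zero_mul]
  have h2 : conv u (orbitIdem N ({θ} : Set (IrrCharacter N))) = 0 := by
    rw [hu, ← cosetPart_conv_of_supp N c e (fun x hx => orbitIdem_of_not_mem N _ hx), h1,
      cosetPart_zero]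
  have h3 : conv Z (orbitIdem N ({θ} : Set (IrrCharacter N))) = 0 := by
    rw [hZ, convPow_succ, conv_assoc, h2, conv_zero_right]
  have h4 : conv z (blockCoeff (orbitBlock N ({θ} : Set (IrrCharacter N)))) = 0 := by
    have h5 : extK N (conv z (blockCoeff (orbitBlock N ({θ} : Set (IrrCharacter N))))) =
        extK N (0 : N → ℂ) := by
      rw [← extK_conv, ← orbitIdem_eq_extK, hz, hsupp.extK_eq, h3, extK_zero]
    funext n
    have := congrFun h5 (n : G)
    rwa [extK_coe, extK_coe] at this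
  apply hθz
  have h6 := congrArg (omega (θ : N → ℂ)) h4
  rw [omega_conv θ.2 hzcl (blockCoeff_isClassFunction _), omega_blockCoeff,
    if_pos (mem_orbitBlock_of_mem N (Set.mem_singleton θ)), omega_zero, mul_one] at h6
  exact h6

end Cfsg.Agent.Lib.Helper52.KnF
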