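import Cfsg.Agent.Lib.Helper52.KnE

/-!
# A covered block stable under a defect group of the covering block
-/

set_option autoImplicit false

universe u

namespace Cfsg.Agent.Lib.Helper52.KnG

open Cfsg MonoidAlgebra
open Cfsg.Agent.Lib.Helper77 Cfsg.Agent.Lib.Helper80 Cfsg.Agent.Lib.Helper81
open Cfsg.Agent.Lib.Helper16 Cfsg.Agent.Lib.Helper74 Cfsg.Agent.Lib.Helper75
open Cfsg.Agent.Lib.Helper1
open Cfsg.Agent.Lib.Helper52.KnA Cfsg.Agent.Lib.Helper52.KnB Cfsg.Agent.Lib.Helper52.KnC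
open Cfsg.Agent.Lib.Helper52.KnD Cfsg.Agent.Lib.Helper52.KnE
open scoped Pointwise ComplexConjugate

section General

variable {G : Type u} [Group G] [Fintype G]

open Classical in
/-- The idempotent coefficient of a union of blocks is the sum of those of the blocks. -/
theorem blockCoeff_closed_eq_sum [Fintype (IrrCharacter G)] {M : Ideal AlgInt} (hM : M.IsPrime)
    (U : Set (IrrCharacter G))
    (hU : ∀ χ ∈ U, ∀ ψ : IrrCharacter G, SameBlock M (χ : G → ℂ) (ψ : G → ℂ) → ψ ∈ U) (g : G) :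
    blockCoeff U g = ∑ B' ∈ (Finset.univ.filter (fun χ : IrrCharacter G => χ ∈ U)).image
      (fun χ : IrrCharacter G => blockOf M (χ : G → ℂ)), blockCoeff B' g := by
  set F := Finset.univ.filter (fun χ : IrrCharacter G => χ ∈ U) with hF
  set f : IrrCharacter G → ℂ := fun χ => (χ : G → ℂ) 1 * conj ((χ : G → ℂ) g) with hf
  set T := F.image (fun χ : IrrCharacter G => blockOf M (χ : G → ℂ)) with hT
  have h1 : ∑ B' ∈ T, ∑ χ ∈ F.filter (fun χ : IrrCharacter G => blockOf M (χ : G → ℂ) = B'), f χ =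
      ∑ χ ∈ F, f χ :=
    Finset.sum_fiberwise_of_maps_to (fun χ hχ => Finset.mem_image_of_mem _ hχ) f
  rw [blockCoeff_eq_sum, ← h1, Finset.mul_sum]
  refine Finset.sum_congr rfl fun B' hB' => ?_
  rw [hT, Finset.mem_image] at hB'
  obtain ⟨χ₁, hχ₁, rfl⟩ := hB'
  rw [blockCoeff_eq_sum]
  congr 1
  refine Finset.sum_congr ?_ fun _ _ => rfl
  rw [hF, Finset.mem_filter] at hχ₁
  ext χ
  simp only [hF, Finset.mem_filter, Finset.mem_univ, true_and]
  constructor
  · rintro ⟨_, h⟩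
    rw [← h]
    exact self_mem_blockOf hM χ
  · intro h
    exact ⟨hU χ₁ hχ₁.2 χ h, blockOf_eq_of_mem hM h⟩

end General

variable {G : Type u} [Group G] [Fintype G] (N : Subgroup G) [hN : N.Normal] [Fintype N]

/-- The action of a subgroup on sets of irreducible characters of `N` by conjugation. -/
@[instance_reducible] def setAction (P : Subgroup G) : MulAction P (Set (IrrCharacter N)) where
  smul x s := Cfsg.Agent.Lib.Helper16.conjIrr N ((x : G)⁻¹) '' s
  one_smul s := by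
    show Cfsg.Agent.Lib.Helper16.conjIrr N (((1 : P) : G)⁻¹) '' s = s
    have : Cfsg.Agent.Lib.Helper16.conjIrr N (((1 : P) : G)⁻¹) = id := by
      funext ψ
      rw [Subgroup.coe_one, inv_one, Cfsg.Agent.Lib.Helper16.conjIrr_one]
      rfl
    rw [this, Set.image_id]
  mul_smul x y s := by
    show Cfsg.Agent.Lib.Helper16.conjIrr N (((x * y : P) : G)⁻¹) '' s =
      Cfsg.Agent.Lib.Helper16.conjIrr N ((x : G)⁻¹) ''
        (Cfsg.Agent.Lib.Helper16.conjIrr N ((y : G)⁻¹) '' s)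
    rw [Set.image_image]
    congr 1
    funext ψ
    rw [Cfsg.Agent.Lib.Helper16.conjIrr_conjIrr, Subgroup.coe_mul, mul_inv_rev]

theorem setAction_smul (P : Subgroup G) (x : P) (s : Set (IrrCharacter N)) :
    (letI := setAction N P; x • s) = Cfsg.Agent.Lib.Helper16.conjIrr N ((x : G)⁻¹) '' s := rfl

theorem conjIrr_eq_irrMap (g : G) :
    Cfsg.Agent.Lib.Helper16.conjIrr N g = irrMap (MulAut.conjNormal g : N ≃* N) := by
  funext ψ
  apply Subtype.ext
  funext x
  rfl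

theorem conjIrr_image_blockOf {M : Ideal AlgInt} (g : G) (ψ : IrrCharacter N) :
    Cfsg.Agent.Lib.Helper16.conjIrr N g '' blockOf M (ψ : N → ℂ) =
      blockOf M (Cfsg.Agent.Lib.Helper16.conjIrr N g ψ : N → ℂ) := by
  rw [conjIrr_eq_irrMap, irrMap_image_blockOf]

theorem blockCoeff_conjIrr_image (g : G) (s : Set (IrrCharacter N)) (m : N)
    (hm : g * (m : G) = (m : G) * g) :
    blockCoeff (Cfsg.Agent.Lib.Helper16.conjIrr N g '' s) m = blockCoeff s m := by
  rw [conjIrr_eq_irrMap, blockCoeff_irrMap_image]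
  congr 1
  apply Subtype.ext
  show g * (m : G) * g⁻¹ = m
  rw [hm, mul_inv_cancel_right]

/-- Among the conjugates of `b` whose idempotents are units at an element `m` centralized by the
`p`-group `P`, one is `P`-stable. -/
theorem exists_stable_unit_block {p : ℕ} [Fact p.Prime] {M : Ideal AlgInt}
    (hpM : IsPModular p M) {b : Set (IrrCharacter N)} (hb : IsPBlock M b) (P : Subgroup G)
    (hP : IsPGroup p P) (m : N) (hm : (m : G) ∈ Subgroup.centralizer (P : Set G))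
    (hunit : ¬ MemLocalIdeal M (blockCoeff (orbitBlock N b) m)) :
    ∃ ψ ∈ orbitBlock N b,
      (∀ x ∈ P, ∀ θ ∈ blockOf M (ψ : N → ℂ),
        Cfsg.Agent.Lib.Helper16.conjIrr N x θ ∈ blockOf M (ψ : N → ℂ)) ∧
      ¬ MemLocalIdeal M (blockCoeff (blockOf M (ψ : N → ℂ)) m) := by
  classical
  have hM : M.IsPrime := isPrime_of_isPModular hpM
  haveI : Fintype (IrrCharacter N) := Fintype.ofFinite _
  haveI : Fintype (Set (IrrCharacter N)) := Fintype.ofFinite _
  by_contra hcon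
  push Not at hcon
  apply hunit
  set U := orbitBlock N b with hU
  have hUcl := orbitBlock_closed N hM hb
  rw [blockCoeff_closed_eq_sum hM U hUcl m]
  set T := (Finset.univ.filter (fun χ : IrrCharacter N => χ ∈ U)).image
      (fun χ : IrrCharacter N => blockOf M (χ : N → ℂ)) with hT
  have hTmem : ∀ s : Set (IrrCharacter N), s ∈ T ↔ ∃ ψ ∈ U, blockOf M (ψ : N → ℂ) = s := by
    intro s
    rw [hT, Finset.mem_image]
    constructor
    · rintro ⟨ψ, hψ, rfl⟩
      rw [Finset.mem_filter] at hψ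
      exact ⟨ψ, hψ.2, rfl⟩
    · rintro ⟨ψ, hψ, rfl⟩
      exact ⟨ψ, by rw [Finset.mem_filter]; exact ⟨Finset.mem_univ _, hψ⟩, rfl⟩
  have hsum : ∑ s ∈ T, blockCoeff s m =
      ∑ s : Set (IrrCharacter N), if s ∈ T then blockCoeff s m else 0 := by
    rw [Finset.sum_ite_mem, Finset.univ_inter]
  rw [hsum]
  letI := setAction N P
  have hfwd : ∀ (x : P) (s : Set (IrrCharacter N)), s ∈ T → x • s ∈ T := by
    intro x s hs
    obtain ⟨ψ, hψ, rfl⟩ := (hTmem s).mp hs
    rw [hTmem]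
    refine ⟨Cfsg.Agent.Lib.Helper16.conjIrr N ((x : G)⁻¹) ψ, ?_, ?_⟩
    · exact (conjIrr_mem_orbitBlock_iff N b _ ψ).mpr hψ
    · rw [setAction_smul, conjIrr_image_blockOf]
  have hcent : ∀ x : P, (x : G)⁻¹ * (m : G) = (m : G) * (x : G)⁻¹ := by
    intro x
    have h1 := (Subgroup.mem_centralizer_iff.mp hm) (x : G) x.2
    calc (x : G)⁻¹ * (m : G) = (x : G)⁻¹ * ((m : G) * (x : G)) * (x : G)⁻¹ := by group
      _ = (x : G)⁻¹ * ((x : G) * (m : G)) * (x : G)⁻¹ := by rw [h1]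
      _ = (m : G) * (x : G)⁻¹ := by group
  refine pgroup_sum_mem (Q := P) (X := Set (IrrCharacter N)) hP hpM
    (fun s => if s ∈ T then blockCoeff s m else 0) ?_ ?_ ?_
  · intro x s
    have hiff : x • s ∈ T ↔ s ∈ T := by
      constructor
      · intro h
        have := hfwd x⁻¹ _ h
        rwa [inv_smul_smul] at this
      · exact hfwd x s
    by_cases hs : s ∈ T
    · rw [if_pos hs, if_pos (hiff.mpr hs), setAction_smul,
        blockCoeff_conjIrr_image N _ s m (hcent x)]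
    · rw [if_neg hs, if_neg (fun h => hs (hiff.mp h))]
  · intro s
    by_cases hs : s ∈ T
    · rw [if_pos hs]
      obtain ⟨ψ, -, rfl⟩ := (hTmem s).mp hs
      exact memLocalRing_blockCoeff hpM ψ m
    · rw [if_neg hs]
      exact memLocalRing_zero hM
  · intro s hfix
    by_cases hs : s ∈ T
    · rw [if_pos hs]
      obtain ⟨ψ, hψ, rfl⟩ := (hTmem s).mp hs
      apply hcon ψ hψ
      intro x hx θ hθ
      have h1 : (⟨x, hx⟩ : P)⁻¹ • blockOf M (ψ : N → ℂ) = blockOf M (ψ : N → ℂ) := hfix _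
      rw [setAction_smul] at h1
      have h2 : (((⟨x, hx⟩ : P)⁻¹ : P) : G)⁻¹ = x := by
        rw [Subgroup.coe_inv, inv_inv]
      rw [h2] at h1
      rw [← h1]
      exact Set.mem_image_of_mem _ hθ
    · rw [if_neg hs]
      exact memLocalIdeal_zero hM

/-- Stability in the sense of `StabilizesBlock`. -/
theorem stabilizesBlock_of_conjIrr (P : Subgroup G) {c : Set (IrrCharacter N)}
    (hst : ∀ x ∈ P, ∀ θ ∈ c, Cfsg.Agent.Lib.Helper16.conjIrr N x θ ∈ c) {x : G} (hx : x ∈ P) :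
    StabilizesBlock N c x := by
  refine ⟨?_, ?_⟩
  · have : Subgroup.normalizer (N : Set G) = ⊤ := Subgroup.normalizer_eq_top N
    rw [this]
    exact Subgroup.mem_top x
  · intro χ hχ
    refine ⟨Cfsg.Agent.Lib.Helper16.conjIrr N x⁻¹ χ, hst x⁻¹ (P.inv_mem hx) χ hχ, ?_⟩
    intro k k' hk
    show conjFun N x⁻¹ (χ : N → ℂ) k' = (χ : N → ℂ) k
    rw [conjFun_apply]
    refine congrArg (χ : N → ℂ) (Subtype.ext ?_)
    show x⁻¹ * (k' : G) * x⁻¹⁻¹ = k
    rw [hk]
    group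

/-- **A stable covered block.** -/
theorem exists_stable_covered {p : ℕ} [Fact p.Prime] {M : Ideal AlgInt}
    (hpM : IsPModular p M) (χ₀ : IrrCharacter G) {P : Subgroup G}
    (hP : IsDefectGroup p M (blockOf M (χ₀ : G → ℂ)) P) :
    ∃ c : Set (IrrCharacter N), IsPBlock M c ∧ (∀ x ∈ P, StabilizesBlock N c x) ∧
      (∃ χ ∈ blockOf M (χ₀ : G → ℂ), ∃ θ ∈ c,
        classInner (fun n : N => (χ : G → ℂ) n) (θ : N → ℂ) ≠ 0) ∧
      IsDefectGroup p M c ((P ⊓ N).subgroupOf N) := by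
  classical
  have hM : M.IsPrime := isPrime_of_isPModular hpM
  set e := blockCoeff (blockOf M (χ₀ : G → ℂ)) with he
  have heS : ∀ g, MemLocalRing M (e g) := memLocalRing_blockCoeff hpM χ₀
  have hecl : IsClassFunction G e := blockCoeff_isClassFunction _
  have hPp : IsPGroup p P := isPGroup_of_isDefectGroup hP
  have hP' := hP
  obtain ⟨g', hg', P₁, hP₁⟩ := hP'
  have hPc : P ≤ Subgroup.centralizer ({g'} : Set G) := by
    rw [hP₁]
    exact Subgroup.map_subtype_le _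
  have hg'c : g' ∈ Subgroup.centralizer (P : Set G) := by
    rw [Subgroup.mem_centralizer_iff]
    intro r hr
    exact Subgroup.mem_centralizer_singleton_iff.mp (hPc hr)
  -- a covered block
  obtain ⟨ψ₀, hψ₀⟩ := exists_constituent N χ₀
  set b := blockOf M (ψ₀ : N → ℂ) with hb
  have hbB : IsPBlock M b := ⟨ψ₀, rfl⟩
  have hcov : ∃ χ ∈ blockOf M (χ₀ : G → ℂ), ∃ θ ∈ b,
      classInner (fun n : N => (χ : G → ℂ) n) (θ : N → ℂ) ≠ 0 :=
    ⟨χ₀, self_mem_blockOf hM χ₀, ψ₀, self_mem_blockOf hM ψ₀, hψ₀⟩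
  have hε : conv e (orbitIdem N b) = e := conv_orbitIdem_eq N hpM χ₀ hbB hcov
  have hne : ¬ MemLocalIdeal M (conv e (orbitIdem N b) g') := by
    rw [hε]
    exact hg'.2.1
  obtain ⟨x, -, hmc, -, hm⟩ := exists_of_conv_not_mem hpM P hPp
    (QS.of_isClassFunction P hecl heS)
    (QS.of_isClassFunction P (orbitIdem_isClassFunction N b) (memLocalRing_orbitIdem N hpM hbB))
    hg'c hne
  set m := x⁻¹ * g' with hmdef
  have hmN : m ∈ N := by
    by_contra hmN
    apply hm
    rw [orbitIdem_of_not_mem N b hmN]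
    exact memLocalIdeal_zero hM
  have hm' : ¬ MemLocalIdeal M (blockCoeff (orbitBlock N b) ⟨m, hmN⟩) := by
    rw [← orbitIdem_coe]
    exact hm
  obtain ⟨ψ, hψ, hst, hψm⟩ := exists_stable_unit_block N hpM hbB P hPp ⟨m, hmN⟩ hmc hm'
  set c := blockOf M (ψ : N → ℂ) with hc
  -- `B` covers `c`
  have hcovc : ∃ χ ∈ blockOf M (χ₀ : G → ℂ), ∃ θ ∈ c,
      classInner (fun n : N => (χ : G → ℂ) n) (θ : N → ℂ) ≠ 0 := by
    obtain ⟨g, hg⟩ := hψ
    refine ⟨χ₀, self_mem_blockOf hM χ₀, Cfsg.Agent.Lib.Helper16.conjIrr N g⁻¹ ψ₀, ?_, ?_⟩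
    · have h1 : SameBlock M (ψ₀ : N → ℂ) (conjFun N g (ψ : N → ℂ)) := hg
      have h2 := sameBlock_conjFun N hM g⁻¹ ψ₀.2 (conjFun_isIrrCharacter N g ψ.2) h1
      rw [conjFun_conjFun, mul_inv_cancel, conjFun_one] at h2
      exact sameBlock_symm h2
    · show classInner (fun n : N => (χ₀ : G → ℂ) n) (conjFun N g⁻¹ (ψ₀ : N → ℂ)) ≠ 0
      have h2 := classInner_conjFun N g⁻¹ (fun n : N => (χ₀ : G → ℂ) n) (ψ₀ : N → ℂ)
      rw [conjFun_restrict N g⁻¹ (isClassFunction_of_isCharacter χ₀.2)] at h2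
      rw [h2]
      exact hψ₀
  refine ⟨c, ⟨ψ, rfl⟩, fun x hx => stabilizesBlock_of_conjIrr N P hst hx, hcovc, ?_⟩
  -- the defect group
  obtain ⟨n₁, hn₁⟩ := exists_isDefectClass hpM ψ
  obtain P₂ : Sylow p (Subgroup.centralizer ({n₁} : Set N)) := default
  set Dc := (P₂ : Subgroup (Subgroup.centralizer ({n₁} : Set N))).map
      (Subgroup.centralizer ({n₁} : Set N)).subtype with hDc
  have hDcdef : IsDefectGroup p M c Dc := ⟨n₁, hn₁, P₂, rfl⟩
  have hdef := defLE_of_blockCoeff hpM ψ n₁ (hn₁.2.2 ψ (self_mem_blockOf hM ψ)) P₂ ⟨m, hmN⟩ hψm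
  set R' := (P ⊓ N).subgroupOf N with hR'
  have hR'p : IsPGroup p R' := (hPp.to_le inf_le_left).comap_subtype
  have hR'c : R' ≤ Subgroup.centralizer ({(⟨m, hmN⟩ : N)} : Set N) := by
    intro r hr
    rw [Subgroup.mem_centralizer_singleton_iff]
    have hr' : (r : G) ∈ P ⊓ N := hr
    have := (Subgroup.mem_centralizer_iff.mp hmc) (r : G) hr'.1
    apply Subtype.ext
    push_cast
    exact this
  obtain ⟨y, hy⟩ := hdef R' hR'p hR'c
  -- Knörr's theorem for `c`
  set Q := Dc.map N.subtype with hQ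
  have hQN : Q ≤ N := Subgroup.map_subtype_le _
  have hQsub : Q.subgroupOf N = Dc := Subgroup.comap_map_eq_self_of_injective N.subtype_injective Dc
  obtain ⟨P', hP'def, hP'N⟩ := knorr N hpM χ₀ ψ hcovc Q hQN (by rw [hQsub]; exact hDcdef)
  obtain ⟨t, ht⟩ := exists_conj_le_of_isDefectGroup hpM χ₀ hP hP'def
  have hteq : MulAut.conj t • P' = P :=
    eq_of_le_of_isDefectGroup hpM χ₀ (isDefectGroup_conj hP'def t) hP ht
  have hcard1 : Nat.card (P ⊓ N : Subgroup G) = Nat.card Dc := by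
    rw [← hteq]
    have : (MulAut.conj t • P') ⊓ N = MulAut.conj t • (P' ⊓ N) := by
      rw [Subgroup.smul_inf, Subgroup.Normal.conj_smul_eq_self t N]
    rw [this, card_conj_smul, hP'N, hQ, Subgroup.card_map_of_injective N.subtype_injective]
  have hcard2 : Nat.card R' = Nat.card (P ⊓ N : Subgroup G) :=
    Nat.card_congr (Subgroup.subgroupOfEquivOfLe (inf_le_right : P ⊓ N ≤ N)).toEquiv
  have heq : MulAut.conj y • R' = Dc := by
    apply Subgroup.eq_of_le_of_card_ge hy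
    rw [card_conj_smul, hcard2, hcard1]
  have hR'eq : R' = MulAut.conj y⁻¹ • Dc := by
    rw [← heq, map_inv, inv_smul_smul]
  rw [hR'eq]
  exact isDefectGroup_conj hDcdef y⁻¹

end Cfsg.Agent.Lib.Helper52.KnG
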