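import Cfsg.Agent.Lib.Helper52.KnG
import Cfsg.Agent.Lib.Helper74.Osima5

/-!
# Stabilizers of covered blocks in a `p`-power overgroup
-/

set_option autoImplicit false

universe u

namespace Cfsg.Agent.Lib.Helper52.KnH

open Cfsg MonoidAlgebra
open Cfsg.Agent.Lib.Helper77 Cfsg.Agent.Lib.Helper80 Cfsg.Agent.Lib.Helper81
open Cfsg.Agent.Lib.Helper16 Cfsg.Agent.Lib.Helper74 Cfsg.Agent.Lib.Helper75
open Cfsg.Agent.Lib.Helper1
open Cfsg.Agent.Lib.Helper52.KnA Cfsg.Agent.Lib.Helper52.KnB Cfsg.Agent.Lib.Helper52.KnC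
open Cfsg.Agent.Lib.Helper52.KnD Cfsg.Agent.Lib.Helper52.KnE Cfsg.Agent.Lib.Helper52.KnG
open scoped Pointwise ComplexConjugate

/-- A `p`-group acts on a finite set; `F` is invariant modulo the local ideal, with values in the
local ring and in the local ideal at the fixed points.  Then the sum of `F` lies in the local
ideal. -/
theorem pgroup_sum_mem' {Q X : Type*} [Group Q] [MulAction Q X] [Fintype X] {p : ℕ}
    [Fact p.Prime] (hQ : IsPGroup p Q) {M : Ideal AlgInt} (hpM : IsPModular p M) (F : X → ℂ)
    (hinv : ∀ (q : Q) (x : X), MemLocalIdeal M (F (q • x) - F x))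
    (hS : ∀ x, MemLocalRing M (F x))
    (hfix : ∀ x ∈ MulAction.fixedPoints Q X, MemLocalIdeal M (F x)) :
    MemLocalIdeal M (∑ x : X, F x) := by
  classical
  have hM : M.IsPrime := isPrime_of_isPModular hpM
  have := Fintype.ofFinite (MulAction.orbitRel.Quotient Q X)
  let e := MulAction.selfEquivSigmaOrbits Q X
  have he : ∀ x : X, ((e x).2 : X) = x := fun x => rfl
  have hfin : ∀ ω : MulAction.orbitRel.Quotient Q X,
      Fintype (MulAction.orbit Q (Quotient.out ω)) := fun ω => Fintype.ofFinite _
  rw [← Equiv.sum_comp e.symm, Fintype.sum_sigma]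
  refine memLocalIdeal_sum hM _ _ fun ω _ => ?_
  have hconst : ∀ y : MulAction.orbit Q (Quotient.out ω),
      MemLocalIdeal M (F (e.symm ⟨ω, y⟩) - F (Quotient.out ω)) := by
    intro y
    have hy : e.symm ⟨ω, y⟩ = (y : X) := by
      have := he (e.symm ⟨ω, y⟩)
      rw [Equiv.apply_symm_apply] at this
      exact this.symm
    rw [hy]
    obtain ⟨q, hq⟩ := MulAction.mem_orbit_iff.mp y.2
    rw [← hq]
    exact hinv q _
  have hsplit : ∑ y : MulAction.orbit Q (Quotient.out ω), F (e.symm ⟨ω, y⟩) =
      ∑ y : MulAction.orbit Q (Quotient.out ω), (F (e.symm ⟨ω, y⟩) - F (Quotient.out ω)) +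
        ∑ _y : MulAction.orbit Q (Quotient.out ω), F (Quotient.out ω) := by
    rw [← Finset.sum_add_distrib]
    refine Finset.sum_congr rfl fun y _ => ?_
    ring
  rw [hsplit]
  refine memLocalIdeal_add hM (memLocalIdeal_sum hM _ _ fun y _ => hconst y) ?_
  rw [Finset.sum_const, nsmul_eq_mul]
  by_cases hfx : Quotient.out ω ∈ MulAction.fixedPoints Q X
  · exact memLocalIdeal_mul_left hM (memLocalRing_natCast hM _) (hfix _ hfx)
  · refine memLocalIdeal_mul_right hM ?_ (hS _)
    rw [memLocalIdeal_natCast_iff hpM]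
    obtain ⟨k, hk⟩ := hQ.card_orbit (Quotient.out ω)
    rw [Finset.card_univ, ← Nat.card_eq_fintype_card, hk]
    cases k with
    | zero =>
      exfalso
      apply hfx
      rw [MulAction.mem_fixedPoints_iff_card_orbit_eq_one, ← Nat.card_eq_fintype_card, hk,
        pow_zero]
    | succ k => exact dvd_pow_self p (Nat.succ_ne_zero k)

variable {G : Type u} [Group G] [Fintype G]

/-- A subgroup whose Sylow `p`-subgroup lies in a normal subgroup of `p`-power index lies in that
normal subgroup. -/
theorem le_of_sylow_le {p : ℕ} [Fact p.Prime] (N : Subgroup G) [N.Normal]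
    (hidx : ∃ k : ℕ, N.index = p ^ k) (C : Subgroup G) (S : Sylow p C)
    (hS : (S : Subgroup C).map C.subtype ≤ N) : C ≤ N := by
  have hp : p.Prime := Fact.out
  obtain ⟨k, hk⟩ := hidx
  have h1 : N.relIndex C ∣ p ^ k := hk ▸ Subgroup.relIndex_dvd_index_of_normal N C
  have h2 : N.relIndex C ∣ ((S : Subgroup C).map C.subtype).relIndex C :=
    Subgroup.relIndex_dvd_of_le_left C hS
  have h3 : ((S : Subgroup C).map C.subtype).relIndex C = (S : Subgroup C).index := by
    unfold Subgroup.relIndex
    congr 1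
    exact Subgroup.comap_map_eq_self_of_injective C.subtype_injective _
  rw [h3] at h2
  have h4 : ¬ p ∣ (S : Subgroup C).index := S.not_dvd_index
  obtain ⟨j, -, hj⟩ := (Nat.dvd_prime_pow hp).mp h1
  rw [← Subgroup.relIndex_eq_one]
  cases j with
  | zero => rw [hj, pow_zero]
  | succ j =>
    exfalso
    apply h4
    rw [hj] at h2
    exact (dvd_pow_self p (Nat.succ_ne_zero j)).trans h2

variable (N : Subgroup G) [hN : N.Normal]

/-- The action of a subgroup on the conjugacy classes of `N`. -/
@[instance_reducible] def classAction (U : Subgroup G) : MulAction U (ConjClasses N) where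
  smul u K := ConjClasses.map ((MulAut.conjNormal (u : G) : N ≃* N) : N →* N) K
  one_smul K := by
    obtain ⟨n, rfl⟩ := ConjClasses.exists_rep K
    show ConjClasses.mk ((MulAut.conjNormal ((1 : U) : G) : N ≃* N) n) = ConjClasses.mk n
    rw [Subgroup.coe_one, map_one]
    rfl
  mul_smul u v K := by
    obtain ⟨n, rfl⟩ := ConjClasses.exists_rep K
    show ConjClasses.mk ((MulAut.conjNormal ((u * v : U) : G) : N ≃* N) n) =
      ConjClasses.mk ((MulAut.conjNormal (u : G) : N ≃* N) ((MulAut.conjNormal (v : G) : N ≃* N) n))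
    rw [Subgroup.coe_mul, map_mul]
    rfl

theorem classAction_smul_mk (U : Subgroup G) (u : U) (n : N) :
    (letI := classAction N U; u • (ConjClasses.mk n : ConjClasses N)) =
      ConjClasses.mk ((MulAut.conjNormal (u : G) : N ≃* N) n) := rfl

/-- The stabilizer condition is closed under powers. -/
theorem conjIrr_pow_mem {b : Set (IrrCharacter N)} {x : G}
    (hx : ∀ θ ∈ b, Cfsg.Agent.Lib.Helper16.conjIrr N x θ ∈ b) (j : ℕ) :
    ∀ θ ∈ b, Cfsg.Agent.Lib.Helper16.conjIrr N (x ^ j) θ ∈ b := by
  induction j with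
  | zero =>
    intro θ hθ
    rw [pow_zero, Cfsg.Agent.Lib.Helper16.conjIrr_one]
    exact hθ
  | succ j ih =>
    intro θ hθ
    rw [pow_succ, ← Cfsg.Agent.Lib.Helper16.conjIrr_conjIrr]
    exact hx _ (ih θ hθ)

variable [Fintype N]

/-- **Stabilizers.**  Let `N` be a normal subgroup of `p`-power index, `C` a block of `G` covering
the block `b` of `N`, with a defect group contained in `N`.  Then every element stabilizing `b`
lies in `N`. -/
theorem mem_of_stabilizes {p : ℕ} [Fact p.Prime] {M : Ideal AlgInt}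
    (hpM : IsPModular p M) (hidx : ∃ k : ℕ, N.index = p ^ k)
    (χ₀ : IrrCharacter G) (θ₀ : IrrCharacter N)
    (hcov : ∃ χ ∈ blockOf M (χ₀ : G → ℂ), ∃ θ ∈ blockOf M (θ₀ : N → ℂ),
      classInner (fun n : N => (χ : G → ℂ) n) (θ : N → ℂ) ≠ 0)
    {Q : Subgroup G} (hQ : IsDefectGroup p M (blockOf M (χ₀ : G → ℂ)) Q) (hQN : Q ≤ N)
    (x : G) (hx : ∀ θ ∈ blockOf M (θ₀ : N → ℂ),
      Cfsg.Agent.Lib.Helper16.conjIrr N x θ ∈ blockOf M (θ₀ : N → ℂ)) : x ∈ N := by
  classical
  have hM : M.IsPrime := isPrime_of_isPModular hpM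
  have hp : p.Prime := Fact.out
  set b := blockOf M (θ₀ : N → ℂ) with hb
  obtain ⟨y, hy, P₁, hP₁⟩ := hQ
  -- `y ∈ N`
  have hyN : y ∈ N := by
    have h1 : ¬ p ∣ orderOf y := by
      intro hdiv
      apply hy.2.1
      rw [blockCoeff_blockOf_eq_zero hpM χ₀ y hdiv]
      exact memLocalIdeal_zero hM
    obtain ⟨k, hk⟩ := hidx
    rw [← QuotientGroup.eq_one_iff (N := N) y, ← orderOf_eq_one_iff]
    have h2 : orderOf (QuotientGroup.mk y : G ⧸ N) ∣ orderOf y :=
      orderOf_map_dvd (QuotientGroup.mk' N) y
    have h3 : orderOf (QuotientGroup.mk y : G ⧸ N) ∣ p ^ k := by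
      have : Nat.card (G ⧸ N) = p ^ k := hk
      rw [← this]
      exact orderOf_dvd_natCard _
    obtain ⟨j, -, hj⟩ := (Nat.dvd_prime_pow hp).mp h3
    cases j with
    | zero => rw [hj, pow_zero]
    | succ j =>
      exfalso
      apply h1
      rw [hj] at h2
      exact (dvd_pow_self p (Nat.succ_ne_zero j)).trans h2
  -- centralizers of conjugates of `y` lie in `N`
  have hCy : Subgroup.centralizer ({y} : Set G) ≤ N :=
    le_of_sylow_le N hidx _ P₁ (hP₁ ▸ hQN)
  have hCn : ∀ n : G, IsConj y n → Subgroup.centralizer ({n} : Set G) ≤ N := by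
    intro n hn z hz
    obtain ⟨g, rfl⟩ := isConj_iff.mp hn
    have h1 := mem_centralizer_singleton_conj g⁻¹ hz
    have e2 : g⁻¹ * (g * y * g⁻¹) * g⁻¹⁻¹ = y := by group
    rw [e2] at h1
    have h2 := hCy h1
    have h3 := hN.conj_mem _ h2 g
    have e3 : g * (g⁻¹ * z * g⁻¹⁻¹) * g⁻¹ = z := by group
    rwa [e3] at h3
  -- the central character of a member of `C` at `y`
  obtain ⟨ζ, hζ, θ, hθ, hne⟩ := hcov
  have hunit : ¬ MemLocalIdeal M (centralChar (ζ : G → ℂ) y) := hy.2.2 ζ hζ
  have hθcl := isClassFunction_of_isCharacter θ.2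
  have hacl : IsClassFunction N (fun n : N => classInd y (n : G)) := by
    intro n k
    show classInd y ((k * n * k⁻¹ : N) : G) = classInd y (n : G)
    push_cast
    exact classInd_isClassFunction y _ _
  rw [← omega_classInd (isClassFunction_of_isCharacter ζ.2),
    omega_eq_of_classInner_ne_zero N ζ.2 θ.2 hne (classInd_isClassFunction y) (by
      intro g hg
      unfold classInd
      rw [if_neg]
      intro hc
      apply hg
      obtain ⟨c, rfl⟩ := isConj_iff.mp hc
      exact hN.conj_mem _ hyN c),
    omega_eq_sum_conjClasses hθcl hacl] at hunit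
  -- the acting `p`-group
  obtain U' : Sylow p (Subgroup.zpowers x) := default
  set U := (U' : Subgroup (Subgroup.zpowers x)).map (Subgroup.zpowers x).subtype with hU
  have hUp : IsPGroup p U := U'.2.map _
  have hUx : ∀ u ∈ U, ∀ θ ∈ b, Cfsg.Agent.Lib.Helper16.conjIrr N u θ ∈ b := by
    intro u hu
    have h1 : u ∈ Subgroup.zpowers x := Subgroup.map_subtype_le _ hu
    rw [← mem_powers_iff_mem_zpowers] at h1
    obtain ⟨j, rfl⟩ := h1
    exact conjIrr_pow_mem N hx j
  suffices hUN : U ≤ N by
    have := le_of_sylow_le N hidx _ U' hUN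
    exact this (Subgroup.mem_zpowers x)
  let _ := classAction N U
  by_contra hUN
  apply hunit
  set F : ConjClasses N → ℂ := fun K =>
    classInd y ((Quotient.out K : N) : G) * centralChar (θ : N → ℂ) (Quotient.out K) with hF
  have h1 : ∀ (u : U) (K : ConjClasses N), MemLocalIdeal M (F (u • K) - F K) := by
    intro u K
    obtain ⟨n, rfl⟩ := ConjClasses.exists_rep K
    rw [classAction_smul_mk]
    set n' : N := (MulAut.conjNormal (u : G) : N ≃* N) n with hn'
    have hc1 : IsConj (Quotient.out (ConjClasses.mk n')) n' := by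
      rw [← ConjClasses.mk_eq_mk_iff_isConj]
      exact Quotient.out_eq _
    have hc2 : IsConj (Quotient.out (ConjClasses.mk n)) n := by
      rw [← ConjClasses.mk_eq_mk_iff_isConj]
      exact Quotient.out_eq _
    have e1 : classInd y ((Quotient.out (ConjClasses.mk n') : N) : G) =
        classInd y ((Quotient.out (ConjClasses.mk n) : N) : G) := by
      rw [isClassFunction_of_isConj hacl hc1, isClassFunction_of_isConj hacl hc2]
      show classInd y ((u : G) * (n : G) * (u : G)⁻¹) = classInd y (n : G)
      exact classInd_isClassFunction y _ _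
    have hcc : IsClassFunction N (centralChar (θ : N → ℂ)) := fun g h =>
      centralChar_conj hθcl g h
    have e2 : centralChar (θ : N → ℂ) (Quotient.out (ConjClasses.mk n')) =
        centralChar (conjFun N (u : G) (θ : N → ℂ)) (Quotient.out (ConjClasses.mk n)) := by
      rw [isClassFunction_of_isConj hcc hc1]
      have hcc' : IsClassFunction N (centralChar (conjFun N (u : G) (θ : N → ℂ))) := fun g h =>
        centralChar_conj (conjFun_isClassFunction N _ hθcl) g h
      rw [isClassFunction_of_isConj hcc' hc2, conjFun_eq_comp, centralChar_comp_mulEquiv]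
    simp only [hF]
    rw [e1, e2, ← mul_sub]
    refine memLocalIdeal_mul_left hM ?_ ?_
    · unfold classInd
      split_ifs
      · exact memLocalRing_one hM
      · exact memLocalRing_zero hM
    · have h1 : SameBlock M (θ₀ : N → ℂ) (conjFun N (u : G) (θ : N → ℂ)) := hUx u u.2 θ hθ
      have h2 : SameBlock M (conjFun N (u : G) (θ : N → ℂ)) (θ : N → ℂ) :=
        sameBlock_trans hM (sameBlock_symm h1) hθ
      exact h2 _
  have h2 : ∀ K : ConjClasses N, MemLocalRing M (F K) := by
    intro K
    simp only [hF]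
    refine memLocalRing_mul hM ?_ (memLocalRing_centralChar hM θ.2 _)
    unfold classInd
    split_ifs
    · exact memLocalRing_one hM
    · exact memLocalRing_zero hM
  have h3 : ∀ K ∈ MulAction.fixedPoints U (ConjClasses N), MemLocalIdeal M (F K) := by
    intro K hK
    by_cases hconj : IsConj y ((Quotient.out K : N) : G)
    · exfalso
      apply hUN
      intro u hu
      have hfix : (⟨u, hu⟩ : U) • K = K := hK _
      set n : N := Quotient.out K with hn
      have hKn : K = ConjClasses.mk n := (Quotient.out_eq K).symm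
      rw [hKn, classAction_smul_mk, ConjClasses.mk_eq_mk_iff_isConj, isConj_iff] at hfix
      obtain ⟨m, hm⟩ := hfix
      have hm' : (m : G) * (u * (n : G) * u⁻¹) * (m : G)⁻¹ = (n : G) := by
        have := congrArg Subtype.val hm
        simpa [MulAut.conjNormal_apply] using this
      have hz : (m : G) * u ∈ Subgroup.centralizer ({(n : G)} : Set G) := by
        rw [Subgroup.mem_centralizer_singleton_iff]
        calc (m : G) * u * (n : G) = ((m : G) * (u * (n : G) * u⁻¹) * (m : G)⁻¹) * ((m : G) * u) := by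
              group
          _ = (n : G) * ((m : G) * u) := by rw [hm']
      have h3 := hCn (n : G) hconj hz
      have h4 := N.mul_mem (N.inv_mem m.2) h3
      rwa [inv_mul_cancel_left] at h4
    · have : classInd y ((Quotient.out K : N) : G) = 0 := by
        unfold classInd
        rw [if_neg hconj]
      simp only [hF]
      rw [this, zero_mul]
      exact memLocalIdeal_zero hM
  have key : ∀ inst : Fintype (ConjClasses N),
      MemLocalIdeal M (@Finset.sum _ _ _ (@Finset.univ _ inst) F) := by
    intro inst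
    exact @pgroup_sum_mem' U (ConjClasses N) _ (classAction N U) inst p _ hUp M hpM F h1 h2 h3
  exact key _

end Cfsg.Agent.Lib.Helper52.KnH
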