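import Cfsg.Agent.Lib.Helper52.KnH

/-!
# Stabilizers of covered blocks: the relative version
-/

set_option autoImplicit false

universe u

namespace Cfsg.Agent.Lib.Helper52.KnI

open Cfsg MonoidAlgebra
open Cfsg.Agent.Lib.Helper77 Cfsg.Agent.Lib.Helper80 Cfsg.Agent.Lib.Helper81
open Cfsg.Agent.Lib.Helper16 Cfsg.Agent.Lib.Helper74 Cfsg.Agent.Lib.Helper75
open Cfsg.Agent.Lib.Helper1
open Cfsg.Agent.Lib.Helper52.KnE Cfsg.Agent.Lib.Helper52.KnH
open scoped Pointwise ComplexConjugate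

variable {G : Type u} [Group G] [Fintype G]

/-- A constituent through an intermediate subgroup. -/
theorem exists_intermediate_constituent (N L : Subgroup G) [Fintype N] [Fintype L] (hNL : N ≤ L)
    (χ : IrrCharacter G) (θ : IrrCharacter N)
    (hne : classInner (fun n : N => (χ : G → ℂ) n) (θ : N → ℂ) ≠ 0) :
    ∃ ζ : IrrCharacter L, classInner (fun t : L => (χ : G → ℂ) t) (ζ : L → ℂ) ≠ 0 ∧
      classInner (fun n : N => (ζ : L → ℂ) ⟨(n : G), hNL n.2⟩) (θ : N → ℂ) ≠ 0 := by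
  classical
  have := Fintype.ofFinite (IrrCharacter L)
  have hχc := isClassFunction_of_isCharacter χ.2
  have hcl : IsClassFunction L (fun t : L => (χ : G → ℂ) t) := by
    intro h k
    show (χ : G → ℂ) ((k * h * k⁻¹ : L) : G) = (χ : G → ℂ) h
    push_cast
    exact hχc _ _
  have hexp := Cfsg.Agent.Lib.Helper3.classFunction_eq_sum hcl
  have hres : (fun n : N => (χ : G → ℂ) n) = ∑ ψ' : IrrCharacter L,
      classInner (fun t : L => (χ : G → ℂ) t) (ψ' : L → ℂ) •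
        (fun n : N => (ψ' : L → ℂ) ⟨(n : G), hNL n.2⟩) := by
    funext n
    have := congrFun hexp ⟨(n : G), hNL n.2⟩
    simp only [Finset.sum_apply, Pi.smul_apply] at this ⊢
    exact this
  rw [hres, Cfsg.Agent.Lib.Helper3.classInner_sum_left] at hne
  obtain ⟨ψ', -, hψ'⟩ := Finset.exists_ne_zero_of_sum_ne_zero hne
  rw [Cfsg.Agent.Lib.Helper3.classInner_smul_left] at hψ'
  exact ⟨ψ', left_ne_zero_of_mul hψ', right_ne_zero_of_mul hψ'⟩

/-- **The stabilizer meets a `p`-power overgroup in `N`.** -/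
theorem mem_of_stabilizesBlock {p : ℕ} [Fact p.Prime] {M : Ideal AlgInt}
    (hpM : IsPModular p M) (N L : Subgroup G) [hN : N.Normal] [hL : L.Normal] [Fintype N]
    (hNL : N ≤ L) (hLN : ∃ k : ℕ, (N.subgroupOf L).index = p ^ k)
    (χ₀ : IrrCharacter G) (θ₀ : IrrCharacter N)
    (hcov : ∃ χ ∈ blockOf M (χ₀ : G → ℂ), ∃ θ ∈ blockOf M (θ₀ : N → ℂ),
      classInner (fun n : N => (χ : G → ℂ) n) (θ : N → ℂ) ≠ 0)
    (hD : ∃ D : Subgroup G, IsDefectGroup p M (blockOf M (χ₀ : G → ℂ)) D ∧ D ≤ N)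
    (x : G) (hxL : x ∈ L) (hx : StabilizesBlock N (blockOf M (θ₀ : N → ℂ)) x) : x ∈ N := by
  classical
  have hM : M.IsPrime := isPrime_of_isPModular hpM
  have : Fintype L := Fintype.ofFinite L
  have hN'n : (N.subgroupOf L).Normal := inferInstance
  have : Fintype (N.subgroupOf L) := Fintype.ofFinite _
  set e : N.subgroupOf L ≃* N := Subgroup.subgroupOfEquivOfLe hNL with he
  have hecoe : ∀ a : N.subgroupOf L, ((e a : N) : G) = ((a : L) : G) := fun a => rfl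
  obtain ⟨χ, hχ, θ₁, hθ₁, hne⟩ := hcov
  obtain ⟨ζ, hm, hr⟩ := exists_intermediate_constituent N L hNL χ θ₁ hne
  -- defect groups
  obtain ⟨Q', hQ'⟩ := exists_isDefectGroup hpM ζ
  set Q := Q'.map L.subtype with hQ
  have hQL : Q ≤ L := Subgroup.map_subtype_le _
  have hQsub : Q.subgroupOf L = Q' :=
    Subgroup.comap_map_eq_self_of_injective L.subtype_injective Q'
  obtain ⟨P, hPdef, hPL⟩ := knorr L hpM χ₀ ζ ⟨χ, hχ, ζ, self_mem_blockOf hM ζ, hm⟩ Q hQL
    (by rw [hQsub]; exact hQ')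
  obtain ⟨D, hDdef, hDN⟩ := hD
  obtain ⟨t, ht⟩ := exists_conj_le_of_isDefectGroup hpM χ₀ hPdef hDdef
  have hteq : MulAut.conj t • D = P :=
    eq_of_le_of_isDefectGroup hpM χ₀ (isDefectGroup_conj hDdef t) hPdef ht
  have hPN : P ≤ N := by
    rw [← hteq, ← Subgroup.Normal.conj_smul_eq_self t N]
    exact Subgroup.pointwise_smul_le_pointwise_smul_iff.mpr hDN
  have hQN : Q ≤ N := by
    rw [← hPL]
    exact inf_le_left.trans hPN
  have hQ'N : Q' ≤ N.subgroupOf L := by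
    intro q hq
    rw [Subgroup.mem_subgroupOf]
    exact hQN (Subgroup.mem_map_of_mem L.subtype hq)
  -- covering inside `L`
  have hcov' : ∃ χ' ∈ blockOf M (ζ : L → ℂ), ∃ θ' ∈ blockOf M (irrMap e θ₀ : N.subgroupOf L → ℂ),
      classInner (fun n : N.subgroupOf L => (χ' : L → ℂ) n) (θ' : N.subgroupOf L → ℂ) ≠ 0 := by
    refine ⟨ζ, self_mem_blockOf hM ζ, irrMap e θ₁, ?_, ?_⟩
    · rw [← irrMap_image_blockOf]
      exact ⟨θ₁, hθ₁, rfl⟩
    · have h1 := classInner_comp_mulEquiv e (fun n : N => (ζ : L → ℂ) ⟨(n : G), hNL n.2⟩)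
        (θ₁ : N → ℂ)
      rw [← h1] at hr
      exact hr
  -- the stabilizing element
  have hx' : ∀ θ' ∈ blockOf M (irrMap e θ₀ : N.subgroupOf L → ℂ),
      Cfsg.Agent.Lib.Helper16.conjIrr (N.subgroupOf L) (⟨x⁻¹, L.inv_mem hxL⟩ : L) θ' ∈
        blockOf M (irrMap e θ₀ : N.subgroupOf L → ℂ) := by
    rw [← irrMap_image_blockOf]
    rintro θ' ⟨θ, hθ, rfl⟩
    obtain ⟨χ', hχ', hconj⟩ := hx.2 θ hθ
    refine ⟨χ', hχ', ?_⟩
    apply Subtype.ext
    funext n'
    show (χ' : N → ℂ) (e n') =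
      conjFun (N.subgroupOf L) (⟨x⁻¹, L.inv_mem hxL⟩ : L) (irrMap e θ : N.subgroupOf L → ℂ) n'
    rw [conjFun_apply, irrMap_apply]
    refine hconj _ _ ?_
    rw [hecoe, hecoe]
    push_cast
    group
  have hmem := mem_of_stabilizes (N.subgroupOf L) hpM hLN ζ (irrMap e θ₀) hcov' hQ' hQ'N
    (⟨x⁻¹, L.inv_mem hxL⟩ : L) hx'
  rw [Subgroup.mem_subgroupOf] at hmem
  have := N.inv_mem hmem
  simpa using this

end Cfsg.Agent.Lib.Helper52.KnI
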