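import Mathlib

/-!
# Lagrange reduction of a positive definite integral lattice of rank two (helper52)

An abelian group `L` with a symmetric, biadditive, positive definite integer-valued form `q`
in which every Gram determinant of three vectors vanishes (expressed by `hgram`) and which is not
"of rank one" (`hex`) has a reduced basis `φ₁, φ₂`:
`0 ≤ 2 q(φ₁,φ₂) ≤ q(φ₁,φ₁) ≤ q(φ₂,φ₂)` and every element is an integral combination of
`φ₁, φ₂`.
-/

set_option autoImplicit false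

namespace Cfsg.Agent.Lib.Helper52.LtA

theorem exists_round (B Δ : ℤ) (hΔ : 0 < Δ) : ∃ n : ℤ, 2 * |B - n * Δ| ≤ Δ := by
  refine ⟨(2 * B + Δ) / (2 * Δ), ?_⟩
  have h1 := Int.emod_add_mul_ediv (2 * B + Δ) (2 * Δ)
  have h2 := Int.emod_nonneg (2 * B + Δ) (by omega : (2 * Δ) ≠ 0)
  have h3 := Int.emod_lt_of_pos (2 * B + Δ) (by omega : 0 < 2 * Δ)
  set n := (2 * B + Δ) / (2 * Δ) with hn
  set r := (2 * B + Δ) % (2 * Δ) with hr
  have h4 : 2 * (B - n * Δ) = r - Δ := by linarith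
  rcases abs_cases (B - n * Δ) with ⟨h, _⟩ | ⟨h, _⟩ <;> rw [h] <;> linarith

section
variable {L : Type*} [AddCommGroup L] (q : L → L → ℤ)
  (hadd : ∀ f g h, q (f + g) h = q f h + q g h)
  (hsymm : ∀ f g, q f g = q g f)

include hadd in
theorem q_zero_left (h : L) : q 0 h = 0 := by
  have := hadd 0 0 h
  rw [add_zero] at this
  linarith

include hadd in
theorem q_neg_left (f h : L) : q (-f) h = - q f h := by
  have := hadd f (-f) h
  rw [add_neg_cancel, q_zero_left q hadd] at this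
  linarith

include hadd in
theorem q_sub_left (f g h : L) : q (f - g) h = q f h - q g h := by
  rw [sub_eq_add_neg, hadd, q_neg_left q hadd]
  ring

include hadd in
theorem q_zsmul_left (n : ℤ) (f h : L) : q (n • f) h = n * q f h := by
  let φ : L →+ ℤ := AddMonoidHom.mk' (fun f => q f h) (fun a b => hadd a b h)
  have := map_zsmul φ n f
  simpa [φ] using this

include hadd hsymm in
theorem q_add_right (f g h : L) : q f (g + h) = q f g + q f h := by
  rw [hsymm f (g + h), hadd, hsymm g f, hsymm h f]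

include hadd hsymm in
theorem q_sub_right (f g h : L) : q f (g - h) = q f g - q f h := by
  rw [hsymm f (g - h), q_sub_left q hadd, hsymm g f, hsymm h f]

include hadd hsymm in
theorem q_neg_right (f h : L) : q f (-h) = - q f h := by
  rw [hsymm f (-h), q_neg_left q hadd, hsymm h f]

include hadd hsymm in
theorem q_zsmul_right (n : ℤ) (f h : L) : q f (n • h) = n * q f h := by
  rw [hsymm f (n • h), q_zsmul_left q hadd, hsymm h f]

end

set_option maxHeartbeats 1600000 in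
/-- **Lagrange reduction.** -/
theorem exists_reduced_basis {L : Type*} [AddCommGroup L] (q : L → L → ℤ)
    (hadd : ∀ f g h, q (f + g) h = q f h + q g h)
    (hsymm : ∀ f g, q f g = q g f)
    (hpos : ∀ f, f ≠ 0 → 0 < q f f)
    (hne : ∃ f : L, f ≠ 0)
    (hex : ∀ f : L, f ≠ 0 → ∃ g : L, ∀ m n : ℤ, m ≠ 0 → m • g ≠ n • f)
    (hgram : ∀ f₁ f₂ g : L, q f₁ f₁ * q f₂ f₂ - q f₁ f₂ ^ 2 ≠ 0 →
      q g g * (q f₁ f₁ * q f₂ f₂ - q f₁ f₂ ^ 2) =
        q f₂ f₂ * q g f₁ ^ 2 - 2 * q f₁ f₂ * q g f₁ * q g f₂ + q f₁ f₁ * q g f₂ ^ 2) :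
    ∃ φ₁ φ₂ : L, 0 ≤ 2 * q φ₁ φ₂ ∧ 2 * q φ₁ φ₂ ≤ q φ₁ φ₁ ∧ q φ₁ φ₁ ≤ q φ₂ φ₂ ∧ 0 < q φ₁ φ₁ ∧
      ∀ g : L, ∃ m n : ℤ, g = m • φ₁ + n • φ₂ := by
  classical
  have hzl := q_zero_left q hadd
  have hnl := q_neg_left q hadd
  have hsl := q_sub_left q hadd
  have hzsl := q_zsmul_left q hadd
  have har := q_add_right q hadd hsymm
  have hsr := q_sub_right q hadd hsymm
  have hnr := q_neg_right q hadd hsymm
  have hzsr := q_zsmul_right q hadd hsymm
  have hzr : ∀ f, q f 0 = 0 := fun f => by rw [hsymm, hzl]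
  have hdef : ∀ f, q f f = 0 → f = 0 := by
    intro f hf
    by_contra h
    have := hpos f h
    omega
  have hnonneg : ∀ f, 0 ≤ q f f := by
    intro f
    by_cases h : f = 0
    · rw [h, hzl]
    · exact (hpos f h).le
  -- the minimal vector
  have hS1 : ∃ n : ℕ, ∃ f : L, f ≠ 0 ∧ (q f f).toNat = n := by
    obtain ⟨f, hf⟩ := hne
    exact ⟨_, f, hf, rfl⟩
  obtain ⟨φ₁, hφ₁0, hφ₁n⟩ := Nat.find_spec hS1
  have hmin1 : ∀ f : L, f ≠ 0 → q φ₁ φ₁ ≤ q f f := by
    intro f hf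
    have h1 := Nat.find_min' hS1 ⟨f, hf, rfl⟩
    rw [← hφ₁n] at h1
    have h2 := hpos f hf
    have h3 := hpos φ₁ hφ₁0
    omega
  set α := q φ₁ φ₁ with hα
  have hαpos : 0 < α := hpos φ₁ hφ₁0
  -- the Gram determinant against φ₁
  set D : L → ℤ := fun g => α * q g g - q g φ₁ ^ 2 with hD
  have hDnonneg : ∀ g, 0 ≤ D g := by
    intro g
    have h1 := hnonneg (α • g - (q g φ₁) • φ₁)
    have h2 : q (α • g - (q g φ₁) • φ₁) (α • g - (q g φ₁) • φ₁) = α * D g := by
      simp only [hsl, hsr, hzsl, hzsr, hD]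
      rw [hsymm φ₁ g, ← hα]
      ring
    rw [h2] at h1
    exact nonneg_of_mul_nonneg_right h1 hαpos
  have hDzero : ∀ g, D g = 0 → α • g = (q g φ₁) • φ₁ := by
    intro g hg
    have h2 : q (α • g - (q g φ₁) • φ₁) (α • g - (q g φ₁) • φ₁) = α * D g := by
      simp only [hsl, hsr, hzsl, hzsr, hD]
      rw [hsymm φ₁ g, ← hα]
      ring
    rw [hg, mul_zero] at h2
    exact sub_eq_zero.mp (hdef _ h2)
  have hS2 : ∃ n : ℕ, ∃ g : L, 0 < D g ∧ (D g).toNat = n := by
    obtain ⟨g, hg⟩ := hex φ₁ hφ₁0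
    refine ⟨_, g, ?_, rfl⟩
    rcases (hDnonneg g).lt_or_eq with h | h
    · exact h
    · exfalso
      exact hg α (q g φ₁) hαpos.ne' (hDzero g h.symm)
  obtain ⟨ψ, hψpos, hψn⟩ := Nat.find_spec hS2
  have hmin2 : ∀ g : L, 0 < D g → D ψ ≤ D g := by
    intro g hg
    have h1 := Nat.find_min' hS2 ⟨g, hg, rfl⟩
    rw [← hψn] at h1
    omega
  set β := q φ₁ ψ with hβ
  set γ := q ψ ψ with hγ
  set Δ := D ψ with hΔ
  have hΔeq : Δ = α * γ - β ^ 2 := by
    rw [hΔ, hD]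
    simp only
    rw [hsymm ψ φ₁]
  have hΔne : q φ₁ φ₁ * q ψ ψ - q φ₁ ψ ^ 2 ≠ 0 := by
    rw [← hα, ← hβ, ← hγ, ← hΔeq]
    exact hψpos.ne'
  -- generation
  have hgen : ∀ g : L, ∃ m n : ℤ, g = m • φ₁ + n • ψ := by
    intro g
    obtain ⟨n, hn⟩ := exists_round (α * q g ψ - β * q g φ₁) Δ hψpos
    set g' := g - n • ψ with hg'
    have hs' : q g' φ₁ = q g φ₁ - n * β := by
      rw [hg', hsl, hzsl, hsymm ψ φ₁]
    have ht' : q g' ψ = q g ψ - n * γ := by
      rw [hg', hsl, hzsl]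
    have hB' : α * q g' ψ - β * q g' φ₁ = (α * q g ψ - β * q g φ₁) - n * Δ := by
      rw [hs', ht', hΔeq]
      ring
    have hG := hgram φ₁ ψ g' hΔne
    rw [← hα, ← hβ, ← hγ, ← hΔeq] at hG
    have hDg' : Δ * D g' = (α * q g' ψ - β * q g' φ₁) ^ 2 := by
      have : D g' = α * q g' g' - q g' φ₁ ^ 2 := rfl
      rw [this, hΔeq]
      have hG' : q g' g' * (α * γ - β ^ 2) =
          γ * q g' φ₁ ^ 2 - 2 * β * q g' φ₁ * q g' ψ + α * q g' ψ ^ 2 := by
        rw [← hΔeq]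
        exact hG
      linear_combination α * hG'
    rw [hB'] at hDg'
    set B' := (α * q g ψ - β * q g φ₁) - n * Δ with hB'def
    have hB'small : 4 * B' ^ 2 ≤ Δ ^ 2 := by
      have h1 : 2 * |B'| ≤ Δ := hn
      have h2 : 0 ≤ |B'| := abs_nonneg _
      have h3 : B' ^ 2 = |B'| ^ 2 := (sq_abs B').symm
      rw [h3]
      nlinarith
    have hDg'0 : D g' = 0 := by
      by_contra hne0
      have hpos' : 0 < D g' := lt_of_le_of_ne (hDnonneg g') (Ne.symm hne0)
      have h1 := hmin2 g' hpos'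
      have h3 : Δ * Δ ≤ Δ * D g' := mul_le_mul_of_nonneg_left h1 hψpos.le
      have h4 : 0 < Δ * Δ := mul_pos hψpos hψpos
      rw [hDg'] at h3
      rw [sq Δ] at hB'small
      linarith
    have hB'0 : B' = 0 := by
      rw [hDg'0, mul_zero] at hDg'
      exact pow_eq_zero_iff (two_ne_zero) |>.mp hDg'.symm
    -- now `g'` is proportional to `φ₁`
    obtain ⟨m, hm⟩ := exists_round (q g' φ₁) α hαpos
    set g'' := g' - m • φ₁ with hg''
    have hs'' : q g'' φ₁ = q g' φ₁ - m * α := by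
      rw [hg'', hsl, hzsl]
    have hq'' : α * q g'' g'' = (q g' φ₁ - m * α) ^ 2 := by
      have h1 : q g'' g'' = q g' g' - 2 * m * q g' φ₁ + m ^ 2 * α := by
        rw [hg'']
        simp only [hsl, hsr, hzsl, hzsr]
        rw [hsymm φ₁ g', ← hα]
        ring
      have h2 : α * q g' g' = q g' φ₁ ^ 2 := by
        have : D g' = α * q g' g' - q g' φ₁ ^ 2 := rfl
        rw [this] at hDg'0
        linarith
      rw [h1]
      linear_combination h2
    have hg''0 : g'' = 0 := by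
      by_contra hne0
      have h1 := hmin1 g'' hne0
      have h2 : 4 * (q g' φ₁ - m * α) ^ 2 ≤ α ^ 2 := by
        have h1 : 2 * |q g' φ₁ - m * α| ≤ α := hm
        have h2 : 0 ≤ |q g' φ₁ - m * α| := abs_nonneg _
        have h3 : (q g' φ₁ - m * α) ^ 2 = |q g' φ₁ - m * α| ^ 2 := (sq_abs _).symm
        rw [h3]
        nlinarith
      have h3 : α * α ≤ α * q g'' g'' := mul_le_mul_of_nonneg_left h1 hαpos.le
      have h4 : 0 < α * α := mul_pos hαpos hαpos
      rw [hq''] at h3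
      rw [sq α] at h2
      linarith
    refine ⟨m, n, ?_⟩
    have h1 : g' = m • φ₁ := sub_eq_zero.mp hg''0
    have h2 : g = g' + n • ψ := by rw [hg']; abel
    rw [h2, h1]
  -- reduction of `β`
  obtain ⟨c, hc⟩ := exists_round β α hαpos
  set ψ' := ψ - c • φ₁ with hψ'
  have hβ' : q φ₁ ψ' = β - c * α := by
    rw [hψ', hsr, hzsr]
  have hgen' : ∀ g : L, ∃ m n : ℤ, g = m • φ₁ + n • ψ' := by
    intro g
    obtain ⟨m, n, hmn⟩ := hgen g
    refine ⟨m + n * c, n, ?_⟩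
    rw [hmn, hψ', smul_sub, add_smul, mul_smul]
    abel
  have hψ'ne : ψ' ≠ 0 := by
    intro h0
    have h1 : ψ = c • φ₁ := sub_eq_zero.mp h0
    have h2 : Δ = 0 := by
      rw [hΔeq, hβ, hγ, h1]
      simp only [hzsl, hzsr]
      rw [← hα]
      ring
    omega
  by_cases hsign : 0 ≤ β - c * α
  · refine ⟨φ₁, ψ', ?_, ?_, hmin1 ψ' hψ'ne, hαpos, hgen'⟩
    · rw [hβ']
      omega
    · rw [hβ']
      have := hc
      rw [abs_of_nonneg hsign] at this
      exact this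
  · have hsign := not_le.mp hsign
    have hneg : -ψ' ≠ 0 := neg_ne_zero.mpr hψ'ne
    refine ⟨φ₁, -ψ', ?_, ?_, hmin1 (-ψ') hneg, hαpos, ?_⟩
    · rw [hnr, hβ']
      omega
    · rw [hnr, hβ']
      have := hc
      rw [abs_of_neg hsign] at this
      linarith
    · intro g
      obtain ⟨m, n, hmn⟩ := hgen' g
      refine ⟨m, -n, ?_⟩
      rw [hmn, neg_smul, smul_neg, neg_neg]

end Cfsg.Agent.Lib.Helper52.LtA
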