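import Cfsg.Agent.Lib.Helper52.LtA
import Cfsg.Agent.Lib.Helper77.CtbJ
import Cfsg.Agent.Lib.Helper25.InnerTools

/-!
# The lattice of `p`-regular parts of a block of `p`-regular rank two (helper52)

The additive group `lat p b` generated by the `p`-regular parts of the members of a block `b`,
with the form `p ^ d ⟨·,·⟩` (`d` the defect), is a positive definite integral lattice.  When the
`p`-regular rank of `b` is two it has a Lagrange-reduced basis.
-/

set_option autoImplicit false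
set_option linter.unusedSectionVars false

universe u

namespace Cfsg.Agent.Lib.Helper52.LtB

open Cfsg Cfsg.Agent.Lib.Helper3 Cfsg.Agent.Lib.Helper77
open scoped ComplexConjugate

variable {H : Type u} [Group H] [Fintype H]

theorem classInner_pReg_pReg (p : ℕ) (f g : H → ℂ) :
    classInner (pRegularPart p f) (pRegularPart p g) = classInner (pRegularPart p f) g := by
  classical
  unfold classInner
  congr 1
  refine Finset.sum_congr rfl fun x _ => ?_
  rw [pRegularPart_apply, pRegularPart_apply]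
  by_cases hx : p ∣ orderOf x
  · rw [if_neg (fun h => h hx), zero_mul, zero_mul]
  · rw [if_pos hx, if_pos hx]

/-- the lattice generated by the `p`-regular parts of the members of `b` -/
def lat (p : ℕ) (b : Set (IrrCharacter H)) : AddSubgroup (H → ℂ) :=
  AddSubgroup.closure ((fun ξ : IrrCharacter H => pRegularPart p (ξ : H → ℂ)) '' b)

theorem pReg_mem_lat (p : ℕ) {b : Set (IrrCharacter H)} {ξ : IrrCharacter H} (hξ : ξ ∈ b) :
    pRegularPart p (ξ : H → ℂ) ∈ lat p b :=
  AddSubgroup.subset_closure ⟨ξ, hξ, rfl⟩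

/-- the complex span -/
def spn (p : ℕ) (b : Set (IrrCharacter H)) : Submodule ℂ (H → ℂ) :=
  Submodule.span ℂ ((fun ξ : IrrCharacter H => pRegularPart p (ξ : H → ℂ)) '' b)

theorem finrank_spn (p : ℕ) (b : Set (IrrCharacter H)) :
    Module.finrank ℂ ↥(spn p b) = blockRank p b := rfl

theorem lat_le_spn (p : ℕ) (b : Set (IrrCharacter H)) {f : H → ℂ} (hf : f ∈ lat p b) :
    f ∈ spn p b := by
  have : lat p b ≤ (spn p b).toAddSubgroup :=
    (AddSubgroup.closure_le _).mpr Submodule.subset_span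
  exact this hf

variable [Fintype (IrrCharacter H)]

/-- integrality of the form on the lattice -/
theorem lat_int (p : ℕ) [Fact p.Prime] (b : Set (IrrCharacter H)) :
    ∀ f ∈ lat p b, ∀ g ∈ lat p b,
      ∃ n : ℤ, (p : ℂ) ^ blockDefect p b * classInner f g = (n : ℂ) := by
  intro f hf g hg
  unfold lat at hf hg
  induction hf using AddSubgroup.closure_induction with
  | mem x hx =>
    obtain ⟨ξ, hξ, rfl⟩ := hx
    induction hg using AddSubgroup.closure_induction with
    | mem y hy =>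
      obtain ⟨ξ', _, rfl⟩ := hy
      simp only
      rw [classInner_pReg_pReg]
      exact Cfsg.Agent.Lib.Helper74.pow_defect_mul_classInner_pRegularPart_int p b ξ ξ' hξ
    | zero => exact ⟨0, by rw [classInner_zero_right, mul_zero, Int.cast_zero]⟩
    | add y₁ y₂ _ _ ih₁ ih₂ =>
      obtain ⟨n₁, h₁⟩ := ih₁
      obtain ⟨n₂, h₂⟩ := ih₂
      exact ⟨n₁ + n₂, by rw [classInner_add_right, mul_add, h₁, h₂, Int.cast_add]⟩
    | neg y _ ih =>
      obtain ⟨n, h⟩ := ih
      refine ⟨-n, ?_⟩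
      have : classInner (pRegularPart p (ξ : H → ℂ)) (-y) =
          - classInner (pRegularPart p (ξ : H → ℂ)) y := by
        have h0 := classInner_sub_right (pRegularPart p (ξ : H → ℂ)) 0 y
        rw [zero_sub, classInner_zero_right, zero_sub] at h0
        exact h0
      rw [this, mul_neg, h, Int.cast_neg]
  | zero => exact ⟨0, by rw [classInner_zero_left, mul_zero, Int.cast_zero]⟩
  | add x₁ x₂ _ _ ih₁ ih₂ =>
    obtain ⟨n₁, h₁⟩ := ih₁
    obtain ⟨n₂, h₂⟩ := ih₂
    exact ⟨n₁ + n₂, by rw [classInner_add_left, mul_add, h₁, h₂, Int.cast_add]⟩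
  | neg x _ ih =>
    obtain ⟨n, h⟩ := ih
    refine ⟨-n, ?_⟩
    have : classInner (-x) g = - classInner x g := by
      have h0 := classInner_sub_left 0 x g
      rw [zero_sub, classInner_zero_left, zero_sub] at h0
      exact h0
    rw [this, mul_neg, h, Int.cast_neg]

/-- the integral form on the lattice -/
noncomputable def qf (p : ℕ) [Fact p.Prime] (b : Set (IrrCharacter H)) (f g : ↥(lat p b)) : ℤ :=
  Classical.choose (lat_int p b f f.2 g g.2)

theorem qf_spec (p : ℕ) [Fact p.Prime] (b : Set (IrrCharacter H)) (f g : ↥(lat p b)) :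
    (p : ℂ) ^ blockDefect p b * classInner (f : H → ℂ) (g : H → ℂ) = (qf p b f g : ℂ) :=
  Classical.choose_spec (lat_int p b f f.2 g g.2)

section props
variable (p : ℕ) [Fact p.Prime] (b : Set (IrrCharacter H))

theorem qf_add (f g h : ↥(lat p b)) : qf p b (f + g) h = qf p b f h + qf p b g h := by
  apply Int.cast_injective (α := ℂ)
  rw [← qf_spec, Int.cast_add, ← qf_spec, ← qf_spec, AddSubgroup.coe_add, classInner_add_left,
    mul_add]

theorem conj_form (f g : ↥(lat p b)) :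
    (p : ℂ) ^ blockDefect p b * conj (classInner (f : H → ℂ) (g : H → ℂ)) = (qf p b f g : ℂ) := by
  have h := qf_spec p b f g
  have h2 := congrArg (starRingEnd ℂ) h
  rw [map_mul, map_pow, Complex.conj_natCast, map_intCast] at h2
  exact h2

theorem qf_symm (f g : ↥(lat p b)) : qf p b f g = qf p b g f := by
  apply Int.cast_injective (α := ℂ)
  rw [← qf_spec, classInner_conj_symm, conj_form]

theorem qf_pos (f : ↥(lat p b)) (hf : f ≠ 0) : 0 < qf p b f f := by
  have hp : p.Prime := Fact.out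
  have h := qf_spec p b f f
  rw [Cfsg.Agent.Lib.Helper25.classInner_self_eq] at h
  set r : ℝ := (Nat.card H : ℝ)⁻¹ * ∑ g : H, ‖(f : H → ℂ) g‖ ^ 2 with hr
  have hr0 : 0 ≤ r := by
    apply mul_nonneg
    · exact inv_nonneg.mpr (Nat.cast_nonneg _)
    · exact Finset.sum_nonneg (fun g _ => sq_nonneg _)
  have hrne : r ≠ 0 := by
    intro h0
    apply hf
    have h1 : classInner (f : H → ℂ) (f : H → ℂ) = 0 := by
      rw [Cfsg.Agent.Lib.Helper25.classInner_self_eq, ← hr, h0, Complex.ofReal_zero]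
    have h2 := Cfsg.Agent.Lib.Helper25.classInner_self_eq_zero h1
    exact Subtype.ext h2
  have hrpos : 0 < r := lt_of_le_of_ne hr0 (Ne.symm hrne)
  have h3 : ((qf p b f f : ℤ) : ℝ) = (p : ℝ) ^ blockDefect p b * r := by
    have : (((qf p b f f : ℤ) : ℝ) : ℂ) = (((p : ℝ) ^ blockDefect p b * r : ℝ) : ℂ) := by
      push_cast
      rw [← h]
    exact_mod_cast this
  have h4 : (0 : ℝ) < (p : ℝ) ^ blockDefect p b * r := by
    have : (0 : ℝ) < (p : ℝ) := by exact_mod_cast hp.pos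
    positivity
  rw [← h3] at h4
  exact_mod_cast h4

theorem coe_zsmul_eq (m : ℤ) (f : ↥(lat p b)) :
    ((m • f : ↥(lat p b)) : H → ℂ) = (m : ℂ) • (f : H → ℂ) := by
  rw [AddSubgroup.coe_zsmul, Int.cast_smul_eq_zsmul]

theorem exists_nonzero (hl : blockRank p b = 2) : ∃ f : ↥(lat p b), f ≠ 0 := by
  by_contra hcon
  have hall : ∀ f : ↥(lat p b), f = 0 := by
    intro f
    by_contra hf
    exact hcon ⟨f, hf⟩
  have h1 : spn p b ≤ ⊥ := by
    unfold spn
    rw [Submodule.span_le]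
    rintro _ ⟨ξ, hξ, rfl⟩
    have := hall ⟨_, pReg_mem_lat p hξ⟩
    have h2 := congrArg Subtype.val this
    simp only [AddSubgroup.coe_zero] at h2
    rw [SetLike.mem_coe, Submodule.mem_bot]
    exact h2
  have h2 : spn p b = ⊥ := le_bot_iff.mp h1
  have h3 := finrank_spn p b
  rw [h2, finrank_bot, hl] at h3
  omega

theorem exists_indep (hl : blockRank p b = 2) (f : ↥(lat p b)) (hf : f ≠ 0) :
    ∃ g : ↥(lat p b), ∀ m n : ℤ, m ≠ 0 → m • g ≠ n • f := by
  by_contra hcon
  have hall : ∀ g : ↥(lat p b), ∃ m n : ℤ, m ≠ 0 ∧ m • g = n • f := by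
    intro g
    by_contra hg
    apply hcon
    refine ⟨g, fun m n hm hmn => hg ⟨m, n, hm, hmn⟩⟩
  have hf0 : (f : H → ℂ) ≠ 0 := fun h => hf (Subtype.ext h)
  have h1 : spn p b ≤ Submodule.span ℂ {(f : H → ℂ)} := by
    unfold spn
    rw [Submodule.span_le]
    rintro _ ⟨ξ, hξ, rfl⟩
    obtain ⟨m, n, hm, hmn⟩ := hall ⟨_, pReg_mem_lat p hξ⟩
    have h2 := congrArg Subtype.val hmn
    rw [coe_zsmul_eq, coe_zsmul_eq] at h2
    simp only at h2
    rw [SetLike.mem_coe, Submodule.mem_span_singleton]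
    refine ⟨(n : ℂ) / (m : ℂ), ?_⟩
    have hmC : (m : ℂ) ≠ 0 := by exact_mod_cast hm
    rw [div_eq_inv_mul, mul_smul, ← h2, smul_smul, inv_mul_cancel₀ hmC, one_smul]
  have h2 := Submodule.finrank_mono h1
  rw [finrank_spn, hl, finrank_span_singleton hf0] at h2
  omega

theorem inner_eq (f g : ↥(lat p b)) :
    classInner (f : H → ℂ) (g : H → ℂ) = (qf p b f g : ℂ) / (p : ℂ) ^ blockDefect p b := by
  have hp : p.Prime := Fact.out
  have hP : (p : ℂ) ^ blockDefect p b ≠ 0 := pow_ne_zero _ (by exact_mod_cast hp.ne_zero)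
  rw [← qf_spec]
  field_simp

theorem gram (hl : blockRank p b = 2) (f₁ f₂ g : ↥(lat p b))
    (hD : qf p b f₁ f₁ * qf p b f₂ f₂ - qf p b f₁ f₂ ^ 2 ≠ 0) :
    qf p b g g * (qf p b f₁ f₁ * qf p b f₂ f₂ - qf p b f₁ f₂ ^ 2) =
      qf p b f₂ f₂ * qf p b g f₁ ^ 2 - 2 * qf p b f₁ f₂ * qf p b g f₁ * qf p b g f₂ +
        qf p b f₁ f₁ * qf p b g f₂ ^ 2 := by
  have hp : p.Prime := Fact.out
  have hP : (p : ℂ) ^ blockDefect p b ≠ 0 := pow_ne_zero _ (by exact_mod_cast hp.ne_zero)
  set α := qf p b f₁ f₁ with hα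
  set β := qf p b f₁ f₂ with hβ
  set γ := qf p b f₂ f₂ with hγ
  have hβ' : qf p b f₂ f₁ = β := qf_symm p b f₂ f₁
  have hDC : ((α : ℂ) * γ - (β : ℂ) ^ 2) ≠ 0 := by exact_mod_cast hD
  have hli : LinearIndependent ℂ ![(f₁ : H → ℂ), (f₂ : H → ℂ)] := by
    rw [LinearIndependent.pair_iff]
    intro s t hst
    have e1 : s * (α : ℂ) + t * (β : ℂ) = 0 := by
      have h1 := congrArg (fun v => classInner v (f₁ : H → ℂ)) hst
      simp only [classInner_add_left, classInner_smul_left, classInner_zero_left] at h1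
      rw [inner_eq, inner_eq, hβ', ← hα, ← mul_div_assoc, ← mul_div_assoc, ← add_div] at h1
      exact (div_eq_zero_iff.mp h1).resolve_right hP
    have e2 : s * (β : ℂ) + t * (γ : ℂ) = 0 := by
      have h1 := congrArg (fun v => classInner v (f₂ : H → ℂ)) hst
      simp only [classInner_add_left, classInner_smul_left, classInner_zero_left] at h1
      rw [inner_eq, inner_eq, ← hβ, ← hγ, ← mul_div_assoc, ← mul_div_assoc, ← add_div] at h1
      exact (div_eq_zero_iff.mp h1).resolve_right hP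
    constructor
    · have : s * ((α : ℂ) * γ - (β : ℂ) ^ 2) = 0 := by linear_combination (γ : ℂ) * e1 - (β : ℂ) * e2
      exact (mul_eq_zero.mp this).resolve_right hDC
    · have : t * ((α : ℂ) * γ - (β : ℂ) ^ 2) = 0 := by linear_combination (α : ℂ) * e2 - (β : ℂ) * e1
      exact (mul_eq_zero.mp this).resolve_right hDC
  have hS : Submodule.span ℂ (Set.range ![(f₁ : H → ℂ), (f₂ : H → ℂ)]) = spn p b := by
    apply Submodule.eq_of_le_of_finrank_eq
    · rw [Submodule.span_le]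
      rintro _ ⟨i, rfl⟩
      fin_cases i
      · exact lat_le_spn p b f₁.2
      · exact lat_le_spn p b f₂.2
    · rw [finrank_span_eq_card hli, finrank_spn, hl]
      simp
  have hg : (g : H → ℂ) ∈ Submodule.span ℂ (Set.range ![(f₁ : H → ℂ), (f₂ : H → ℂ)]) := by
    rw [hS]
    exact lat_le_spn p b g.2
  have hrange : Set.range ![(f₁ : H → ℂ), (f₂ : H → ℂ)] = {(f₁ : H → ℂ), (f₂ : H → ℂ)} := by
    ext x
    simp only [Set.mem_range, Set.mem_insert_iff, Set.mem_singleton_iff]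
    constructor
    · rintro ⟨i, rfl⟩
      fin_cases i
      · exact Or.inl rfl
      · exact Or.inr rfl
    · rintro (rfl | rfl)
      · exact ⟨0, rfl⟩
      · exact ⟨1, rfl⟩
  rw [hrange] at hg
  obtain ⟨a, c, hac⟩ := Submodule.mem_span_pair.mp hg
  set A := conj a with hA
  set C := conj c with hC
  have hs : (qf p b g f₁ : ℂ) = a * α + c * β := by
    have h1 := inner_eq p b g f₁
    rw [← hac, classInner_add_left, classInner_smul_left, classInner_smul_left, inner_eq, inner_eq,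
      hβ', ← hα, ← mul_div_assoc, ← mul_div_assoc, ← add_div] at h1
    exact ((div_left_inj' hP).mp h1).symm
  have ht : (qf p b g f₂ : ℂ) = a * β + c * γ := by
    have h1 := inner_eq p b g f₂
    rw [← hac, classInner_add_left, classInner_smul_left, classInner_smul_left, inner_eq, inner_eq,
      ← hβ, ← hγ, ← mul_div_assoc, ← mul_div_assoc, ← add_div] at h1
    exact ((div_left_inj' hP).mp h1).symm
  have hs' : (qf p b g f₁ : ℂ) = A * α + C * β := by
    have h1 := congrArg (starRingEnd ℂ) hs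
    simp only [map_add, map_mul, map_intCast] at h1
    exact h1
  have ht' : (qf p b g f₂ : ℂ) = A * β + C * γ := by
    have h1 := congrArg (starRingEnd ℂ) ht
    simp only [map_add, map_mul, map_intCast] at h1
    exact h1
  have hgg : (qf p b g g : ℂ) = a * A * α + a * C * β + c * A * β + c * C * γ := by
    have h1 := inner_eq p b g g
    have h2 : classInner (g : H → ℂ) (g : H → ℂ) =
        a * A * classInner (f₁ : H → ℂ) (f₁ : H → ℂ) + a * C * classInner (f₁ : H → ℂ) (f₂ : H → ℂ)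
        + c * A * classInner (f₂ : H → ℂ) (f₁ : H → ℂ)
        + c * C * classInner (f₂ : H → ℂ) (f₂ : H → ℂ) := by
      conv_lhs => rw [← hac]
      simp only [classInner_add_left, classInner_add_right, classInner_smul_left,
        classInner_smul_right]
      ring
    rw [h2, inner_eq, inner_eq, inner_eq, inner_eq, hβ', ← hα, ← hβ, ← hγ, ← mul_div_assoc,
      ← mul_div_assoc, ← mul_div_assoc, ← mul_div_assoc, ← add_div, ← add_div, ← add_div] at h1
    exact ((div_left_inj' hP).mp h1).symm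
  have e1 : (qf p b g f₁ : ℂ) ^ 2 = (a * α + c * β) * (A * α + C * β) := by
    rw [← hs, ← hs', sq]
  have e2 : 2 * (qf p b g f₁ : ℂ) * (qf p b g f₂ : ℂ) =
      (a * α + c * β) * (A * β + C * γ) + (A * α + C * β) * (a * β + c * γ) := by
    rw [← hs, ← ht', ← hs', ← ht]
    ring
  have e3 : (qf p b g f₂ : ℂ) ^ 2 = (a * β + c * γ) * (A * β + C * γ) := by
    rw [← ht, ← ht', sq]
  have hfin : (qf p b g g : ℂ) * ((α : ℂ) * γ - (β : ℂ) ^ 2) =
      (γ : ℂ) * (qf p b g f₁ : ℂ) ^ 2 - (β : ℂ) * (2 * (qf p b g f₁ : ℂ) * (qf p b g f₂ : ℂ)) +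
        (α : ℂ) * (qf p b g f₂ : ℂ) ^ 2 := by
    rw [e1, e2, e3, hgg]
    ring
  have hfin' : (qf p b g g : ℂ) * ((α : ℂ) * γ - (β : ℂ) ^ 2) =
      (γ : ℂ) * (qf p b g f₁ : ℂ) ^ 2 - 2 * (β : ℂ) * (qf p b g f₁ : ℂ) * (qf p b g f₂ : ℂ) +
        (α : ℂ) * (qf p b g f₂ : ℂ) ^ 2 := by
    rw [hfin]
    ring
  exact_mod_cast hfin'

/-- **A Lagrange-reduced basis of the lattice of a block of `p`-regular rank two.** -/
theorem exists_basis (hl : blockRank p b = 2) :
    ∃ φ₁ φ₂ : H → ℂ, ∃ α β γ : ℤ, φ₁ ∈ lat p b ∧ φ₂ ∈ lat p b ∧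
      (p : ℂ) ^ blockDefect p b * classInner φ₁ φ₁ = (α : ℂ) ∧
      (p : ℂ) ^ blockDefect p b * classInner φ₁ φ₂ = (β : ℂ) ∧
      (p : ℂ) ^ blockDefect p b * classInner φ₂ φ₁ = (β : ℂ) ∧
      (p : ℂ) ^ blockDefect p b * classInner φ₂ φ₂ = (γ : ℂ) ∧
      0 ≤ 2 * β ∧ 2 * β ≤ α ∧ α ≤ γ ∧ 0 < α ∧
      ∀ ξ ∈ b, ∃ m n : ℤ, pRegularPart p (ξ : H → ℂ) = (m : ℂ) • φ₁ + (n : ℂ) • φ₂ := by
  obtain ⟨φ₁, φ₂, h1, h2, h3, h4, h5⟩ :=
    Cfsg.Agent.Lib.Helper52.LtA.exists_reduced_basis (qf p b) (qf_add p b) (qf_symm p b)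
      (qf_pos p b) (exists_nonzero p b hl) (exists_indep p b hl) (gram p b hl)
  refine ⟨φ₁, φ₂, qf p b φ₁ φ₁, qf p b φ₁ φ₂, qf p b φ₂ φ₂, φ₁.2, φ₂.2, qf_spec p b φ₁ φ₁,
    qf_spec p b φ₁ φ₂, ?_, qf_spec p b φ₂ φ₂, h1, h2, h3, h4, ?_⟩
  · rw [qf_symm p b φ₁ φ₂]
    exact qf_spec p b φ₂ φ₁
  · intro ξ hξ
    obtain ⟨m, n, hmn⟩ := h5 ⟨_, pReg_mem_lat p hξ⟩
    refine ⟨m, n, ?_⟩
    have h6 := congrArg Subtype.val hmn
    rw [AddSubgroup.coe_add, coe_zsmul_eq, coe_zsmul_eq] at h6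
    exact h6

end props

end Cfsg.Agent.Lib.Helper52.LtB
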