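import Cfsg.Agent.Lib.Helper52.LtB

/-!
# Coordinates of section parts with respect to a basis of the lattice (helper52)

If every `p`-regular part `ξ°` (`ξ ∈ b`) is an integral combination `m₁ ξ φ₁ + m₂ ξ φ₂`, then the
`p`-regular part of the `b`-part of a twisted character `c ↦ χ' (z c)` is `X φ₁ + Y φ₂` with
explicit algebraic integers `X, Y` (`coord`), compatible with the Galois action on `z`.
-/

set_option autoImplicit false
set_option linter.unusedSectionVars false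

universe u

namespace Cfsg.Agent.Lib.Helper52.LtC

open Cfsg Cfsg.Agent.Lib.Helper3 Cfsg.Agent.Lib.Helper77 Cfsg.Agent.Lib.Helper77.Ctb
  Cfsg.Agent.Lib.Helper74 Cfsg.Agent.Lib.Helper76 Cfsg.Agent.Lib.Helper52.LtB
open scoped ComplexConjugate

variable {H : Type u} [Group H] [Fintype H] [Fintype (IrrCharacter H)]

open Classical in
/-- the coordinate of a twisted character along integral coefficients `c` -/
noncomputable def coord (b : Set (IrrCharacter H)) (χ' : H → ℂ) (z : H)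
    (c : IrrCharacter H → ℤ) : ℂ :=
  ∑ ξ ∈ Finset.univ.filter (fun ξ : IrrCharacter H => ξ ∈ b),
    om ξ z * classInner χ' (ξ : H → ℂ) * (c ξ : ℂ)

theorem isIntegral_coord (b : Set (IrrCharacter H)) (χ' : H → ℂ) (hχ' : IsCharacter H χ')
    (z : H) (hz : z ∈ Subgroup.center H) (c : IrrCharacter H → ℤ) :
    IsIntegral ℤ (coord b χ' z c) := by
  classical
  obtain ⟨m, hm, -⟩ := Cfsg.Agent.Lib.Helper15.exists_nat_decomp hχ'
  unfold coord
  refine IsIntegral.sum _ fun ξ _ => ?_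
  rw [hm ξ]
  exact IsIntegral.mul (IsIntegral.mul (isIntegral_om ξ z hz) (isIntegral_natCast _))
    (isIntegral_intCast _)

theorem coord_galois (b : Set (IrrCharacter H)) (χ' : H → ℂ) (hχ' : IsCharacter H χ')
    (z : H) (hz : z ∈ Subgroup.center H) (N : ℕ) (hzN : z ^ N = 1) (τ : ℂ ≃+* ℂ) (j : ℕ)
    (hτ : ∀ ω : ℂ, ω ^ N = 1 → τ ω = ω ^ j) (c : IrrCharacter H → ℤ) :
    τ (coord b χ' z c) = coord b χ' (z ^ j) c := by
  classical
  obtain ⟨m, hm, -⟩ := Cfsg.Agent.Lib.Helper15.exists_nat_decomp hχ'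
  unfold coord
  rw [map_sum]
  refine Finset.sum_congr rfl fun ξ _ => ?_
  rw [hm ξ]
  have h1 : τ (om ξ z) = om ξ (z ^ j) := by
    rw [hτ _ (om_pow_eq_one ξ z hz N hzN), om_pow ξ z hz]
  simp only [map_mul, map_natCast, map_intCast, h1]

open Classical in
theorem pReg_blockPart_eq (p : ℕ) (b : Set (IrrCharacter H)) (χ' : H → ℂ)
    (hχ' : IsCharacter H χ') (z : H) (hz : z ∈ Subgroup.center H) (φ₁ φ₂ : H → ℂ)
    (m₁ m₂ : IrrCharacter H → ℤ)
    (hm : ∀ ξ ∈ b, pRegularPart p (ξ : H → ℂ) = (m₁ ξ : ℂ) • φ₁ + (m₂ ξ : ℂ) • φ₂) :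
    pRegularPart p (blockPart b (fun c : H => χ' (z * c))) =
      coord b χ' z m₁ • φ₁ + coord b χ' z m₂ • φ₂ := by
  obtain ⟨m, hmm, -⟩ := Cfsg.Agent.Lib.Helper15.exists_nat_decomp hχ'
  rw [blockPart_twist_eq b χ' z hz m hmm, pRegularPart_sum]
  unfold coord
  rw [Finset.sum_smul, Finset.sum_smul, ← Finset.sum_add_distrib]
  refine Finset.sum_congr rfl fun ξ hξ => ?_
  rw [hm ξ (Finset.mem_filter.mp hξ).2, hmm ξ, smul_add, smul_smul, smul_smul]

/-- the contribution in coordinates -/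
theorem cval_eq_coord (p : ℕ) [Fact p.Prime] (b : Set (IrrCharacter H)) (χ' ψ' : H → ℂ)
    (hχ' : IsCharacter H χ') (hψ' : IsCharacter H ψ') (z : H) (hz : z ∈ Subgroup.center H)
    (φ₁ φ₂ : H → ℂ) (m₁ m₂ : IrrCharacter H → ℤ)
    (hm : ∀ ξ ∈ b, pRegularPart p (ξ : H → ℂ) = (m₁ ξ : ℂ) • φ₁ + (m₂ ξ : ℂ) • φ₂)
    (P α β γ : ℂ)
    (h11 : P * classInner φ₁ φ₁ = α) (h12 : P * classInner φ₁ φ₂ = β)
    (h21 : P * classInner φ₂ φ₁ = β) (h22 : P * classInner φ₂ φ₂ = γ) :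
    P * cval p b χ' ψ' z =
      coord b χ' z m₁ * conj (coord b ψ' z m₁) * α +
      coord b χ' z m₁ * conj (coord b ψ' z m₂) * β +
      coord b χ' z m₂ * conj (coord b ψ' z m₁) * β +
      coord b χ' z m₂ * conj (coord b ψ' z m₂) * γ := by
  unfold cval
  have h0 := classInner_pReg_pReg p (blockPart b (fun c : H => χ' (z * c)))
    (blockPart b (fun c : H => ψ' (z * c)))
  rw [← h0, pReg_blockPart_eq p b χ' hχ' z hz φ₁ φ₂ m₁ m₂ hm,
    pReg_blockPart_eq p b ψ' hψ' z hz φ₁ φ₂ m₁ m₂ hm]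
  simp only [classInner_add_left, classInner_add_right, classInner_smul_left,
    classInner_smul_right]
  rw [← h11, ← h12, ← h22]
  have h21' : P * classInner φ₂ φ₁ = P * classInner φ₁ φ₂ := by rw [h21, h12]
  linear_combination (coord b χ' z m₂ * conj (coord b ψ' z m₁)) * h21'

end Cfsg.Agent.Lib.Helper52.LtC
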