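import Cfsg.Agent.Lib.Helper77.CtbJ
import Cfsg.Agent.Lib.Helper75.GaloisCyc

/-!
# Galois-stable families of algebraic integers indexed by `(ZMod N)ˣ` (helper52)

Lower bounds for sums of squared absolute values, used for reduced binary forms.
-/

set_option autoImplicit false
set_option linter.unusedSectionVars false
set_option linter.unusedVariables false

namespace Cfsg.Agent.Lib.Helper52.LtD

open Cfsg Cfsg.Agent.Lib.Helper77.Ctb

/-- a family of algebraic integers on which the Galois group acts through the index -/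
def GF (N : ℕ) (x : (ZMod N)ˣ → ℂ) : Prop :=
  (∀ u, IsIntegral ℤ (x u)) ∧
  (∀ (τ : ℂ ≃+* ℂ) (j : (ZMod N)ˣ),
      (∀ ω : ℂ, ω ^ N = 1 → τ ω = ω ^ (j : ZMod N).val) → ∀ u, τ (x u) = x (u * j))

variable {N : ℕ} [NeZero N]

theorem GF.add {x y : (ZMod N)ˣ → ℂ} (hx : GF N x) (hy : GF N y) : GF N (fun u => x u + y u) := by
  refine ⟨fun u => IsIntegral.add (hx.1 u) (hy.1 u), ?_⟩
  intro τ j hτ u
  simp only [map_add]
  rw [hx.2 τ j hτ u, hy.2 τ j hτ u]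

theorem GF.zero_prop {x : (ZMod N)ˣ → ℂ} (hx : GF N x) {u₀ : (ZMod N)ˣ} (h0 : x u₀ = 0) :
    ∀ u, x u = 0 := by
  intro u
  have hN : 0 < N := Nat.pos_of_ne_zero (NeZero.ne N)
  set j : (ZMod N)ˣ := u₀⁻¹ * u with hj
  obtain ⟨τ, hτ⟩ := Cfsg.Agent.Lib.Helper75.exists_ringEquiv_pow_rootsOfUnity N
    (j : ZMod N).val hN (ZMod.val_coe_unit_coprime j)
  have h1 := hx.2 τ j hτ u₀
  rw [h0, map_zero, hj, mul_inv_cancel_left] at h1
  exact h1.symm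

theorem GF.sum_sq_ge {x : (ZMod N)ˣ → ℂ} (hx : GF N x) (hne : ∃ u, x u ≠ 0) :
    (Nat.totient N : ℝ) ≤ ∑ u : (ZMod N)ˣ, ‖x u‖ ^ 2 := by
  apply totient_le_sum_norm_sq N x hx.1 hx.2
  intro u hu
  obtain ⟨u', hu'⟩ := hne
  exact hu' (hx.zero_prop hu u')

theorem sum_sq_nonneg (x : (ZMod N)ˣ → ℂ) : (0 : ℝ) ≤ ∑ u : (ZMod N)ˣ, ‖x u‖ ^ 2 :=
  Finset.sum_nonneg fun u _ => sq_nonneg _

/-- **Reduced forms**: the Galois average of a reduced binary form at a non-zero vector is at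
least its first coefficient. -/
theorem reduced_ge {x y : (ZMod N)ˣ → ℂ} (hx : GF N x) (hy : GF N y)
    (hne : ¬ ((∀ u, x u = 0) ∧ (∀ u, y u = 0))) (α β γ : ℝ) (hβ : 0 ≤ β) (hβα : 2 * β ≤ α)
    (hαγ : α ≤ γ) :
    α * (Nat.totient N : ℝ) ≤ ∑ u : (ZMod N)ˣ,
      ((α - β) * ‖x u‖ ^ 2 + (γ - β) * ‖y u‖ ^ 2 + β * ‖x u + y u‖ ^ 2) := by
  have hφ : (0 : ℝ) ≤ (Nat.totient N : ℝ) := Nat.cast_nonneg _
  have hsplit : ∑ u : (ZMod N)ˣ,
      ((α - β) * ‖x u‖ ^ 2 + (γ - β) * ‖y u‖ ^ 2 + β * ‖x u + y u‖ ^ 2) =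
      (α - β) * ∑ u : (ZMod N)ˣ, ‖x u‖ ^ 2 + (γ - β) * ∑ u : (ZMod N)ˣ, ‖y u‖ ^ 2 +
        β * ∑ u : (ZMod N)ˣ, ‖x u + y u‖ ^ 2 := by
    rw [Finset.sum_add_distrib, Finset.sum_add_distrib, Finset.mul_sum, Finset.mul_sum,
      Finset.mul_sum]
  rw [hsplit]
  have hSx := sum_sq_nonneg x
  have hSy := sum_sq_nonneg y
  have hSxy := sum_sq_nonneg (fun u => x u + y u)
  by_cases hx0 : ∀ u, x u = 0
  · have hy0 : ∃ u, y u ≠ 0 := by
      by_contra hcon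
      apply hne
      refine ⟨hx0, fun u => ?_⟩
      by_contra hu
      exact hcon ⟨u, hu⟩
    have h1 := hy.sum_sq_ge hy0
    have h2 : ∑ u : (ZMod N)ˣ, ‖x u + y u‖ ^ 2 = ∑ u : (ZMod N)ˣ, ‖y u‖ ^ 2 := by
      refine Finset.sum_congr rfl fun u _ => ?_
      rw [hx0 u, zero_add]
    have h3 : ∑ u : (ZMod N)ˣ, ‖x u‖ ^ 2 = 0 := by
      refine Finset.sum_eq_zero fun u _ => ?_
      rw [hx0 u, norm_zero]
      ring
    rw [h2, h3]
    nlinarith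
  · have hx0' : ∃ u, x u ≠ 0 := by
      by_contra hcon
      apply hx0
      intro u
      by_contra hu
      exact hcon ⟨u, hu⟩
    have h1 := hx.sum_sq_ge hx0'
    by_cases hy0 : ∀ u, y u = 0
    · have h2 : ∑ u : (ZMod N)ˣ, ‖x u + y u‖ ^ 2 = ∑ u : (ZMod N)ˣ, ‖x u‖ ^ 2 := by
        refine Finset.sum_congr rfl fun u _ => ?_
        rw [hy0 u, add_zero]
      have h3 : ∑ u : (ZMod N)ˣ, ‖y u‖ ^ 2 = 0 := by
        refine Finset.sum_eq_zero fun u _ => ?_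
        rw [hy0 u, norm_zero]
        ring
      rw [h2, h3]
      nlinarith
    · have hy0' : ∃ u, y u ≠ 0 := by
        by_contra hcon
        apply hy0
        intro u
        by_contra hu
        exact hcon ⟨u, hu⟩
      have h2 := hy.sum_sq_ge hy0'
      have h3 : 0 ≤ α - β := by linarith
      have h4 : 0 ≤ γ - β := by linarith
      have h5 : (α - β) * (Nat.totient N : ℝ) ≤ (α - β) * ∑ u : (ZMod N)ˣ, ‖x u‖ ^ 2 :=
        mul_le_mul_of_nonneg_left h1 h3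
      have h6 : (γ - β) * (Nat.totient N : ℝ) ≤ (γ - β) * ∑ u : (ZMod N)ˣ, ‖y u‖ ^ 2 :=
        mul_le_mul_of_nonneg_left h2 h4
      have h7 : 0 ≤ β * ∑ u : (ZMod N)ˣ, ‖x u + y u‖ ^ 2 := mul_nonneg hβ hSxy
      have h8 : α * (Nat.totient N : ℝ) ≤ (α - β) * (Nat.totient N : ℝ) +
          (γ - β) * (Nat.totient N : ℝ) := by nlinarith
      linarith

/-- both coordinates non-zero -/
theorem pair_ge {x y : (ZMod N)ˣ → ℂ} (hx : GF N x) (hy : GF N y)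
    (hx0 : ∃ u, x u ≠ 0) (hy0 : ∃ u, y u ≠ 0) (γ : ℝ) (hγ : 1 ≤ γ) :
    2 * (Nat.totient N : ℝ) ≤ ∑ u : (ZMod N)ˣ, (‖x u‖ ^ 2 + γ * ‖y u‖ ^ 2) := by
  rw [Finset.sum_add_distrib, ← Finset.mul_sum]
  have h1 := hx.sum_sq_ge hx0
  have h2 := hy.sum_sq_ge hy0
  have hφ : (0 : ℝ) ≤ (Nat.totient N : ℝ) := Nat.cast_nonneg _
  nlinarith

/-- double counting -/
theorem count_le {ι κ : Type*} [Fintype κ] (s : Finset ι) (f : ι → κ → ℝ) (t P : ℝ)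
    (ht : 0 < t) (hκ : 0 < Fintype.card κ)
    (h1 : ∀ i ∈ s, t * (Fintype.card κ : ℝ) ≤ ∑ u : κ, f i u)
    (h2 : ∀ u : κ, ∑ i ∈ s, f i u ≤ t * P) : (s.card : ℝ) ≤ P := by
  have hA : (s.card : ℝ) * (t * (Fintype.card κ : ℝ)) ≤ ∑ i ∈ s, ∑ u : κ, f i u := by
    calc (s.card : ℝ) * (t * (Fintype.card κ : ℝ)) = ∑ _i ∈ s, t * (Fintype.card κ : ℝ) := by
          rw [Finset.sum_const, nsmul_eq_mul]
      _ ≤ _ := Finset.sum_le_sum h1
  have hB : ∑ i ∈ s, ∑ u : κ, f i u ≤ (Fintype.card κ : ℝ) * (t * P) := by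
    rw [Finset.sum_comm]
    calc ∑ u : κ, ∑ i ∈ s, f i u ≤ ∑ _u : κ, t * P := Finset.sum_le_sum fun u _ => h2 u
      _ = (Fintype.card κ : ℝ) * (t * P) := by
          rw [Finset.sum_const, Finset.card_univ, nsmul_eq_mul]
  have hK : (0 : ℝ) < (Fintype.card κ : ℝ) := by exact_mod_cast hκ
  have h3 : (s.card : ℝ) * (t * (Fintype.card κ : ℝ)) ≤ P * (t * (Fintype.card κ : ℝ)) := by
    calc (s.card : ℝ) * (t * (Fintype.card κ : ℝ)) ≤ (Fintype.card κ : ℝ) * (t * P) := hA.trans hB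
      _ = P * (t * (Fintype.card κ : ℝ)) := by ring
  exact le_of_mul_le_mul_right h3 (mul_pos ht hK)

end Cfsg.Agent.Lib.Helper52.LtD
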