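import Cfsg.Agent.Lib.Helper52.LtC
import Cfsg.Agent.Lib.Helper52.LtD
import Cfsg.Agent.Lib.Helper52.HtG
import Cfsg.Agent.Lib.Helper52.HtA
import Cfsg.Agent.Lib.Helper52.HtB

/-!
# Major subsections of `p`-regular rank two: `k(B) ≤ p^d` (helper52)
-/

set_option autoImplicit false
set_option linter.unusedSectionVars false
set_option linter.unusedVariables false

universe u

namespace Cfsg.Agent.Lib.Helper52.LtE

open Cfsg Cfsg.Agent.Lib.Helper81 Cfsg.Agent.Lib.Helper74 Cfsg.Agent.Lib.Helper76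
  Cfsg.Agent.Lib.Helper16 Cfsg.Agent.Lib.Helper25 Cfsg.Agent.Lib.Helper77
  Cfsg.Agent.Lib.Helper77.Ctb Cfsg.Agent.Lib.Helper52.LtB Cfsg.Agent.Lib.Helper52.LtC
  Cfsg.Agent.Lib.Helper52.LtD Cfsg.Agent.Lib.Helper52.HtG Cfsg.Agent.Lib.Helper52.HtA
  Cfsg.Agent.Lib.Helper52.HtB
open scoped ComplexConjugate

variable {G : Type u} [Group G] [Fintype G] [Fintype (IrrCharacter G)] {p : ℕ} [Fact p.Prime]
  {M : Ideal AlgInt}

theorem normSq_cast (z : ℂ) : ((‖z‖ : ℝ) : ℂ) ^ 2 = z * conj z := by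
  rw [Complex.mul_conj, Complex.normSq_eq_norm_sq]
  push_cast
  rfl

set_option maxHeartbeats 1600000 in
open Classical in
/-- `k(B) ≤ p^d` for a major subsection `(y, b)` of `B` with `l(b) = 2` -/
theorem card_le_of_rank_two (hM : IsPModular p M) {B : Set (IrrCharacter G)}
    (y : G) (hy : ∃ k : ℕ, orderOf y = p ^ k)
    (H : Subgroup G) (hH : H = Subgroup.centralizer ({y} : Set G)) [Fintype H]
    [Fintype (IrrCharacter H)] (ξ₀ : IrrCharacter H)
    (hind : IsInducedBlock M H (blockOf M (ξ₀ : H → ℂ)) B)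
    (hdef : blockDefect p (blockOf M (ξ₀ : H → ℂ)) = blockDefect p B)
    (hl : blockRank p (blockOf M (ξ₀ : H → ℂ)) = 2) :
    (Finset.univ.filter (fun χ : IrrCharacter G => χ ∈ B)).card ≤
      p ^ blockDefect p (blockOf M (ξ₀ : H → ℂ)) := by
  have hp : p.Prime := Fact.out
  have hMp : M.IsPrime := isPrime_of_isPModular hM
  set b := blockOf M (ξ₀ : H → ℂ) with hb
  set d := blockDefect p b with hd
  set Bf := Finset.univ.filter (fun χ : IrrCharacter G => χ ∈ B) with hBf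
  set N := orderOf y with hN
  have hNpos : 0 < N := orderOf_pos y
  have : NeZero N := ⟨hNpos.ne'⟩
  obtain ⟨k, hk⟩ := hy
  have hyH : y ∈ H := by
    rw [hH, Subgroup.mem_centralizer_singleton_iff]
  set zH : H := ⟨y, hyH⟩ with hzH
  have hzc : zH ∈ Subgroup.center H := by
    rw [Subgroup.mem_center_iff]
    intro c
    apply Subtype.ext
    have hc : (c : G) ∈ Subgroup.centralizer ({y} : Set G) := hH ▸ c.2
    have := Subgroup.mem_centralizer_singleton_iff.mp hc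
    simp only [Subgroup.coe_mul, hzH]
    exact this
  have hzN : zH ^ N = 1 := by
    apply Subtype.ext
    simp only [Subgroup.coe_pow, Subgroup.coe_one, hzH]
    exact pow_orderOf_eq_one y
  have hres : ∀ χ : IrrCharacter G, IsCharacter H (fun c : H => (χ : G → ℂ) (c : G)) := fun χ =>
    Cfsg.Agent.Lib.Helper3.IsCharacter.restrict
      (Cfsg.Agent.Lib.Helper3.IsIrrCharacter.isCharacter χ.2) _
  have hmem : ∀ χ : IrrCharacter G, χ ∈ Bf ↔ χ ∈ B := by
    intro χ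
    rw [hBf, Finset.mem_filter]
    exact ⟨fun h => h.2, fun h => ⟨Finset.mem_univ _, h⟩⟩
  -- the reduced basis
  obtain ⟨φ₁, φ₂, α, β, γ, -, -, h11, h12, h21, h22, hβ0, hβα, hαγ, hαpos, hgen⟩ :=
    exists_basis p b hl
  have hgen' : ∀ ξ : IrrCharacter H, ∃ m n : ℤ, ξ ∈ b →
      pRegularPart p (ξ : H → ℂ) = (m : ℂ) • φ₁ + (n : ℂ) • φ₂ := by
    intro ξ
    by_cases hξ : ξ ∈ b
    · obtain ⟨m, n, h⟩ := hgen ξ hξ
      exact ⟨m, n, fun _ => h⟩
    · exact ⟨0, 0, fun h => absurd h hξ⟩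
  choose m₁ m₂ hm using hgen'
  -- the coordinates
  set X : IrrCharacter G → (ZMod N)ˣ → ℂ := fun χ u =>
    coord b (fun c : H => (χ : G → ℂ) (c : G)) (zH ^ (u : ZMod N).val) m₁ with hX
  set Y : IrrCharacter G → (ZMod N)ˣ → ℂ := fun χ u =>
    coord b (fun c : H => (χ : G → ℂ) (c : G)) (zH ^ (u : ZMod N).val) m₂ with hY
  have hGF : ∀ (c : IrrCharacter H → ℤ) (χ : IrrCharacter G), GF N (fun u : (ZMod N)ˣ =>
      coord b (fun c : H => (χ : G → ℂ) (c : G)) (zH ^ (u : ZMod N).val) c) := by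
    intro c χ
    refine ⟨fun u => isIntegral_coord b _ (hres χ) _ (Subgroup.pow_mem _ hzc _) c, ?_⟩
    intro τ j hτ u
    have hzu : (zH ^ (u : ZMod N).val) ^ N = 1 := by
      rw [← pow_mul, mul_comm, pow_mul, hzN, one_pow]
    simp only
    rw [coord_galois b _ (hres χ) _ (Subgroup.pow_mem _ hzc _) N hzu τ _ hτ]
    congr 1
    rw [← pow_mul, Units.val_mul, ZMod.val_mul]
    exact pow_eq_pow_mod _ hzN
  have hGFX : ∀ χ, GF N (X χ) := fun χ => hGF m₁ χ
  have hGFY : ∀ χ, GF N (Y χ) := fun χ => hGF m₂ χ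
  -- the family of contributions
  set x : IrrCharacter G → IrrCharacter G → (ZMod N)ˣ → ℂ := fun χ ψ u =>
    ((p ^ d : ℕ) : ℂ) * ctb p (y ^ (u : ZMod N).val) H b (χ : G → ℂ) (ψ : G → ℂ) with hx
  have hxc : ∀ χ ψ u, x χ ψ u = ((p ^ d : ℕ) : ℂ) *
      cval p b (fun c : H => (χ : G → ℂ) (c : G)) (fun c : H => (ψ : G → ℂ) (c : G))
        (zH ^ (u : ZMod N).val) := by
    intro χ ψ u
    rw [hx]
    simp only
    rw [ctb_eq_cval y H hyH b]
  have hxcoord : ∀ χ ψ u, x χ ψ u =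
      X χ u * conj (X ψ u) * (α : ℂ) + X χ u * conj (Y ψ u) * (β : ℂ) +
      Y χ u * conj (X ψ u) * (β : ℂ) + Y χ u * conj (Y ψ u) * (γ : ℂ) := by
    intro χ ψ u
    rw [hxc, Nat.cast_pow]
    exact cval_eq_coord p b _ _ (hres χ) (hres ψ) _ (Subgroup.pow_mem _ hzc _) φ₁ φ₂ m₁ m₂
      (fun ξ hξ => hm ξ hξ) _ _ _ _ h11 h12 h21 h22
  have hint : ∀ χ ψ u, IsIntegral ℤ (x χ ψ u) := by
    intro χ ψ u
    rw [hxc]
    exact cval_integral b _ _ (hres χ) (hres ψ) _ (Subgroup.pow_mem _ hzc _)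
  have hgal : ∀ χ ψ (τ : ℂ ≃+* ℂ) (j : (ZMod N)ˣ),
      (∀ ω : ℂ, ω ^ N = 1 → τ ω = ω ^ (j : ZMod N).val) → ∀ u, τ (x χ ψ u) = x χ ψ (u * j) := by
    intro χ ψ τ j hτ u
    rw [hxc, hxc]
    have hzu : (zH ^ (u : ZMod N).val) ^ N = 1 := by
      rw [← pow_mul, mul_comm, pow_mul, hzN, one_pow]
    rw [cval_galois b _ _ (hres χ) (hres ψ) _ (Subgroup.pow_mem _ hzc _) N hzu τ _ hτ]
    congr 2
    rw [← pow_mul, Units.val_mul, ZMod.val_mul]
    exact pow_eq_pow_mod _ hzN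
  have hsec : ∀ u : (ZMod N)ˣ, (∃ k' : ℕ, orderOf (y ^ (u : ZMod N).val) = p ^ k') ∧
      H = Subgroup.centralizer ({y ^ (u : ZMod N).val} : Set G) := by
    intro u
    have hcop : Nat.Coprime (u : ZMod N).val (orderOf y) := ZMod.val_coe_unit_coprime u
    refine ⟨exists_orderOf_pow hp ⟨k, hk⟩ (u : ZMod N).val, ?_⟩
    rw [hH]
    exact centralizer_pow_eq hcop
  -- the diagonal entries
  set r : IrrCharacter G → (ZMod N)ˣ → ℝ := fun χ u =>
    ((α : ℝ) - (β : ℝ)) * ‖X χ u‖ ^ 2 + ((γ : ℝ) - (β : ℝ)) * ‖Y χ u‖ ^ 2 +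
      (β : ℝ) * ‖X χ u + Y χ u‖ ^ 2 with hr
  have hdiag : ∀ χ u, x χ χ u = ((r χ u : ℝ) : ℂ) := by
    intro χ u
    rw [hxcoord, hr]
    push_cast
    rw [normSq_cast, normSq_cast, normSq_cast, map_add]
    ring
  have hβR : (0 : ℝ) ≤ (β : ℝ) := by
    have : 0 ≤ β := by omega
    exact_mod_cast this
  have hβαR : 2 * (β : ℝ) ≤ (α : ℝ) := by exact_mod_cast hβα
  have hαγR : (α : ℝ) ≤ (γ : ℝ) := by exact_mod_cast hαγ
  have hrnonneg : ∀ χ u, 0 ≤ r χ u := by
    intro χ u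
    rw [hr]
    have h1 : 0 ≤ (α : ℝ) - (β : ℝ) := by linarith
    have h2 : 0 ≤ (γ : ℝ) - (β : ℝ) := by linarith
    positivity
  have hpdpos : (0 : ℝ) < ((p ^ d : ℕ) : ℝ) := by
    have : 0 < p ^ d := pow_pos hp.pos d
    exact_mod_cast this
  have htot : ∀ u : (ZMod N)ˣ, ∑ χ ∈ Bf, r χ u = 2 * ((p ^ d : ℕ) : ℝ) := by
    intro u
    have h1 := sum_ctb_self hM (hsec u).1 H (hsec u).2 ξ₀ hind
    rw [← hb, hl] at h1
    have h3 : ((∑ χ ∈ Bf, r χ u : ℝ) : ℂ) = ((2 * ((p ^ d : ℕ) : ℝ) : ℝ) : ℂ) := by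
      push_cast
      have h4 : (2 : ℂ) * (p : ℂ) ^ d = ((p ^ d : ℕ) : ℂ) * ((2 : ℕ) : ℂ) := by
        push_cast
        ring
      rw [h4, ← h1, Finset.mul_sum]
      refine Finset.sum_congr rfl fun χ _ => ?_
      have h5 := hdiag χ u
      rw [hx] at h5
      simp only at h5
      rw [h5]
    exact_mod_cast h3
  have hne : ∀ χ ∈ B, ∀ u, ¬ (X χ u = 0 ∧ Y χ u = 0) := by
    rintro χ hχ u ⟨hX0, hY0⟩
    have h5 := ctb_self_ne_zero hM (hsec u).1 H (hsec u).2 ξ₀ hind hdef χ hχ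
    apply h5
    have h6 := hxcoord χ χ u
    rw [hX0, hY0] at h6
    simp only [zero_mul, add_zero] at h6
    rw [hx] at h6
    simp only at h6
    have hpd : ((p ^ d : ℕ) : ℂ) ≠ 0 := by
      have : 0 < p ^ d := pow_pos hp.pos d
      exact_mod_cast this.ne'
    exact (mul_eq_zero.mp h6).resolve_left hpd
  have hne' : ∀ χ ∈ B, ¬ ((∀ u, X χ u = 0) ∧ (∀ u, Y χ u = 0)) := by
    rintro χ hχ ⟨h1, h2⟩
    exact hne χ hχ 1 ⟨h1 1, h2 1⟩
  have hφpos : 0 < Fintype.card (ZMod N)ˣ := by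
    rw [ZMod.card_units_eq_totient]
    exact Nat.totient_pos.mpr hNpos
  have hφ : (Fintype.card (ZMod N)ˣ : ℝ) = (Nat.totient N : ℝ) := by
    rw [ZMod.card_units_eq_totient]
  have hnormx : ∀ χ u, ‖x χ χ u‖ = r χ u := by
    intro χ u
    rw [hdiag χ u, Complex.norm_real, Real.norm_of_nonneg (hrnonneg χ u)]
  -- the final count from a uniform lower bound
  have hfinish : (∀ χ ∈ B, 2 * (Nat.totient N : ℝ) ≤ ∑ u : (ZMod N)ˣ, r χ u) →
      Bf.card ≤ p ^ d := by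
    intro hlow
    have h1 := count_le Bf r 2 ((p ^ d : ℕ) : ℝ) (by norm_num) hφpos
      (fun χ hχ => by rw [hφ]; exact hlow χ ((hmem χ).1 hχ)) (fun u => (htot u).le)
    exact_mod_cast h1
  by_cases hα2 : 2 ≤ α
  · -- Case A
    apply hfinish
    intro χ hχ
    have h1 := reduced_ge (hGFX χ) (hGFY χ) (hne' χ hχ) (α : ℝ) (β : ℝ) (γ : ℝ) hβR hβαR hαγR
    have h2 : (2 : ℝ) ≤ (α : ℝ) := by exact_mod_cast hα2
    have h3 : (0 : ℝ) ≤ (Nat.totient N : ℝ) := Nat.cast_nonneg _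
    calc 2 * (Nat.totient N : ℝ) ≤ (α : ℝ) * (Nat.totient N : ℝ) :=
          mul_le_mul_of_nonneg_right h2 h3
      _ ≤ _ := h1
  · -- Case B
    have hα1 : α = 1 := by omega
    have hβ1 : β = 0 := by omega
    have hγ1 : (1 : ℝ) ≤ (γ : ℝ) := by
      have : 1 ≤ γ := by omega
      exact_mod_cast this
    have hxB : ∀ χ ψ u, x χ ψ u =
        X χ u * conj (X ψ u) + Y χ u * conj (Y ψ u) * (γ : ℂ) := by
      intro χ ψ u
      rw [hxcoord, hα1, hβ1]
      push_cast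
      ring
    have hrB : ∀ χ u, r χ u = ‖X χ u‖ ^ 2 + (γ : ℝ) * ‖Y χ u‖ ^ 2 := by
      intro χ u
      rw [hr]
      simp only
      rw [hα1, hβ1]
      push_cast
      ring
    -- the rows
    have hrow : ∀ (χ₀ : IrrCharacter G) (u : (ZMod N)ˣ),
        ∑ ψ ∈ Bf, x χ₀ ψ u * conj (x χ₀ ψ u) = ((p ^ d : ℕ) : ℂ) * x χ₀ χ₀ u := by
      intro χ₀ u
      have h1 := sum_ctb_mul_conj hM (hsec u).1 H (hsec u).2 ξ₀ hind (χ₀ : G → ℂ)
      rw [hx]
      simp only
      rw [← h1, Finset.mul_sum, Finset.mul_sum]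
      refine Finset.sum_congr rfl fun ψ _ => ?_
      rw [map_mul, Complex.conj_natCast]
      ring
    have hpd : ((p ^ d : ℕ) : ℂ) ≠ 0 := by
      have : 0 < p ^ d := pow_pos hp.pos d
      exact_mod_cast this.ne'
    have hconj_ne : ∀ z : ℂ, z ≠ 0 → conj z ≠ 0 := fun z hz => by
      intro h0
      apply hz
      have := congrArg (starRingEnd ℂ) h0
      rwa [Complex.conj_conj, map_zero] at this
    by_cases hB1 : ∃ χ₀ ∈ B, blockHeight p B (χ₀ : G → ℂ) = 0 ∧ ∀ u, Y χ₀ u = 0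
    · obtain ⟨χ₀, hχ₀, hh0, hY0⟩ := hB1
      have hXne : ∀ ψ ∈ B, ∀ u, X ψ u ≠ 0 := by
        intro ψ hψ u h0
        have h5 := ctb_ne_zero hM (hsec u).1 H (hsec u).2 ξ₀ hind hdef χ₀ hχ₀ hh0 ψ hψ
        apply h5
        have h6 := hxB χ₀ ψ u
        rw [h0, hY0 u, map_zero, mul_zero, zero_mul, zero_mul, add_zero] at h6
        rw [hx] at h6
        simp only at h6
        exact (mul_eq_zero.mp h6).resolve_left hpd
      have hsum : ∀ u, ∑ ψ ∈ Bf, ‖X ψ u‖ ^ 2 = ((p ^ d : ℕ) : ℝ) := by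
        intro u
        have h1 := hrow χ₀ u
        have h2 : ∀ ψ, x χ₀ ψ u = X χ₀ u * conj (X ψ u) := by
          intro ψ
          rw [hxB, hY0 u, zero_mul, zero_mul, add_zero]
        have hX0 := hXne χ₀ hχ₀ u
        have h3 : ((∑ ψ ∈ Bf, ‖X ψ u‖ ^ 2 : ℝ) : ℂ) = ((((p ^ d : ℕ) : ℝ)) : ℂ) := by
          push_cast
          simp only [normSq_cast]
          have h4 : (X χ₀ u * conj (X χ₀ u)) * ∑ ψ ∈ Bf, X ψ u * conj (X ψ u) =
              (X χ₀ u * conj (X χ₀ u)) * (p : ℂ) ^ d := by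
            have h5 : ∑ ψ ∈ Bf, x χ₀ ψ u * conj (x χ₀ ψ u) =
                (X χ₀ u * conj (X χ₀ u)) * ∑ ψ ∈ Bf, X ψ u * conj (X ψ u) := by
              rw [Finset.mul_sum]
              refine Finset.sum_congr rfl fun ψ _ => ?_
              rw [h2 ψ, map_mul, Complex.conj_conj]
              ring
            rw [← h5, h1, h2 χ₀]
            push_cast
            ring
          exact mul_left_cancel₀ (mul_ne_zero hX0 (hconj_ne _ hX0)) h4
        exact_mod_cast h3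
      have h1 := count_le Bf (fun ψ u => ‖X ψ u‖ ^ 2) 1 ((p ^ d : ℕ) : ℝ) one_pos hφpos
        (fun ψ hψ => by
          rw [one_mul, hφ]
          exact (hGFX ψ).sum_sq_ge ⟨1, hXne ψ ((hmem ψ).1 hψ) 1⟩)
        (fun u => by
          rw [one_mul]
          exact (hsum u).le)
      exact_mod_cast h1
    · by_cases hB2 : ∃ χ₀ ∈ B, blockHeight p B (χ₀ : G → ℂ) = 0 ∧ ∀ u, X χ₀ u = 0
      · obtain ⟨χ₀, hχ₀, hh0, hX0⟩ := hB2
        have hγC : (γ : ℂ) ≠ 0 := by
          have : γ ≠ 0 := by omega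
          exact_mod_cast this
        have hYne : ∀ ψ ∈ B, ∀ u, Y ψ u ≠ 0 := by
          intro ψ hψ u h0
          have h5 := ctb_ne_zero hM (hsec u).1 H (hsec u).2 ξ₀ hind hdef χ₀ hχ₀ hh0 ψ hψ
          apply h5
          have h6 := hxB χ₀ ψ u
          rw [h0, hX0 u, map_zero, mul_zero, zero_mul, zero_mul, add_zero] at h6
          rw [hx] at h6
          simp only at h6
          exact (mul_eq_zero.mp h6).resolve_left hpd
        have hsum : ∀ u, ∑ ψ ∈ Bf, ‖Y ψ u‖ ^ 2 ≤ ((p ^ d : ℕ) : ℝ) := by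
          intro u
          have h1 := hrow χ₀ u
          have h2 : ∀ ψ, x χ₀ ψ u = Y χ₀ u * conj (Y ψ u) * (γ : ℂ) := by
            intro ψ
            rw [hxB, hX0 u, zero_mul, zero_add]
          have hY0 := hYne χ₀ hχ₀ u
          have h3 : (((γ : ℝ) * ∑ ψ ∈ Bf, ‖Y ψ u‖ ^ 2 : ℝ) : ℂ) = ((((p ^ d : ℕ) : ℝ)) : ℂ) := by
            push_cast
            simp only [normSq_cast]
            have h4 : (Y χ₀ u * conj (Y χ₀ u) * (γ : ℂ)) *
                ((γ : ℂ) * ∑ ψ ∈ Bf, Y ψ u * conj (Y ψ u)) =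
                (Y χ₀ u * conj (Y χ₀ u) * (γ : ℂ)) * (p : ℂ) ^ d := by
              have h5 : ∑ ψ ∈ Bf, x χ₀ ψ u * conj (x χ₀ ψ u) =
                  (Y χ₀ u * conj (Y χ₀ u) * (γ : ℂ)) *
                    ((γ : ℂ) * ∑ ψ ∈ Bf, Y ψ u * conj (Y ψ u)) := by
                rw [Finset.mul_sum, Finset.mul_sum]
                refine Finset.sum_congr rfl fun ψ _ => ?_
                rw [h2 ψ, map_mul, map_mul, Complex.conj_conj, map_intCast]
                ring
              rw [← h5, h1, h2 χ₀]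
              push_cast
              ring
            exact mul_left_cancel₀
              (mul_ne_zero (mul_ne_zero hY0 (hconj_ne _ hY0)) hγC) h4
          have h6 : (γ : ℝ) * ∑ ψ ∈ Bf, ‖Y ψ u‖ ^ 2 = ((p ^ d : ℕ) : ℝ) := by exact_mod_cast h3
          have h7 : (0 : ℝ) ≤ ∑ ψ ∈ Bf, ‖Y ψ u‖ ^ 2 := Finset.sum_nonneg fun ψ _ => sq_nonneg _
          nlinarith
        have h1 := count_le Bf (fun ψ u => ‖Y ψ u‖ ^ 2) 1 ((p ^ d : ℕ) : ℝ) one_pos hφpos
          (fun ψ hψ => by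
            rw [one_mul, hφ]
            exact (hGFY ψ).sum_sq_ge ⟨1, hYne ψ ((hmem ψ).1 hψ) 1⟩)
          (fun u => by
            rw [one_mul]
            exact hsum u)
        exact_mod_cast h1
      · apply hfinish
        intro χ hχ
        by_cases hh : blockHeight p B (χ : G → ℂ) = 0
        · have hXe : ∃ u, X χ u ≠ 0 := by
            by_contra hcon
            apply hB2
            refine ⟨χ, hχ, hh, fun u => ?_⟩
            by_contra hu
            exact hcon ⟨u, hu⟩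
          have hYe : ∃ u, Y χ u ≠ 0 := by
            by_contra hcon
            apply hB1
            refine ⟨χ, hχ, hh, fun u => ?_⟩
            by_contra hu
            exact hcon ⟨u, hu⟩
          have h1 := pair_ge (hGFX χ) (hGFY χ) hXe hYe (γ : ℝ) hγ1
          simp only [hrB]
          exact h1
        · set h := blockHeight p B (χ : G → ℂ) with hhdef
          have hhpos : 1 ≤ h := Nat.one_le_iff_ne_zero.mpr hh
          have hloc : ∀ u, MemLocalRing M (x χ χ u / ((p ^ h : ℕ) : ℂ)) := by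
            intro u
            have h1 := memLocalRing_pow_mul_ctb_div hM (hsec u).1 H (hsec u).2 ξ₀ χ χ hχ
            rw [← hdef] at h1
            exact h1
          have hperm : ∀ τ : ℂ ≃+* ℂ, ∃ σ : (ZMod N)ˣ ≃ (ZMod N)ˣ,
              ∀ u, τ (x χ χ u) = x χ χ (σ u) := by
            intro τ
            obtain ⟨j, hcop, hj⟩ := Cfsg.Agent.Lib.Helper75.exists_pow_of_ringEquiv τ N hNpos
            set ju : (ZMod N)ˣ := ZMod.unitOfCoprime j hcop with hju
            have hval : ((ju : (ZMod N)ˣ) : ZMod N).val = j % N := by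
              rw [hju, ZMod.coe_unitOfCoprime, ZMod.val_natCast]
            have hj' : ∀ ω : ℂ, ω ^ N = 1 → τ ω = ω ^ ((ju : (ZMod N)ˣ) : ZMod N).val := by
              intro ω hω
              rw [hval, hj ω hω]
              exact pow_eq_pow_mod j hω
            exact ⟨Equiv.mulRight ju, fun u => hgal χ χ τ ju hj' u⟩
          have hnz : ∀ u, x χ χ u ≠ 0 := by
            intro u h0
            have h5 := ctb_self_ne_zero hM (hsec u).1 H (hsec u).2 ξ₀ hind hdef χ hχ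
            apply h5
            rw [hx] at h0
            simp only at h0
            exact (mul_eq_zero.mp h0).resolve_left hpd
          have key := card_mul_pow_le_sum_norm hM (x χ χ) (hint χ χ) hperm hnz h hloc
          rw [hφ] at key
          simp only [hnormx] at key
          have h2 : (2 : ℝ) ≤ (p : ℝ) ^ h := by
            have h3 : (2 : ℝ) ≤ (p : ℝ) := by exact_mod_cast hp.two_le
            calc (2 : ℝ) ≤ (p : ℝ) := h3
              _ = (p : ℝ) ^ 1 := (pow_one _).symm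
              _ ≤ (p : ℝ) ^ h := pow_le_pow_right₀ (by linarith) hhpos
          have h4 : (0 : ℝ) ≤ (Nat.totient N : ℝ) := Nat.cast_nonneg _
          calc 2 * (Nat.totient N : ℝ) = (Nat.totient N : ℝ) * 2 := by ring
            _ ≤ (Nat.totient N : ℝ) * (p : ℝ) ^ h := mul_le_mul_of_nonneg_left h2 h4
            _ ≤ _ := key

end Cfsg.Agent.Lib.Helper52.LtE
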