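import Cfsg.Agent.Lib.Helper52.CentralDefect
import Cfsg.Agent.Lib.Helper52.BlockSat2
import Cfsg.Agent.Lib.Helper16.RegularDet
import Cfsg.Agent.Lib.Helper21.Rank
import Cfsg.Agent.Lib.Helper74.SP4
import Cfsg.Agent.Lib.Helper77.BrauerPair
import Cfsg.Agent.Lib.Helper77.BPairM

/-!
# A criterion for a Brauer pair to be maximal

`(Q, e)` is a maximal Brauer pair iff `e` has the central defect group `Z(Q)` and the stabilizer of
`e` in `N_G(Q)` has index prime to `p` over `Q C_G(Q)`.
-/

set_option autoImplicit false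

universe u

namespace Cfsg.Agent.Lib.Helper52.MaxPairCrit

open Cfsg
open Cfsg.Agent.Lib.Helper77 Cfsg.Agent.Lib.Helper81 Cfsg.Agent.Lib.Helper80
open Cfsg.Agent.Lib.Helper52.ConjPairs Cfsg.Agent.Lib.Helper52.Subpairs
open Cfsg.Agent.Lib.Helper52.DefectPairs Cfsg.Agent.Lib.Helper52.CentralDefect

variable {G : Type u} [Group G] [Fintype G] {p : ℕ} [Fact p.Prime] {M : Ideal AlgInt}

/-- A maximal pair `(Q, e)`: the block `e` has defect group `Z(Q)`, and `p`-elements of the
stabilizer lie in `Q C_G(Q)`. -/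
theorem forward (hpM : IsPModular p M) {B : Set (IrrCharacter G)} {Q : Subgroup G}
    {e : Set (IrrCharacter (Subgroup.centralizer (Q : Set G)))}
    (hmax : IsMaximalBrauerPair p M B Q e) :
    IsDefectGroup p M e ((Q ⊓ Subgroup.centralizer (Q : Set G)).subgroupOf
      (Subgroup.centralizer (Q : Set G))) ∧
    ∀ x : G, x ∈ Subgroup.normalizer (Q : Set G) →
      StabilizesBlock (Subgroup.centralizer (Q : Set G)) e x → (∃ k : ℕ, orderOf x = p ^ k) →
      x ∈ Q ⊔ Subgroup.centralizer (Q : Set G) := by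
  classical
  have hM : M.IsPrime := isPrime_of_isPModular hpM
  obtain ⟨hBQ, hmaxi⟩ := hmax
  have hQp : IsPGroup p Q := hBQ.1.1
  have he : IsPBlock M e := hBQ.1.2
  constructor
  · obtain ⟨D, g, hnorm, -, hdef⟩ := claimX hpM hQp he hQp le_rfl Subgroup.le_normalizer
      (fun x hx => stabilizesBlock_of_mem_self Q e hx)
    have hDB := isBrauerPairOf_of_isNormalSubpair hpM hnorm hBQ
    have hDQ : D = Q := hmaxi D g hDB (Relation.ReflTransGen.single hnorm)
    subst hDQ
    exact hdef
  · intro x hxN hxst hxp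
    have hzN : Subgroup.zpowers x ≤ Subgroup.normalizer (Q : Set G) := by
      rw [Subgroup.zpowers_le]; exact hxN
    have hzp : IsPGroup p (Subgroup.zpowers x) := by
      obtain ⟨k, hk⟩ := hxp
      exact IsPGroup.of_card (n := k) (by rw [Nat.card_zpowers, hk])
    have hSp : IsPGroup p (Q ⊔ Subgroup.zpowers x : Subgroup G) :=
      IsPGroup.to_sup_of_normal_left' hQp hzp hzN
    have hSe : ∀ y ∈ (Q ⊔ Subgroup.zpowers x : Subgroup G),
        StabilizesBlock (Subgroup.centralizer (Q : Set G)) e y := by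
      intro y hy
      rw [← mem_stabSub_iff hM _ he]
      have hle : Q ⊔ Subgroup.zpowers x ≤ stabSub (Subgroup.centralizer (Q : Set G)) e := by
        refine sup_le (fun q hq => (mem_stabSub_iff hM _ he).mpr
          (stabilizesBlock_of_mem_self Q e hq)) ?_
        rw [Subgroup.zpowers_le]
        exact (mem_stabSub_iff hM _ he).mpr hxst
      exact hle hy
    obtain ⟨D, g, hnorm, hsup, -⟩ := claimX hpM hQp he hSp le_sup_left
      (sup_le Subgroup.le_normalizer hzN) hSe
    have hDB := isBrauerPairOf_of_isNormalSubpair hpM hnorm hBQ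
    have hDQ : D = Q := hmaxi D g hDB (Relation.ReflTransGen.single hnorm)
    subst hDQ
    have hx : x ∈ (D ⊔ Subgroup.zpowers x) ⊔ Subgroup.centralizer (D : Set G) :=
      le_sup_left (a := D ⊔ Subgroup.zpowers x)
        (le_sup_right (a := D) (Subgroup.mem_zpowers x))
    rw [← hsup] at hx
    exact hx

/-- The converse: a character of `e` of defect zero modulo `Z(Q)` and the stabilizer condition
make `(Q, e)` a maximal pair. -/
theorem backward (hpM : IsPModular p M) {Q : Subgroup G}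
    {e : Set (IrrCharacter (Subgroup.centralizer (Q : Set G)))} (he : IsBrauerPair p M Q e)
    (θ : IrrCharacter (Subgroup.centralizer (Q : Set G))) (hθ : θ ∈ e)
    (h1 : ∀ z : Subgroup.centralizer (Q : Set G), (z : G) ∈ Q →
      (θ : Subgroup.centralizer (Q : Set G) → ℂ) z =
        (θ : Subgroup.centralizer (Q : Set G) → ℂ) 1)
    (h2 : (charDegree (θ : Subgroup.centralizer (Q : Set G) → ℂ)).factorization p +
      (Nat.card ↥(Q ⊓ Subgroup.centralizer (Q : Set G))).factorization p =
        (Nat.card (Subgroup.centralizer (Q : Set G))).factorization p)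
    (h3 : ∀ x : G, x ∈ Subgroup.normalizer (Q : Set G) →
      StabilizesBlock (Subgroup.centralizer (Q : Set G)) e x → (∃ k : ℕ, orderOf x = p ^ k) →
      x ∈ Q ⊔ Subgroup.centralizer (Q : Set G)) :
    ∃ B : Set (IrrCharacter G), IsMaximalBrauerPair p M B Q e := by
  classical
  have hp : p.Prime := Fact.out
  have hM : M.IsPrime := isPrime_of_isPModular hpM
  have hQp : IsPGroup p Q := he.1
  have heb : IsPBlock M e := he.2
  have := Fintype.ofFinite (Subgroup.centralizer (Q : Set G))
  obtain ⟨B, hB, -⟩ := existsUnique_isBrauerPairOf hpM he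
  -- the defect of `e`
  obtain ⟨Zs, hZs⟩ : ∃ Zs : Subgroup (Subgroup.centralizer (Q : Set G)),
      Zs = (Q ⊓ Subgroup.centralizer (Q : Set G)).subgroupOf
        (Subgroup.centralizer (Q : Set G)) := ⟨_, rfl⟩
  have hmemZs : ∀ z : Subgroup.centralizer (Q : Set G), z ∈ Zs ↔ (z : G) ∈ Q := by
    intro z
    rw [hZs, Subgroup.mem_subgroupOf, Subgroup.mem_inf]
    exact ⟨fun h => h.1, fun h => ⟨h, z.2⟩⟩
  have hZc : ∀ z ∈ Zs, ∀ h : Subgroup.centralizer (Q : Set G), z * h = h * z := by
    intro z hz h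
    apply Subtype.ext
    exact ((Subgroup.mem_centralizer_iff.mp h.2) (z : G) ((hmemZs z).mp hz))
  have hker : ∀ z ∈ Zs, (θ : Subgroup.centralizer (Q : Set G) → ℂ) z =
      (θ : Subgroup.centralizer (Q : Set G) → ℂ) 1 := fun z hz => h1 z ((hmemZs z).mp hz)
  have hcardZ : Nat.card Zs = Nat.card ↥(Q ⊓ Subgroup.centralizer (Q : Set G)) := by
    rw [hZs]
    exact Nat.card_congr (Subgroup.subgroupOfEquivOfLe
      (inf_le_right : Q ⊓ Subgroup.centralizer (Q : Set G) ≤ _)).toEquiv
  have hdeg : (charDegree (θ : Subgroup.centralizer (Q : Set G) → ℂ)).factorization p +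
      (Nat.card Zs).factorization p =
        (Nat.card (Subgroup.centralizer (Q : Set G))).factorization p := by
    rw [hcardZ]; exact h2
  have hbd := blockDefect_le_of_central_ker hpM Zs hZc θ hker hdeg
  have heq : e = blockOf M (θ : Subgroup.centralizer (Q : Set G) → ℂ) :=
    Cfsg.Agent.Lib.Helper16.eq_blockOf_of_mem hM heb hθ
  have hZp : IsPGroup p Zs := by
    rw [hZs]
    exact (hQp.to_le inf_le_left).comap_subtype
  obtain ⟨nz, hnz⟩ := IsPGroup.iff_card.mp hZp
  have hnz' : (Nat.card Zs).factorization p = nz := by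
    rw [hnz, hp.factorization_pow]
    simp
  refine ⟨B, hB, fun R g hRg hle => ?_⟩
  obtain ⟨P, e', hmaxP, hleP⟩ := exists_isMaximalBrauerPair_ge _ R g rfl hRg
  have hQP' : SubpairLE p M Q e P e' := Relation.ReflTransGen.trans hle hleP
  have hQR : Q ≤ R := le_of_reflTransGen hle
  have hRP : R ≤ P := le_of_reflTransGen hleP
  have hQP : Q ≤ P := hQR.trans hRP
  have hPe' : IsBrauerPair p M P e' := hmaxP.1.1
  have hPp : IsPGroup p P := hPe'.1
  -- `C_P(Q) ≤ Q`
  have hCPQ : ∀ c : G, c ∈ P → c ∈ Subgroup.centralizer (Q : Set G) → c ∈ Q := by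
    obtain ⟨D, hD, hCD⟩ := exists_isDefectGroup_ge_inf_centralizer hpM hPe' hQP hQP'
    have hDcard : Nat.card D = p ^ blockDefect p (blockOf M
        (θ : Subgroup.centralizer (Q : Set G) → ℂ)) := by
      rw [heq] at hD
      exact Cfsg.Agent.Lib.Helper74.card_eq_pow_blockDefect_of_isDefectGroup hpM θ hD
    have hZle : Zs ≤ (P ⊓ Subgroup.centralizer (Q : Set G)).subgroupOf
        (Subgroup.centralizer (Q : Set G)) := by
      intro z hz
      rw [Subgroup.mem_subgroupOf, Subgroup.mem_inf]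
      exact ⟨hQP ((hmemZs z).mp hz), z.2⟩
    have hc1 : Nat.card ((P ⊓ Subgroup.centralizer (Q : Set G)).subgroupOf
        (Subgroup.centralizer (Q : Set G))) ≤ Nat.card Zs := by
      calc Nat.card ((P ⊓ Subgroup.centralizer (Q : Set G)).subgroupOf
          (Subgroup.centralizer (Q : Set G))) ≤ Nat.card D := Subgroup.card_le_of_le hCD
        _ = p ^ blockDefect p (blockOf M
            (θ : Subgroup.centralizer (Q : Set G) → ℂ)) := hDcard
        _ ≤ p ^ nz := Nat.pow_le_pow_right hp.pos (hnz' ▸ hbd)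
        _ = Nat.card Zs := hnz.symm
    have hEq := Subgroup.eq_of_le_of_card_ge hZle hc1
    intro c hcP hcC
    have : (⟨c, hcC⟩ : Subgroup.centralizer (Q : Set G)) ∈ Zs := by
      rw [hEq, Subgroup.mem_subgroupOf, Subgroup.mem_inf]
      exact ⟨hcP, hcC⟩
    exact (hmemZs _).mp this
  -- `N_P(Q) ≤ Q`
  have hNPQ : ∀ y : G, y ∈ P → y ∈ Subgroup.normalizer (Q : Set G) → y ∈ Q := by
    intro y hyP hyN
    have hst := stabilizes_of_mem_of_subpairLE hpM hPe' hQP' hyP hyN
    have hyp : ∃ k : ℕ, orderOf y = p ^ k := by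
      obtain ⟨k, hk⟩ := (IsPGroup.iff_orderOf.mp hPp) ⟨y, hyP⟩
      exact ⟨k, by rw [← hk, Subgroup.orderOf_mk]⟩
    have hmem := h3 y hyN hst hyp
    have hQnC : Q ≤ Subgroup.normalizer
        ((Subgroup.centralizer (Q : Set G) : Subgroup G) : Set G) := fun q hq =>
      Cfsg.Agent.S4691.normalizer_le_normalizer_centralizer' Q (Subgroup.le_normalizer hq)
    have hy' : y ∈ ((Q ⊔ Subgroup.centralizer (Q : Set G) : Subgroup G) : Set G) := hmem
    rw [Subgroup.coe_mul_of_left_le_normalizer_right _ _ hQnC] at hy'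
    obtain ⟨u, hu, c, hc, huc⟩ := hy'
    have huc' : u * c = y := huc
    have hcP : c ∈ P := by
      have : c = u⁻¹ * y := by rw [← huc']; group
      rw [this]
      exact P.mul_mem (P.inv_mem (hQP hu)) hyP
    rw [← huc']
    exact Q.mul_mem hu (hCPQ c hcP hc)
  -- hence `Q = P`
  have hQeqP : Q = P := by
    by_contra hne
    have hlt : Q < P := lt_of_le_of_ne hQP hne
    obtain ⟨n, hnP, hnN, hnQ⟩ := Cfsg.Agent.Lib.Helper21.exists_normalizer_not_mem hPp hlt
    exact hnQ (hNPQ n hnP hnN)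
  exact le_antisymm (hQeqP ▸ hRP) hQR

end Cfsg.Agent.Lib.Helper52.MaxPairCrit
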