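import Cfsg.Agent.Lib.Helper77.KfH

/-!
# Nilpotent blocks with abelian defect groups: the lower bound `l(B) + |P| - 1 ≤ k(B)` (helper52)

Generic-`p` versions of the "tied subsection" lemmas of `Helper77.KfH`, and the count of
subsections of a nilpotent block with abelian defect group.
-/

set_option autoImplicit false

universe u

namespace Cfsg.Agent.Lib.Helper52.NlA

open Cfsg Cfsg.Agent.Lib.Helper75 Cfsg.Agent.Lib.Helper77 Cfsg.Agent.Lib.Helper77.Kf
open Cfsg.Agent.Lib.Helper52.ConjPairs (conjIdx conjSub)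

variable {G : Type u} [Group G] [Fintype G] {p : ℕ} {M : Ideal AlgInt}

/-- The property tying an element `u` of `P` to a subsection `s` with `s.1` in a set of
representatives. -/
def TiedP (p : ℕ) (M : Ideal AlgInt) (P : Subgroup G)
    (c : Set (IrrCharacter (Subgroup.centralizer (P : Set G)))) (u : G)
    (s : Σ x : G, Set (IrrCharacter (Subgroup.centralizer ({x} : Set G)))) : Prop :=
  ∃ (g : G) (f : Set (IrrCharacter (Subgroup.centralizer
      ((Subgroup.zpowers u : Subgroup G) : Set G)))),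
    Relation.ReflTransGen (NormalSubpairRel p M)
      (⟨Subgroup.zpowers u, f⟩ : BrauerPairIdx G) ⟨P, c⟩ ∧ g * u * g⁻¹ = s.1 ∧
      conjIdx g (⟨Subgroup.zpowers u, f⟩ : BrauerPairIdx G) =
        ⟨Subgroup.zpowers s.1, ofSec s.1 s.2⟩

theorem exists_tiedP [Fact p.Prime] (hM : IsPModular p M) {B : Set (IrrCharacter G)}
    (hB : IsPBlock M B) {P : Subgroup G}
    {c : Set (IrrCharacter (Subgroup.centralizer (P : Set G)))}
    (hBP : IsBrauerPairOf p M B P c) {X : Finset G}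
    (hXrep : ∀ g : G, (∃ k : ℕ, orderOf g = p ^ k) → ∃! x, x ∈ X ∧ IsConj g x)
    {u : G} (hu : u ∈ P) (hu1 : u ≠ 1) :
    ∃ s : Σ x : G, Set (IrrCharacter (Subgroup.centralizer ({x} : Set G))),
      s.1 ∈ X ∧ s.1 ≠ 1 ∧ IsInducedBlock M (Subgroup.centralizer ({s.1} : Set G)) s.2 B ∧
        TiedP p M P c u s := by
  have hQP : Subgroup.zpowers u ≤ P := by
    rw [Subgroup.zpowers_le]
    exact hu
  obtain ⟨f, -, hle⟩ := Cfsg.Agent.Lib.Helper52.Subpairs.exists_subpairLE hM _ P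
    (Subgroup.zpowers u) c rfl hBP.1 hQP
  have hfB : IsBrauerPairOf p M B (Subgroup.zpowers u) f :=
    (Cfsg.Agent.Lib.Helper52.Subpairs.isBrauerPairOf_iff_of_subpairLE hM hB hle).mp hBP
  have hup : ∃ k : ℕ, orderOf u = p ^ k := by
    obtain ⟨k, hk⟩ := IsPGroup.iff_orderOf.mp hBP.1.1 ⟨u, hu⟩
    exact ⟨k, by rw [← hk, Subgroup.orderOf_mk]⟩
  obtain ⟨x, ⟨hxX, hconj⟩, -⟩ := hXrep u hup
  obtain ⟨g, hg⟩ := isConj_iff.mp hconj
  have hfst : (conjIdx g (⟨Subgroup.zpowers u, f⟩ : BrauerPairIdx G)).1 = Subgroup.zpowers x := by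
    show conjSub (Subgroup.zpowers u) g = _
    rw [conjSub_zpowers, hg]
  obtain ⟨f', hf'⟩ := exists_idx_eq hfst
  have hB' : IsBrauerPairOf p M B (Subgroup.zpowers x) f' := by
    have h1 := Cfsg.Agent.Lib.Helper52.ConjPairs.isBrauerPairOf_conjIdx (p := p) (M := M) (B := B)
      g (a := (⟨Subgroup.zpowers u, f⟩ : BrauerPairIdx G)) hfB
    rw [hf'] at h1
    exact h1
  refine ⟨⟨x, toSec x f'⟩, hxX, ?_, isInducedBlock_toSec_of_isBrauerPairOf hM hB', g, f, hle, hg, ?_⟩
  · intro hx1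
    apply hu1
    have hx1' : x = 1 := hx1
    rw [hx1'] at hg
    have := congrArg (fun z => g⁻¹ * z * g) hg
    simpa [mul_assoc] using this
  · show conjIdx g (⟨Subgroup.zpowers u, f⟩ : BrauerPairIdx G) =
      ⟨Subgroup.zpowers x, ofSec x (toSec x f')⟩
    rw [ofSec_toSec]
    exact hf'

theorem eq_of_tiedP [Fact p.Prime] (hM : IsPModular p M) {B : Set (IrrCharacter G)}
    {P : Subgroup G} {c : Set (IrrCharacter (Subgroup.centralizer (P : Set G)))}
    (hmax : IsMaximalBrauerPair p M B P c) (hnil : IsNilpotentBlock p M B)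
    (hab : ∀ x ∈ P, ∀ y ∈ P, x * y = y * x) {u v : G} (hu : u ∈ P)
    {s : Σ x : G, Set (IrrCharacter (Subgroup.centralizer ({x} : Set G)))}
    (hsu : TiedP p M P c u s) (hsv : TiedP p M P c v s) : u = v := by
  obtain ⟨g, f, hle, hg, hidx⟩ := hsu
  obtain ⟨g', f', hle', hg', hidx'⟩ := hsv
  have h1 : conjIdx (g'⁻¹ * g) (⟨Subgroup.zpowers u, f⟩ : BrauerPairIdx G) =
      ⟨Subgroup.zpowers v, f'⟩ := by
    rw [← Cfsg.Agent.Lib.Helper52.ConjPairs.conjIdx_conjIdx, hidx, ← hidx',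
      Cfsg.Agent.Lib.Helper52.ConjPairs.conjIdx_inv_conjIdx]
  obtain ⟨q, hq, hcf⟩ := control_of_fusion hM hmax hnil _
    (⟨Subgroup.zpowers u, f⟩ : BrauerPairIdx G) rfl hle (g'⁻¹ * g) (by rw [h1]; exact hle')
  have h2 := hcf u (Subgroup.mem_zpowers u)
  have h3 : q * u * q⁻¹ = u := by
    rw [hab q hq u hu, mul_inv_cancel_right]
  rw [h3] at h2
  have h4 : g'⁻¹ * g * u * (g'⁻¹ * g)⁻¹ = g'⁻¹ * (g * u * g⁻¹) * g' := by group
  rw [h4, hg, ← hg'] at h2
  rw [← h2]
  group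

/-- **Lower bound.**  A nilpotent block with abelian defect group `P` has at least
`l(B) + |P| - 1` irreducible characters. -/
theorem rank_add_card_le [Fact p.Prime] (hM : IsPModular p M)
    {B : Set (IrrCharacter G)} (hB : IsPBlock M B)
    {P : Subgroup G} {c : Set (IrrCharacter (Subgroup.centralizer (P : Set G)))}
    (hmax : IsMaximalBrauerPair p M B P c) (hnil : IsNilpotentBlock p M B)
    (hab : ∀ x ∈ P, ∀ y ∈ P, x * y = y * x) :
    blockRank p B + (Nat.card P - 1) ≤ Nat.card B := by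
  classical
  have hp : p.Prime := Fact.out
  have hMp : M.IsPrime := hM.2.1.isPrime
  have hBP := hmax.1
  obtain ⟨X, h1X, -, hX, hXrep⟩ := exists_pElement_reps p (1 : G)
    ⟨0, by rw [orderOf_one, pow_zero]⟩
  have hcount : Nat.card B = ∑ x' ∈ X, sectionTerm p M B x' :=
    Cfsg.Agent.S4511.result p M hM B hB X hX hXrep
  -- the tied subsections
  have hex : ∀ u : P, ∃ s : Σ x : G, Set (IrrCharacter (Subgroup.centralizer ({x} : Set G))),
      u ≠ 1 → (s.1 ∈ X ∧ s.1 ≠ 1 ∧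
        IsInducedBlock M (Subgroup.centralizer ({s.1} : Set G)) s.2 B ∧
        TiedP p M P c (u : G) s) := by
    intro u
    by_cases hu1 : u = 1
    · exact ⟨⟨1, ∅⟩, fun h => (h hu1).elim⟩
    · obtain ⟨s, hs⟩ := exists_tiedP hM hB hBP hXrep u.2 (fun h => hu1 (Subtype.ext h))
      exact ⟨s, fun _ => hs⟩
  choose σ hσ using hex
  have : Fintype P := Fintype.ofFinite P
  set S := ((Finset.univ : Finset P).erase 1).image σ with hS
  have hinj : Set.InjOn σ (((Finset.univ : Finset P).erase 1 : Finset P) : Set P) := by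
    intro u hu v hv huv
    have hu1 : u ≠ 1 := (Finset.mem_erase.mp hu).1
    have hv1 : v ≠ 1 := (Finset.mem_erase.mp hv).1
    have h1 := (hσ u hu1).2.2.2
    have h2 := (hσ v hv1).2.2.2
    rw [← huv] at h2
    exact Subtype.ext (eq_of_tiedP hM hmax hnil hab u.2 h1 h2)
  have hcardS : S.card = Nat.card P - 1 := by
    rw [hS, Finset.card_image_of_injOn hinj, Finset.card_erase_of_mem (Finset.mem_univ _),
      Finset.card_univ, Nat.card_eq_fintype_card]
  have hlb := sum_blockRank_le p M B (X.erase 1) S (by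
    intro s hs
    rw [hS, Finset.mem_image] at hs
    obtain ⟨u, hu, rfl⟩ := hs
    have hu1 : u ≠ 1 := (Finset.mem_erase.mp hu).1
    obtain ⟨h1, h2, h3, -⟩ := hσ u hu1
    exact ⟨Finset.mem_erase.mpr ⟨h2, h1⟩, h3⟩)
  have hpos : ∀ s ∈ S, 1 ≤ blockRank p s.2 := by
    intro s hs
    rw [hS, Finset.mem_image] at hs
    obtain ⟨u, hu, rfl⟩ := hs
    have hu1 : u ≠ 1 := (Finset.mem_erase.mp hu).1
    obtain ⟨-, -, h3, -⟩ := hσ u hu1
    obtain ⟨ψ, hψ⟩ := h3.1
    have hψs : ψ ∈ (σ u).2 := by rw [hψ]; exact self_mem_blockOf hMp ψ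
    exact one_le_blockRank p hp hψs
  have hS1 : S.card ≤ ∑ s ∈ S, blockRank p s.2 := by
    have := Finset.card_nsmul_le_sum S (fun s => blockRank p s.2) 1 hpos
    simpa using this
  have hsec1 : sectionTerm p M B 1 = blockRank p B :=
    sectionTerm_central p M hM B hB 1 (Subgroup.one_mem _) ⟨0, by rw [orderOf_one, pow_zero]⟩
  rw [← Finset.add_sum_erase X _ h1X, hsec1] at hcount
  omega

end Cfsg.Agent.Lib.Helper52.NlA
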