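import Cfsg.Agent.Lib.Helper52.NlA
import Cfsg.Agent.Lib.Helper74.SP4
import Cfsg.Agent.S4669
import Cfsg.Agent.S4688
import Cfsg.Agent.Lib.Helper77.CtbJ

/-!
# Nilpotent blocks with abelian defect groups have one irreducible Brauer character (helper52)

Induction on the group order: the lower bound `l(B) + |P| - 1 ≤ k(B)` of `NlA` against the upper
bound `k(B) ≤ |P|` of `Helper77.Ctb.card_le_of_rank_one` at a major subsection `(u, b_u)` with
`u ∈ P` non-central (where `l(b_u) = 1` by induction); central defect groups are `S4669`.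
-/

set_option autoImplicit false

universe u

namespace Cfsg.Agent.Lib.Helper52.NlC

open Cfsg Cfsg.Agent.Lib.Helper75 Cfsg.Agent.Lib.Helper77 Cfsg.Agent.Lib.Helper77.Kf

theorem blockDefect_castB (p : ℕ) {G : Type u} [Group G] {K K' : Subgroup G} (h : K = K')
    (b : Set (IrrCharacter K)) : blockDefect p (castB h b) = blockDefect p b := by
  subst h
  rfl

/-- **NIL1.** A nilpotent block with abelian defect groups has exactly one irreducible Brauer
character. -/
theorem blockRank_eq_one_of_nilpotent_abelian {p : ℕ} [Fact p.Prime] {M : Ideal AlgInt}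
    (hM : IsPModular p M) :
    ∀ (n : ℕ) (G : Type u) [Group G] [Fintype G], Nat.card G = n →
      ∀ (B : Set (IrrCharacter G)), IsNilpotentBlock p M B →
      ∀ (D : Subgroup G), IsDefectGroup p M B D → (∀ x ∈ D, ∀ y ∈ D, x * y = y * x) →
      blockRank p B = 1 := by
  intro n
  induction n using Nat.strong_induction_on with
  | _ n ih =>
    intro G _ _ hn B hnil D hD hab
    classical
    have hp : p.Prime := Fact.out
    have hMp : M.IsPrime := hM.2.1.isPrime
    have hB : IsPBlock M B := hnil.1
    by_cases hZ : D ≤ Subgroup.center G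
    · exact Cfsg.Agent.S4669.result p M hM B hB D hD hZ
    · obtain ⟨c, hBP⟩ := exists_isBrauerPairOf_of_isDefectGroup hM hB hD
      have hmax := isMaximalBrauerPair_of_isDefectGroup hM hBP hD
      obtain ⟨u₀, hu₀D, hu₀Z⟩ := SetLike.not_le_iff_exists.mp hZ
      have hQD : Subgroup.zpowers u₀ ≤ D := by
        rw [Subgroup.zpowers_le]
        exact hu₀D
      obtain ⟨f₀, -, hle₀⟩ := Cfsg.Agent.Lib.Helper52.Subpairs.exists_subpairLE hM _ D
        (Subgroup.zpowers u₀) c rfl hBP.1 hQD
      have hQf : IsBrauerPairOf p M B (Subgroup.zpowers u₀) f₀ :=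
        (Cfsg.Agent.Lib.Helper52.Subpairs.isBrauerPairOf_iff_of_subpairLE hM hB hle₀).mp hBP
      obtain ⟨hnil₀, hdef₀⟩ := Cfsg.Agent.S4688.result p M hM B D c hmax hnil
        (Subgroup.zpowers u₀) f₀ hQf
      have hdef₀' := hdef₀ hle₀
      -- the centralizer is a proper subgroup
      have hlt : Nat.card (Subgroup.centralizer ((Subgroup.zpowers u₀ : Subgroup G) : Set G)) < n := by
        rw [← hn]
        apply lt_of_le_of_ne (Subgroup.card_le_card_group _)
        intro hcard
        have htop := Subgroup.eq_top_of_card_eq _ hcard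
        apply hu₀Z
        rw [Subgroup.mem_center_iff]
        intro g
        have hg : g ∈ Subgroup.centralizer ((Subgroup.zpowers u₀ : Subgroup G) : Set G) := by
          rw [htop]
          exact Subgroup.mem_top g
        exact ((Subgroup.mem_centralizer_iff.mp hg) u₀ (Subgroup.mem_zpowers u₀)).symm
      have hab₀ : ∀ x ∈ (D ⊓ Subgroup.centralizer ((Subgroup.zpowers u₀ : Subgroup G) : Set G)).subgroupOf
          (Subgroup.centralizer ((Subgroup.zpowers u₀ : Subgroup G) : Set G)),
          ∀ y ∈ (D ⊓ Subgroup.centralizer ((Subgroup.zpowers u₀ : Subgroup G) : Set G)).subgroupOf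
          (Subgroup.centralizer ((Subgroup.zpowers u₀ : Subgroup G) : Set G)), x * y = y * x := by
        intro x hx y hy
        apply Subtype.ext
        exact hab x hx.1 y hy.1
      have hrank₀ : blockRank p f₀ = 1 :=
        ih _ hlt (Subgroup.centralizer ((Subgroup.zpowers u₀ : Subgroup G) : Set G)) rfl f₀ hnil₀ _
          hdef₀' hab₀
      have hup : ∃ k : ℕ, orderOf u₀ = p ^ k := by
        obtain ⟨k, hk⟩ := IsPGroup.iff_orderOf.mp hBP.1.1 ⟨u₀, hu₀D⟩
        exact ⟨k, by rw [← hk, Subgroup.orderOf_mk]⟩
      have hind := isInducedBlock_toSec_of_isBrauerPairOf hM hQf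
      have hrank : blockRank p (toSec u₀ f₀) = 1 := by
        rw [blockRank_toSec]
        exact hrank₀
      -- defects
      have hDC : D ≤ Subgroup.centralizer ((Subgroup.zpowers u₀ : Subgroup G) : Set G) :=
        le_centralizer_of_abelian hab hQD
      have hcardD : Nat.card ((D ⊓ Subgroup.centralizer
          ((Subgroup.zpowers u₀ : Subgroup G) : Set G)).subgroupOf
          (Subgroup.centralizer ((Subgroup.zpowers u₀ : Subgroup G) : Set G))) = Nat.card D := by
        rw [inf_eq_left.mpr hDC]
        exact Nat.card_congr (Subgroup.subgroupOfEquivOfLe hDC).toEquiv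
      obtain ⟨χ, hχ⟩ := hB
      obtain ⟨ξ, hξ⟩ := hnil₀.1
      have hd1 : Nat.card D = p ^ blockDefect p B := by
        rw [hχ]
        rw [hχ] at hD
        exact Cfsg.Agent.Lib.Helper74.card_eq_pow_blockDefect_of_isDefectGroup hM χ hD
      have hd2 : Nat.card D = p ^ blockDefect p f₀ := by
        rw [← hcardD, hξ]
        rw [hξ] at hdef₀'
        exact Cfsg.Agent.Lib.Helper74.card_eq_pow_blockDefect_of_isDefectGroup hM ξ hdef₀'
      have hbd : blockDefect p (toSec u₀ f₀) = blockDefect p B := by
        have h1 : blockDefect p (toSec u₀ f₀) = blockDefect p f₀ := blockDefect_castB p _ f₀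
        rw [h1]
        exact Nat.pow_right_injective hp.two_le (hd2.symm.trans hd1)
      have hub := Cfsg.Agent.Lib.Helper77.Ctb.card_le_of_rank_one p M hM B ⟨χ, hχ⟩
        (blockDefect p B) rfl u₀ hup (toSec u₀ f₀) hind hbd hrank
      have hlb := Cfsg.Agent.Lib.Helper52.NlA.rank_add_card_le hM ⟨χ, hχ⟩ hmax hnil hab
      rw [← hd1] at hub
      have hχB : χ ∈ B := by rw [hχ]; exact self_mem_blockOf hMp χ
      have hB1 := one_le_blockRank p hp hχB
      have hD1 : 1 ≤ Nat.card D := Nat.card_pos
      omega

end Cfsg.Agent.Lib.Helper52.NlC
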