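import Cfsg.Agent.S4691
import Cfsg.Agent.Lib.Helper77.Transport
import Cfsg.Agent.Lib.Helper77.BrauerMap
import Cfsg.Agent.Lib.Helper77.BrauerPair
import Cfsg.Agent.Lib.Helper77.BrauerCorr2

/-!
# Functionals that are multiplicative modulo the local ideal on a subalgebra of the centre

`SubModHom` generalises `Helper77.ModHom`: multiplicativity is only required on a family `A` of
`S`-valued class functions closed under the algebra operations.  The main example is the Brauer
map at a `p`-subgroup `P` applied to the `P`-invariant class functions of a subgroup `K`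
normalised by `P` and containing `C_G(P)`.
-/

set_option autoImplicit false

universe u

namespace Cfsg.Agent.Lib.Helper52.PStable

open Cfsg
open Cfsg.Agent.Lib.Helper77 Cfsg.Agent.Lib.Helper81 Cfsg.Agent.Lib.Helper80

section Abstract

variable {K : Type u} [Group K] [Fintype K]

/-- A linear functional which is, modulo the local ideal, a ring homomorphism on a family `A` of
`S`-valued class functions that is closed under the algebra operations. -/
structure SubModHom (M : Ideal AlgInt) (A : (K → ℂ) → Prop) (lam : (K → ℂ) → ℂ) : Prop where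
  add : ∀ a b, lam (a + b) = lam a + lam b
  smul : ∀ (s : ℂ) (a : K → ℂ), lam (fun g => s * a g) = s * lam a
  one : lam deltaOne = 1
  zs : ∀ a, A a → ZS M a
  a_one : A deltaOne
  a_sub : ∀ a b, A a → A b → A (a - b)
  a_smul : ∀ (s : ℂ) (a : K → ℂ), MemLocalRing M s → A a → A (fun g => s * a g)
  a_conv : ∀ a b, A a → A b → A (conv a b)
  mem : ∀ a, A a → MemLocalRing M (lam a)
  mul : ∀ a b, A a → A b → MemLocalIdeal M (lam (conv a b) - lam a * lam b)

namespace SubModHom

variable {M : Ideal AlgInt} {A : (K → ℂ) → Prop} {lam : (K → ℂ) → ℂ}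

theorem zero (h : SubModHom M A lam) : lam 0 = 0 := by
  have := h.add 0 0
  rw [add_zero] at this
  exact left_eq_add.mp this

theorem sub (h : SubModHom M A lam) (a b : K → ℂ) : lam (a - b) = lam a - lam b := by
  have h1 := h.add (a - b) b
  rw [sub_add_cancel] at h1
  rw [h1, add_sub_cancel_right]

theorem sub_smul_deltaOne (h : SubModHom M A lam) (a : K → ℂ) (s : ℂ) :
    lam (a - fun g => s * deltaOne g) = lam a - s := by
  rw [h.sub, h.smul, h.one, mul_one]

/-- Products: a finite convolution product is sent to the product, modulo the local ideal. -/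
theorem exists_prod (h : SubModHom M A lam) (hM : M.IsPrime) {ι : Type*} (T : Finset ι)
    (d : ι → K → ℂ) (hd : ∀ i ∈ T, A (d i)) :
    ∃ D : K → ℂ, A D ∧
      (∀ φ : IrrCharacter K, omega (φ : K → ℂ) D = ∏ i ∈ T, omega (φ : K → ℂ) (d i)) ∧
      MemLocalIdeal M (lam D - ∏ i ∈ T, lam (d i)) := by
  classical
  induction T using Finset.induction_on with
  | empty =>
    refine ⟨deltaOne, h.a_one, ?_, ?_⟩
    · intro φ
      rw [Finset.prod_empty, omega_deltaOne _ (irr_one_ne_zero φ.2)]
    · rw [Finset.prod_empty, h.one, sub_self]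
      exact memLocalIdeal_zero hM
  | insert j T hj ih =>
    obtain ⟨D, hD, hω, hlam⟩ := ih (fun i hi => hd i (Finset.mem_insert_of_mem hi))
    have hdj := hd j (Finset.mem_insert_self j T)
    refine ⟨conv D (d j), h.a_conv _ _ hD hdj, ?_, ?_⟩
    · intro φ
      rw [Finset.prod_insert hj, omega_conv φ.2 (h.zs _ hD).1 (h.zs _ hdj).1, hω, mul_comm]
    · rw [Finset.prod_insert hj, mul_comm (lam (d j))]
      refine cong_trans hM (h.mul D (d j) hD hdj) ?_
      refine cong_mul hM (h.mem _ hdj) ?_ hlam ?_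
      · exact memLocalRing_prod hM _ _ fun i hi => h.mem _ (hd i (Finset.mem_insert_of_mem hi))
      · rw [sub_self]; exact memLocalIdeal_zero hM

/-- Pointwise: the value at any member of `A` agrees with some central character modulo the
local ideal. -/
theorem exists_cong_omega (h : SubModHom M A lam) (hM : M.IsPrime) [Fintype (IrrCharacter K)]
    {c : K → ℂ} (hc : A c) :
    ∃ ψ : IrrCharacter K, MemLocalIdeal M (lam c - omega (ψ : K → ℂ) c) := by
  classical
  let d : IrrCharacter K → K → ℂ := fun ψ => c - fun g => omega (ψ : K → ℂ) c * deltaOne g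
  have hd : ∀ ψ ∈ (Finset.univ : Finset (IrrCharacter K)), A (d ψ) := fun ψ _ =>
    h.a_sub _ _ hc (h.a_smul _ _ ((h.zs _ hc).omega hM ψ) h.a_one)
  obtain ⟨D, hD, hω, hlam⟩ := h.exists_prod hM Finset.univ d hd
  have hD0 : D = 0 := by
    apply eq_of_omega_eq (h.zs _ hD).1 (fun _ _ => rfl)
    intro φ
    rw [hω φ, omega_zero]
    refine Finset.prod_eq_zero (Finset.mem_univ φ) ?_
    show omega (φ : K → ℂ) (c - fun g => omega (φ : K → ℂ) c * deltaOne g) = 0
    rw [omega_sub, omega_smul, omega_deltaOne _ (irr_one_ne_zero φ.2), mul_one, sub_self]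
  rw [hD0, h.zero, zero_sub] at hlam
  have hlam' := memLocalIdeal_neg hlam
  rw [neg_neg] at hlam'
  obtain ⟨ψ, -, hψ⟩ := exists_memLocalIdeal_of_prod hM Finset.univ _
    (fun ψ hψ => h.mem _ (hd ψ hψ)) hlam'
  refine ⟨ψ, ?_⟩
  have : lam (d ψ) = lam c - omega (ψ : K → ℂ) c := h.sub_smul_deltaOne c _
  rwa [this] at hψ

/-- **Radical lemma.**  A member of `A` all of whose central character values lie in the local
ideal is sent into the local ideal. -/
theorem memLocalIdeal_of_forall_omega (h : SubModHom M A lam) (hM : M.IsPrime) {w : K → ℂ}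
    (hw : A w) (hω : ∀ ψ : IrrCharacter K, MemLocalIdeal M (omega (ψ : K → ℂ) w)) :
    MemLocalIdeal M (lam w) := by
  classical
  have := Fintype.ofFinite (IrrCharacter K)
  obtain ⟨ψ, hψ⟩ := h.exists_cong_omega hM hw
  have := memLocalIdeal_add hM hψ (hω ψ)
  rwa [sub_add_cancel] at this

/-- More generally, if all central character values of `w` are congruent to `c`, so is the value
of the functional. -/
theorem cong_of_forall_omega (h : SubModHom M A lam) (hM : M.IsPrime) {w : K → ℂ}
    (hw : A w) {c : ℂ} (hc : MemLocalRing M c)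
    (hω : ∀ ψ : IrrCharacter K, MemLocalIdeal M (omega (ψ : K → ℂ) w - c)) :
    MemLocalIdeal M (lam w - c) := by
  have hw' : A (w - fun g => c * deltaOne g) := h.a_sub _ _ hw (h.a_smul _ _ hc h.a_one)
  have := h.memLocalIdeal_of_forall_omega hM hw' (fun ψ => by
    rw [omega_sub, omega_smul, omega_deltaOne _ (irr_one_ne_zero ψ.2), mul_one]
    exact hω ψ)
  rwa [h.sub_smul_deltaOne] at this

end SubModHom

end Abstract


section Concrete

variable {G : Type u} [Group G]

open Classical in
/-- Extension by zero of a function on a subgroup. -/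
noncomputable def ext0 (K : Subgroup G) (a : K → ℂ) : G → ℂ :=
  fun x => if hx : x ∈ K then a ⟨x, hx⟩ else 0

theorem ext0_mem {K : Subgroup G} (a : K → ℂ) {x : G} (hx : x ∈ K) : ext0 K a x = a ⟨x, hx⟩ :=
  dif_pos hx

theorem ext0_not_mem {K : Subgroup G} (a : K → ℂ) {x : G} (hx : x ∉ K) : ext0 K a x = 0 :=
  dif_neg hx

theorem ext0_coe {K : Subgroup G} (a : K → ℂ) (k : K) : ext0 K a (k : G) = a k := by
  rw [ext0_mem a k.2]

/-- `P`-invariant `S`-valued class functions on `K`. -/
def PInv (M : Ideal AlgInt) (P K : Subgroup G) (a : K → ℂ) : Prop :=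
  ZS M a ∧ ∀ y ∈ P, ∀ k k' : K, (k' : G) = y * (k : G) * y⁻¹ → a k' = a k

/-- Restriction of a function on `K` to the centralizer of `P`. -/
def resC (P K : Subgroup G) (hDK : Subgroup.centralizer (P : Set G) ≤ K) (a : K → ℂ) :
    Subgroup.centralizer (P : Set G) → ℂ := fun d => a ⟨(d : G), hDK d.2⟩

theorem resC_isClassFunction (P K : Subgroup G) (hDK : Subgroup.centralizer (P : Set G) ≤ K)
    {a : K → ℂ} (ha : IsClassFunction K a) :
    IsClassFunction (Subgroup.centralizer (P : Set G)) (resC P K hDK a) := by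
  intro g h
  show a ⟨((h * g * h⁻¹ : Subgroup.centralizer (P : Set G)) : G), _⟩ = a ⟨(g : G), _⟩
  have := ha ⟨(g : G), hDK g.2⟩ ⟨(h : G), hDK h.2⟩
  rw [← this]
  congr 1

theorem resC_deltaOne (P K : Subgroup G) (hDK : Subgroup.centralizer (P : Set G) ≤ K) :
    resC P K hDK (deltaOne : K → ℂ) = deltaOne := by
  classical
  funext d
  show (deltaOne : K → ℂ) ⟨(d : G), _⟩ = deltaOne d
  unfold deltaOne
  by_cases hd : d = 1
  · subst hd
    rw [if_pos rfl, if_pos]
    rfl
  · rw [if_neg hd, if_neg]
    intro h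
    apply hd
    apply Subtype.ext
    have h' : (d : G) = ((1 : K) : G) := congrArg Subtype.val h
    exact h'

theorem ext0_conj_of_pinv {M : Ideal AlgInt} {P K : Subgroup G}
    (hPK : ∀ y ∈ P, y ∈ Subgroup.normalizer (K : Set G)) {a : K → ℂ} (ha : PInv M P K a)
    {y : G} (hy : y ∈ P) (x : G) : ext0 K a (y * x * y⁻¹) = ext0 K a x := by
  have hiff : y * x * y⁻¹ ∈ K ↔ x ∈ K := (Subgroup.mem_normalizer_iff.mp (hPK y hy) x).symm
  by_cases hx : x ∈ K
  · rw [ext0_mem a hx, ext0_mem a (hiff.mpr hx)]
    exact ha.2 y hy ⟨x, hx⟩ ⟨y * x * y⁻¹, hiff.mpr hx⟩ rfl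
  · rw [ext0_not_mem a hx, ext0_not_mem a (fun h => hx (hiff.mp h))]

variable [Fintype G]

theorem conv_eq_sum_ext0 (K : Subgroup G) [Fintype K] (a b : K → ℂ) (k : K) :
    conv a b k = ∑ x : G, ext0 K a x * ext0 K b (x⁻¹ * (k : G)) := by
  classical
  unfold conv
  rw [← sum_subgroup_eq (H := K) (fun x => ext0 K a x * ext0 K b (x⁻¹ * (k : G)))
    (fun x hx => by rw [ext0_not_mem a hx, zero_mul])]
  refine Finset.sum_congr rfl fun h _ => ?_
  rw [ext0_coe]
  congr 1
  have : ((h : G))⁻¹ * (k : G) = ((h⁻¹ * k : K) : G) := by push_cast; rfl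
  rw [this, ext0_coe]

/-- The convolution of `P`-invariant functions is `P`-invariant. -/
theorem PInv.conv {M : Ideal AlgInt} (hM : M.IsPrime) {P K : Subgroup G} [Fintype K]
    (hPK : ∀ y ∈ P, y ∈ Subgroup.normalizer (K : Set G)) {a b : K → ℂ}
    (ha : PInv M P K a) (hb : PInv M P K b) : PInv M P K (Helper77.conv a b) := by
  classical
  refine ⟨ZS.conv hM ha.1 hb.1, ?_⟩
  intro y hy k k' hk
  rw [conv_eq_sum_ext0, conv_eq_sum_ext0, hk]
  -- reindex by conjugation with `y`
  let φ : G ≃ G := (MulAut.conj y).toEquiv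
  rw [← Equiv.sum_comp φ]
  refine Finset.sum_congr rfl fun x _ => ?_
  show ext0 K a (y * x * y⁻¹) * ext0 K b ((y * x * y⁻¹)⁻¹ * (y * (k : G) * y⁻¹)) = _
  rw [ext0_conj_of_pinv hPK ha hy]
  have e1 : (y * x * y⁻¹)⁻¹ * (y * (k : G) * y⁻¹) = y * (x⁻¹ * (k : G)) * y⁻¹ := by group
  rw [e1, ext0_conj_of_pinv hPK hb hy]

theorem PInv.sub {M : Ideal AlgInt} (hM : M.IsPrime) {P K : Subgroup G} {a b : K → ℂ}
    (ha : PInv M P K a) (hb : PInv M P K b) : PInv M P K (a - b) := by
  refine ⟨ZS.sub hM ha.1 hb.1, ?_⟩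
  intro y hy k k' hk
  show a k' - b k' = a k - b k
  rw [ha.2 y hy k k' hk, hb.2 y hy k k' hk]

theorem PInv.smul {M : Ideal AlgInt} (hM : M.IsPrime) {P K : Subgroup G} {s : ℂ}
    (hs : MemLocalRing M s) {a : K → ℂ} (ha : PInv M P K a) :
    PInv M P K (fun g => s * a g) := by
  refine ⟨ZS.smul hM hs ha.1, ?_⟩
  intro y hy k k' hk
  show s * a k' = s * a k
  rw [ha.2 y hy k k' hk]

theorem PInv.deltaOne {M : Ideal AlgInt} (hM : M.IsPrime) (P K : Subgroup G) :
    PInv M P K (deltaOne : K → ℂ) := by
  classical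
  refine ⟨ZS.deltaOne hM, ?_⟩
  intro y hy k k' hk
  unfold Helper77.deltaOne
  have : k' = 1 ↔ k = 1 := by
    constructor
    · intro h
      apply Subtype.ext
      have h1 : (k' : G) = 1 := by rw [h]; rfl
      rw [hk] at h1
      have : (k : G) = y⁻¹ * (y * (k : G) * y⁻¹) * y := by group
      rw [this, h1]
      simp
    · intro h
      apply Subtype.ext
      rw [hk, h]
      simp
  by_cases h1 : k = 1
  · rw [if_pos h1, if_pos (this.mpr h1)]
  · rw [if_neg h1, if_neg (fun h => h1 (this.mp h))]

/-- The Brauer map (restriction to `C_G(P)`) is multiplicative modulo the local ideal on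
`P`-invariant functions. -/
theorem memLocalIdeal_resC_conv {p : ℕ} [Fact p.Prime] {M : Ideal AlgInt}
    (hpM : IsPModular p M) {P K : Subgroup G} [Fintype K]
    [Fintype (Subgroup.centralizer (P : Set G))] (hP : IsPGroup p P)
    (hDK : Subgroup.centralizer (P : Set G) ≤ K)
    (hPK : ∀ y ∈ P, y ∈ Subgroup.normalizer (K : Set G)) {a b : K → ℂ}
    (ha : PInv M P K a) (hb : PInv M P K b) (h : Subgroup.centralizer (P : Set G)) :
    MemLocalIdeal M (resC P K hDK (Helper77.conv a b) h -
      Helper77.conv (resC P K hDK a) (resC P K hDK b) h) := by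
  classical
  have hM : M.IsPrime := isPrime_of_isPModular hpM
  have h1 : Helper77.conv (resC P K hDK a) (resC P K hDK b) h =
      ∑ x : G, if x ∈ Subgroup.centralizer (P : Set G) then
        ext0 K a x * ext0 K b (x⁻¹ * (h : G)) else 0 := by
    unfold Helper77.conv
    rw [← sum_subgroup_eq (H := Subgroup.centralizer (P : Set G))
      (fun x => if x ∈ Subgroup.centralizer (P : Set G) then
        ext0 K a x * ext0 K b (x⁻¹ * (h : G)) else 0)
      (fun x hx => if_neg hx)]
    refine Finset.sum_congr rfl fun d _ => ?_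
    rw [if_pos d.2]
    show a ⟨(d : G), _⟩ * b ⟨((d⁻¹ * h : Subgroup.centralizer (P : Set G)) : G), _⟩ = _
    rw [ext0_mem a (hDK d.2)]
    have hmem : ((d : G))⁻¹ * (h : G) ∈ K :=
      hDK (Subgroup.mul_mem _ (Subgroup.inv_mem _ d.2) h.2)
    rw [ext0_mem b hmem]
    rfl
  have h0 : resC P K hDK (Helper77.conv a b) h =
      ∑ x : G, ext0 K a x * ext0 K b (x⁻¹ * (h : G)) :=
    conv_eq_sum_ext0 K a b ⟨(h : G), hDK h.2⟩
  have h2 : resC P K hDK (Helper77.conv a b) h -
      Helper77.conv (resC P K hDK a) (resC P K hDK b) h =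
      ∑ x : G, if x ∈ Subgroup.centralizer (P : Set G) then 0
        else ext0 K a x * ext0 K b (x⁻¹ * (h : G)) := by
    rw [h0, h1, ← Finset.sum_sub_distrib]
    refine Finset.sum_congr rfl fun x _ => ?_
    by_cases hx : x ∈ Subgroup.centralizer (P : Set G)
    · rw [if_pos hx, if_pos hx, sub_self]
    · rw [if_neg hx, if_neg hx, sub_zero]
  rw [h2]
  let := conjActionOf P
  refine pgroup_sum_mem (Q := P) (X := G) hP hpM _ ?_ ?_ ?_
  · intro q x
    show (if (q : G) * x * (q : G)⁻¹ ∈ Subgroup.centralizer (P : Set G) then 0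
      else ext0 K a ((q : G) * x * (q : G)⁻¹) *
        ext0 K b (((q : G) * x * (q : G)⁻¹)⁻¹ * (h : G))) =
      if x ∈ Subgroup.centralizer (P : Set G) then 0
        else ext0 K a x * ext0 K b (x⁻¹ * (h : G))
    have hqN : (q : G) ∈ Subgroup.normalizer (P : Set G) := Subgroup.le_normalizer q.2
    have hiff := conj_mem_centralizer_iff (h := x) hqN
    have hqh : (q : G) * h = h * q := (Subgroup.mem_centralizer_iff.mp h.2) q q.2
    have e1 : ((q : G) * x * (q : G)⁻¹)⁻¹ * (h : G) = (q : G) * (x⁻¹ * h) * (q : G)⁻¹ := by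
      have : (h : G) = (q : G) * h * (q : G)⁻¹ := by rw [hqh]; group
      conv_lhs => rw [this]
      group
    by_cases hx : x ∈ Subgroup.centralizer (P : Set G)
    · rw [if_pos hx, if_pos (hiff.mpr hx)]
    · rw [if_neg hx, if_neg (fun h' => hx (hiff.mp h')), e1,
        ext0_conj_of_pinv hPK ha q.2, ext0_conj_of_pinv hPK hb q.2]
  · intro x
    have hloc : ∀ (c : K → ℂ), PInv M P K c → ∀ z : G, MemLocalRing M (ext0 K c z) := by
      intro c hc z
      by_cases hz : z ∈ K
      · rw [ext0_mem c hz]; exact hc.1.2 _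
      · rw [ext0_not_mem c hz]; exact memLocalRing_zero hM
    split_ifs
    · exact memLocalRing_zero hM
    · exact memLocalRing_mul hM (hloc a ha _) (hloc b hb _)
  · intro x hx
    have hxc : x ∈ Subgroup.centralizer (P : Set G) := by
      rw [Subgroup.mem_centralizer_iff]
      intro q hq
      have h3 : q * x * q⁻¹ = x := hx ⟨q, hq⟩
      calc q * x = q * x * q⁻¹ * q := by group
        _ = x * q := by rw [h3]
    rw [if_pos hxc]
    exact memLocalIdeal_zero hM


/-- The Brauer functional at `P` attached to a function `ξ` on `C_G(P)`: the central character of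
`ξ` at the restriction to `C_G(P)`. -/
noncomputable def lamC (P K : Subgroup G) [Fintype (Subgroup.centralizer (P : Set G))]
    (hDK : Subgroup.centralizer (P : Set G) ≤ K) (ξ : Subgroup.centralizer (P : Set G) → ℂ)
    (a : K → ℂ) : ℂ := omega ξ (resC P K hDK a)

/-- The Brauer functional is a ring homomorphism modulo the local ideal on the `P`-invariant
`S`-valued class functions of `K`. -/
theorem subModHom_lamC {p : ℕ} [Fact p.Prime] {M : Ideal AlgInt}
    (hpM : IsPModular p M) {P K : Subgroup G} [Fintype K]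
    [Fintype (Subgroup.centralizer (P : Set G))] (hP : IsPGroup p P)
    (hDK : Subgroup.centralizer (P : Set G) ≤ K)
    (hPK : ∀ y ∈ P, y ∈ Subgroup.normalizer (K : Set G))
    (ξ : IrrCharacter (Subgroup.centralizer (P : Set G))) :
    SubModHom M (PInv M P K)
      (lamC P K hDK (ξ : Subgroup.centralizer (P : Set G) → ℂ)) := by
  have hM : M.IsPrime := isPrime_of_isPModular hpM
  refine ⟨?_, ?_, ?_, fun a ha => ha.1, PInv.deltaOne hM P K, fun a b => PInv.sub hM,
    fun s a hs => PInv.smul hM hs, fun a b => PInv.conv hM hPK, ?_, ?_⟩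
  · intro a b
    show omega _ (resC P K hDK (a + b)) = _
    exact omega_add _ _ _
  · intro s a
    show omega _ (resC P K hDK (fun g => s * a g)) = _
    exact omega_smul _ s (resC P K hDK a)
  · show omega _ (resC P K hDK deltaOne) = 1
    rw [resC_deltaOne, omega_deltaOne _ (irr_one_ne_zero ξ.2)]
  · intro a ha
    exact memLocalRing_omega hM ξ.2 (resC_isClassFunction P K hDK ha.1.1) (fun d => ha.1.2 _)
  · intro a b ha hb
    show MemLocalIdeal M (omega _ (resC P K hDK (Helper77.conv a b)) -
      omega _ (resC P K hDK a) * omega _ (resC P K hDK b))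
    have hca := resC_isClassFunction P K hDK ha.1.1
    have hcb := resC_isClassFunction P K hDK hb.1.1
    have hcab := resC_isClassFunction P K hDK (ZS.conv hM ha.1 hb.1).1
    rw [← omega_conv ξ.2 hca hcb, ← omega_sub]
    refine memLocalIdeal_omega_of_forall hM ξ.2 ?_ ?_ ?_
    · intro g h
      show resC P K hDK (Helper77.conv a b) _ - Helper77.conv _ _ _ =
        resC P K hDK (Helper77.conv a b) g - Helper77.conv _ _ g
      rw [hcab, conv_isClassFunction hca hcb]
    · intro g
      refine memLocalRing_sub hM ((ZS.conv hM ha.1 hb.1).2 _) ?_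
      exact memLocalRing_sum hM _ _ fun _ _ =>
        memLocalRing_mul hM (ha.1.2 _) (hb.1.2 _)
    · intro g
      exact Or.inl (memLocalIdeal_resC_conv hpM hP hDK hPK ha hb g)

omit [Fintype G] in
/-- The Brauer-map central character of the frozen vocabulary through `lamC`. -/
theorem brauerOmega_eq_lamC (P K : Subgroup G) [Fintype (Subgroup.centralizer (P : Set G))]
    (hDK : Subgroup.centralizer (P : Set G) ≤ K) (β : G → ℂ)
    (ξ : Subgroup.centralizer (P : Set G) → ℂ) :
    brauerOmega P β ξ = lamC P K hDK ξ (fun k : K => β k) := by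
  rw [brauerOmega_eq_omega]
  unfold lamC
  congr 1
  funext d
  rw [brRes_pos _ d.2]
  rfl

omit [Fintype G] in
theorem brauerOmega_subgroupBlockCoeff (P K : Subgroup G)
    [Fintype (Subgroup.centralizer (P : Set G))]
    (hDK : Subgroup.centralizer (P : Set G) ≤ K) (f : Set (IrrCharacter K))
    (ξ : Subgroup.centralizer (P : Set G) → ℂ) :
    brauerOmega P (subgroupBlockCoeff K f) ξ = lamC P K hDK ξ (blockCoeff f) := by
  rw [brauerOmega_eq_lamC P K hDK]
  congr 1
  funext k
  rw [subgroupBlockCoeff_of_mem f k.2]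

/-! ### Block idempotents of `K` and the action of `P` -/

omit [Fintype G] in
theorem irrMap_conjAut_mem {K : Subgroup G} {f : Set (IrrCharacter K)} {y : G}
    (hy : y ∈ Subgroup.normalizer (K : Set G)) (hst : StabilizesBlock K f y)
    {χ : IrrCharacter K} (hχ : χ ∈ f) : irrMap (Cfsg.Agent.S4691.conjAut K y hy) χ ∈ f := by
  obtain ⟨χ', hχ', hconj⟩ := hst.2 χ hχ
  have : irrMap (Cfsg.Agent.S4691.conjAut K y hy) χ = χ' := by
    apply Subtype.ext
    funext k'
    rw [irrMap_apply]
    refine (hconj (Cfsg.Agent.S4691.conjAut K y hy k') k' ?_).symm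
    show (k' : G) = y * (y⁻¹ * (k' : G) * y) * y⁻¹
    group
  rw [this]
  exact hχ'

omit [Fintype G] in
theorem irrMap_conjAut_image_eq {M : Ideal AlgInt} (hM : M.IsPrime) {K : Subgroup G}
    {f : Set (IrrCharacter K)} (hf : IsPBlock M f) {y : G}
    (hy : y ∈ Subgroup.normalizer (K : Set G)) (hst : StabilizesBlock K f y) :
    irrMap (Cfsg.Agent.S4691.conjAut K y hy) '' f = f := by
  obtain ⟨θ₀, rfl⟩ := hf
  rw [irrMap_image_blockOf]
  exact blockOf_eq_of_mem hM (irrMap_conjAut_mem hy hst (sameBlock_refl hM _))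

omit [Fintype G] in
theorem blockCoeff_conjAut_of_stabilizes {M : Ideal AlgInt} (hM : M.IsPrime) {K : Subgroup G}
    {f : Set (IrrCharacter K)} (hf : IsPBlock M f) {y : G}
    (hy : y ∈ Subgroup.normalizer (K : Set G)) (hst : StabilizesBlock K f y) (k : K) :
    blockCoeff f (Cfsg.Agent.S4691.conjAut K y hy k) = blockCoeff f k := by
  rw [← blockCoeff_irrMap_image, irrMap_conjAut_image_eq hM hf hy hst]

omit [Fintype G] in
/-- The idempotent of a `P`-stable block of `K` is `P`-invariant. -/
theorem pinv_blockCoeff {p : ℕ} {M : Ideal AlgInt} (hpM : IsPModular p M) {P K : Subgroup G}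
    [Fintype K] {f : Set (IrrCharacter K)} (hf : IsPBlock M f)
    (hst : ∀ y ∈ P, StabilizesBlock K f y) : PInv M P K (blockCoeff f) := by
  have hM : M.IsPrime := isPrime_of_isPModular hpM
  refine ⟨?_, ?_⟩
  · obtain ⟨θ₀, rfl⟩ := hf
    exact ZS.blockCoeff hpM θ₀
  · intro y hy k k' hk
    have hyN := (hst y hy).1
    have : k = Cfsg.Agent.S4691.conjAut K y hyN k' := by
      apply Subtype.ext
      show (k : G) = y⁻¹ * (k' : G) * y
      rw [hk]
      group
    rw [this, blockCoeff_conjAut_of_stabilizes hM hf hyN (hst y hy)]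

omit [Fintype G] in
/-- Distinct blocks have orthogonal idempotents. -/
theorem conv_blockCoeff_of_ne {M : Ideal AlgInt} (hM : M.IsPrime) {K : Type u} [Group K]
    [Fintype K] {f f' : Set (IrrCharacter K)} (hf : IsPBlock M f) (hf' : IsPBlock M f')
    (hne : f ≠ f') : Helper77.conv (blockCoeff f) (blockCoeff f') = 0 := by
  classical
  apply eq_of_omega_eq
    (conv_isClassFunction (blockCoeff_isClassFunction _) (blockCoeff_isClassFunction _))
    (fun _ _ => rfl)
  intro ψ
  rw [omega_conv ψ.2 (blockCoeff_isClassFunction _) (blockCoeff_isClassFunction _),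
    omega_blockCoeff, omega_blockCoeff, omega_zero]
  by_cases h1 : ψ ∈ f
  · by_cases h2 : ψ ∈ f'
    · exfalso
      apply hne
      obtain ⟨θ, rfl⟩ := hf
      obtain ⟨θ', rfl⟩ := hf'
      rw [← blockOf_eq_of_mem hM h1, ← blockOf_eq_of_mem hM h2]
    · rw [if_neg h2, mul_zero]
  · rw [if_neg h1, zero_mul]


omit [Fintype G] in
theorem omega_finset_sum {K : Type u} [Group K] [Fintype K] (χ : K → ℂ) {ι : Type*}
    (T : Finset ι) (g : ι → K → ℂ) :
    omega χ (fun k => ∑ i ∈ T, g i k) = ∑ i ∈ T, omega χ (g i) := by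
  unfold omega
  rw [← Finset.sum_div]
  congr 1
  rw [Finset.sum_comm]
  refine Finset.sum_congr rfl fun k _ => ?_
  rw [Finset.sum_mul]

omit [Fintype G] in
/-- The block idempotents sum to the identity. -/
theorem sum_blockCoeff_eq_deltaOne {M : Ideal AlgInt} (hM : M.IsPrime) {K : Type u} [Group K]
    [Fintype K] [Fintype (Set (IrrCharacter K))]
    [DecidablePred (fun S : Set (IrrCharacter K) => IsPBlock M S)] :
    (fun k : K => ∑ S : Set (IrrCharacter K), if IsPBlock M S then blockCoeff S k else 0) =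
      deltaOne := by
  classical
  have hfun : (fun k : K => ∑ S : Set (IrrCharacter K),
      if IsPBlock M S then blockCoeff S k else 0) =
      fun k => ∑ S : Set (IrrCharacter K),
        (fun S k => if IsPBlock M S then blockCoeff S k else 0) S k := rfl
  apply eq_of_omega_eq ?_ deltaOne_isClassFunction
  · intro ψ
    rw [hfun, omega_finset_sum, omega_deltaOne _ (irr_one_ne_zero ψ.2)]
    rw [Finset.sum_eq_single (blockOf M (ψ : K → ℂ))]
    · have hb : IsPBlock M (blockOf M (ψ : K → ℂ)) := ⟨ψ, rfl⟩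
      have : (fun k => if IsPBlock M (blockOf M (ψ : K → ℂ)) then
          blockCoeff (blockOf M (ψ : K → ℂ)) k else 0) =
          blockCoeff (blockOf M (ψ : K → ℂ)) := by
        funext k
        rw [if_pos hb]
      rw [this, omega_blockCoeff,
        if_pos (show ψ ∈ blockOf M (ψ : K → ℂ) from sameBlock_refl hM _)]
    · intro S _ hS
      by_cases hb : IsPBlock M S
      · have : (fun k => if IsPBlock M S then blockCoeff S k else 0) = blockCoeff S := by
          funext k
          rw [if_pos hb]
        rw [this, omega_blockCoeff, if_neg]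
        intro hψ
        apply hS
        obtain ⟨θ, rfl⟩ := hb
        exact (blockOf_eq_of_mem hM hψ).symm
      · have : (fun k => if IsPBlock M S then blockCoeff S k else 0) = (0 : K → ℂ) := by
          funext k
          rw [if_neg hb]
          rfl
        rw [this, omega_zero]
    · intro h
      exact absurd (Finset.mem_univ _) h
  · intro g h
    show ∑ S : Set (IrrCharacter K), (if IsPBlock M S then blockCoeff S (h * g * h⁻¹) else 0) =
      ∑ S : Set (IrrCharacter K), if IsPBlock M S then blockCoeff S g else 0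
    refine Finset.sum_congr rfl fun S _ => ?_
    rw [blockCoeff_isClassFunction S g h]

omit [Fintype G] in
/-- Conjugating an irreducible character of `K` by an element of `P`. -/
noncomputable def irrSmul (P K : Subgroup G)
    (hPK : ∀ y ∈ P, y ∈ Subgroup.normalizer (K : Set G)) (y : P) (χ : IrrCharacter K) :
    IrrCharacter K :=
  irrMap (Cfsg.Agent.S4691.conjAut K (y : G) (hPK y y.2)) χ

omit [Fintype G] in
theorem irrSmul_apply (P K : Subgroup G)
    (hPK : ∀ y ∈ P, y ∈ Subgroup.normalizer (K : Set G)) (y : P) (χ : IrrCharacter K) (k : K) :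
    (irrSmul P K hPK y χ : K → ℂ) k =
      (χ : K → ℂ) (Cfsg.Agent.S4691.conjAut K (y : G) (hPK y y.2) k) :=
  irrMap_apply _ _ _

omit [Fintype G] in
/-- The conjugation action of `P` on the irreducible characters of a subgroup `K` it
normalises. -/
noncomputable def irrAction (P K : Subgroup G)
    (hPK : ∀ y ∈ P, y ∈ Subgroup.normalizer (K : Set G)) : MulAction P (IrrCharacter K) where
  smul := irrSmul P K hPK
  one_smul χ := by
    apply Subtype.ext
    funext k
    show (irrSmul P K hPK 1 χ : K → ℂ) k = (χ : K → ℂ) k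
    rw [irrSmul_apply]
    refine congrArg _ ?_
    apply Subtype.ext
    show ((1 : P) : G)⁻¹ * (k : G) * ((1 : P) : G) = k
    simp
  mul_smul y z χ := by
    apply Subtype.ext
    funext k
    show (irrSmul P K hPK (y * z) χ : K → ℂ) k =
      (irrSmul P K hPK y (irrSmul P K hPK z χ) : K → ℂ) k
    rw [irrSmul_apply, irrSmul_apply, irrSmul_apply]
    refine congrArg _ ?_
    apply Subtype.ext
    show ((y * z : P) : G)⁻¹ * (k : G) * ((y * z : P) : G) =
      (z : G)⁻¹ * ((y : G)⁻¹ * (k : G) * (y : G)) * (z : G)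
    push_cast
    group

omit [Fintype G] in
theorem smul_mem_fixedPoints_iff {Q X : Type*} [Group Q] [MulAction Q X] (q : Q) (x : X) :
    q • x ∈ MulAction.fixedPoints Q X ↔ x ∈ MulAction.fixedPoints Q X := by
  constructor
  · intro h
    have h1 : q⁻¹ • (q • x) = q • x := h q⁻¹
    rw [inv_smul_smul] at h1
    rw [h1]
    exact h
  · intro h
    rw [h q]
    exact h

omit [Fintype G] in
/-- The non-fixed part of an invariant sum under a `p`-group lies in the local ideal. -/
theorem pgroup_sum_nonfixed_mem {Q X : Type*} [Group Q] [MulAction Q X] [Fintype X] {p : ℕ}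
    [Fact p.Prime] (hQ : IsPGroup p Q) {M : Ideal AlgInt} (hpM : IsPModular p M) (F : X → ℂ)
    (hinv : ∀ (q : Q) (x : X), F (q • x) = F x) (hS : ∀ x, MemLocalRing M (F x))
    [DecidablePred (fun x : X => x ∈ MulAction.fixedPoints Q X)] :
    MemLocalIdeal M (∑ x : X, if x ∈ MulAction.fixedPoints Q X then 0 else F x) := by
  have hM : M.IsPrime := isPrime_of_isPModular hpM
  refine pgroup_sum_mem hQ hpM _ ?_ ?_ ?_
  · intro q x
    by_cases hx : x ∈ MulAction.fixedPoints Q X
    · rw [if_pos hx, if_pos ((smul_mem_fixedPoints_iff q x).mpr hx)]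
    · rw [if_neg hx, if_neg (fun h => hx ((smul_mem_fixedPoints_iff q x).mp h)), hinv]
  · intro x
    split_ifs
    · exact memLocalRing_zero hM
    · exact hS x
  · intro x hx
    rw [if_pos hx]
    exact memLocalIdeal_zero hM


open scoped Pointwise in
/-- Existence of a `P`-stable block of `K` whose idempotent is sent to `1` by the Brauer
functional at `(P, ξ)`. -/
theorem exists_stable_block {p : ℕ} [Fact p.Prime] {M : Ideal AlgInt}
    (hpM : IsPModular p M) {P K : Subgroup G} [Fintype K]
    [Fintype (Subgroup.centralizer (P : Set G))] (hP : IsPGroup p P)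
    (hDK : Subgroup.centralizer (P : Set G) ≤ K)
    (hPK : ∀ y ∈ P, y ∈ Subgroup.normalizer (K : Set G))
    (ξ : IrrCharacter (Subgroup.centralizer (P : Set G))) :
    ∃ f : Set (IrrCharacter K), IsPBlock M f ∧ (∀ y ∈ P, StabilizesBlock K f y) ∧
      MemLocalIdeal M
        (lamC P K hDK (ξ : Subgroup.centralizer (P : Set G) → ℂ) (blockCoeff f) - 1) := by
  classical
  have hM : M.IsPrime := isPrime_of_isPModular hpM
  letI := irrAction P K hPK
  have := Fintype.ofFinite (IrrCharacter K)
  have := Fintype.ofFinite (Set (IrrCharacter K))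
  have hlam := subModHom_lamC hpM hP hDK hPK ξ
  have hsmul : ∀ (y : P) (S : Set (IrrCharacter K)),
      y • S = irrMap (Cfsg.Agent.S4691.conjAut K (y : G) (hPK y y.2)) '' S := fun y S => rfl
  have hblock_iff : ∀ (y : P) (S : Set (IrrCharacter K)), IsPBlock M (y • S) ↔ IsPBlock M S := by
    intro y S
    rw [hsmul]
    constructor
    · intro h
      have h2 := isPBlock_irrMap_image
        (Cfsg.Agent.S4691.conjAut K (y : G) (hPK y y.2)).symm h
      rw [Set.image_image] at h2
      have : (fun x => irrMap (Cfsg.Agent.S4691.conjAut K (y : G) (hPK y y.2)).symm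
          (irrMap (Cfsg.Agent.S4691.conjAut K (y : G) (hPK y y.2)) x)) = id := by
        funext x
        exact irrMap_symm_irrMap _ x
      rwa [this, Set.image_id] at h2
    · intro h
      exact isPBlock_irrMap_image _ h
  have hcoeff : ∀ (y : P) (S : Set (IrrCharacter K)) (d : Subgroup.centralizer (P : Set G)),
      blockCoeff (y • S) (⟨(d : G), hDK d.2⟩ : K) = blockCoeff S ⟨(d : G), hDK d.2⟩ := by
    intro y S d
    rw [hsmul, blockCoeff_irrMap_image]
    refine congrArg _ ?_
    apply Subtype.ext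
    show (y : G)⁻¹ * (d : G) * (y : G) = (d : G)
    have := (Subgroup.mem_centralizer_iff.mp d.2) (y : G) y.2
    rw [mul_assoc, ← this, inv_mul_cancel_left]
  -- the part of the identity coming from the stable blocks
  let g : Set (IrrCharacter K) → K → ℂ := fun S k =>
    if S ∈ MulAction.fixedPoints P (Set (IrrCharacter K)) then
      (if IsPBlock M S then blockCoeff S k else 0) else 0
  let Est : K → ℂ := fun k => ∑ S : Set (IrrCharacter K), g S k
  have hdiff : ∀ d : Subgroup.centralizer (P : Set G),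
      MemLocalIdeal M ((deltaOne : K → ℂ) ⟨(d : G), hDK d.2⟩ - Est ⟨(d : G), hDK d.2⟩) := by
    intro d
    have h1 := congrFun (sum_blockCoeff_eq_deltaOne (M := M) hM (K := K)) ⟨(d : G), hDK d.2⟩
    have h2 : (deltaOne : K → ℂ) ⟨(d : G), hDK d.2⟩ - Est ⟨(d : G), hDK d.2⟩ =
        ∑ S : Set (IrrCharacter K),
          if S ∈ MulAction.fixedPoints P (Set (IrrCharacter K)) then 0
          else (fun S : Set (IrrCharacter K) =>
            if IsPBlock M S then blockCoeff S (⟨(d : G), hDK d.2⟩ : K) else 0) S := by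
      rw [← h1]
      show (∑ S : Set (IrrCharacter K), _) - (∑ S : Set (IrrCharacter K), g S _) = _
      rw [← Finset.sum_sub_distrib]
      refine Finset.sum_congr rfl fun S _ => ?_
      show _ - (if S ∈ MulAction.fixedPoints P (Set (IrrCharacter K)) then _ else 0) = _
      by_cases hS : S ∈ MulAction.fixedPoints P (Set (IrrCharacter K))
      · rw [if_pos hS, if_pos hS, sub_self]
      · rw [if_neg hS, if_neg hS, sub_zero]
    rw [h2]
    refine pgroup_sum_nonfixed_mem (Q := P) hP hpM _ ?_ ?_
    · intro y S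
      show (if IsPBlock M (y • S) then blockCoeff (y • S) (⟨(d : G), hDK d.2⟩ : K) else 0) =
        if IsPBlock M S then blockCoeff S (⟨(d : G), hDK d.2⟩ : K) else 0
      by_cases hS : IsPBlock M S
      · rw [if_pos hS, if_pos ((hblock_iff y S).mpr hS), hcoeff]
      · rw [if_neg hS, if_neg (fun h => hS ((hblock_iff y S).mp h))]
    · intro S
      show MemLocalRing M (if IsPBlock M S then blockCoeff S (⟨(d : G), hDK d.2⟩ : K) else 0)
      by_cases hS : IsPBlock M S
      · rw [if_pos hS]
        obtain ⟨θ, rfl⟩ := hS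
        exact memLocalRing_blockCoeff hpM θ _
      · rw [if_neg hS]
        exact memLocalRing_zero hM
  -- class function property of `Est`
  have hgcf : ∀ S, IsClassFunction K (g S) := by
    intro S k h
    show (if S ∈ MulAction.fixedPoints P (Set (IrrCharacter K)) then
      (if IsPBlock M S then blockCoeff S (h * k * h⁻¹) else 0) else 0) =
      if S ∈ MulAction.fixedPoints P (Set (IrrCharacter K)) then
      (if IsPBlock M S then blockCoeff S k else 0) else 0
    rw [blockCoeff_isClassFunction S k h]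
  have hEcf : IsClassFunction K Est := by
    intro k h
    show ∑ S : Set (IrrCharacter K), g S (h * k * h⁻¹) = ∑ S : Set (IrrCharacter K), g S k
    exact Finset.sum_congr rfl fun S _ => hgcf S k h
  have hgloc : ∀ S k, MemLocalRing M (g S k) := by
    intro S k
    show MemLocalRing M (if S ∈ MulAction.fixedPoints P (Set (IrrCharacter K)) then
      (if IsPBlock M S then blockCoeff S k else 0) else 0)
    by_cases h1 : S ∈ MulAction.fixedPoints P (Set (IrrCharacter K))
    · rw [if_pos h1]
      by_cases hS : IsPBlock M S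
      · rw [if_pos hS]
        obtain ⟨θ, rfl⟩ := hS
        exact memLocalRing_blockCoeff hpM θ _
      · rw [if_neg hS]
        exact memLocalRing_zero hM
    · rw [if_neg h1]
      exact memLocalRing_zero hM
  have h3 : MemLocalIdeal M (lamC P K hDK (ξ : Subgroup.centralizer (P : Set G) → ℂ)
      ((deltaOne : K → ℂ) - Est)) := by
    refine memLocalIdeal_omega_of_forall hM ξ.2
      (resC_isClassFunction P K hDK (a := (deltaOne : K → ℂ) - Est) ?_) ?_ ?_
    · intro k h
      show (deltaOne : K → ℂ) _ - Est _ = (deltaOne : K → ℂ) k - Est k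
      rw [deltaOne_isClassFunction k h, hEcf k h]
    · intro d
      exact memLocalRing_of_memLocalIdeal (hdiff d)
    · intro d
      exact Or.inl (hdiff d)
  rw [hlam.sub, hlam.one] at h3
  have h4 : lamC P K hDK (ξ : Subgroup.centralizer (P : Set G) → ℂ) Est =
      ∑ S : Set (IrrCharacter K),
        lamC P K hDK (ξ : Subgroup.centralizer (P : Set G) → ℂ) (g S) := by
    show omega _ (resC P K hDK Est) = _
    have : resC P K hDK Est = fun d => ∑ S : Set (IrrCharacter K), resC P K hDK (g S) d := rfl
    rw [this, omega_finset_sum]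
    rfl
  rw [h4] at h3
  -- some stable block has a unit value
  have h5 : ∃ S : Set (IrrCharacter K), ¬ MemLocalIdeal M
      (lamC P K hDK (ξ : Subgroup.centralizer (P : Set G) → ℂ) (g S)) := by
    by_contra hcon
    push Not at hcon
    have hs := memLocalIdeal_sum hM Finset.univ _ (fun S _ => hcon S)
    have := memLocalIdeal_add hM h3 hs
    rw [sub_add_cancel] at this
    exact not_memLocalIdeal_one hM this
  obtain ⟨S, hS⟩ := h5
  have hSfix : S ∈ MulAction.fixedPoints P (Set (IrrCharacter K)) := by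
    by_contra hcon
    apply hS
    have : g S = 0 := by
      funext k
      show (if S ∈ MulAction.fixedPoints P (Set (IrrCharacter K)) then _ else 0) = 0
      rw [if_neg hcon]
    rw [this, hlam.zero]
    exact memLocalIdeal_zero hM
  have hSblock : IsPBlock M S := by
    by_contra hcon
    apply hS
    have : g S = 0 := by
      funext k
      show (if S ∈ MulAction.fixedPoints P (Set (IrrCharacter K)) then
        (if IsPBlock M S then blockCoeff S k else 0) else 0) = 0
      rw [if_pos hSfix, if_neg hcon]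
    rw [this, hlam.zero]
    exact memLocalIdeal_zero hM
  have hgS : g S = blockCoeff S := by
    funext k
    show (if S ∈ MulAction.fixedPoints P (Set (IrrCharacter K)) then
      (if IsPBlock M S then blockCoeff S k else 0) else 0) = _
    rw [if_pos hSfix, if_pos hSblock]
  rw [hgS] at hS
  have hstab : ∀ y ∈ P, StabilizesBlock K S y := by
    intro y hy
    refine ⟨hPK y hy, ?_⟩
    intro χ hχ
    refine ⟨irrSmul P K hPK ⟨y, hy⟩ χ, ?_, ?_⟩
    · have h6 : (⟨y, hy⟩ : P) • S = S := hSfix ⟨y, hy⟩
      rw [← h6]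
      exact Set.smul_mem_smul_set hχ
    · intro k k' hk
      rw [irrSmul_apply]
      refine congrArg _ ?_
      apply Subtype.ext
      show y⁻¹ * (k' : G) * y = (k : G)
      rw [hk]
      group
  refine ⟨S, hSblock, hstab, ?_⟩
  have hpinv := pinv_blockCoeff hpM (P := P) hSblock hstab
  have h7 := hlam.mul _ _ hpinv hpinv
  rw [conv_blockCoeff_self] at h7
  set c := lamC P K hDK (ξ : Subgroup.centralizer (P : Set G) → ℂ) (blockCoeff S) with hc
  have h8 : c - c * c = c * (1 - c) := by ring
  rw [h8] at h7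
  have h9 := memLocalIdeal_of_mul_of_not_memLocalIdeal hM (hlam.mem _ hpinv) hS h7
  exact cong_symm h9


omit [Fintype G] in
/-- Characters in the same block of `C_G(P)` give congruent Brauer functionals. -/
theorem lamC_cong_of_sameBlock {M : Ideal AlgInt} (hM : M.IsPrime) {P K : Subgroup G}
    [Fintype (Subgroup.centralizer (P : Set G))]
    (hDK : Subgroup.centralizer (P : Set G) ≤ K)
    {ξ ξ' : IrrCharacter (Subgroup.centralizer (P : Set G))}
    (h : SameBlock M (ξ : Subgroup.centralizer (P : Set G) → ℂ)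
      (ξ' : Subgroup.centralizer (P : Set G) → ℂ)) {a : K → ℂ} (ha : ZS M a) :
    MemLocalIdeal M (lamC P K hDK (ξ : Subgroup.centralizer (P : Set G) → ℂ) a -
      lamC P K hDK (ξ' : Subgroup.centralizer (P : Set G) → ℂ) a) :=
  memLocalIdeal_omega_sub hM (isClassFunction_of_isCharacter ξ.2)
    (isClassFunction_of_isCharacter ξ'.2) h (resC_isClassFunction P K hDK ha.1)
    (fun d => ha.2 _)

/-- Two `P`-stable blocks of `K` whose idempotents are both sent to `1` coincide. -/
theorem stable_block_unique {p : ℕ} [Fact p.Prime] {M : Ideal AlgInt}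
    (hpM : IsPModular p M) {P K : Subgroup G} [Fintype K]
    [Fintype (Subgroup.centralizer (P : Set G))] (hP : IsPGroup p P)
    (hDK : Subgroup.centralizer (P : Set G) ≤ K)
    (hPK : ∀ y ∈ P, y ∈ Subgroup.normalizer (K : Set G))
    (ξ : IrrCharacter (Subgroup.centralizer (P : Set G)))
    {f f' : Set (IrrCharacter K)} (hf : IsPBlock M f) (hf' : IsPBlock M f')
    (hst : ∀ y ∈ P, StabilizesBlock K f y) (hst' : ∀ y ∈ P, StabilizesBlock K f' y)
    (h1 : MemLocalIdeal M
      (lamC P K hDK (ξ : Subgroup.centralizer (P : Set G) → ℂ) (blockCoeff f) - 1))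
    (h1' : MemLocalIdeal M
      (lamC P K hDK (ξ : Subgroup.centralizer (P : Set G) → ℂ) (blockCoeff f') - 1)) :
    f = f' := by
  have hM : M.IsPrime := isPrime_of_isPModular hpM
  have hlam := subModHom_lamC hpM hP hDK hPK ξ
  by_contra hne
  have hp := pinv_blockCoeff hpM (P := P) hf hst
  have hp' := pinv_blockCoeff hpM (P := P) hf' hst'
  have h2 := hlam.mul _ _ hp hp'
  rw [conv_blockCoeff_of_ne hM hf hf' hne, hlam.zero, zero_sub] at h2
  have h3 := memLocalIdeal_neg h2
  rw [neg_neg] at h3
  have h4 := cong_mul hM (hlam.mem _ hp') (memLocalRing_one hM) h1 h1'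
  rw [mul_one] at h4
  have h5 := memLocalIdeal_sub hM h3 h4
  rw [sub_sub_cancel] at h5
  exact not_memLocalIdeal_one hM h5

/-- **Existence and uniqueness of normal subpairs.** -/
theorem existsUnique_isNormalSubpair {p : ℕ} [Fact p.Prime] {M : Ideal AlgInt}
    (hpM : IsPModular p M) (P Q : Subgroup G)
    (e : Set (IrrCharacter (Subgroup.centralizer (P : Set G))))
    (hPe : IsBrauerPair p M P e) (hQP : Q ≤ P)
    (hPN : P ≤ Subgroup.normalizer (Q : Set G)) :
    ∃! f : Set (IrrCharacter (Subgroup.centralizer (Q : Set G))),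
      IsNormalSubpair p M Q f P e := by
  classical
  have hM : M.IsPrime := isPrime_of_isPModular hpM
  have := Fintype.ofFinite (Subgroup.centralizer (P : Set G))
  have := Fintype.ofFinite (Subgroup.centralizer (Q : Set G))
  have hDK : Subgroup.centralizer (P : Set G) ≤ Subgroup.centralizer (Q : Set G) :=
    Subgroup.centralizer_le hQP
  have hPK : ∀ y ∈ P, y ∈ Subgroup.normalizer
      ((Subgroup.centralizer (Q : Set G) : Subgroup G) : Set G) := fun y hy =>
    Cfsg.Agent.S4691.normalizer_le_normalizer_centralizer' Q (hPN hy)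
  obtain ⟨hPp, ξ₀, he⟩ := hPe
  have hξ₀ : ξ₀ ∈ e := by rw [he]; exact sameBlock_refl hM _
  obtain ⟨f, hfb, hfst, hf1⟩ := exists_stable_block hpM hPp hDK hPK ξ₀
  refine ⟨f, ⟨⟨hPp.to_le hQP, hfb⟩, ⟨hPp, ξ₀, he⟩, hQP, hPN, hfst, ?_⟩, ?_⟩
  · intro ξ hξ
    rw [brauerOmega_subgroupBlockCoeff P _ hDK]
    rw [he] at hξ
    have hzs : ZS M (blockCoeff f) := (pinv_blockCoeff hpM (P := P) hfb hfst).1
    exact cong_trans hM (lamC_cong_of_sameBlock hM hDK (sameBlock_symm hξ) hzs) hf1
  · rintro f' ⟨⟨-, hf'b⟩, -, -, -, hf'st, hf'1⟩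
    have h1' := hf'1 ξ₀ hξ₀
    rw [brauerOmega_subgroupBlockCoeff P _ hDK] at h1'
    exact stable_block_unique hpM hPp hDK hPK ξ₀ hf'b hfb hf'st hfst h1' hf1

end Concrete

end Cfsg.Agent.Lib.Helper52.PStable
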