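import Mathlib
import Cfsg.Agent.S2904

/-!
# Primitive parts of `a ^ n - 1` (Zsigmondy / Feit / Hering type results)

Builds on `Cfsg.Agent.S2904` (`Phi n a` = value of the `n`-th cyclotomic polynomial at `a`).
Main results:
* `Phi_lower`: `a ^ (φ(n) / 2) ≤ Phi n a`
* `totient_cube`: `n ^ 2 ≤ 8 * φ(n) ^ 3`
* `exists_prim_part`: `Phi n a = f * P` with `f ≤ n` and `P` a primitive divisor of `a ^ n - 1`
* `exists_large_primitive_divisor`: outside thirteen exceptional pairs, `a ^ n - 1` (`n ≥ 3`) has a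
  primitive divisor `m ≥ 3 n + 1`.
-/

set_option autoImplicit false

namespace Cfsg.Agent.Lib.Helper52
open Cfsg.Agent.S2904


lemma Phi_expand_pow (n' p a j : ℕ) (hp : p.Prime) (hdiv : p ∣ n') :
    Phi n' (a ^ (p ^ j)) = Phi (n' * p ^ j) a := by
  induction j generalizing n' with
  | zero => simp
  | succ j ih =>
    rw [pow_succ, pow_mul, Phi_expand_dvd n' p _ hp hdiv, ih (n' * p) (dvd_mul_left p n')]
    congr 1
    ring

lemma Phi_two_pow (k a : ℕ) (hk : 1 ≤ k) : Phi (2 ^ k) a = a ^ (2 ^ (k - 1)) + 1 := by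
  obtain ⟨j, rfl⟩ : ∃ j, k = j + 1 := ⟨k - 1, by omega⟩
  have h := Phi_expand_pow 2 2 a j Nat.prime_two (dvd_refl 2)
  rw [Phi_two] at h
  rw [Nat.add_sub_cancel, h]
  congr 1
  ring

lemma aux_ineq (b p : ℕ) (hb : 2 ≤ b) (hp : 3 ≤ p) :
    b ^ (p - 2) * (b - 1) * (b + 1) ≤ b ^ p - 1 := by
  obtain ⟨c, rfl⟩ : ∃ c, b = c + 2 := ⟨b - 2, by omega⟩
  obtain ⟨q, rfl⟩ : ∃ q, p = q + 2 := ⟨p - 2, by omega⟩
  have e1 : (c + 2) ^ (q + 2) = (c + 2) ^ q * ((c + 1) * (c + 3)) + (c + 2) ^ q := by ring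
  have e2 : 1 ≤ (c + 2) ^ q := Nat.one_le_pow _ _ (by omega)
  have e3 : c + 2 - 1 = c + 1 := by omega
  have e4 : q + 2 - 2 = q := by omega
  rw [e3, e4, e1, mul_assoc]
  have e5 : c + 2 + 1 = c + 3 := by ring
  rw [e5]
  omega

/-- a lower bound for the value of a cyclotomic polynomial -/
lemma Phi_lower (n a : ℕ) (ha : 1 < a) (hn : 1 < n) : a ^ (n.totient / 2) ≤ Phi n a := by
  by_cases hodd : ∃ p, p.Prime ∧ p ≠ 2 ∧ p ∣ n
  · obtain ⟨p, hp, hp2, hpn⟩ := hodd
    have hp3 : 3 ≤ p := by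
      have := hp.two_le; omega
    obtain ⟨k, m, hpm, hnkm⟩ := Nat.exists_eq_pow_mul_and_not_dvd (by omega : n ≠ 0) p hp.ne_one
    have hk : 1 ≤ k := by
      rcases Nat.eq_zero_or_pos k with h0 | h0
      · subst h0
        rw [pow_zero, one_mul] at hnkm
        rw [hnkm] at hpn
        exact absurd hpn hpm
      · exact h0
    have hmpos : 0 < m := by
      rcases Nat.eq_zero_or_pos m with h0 | h0
      · subst h0; simp at hnkm; omega
      · exact h0
    obtain ⟨j, rfl⟩ : ∃ j, k = j + 1 := ⟨k - 1, by omega⟩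
    set b := a ^ (p ^ j) with hb
    have hb2 : 2 ≤ b := by
      have : 1 ≤ p ^ j := Nat.one_le_pow _ _ (by omega)
      calc 2 ≤ a := ha
        _ = a ^ 1 := (pow_one a).symm
        _ ≤ a ^ (p ^ j) := Nat.pow_le_pow_right (by omega) this
    have h1 : Phi n a = Phi (m * p) b := by
      rw [hb, Phi_expand_pow (m * p) p a j hp (dvd_mul_left p m), hnkm]
      congr 1
      ring
    have h2 := Phi_expand_not_dvd m p b hp hpm
    have h3 : (b ^ p - 1) ^ m.totient ≤ Phi m (b ^ p) := by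
      by_cases hm1 : m = 1
      · subst hm1
        have : 1 < b ^ p := Nat.one_lt_pow (by omega) (by omega)
        rw [Phi_one _ this, Nat.totient_one, pow_one]
      · have : 1 < b ^ p := Nat.one_lt_pow (by omega) (by omega)
        exact (Phi_gt m (b ^ p) this (by omega)).le
    have h4 := Phi_le m b (by omega)
    -- (b^p - 1) ≥ b^(p-2) * (b-1) * (b+1)
    have h5 : b ^ (p - 2) * (b - 1) * (b + 1) ≤ b ^ p - 1 := aux_ineq b p hb2 hp3
    have h6 : (b ^ (p - 2) * (b - 1) * (b + 1)) ^ m.totient ≤ Phi (m * p) b * (b + 1) ^ m.totient := by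
      calc (b ^ (p - 2) * (b - 1) * (b + 1)) ^ m.totient ≤ (b ^ p - 1) ^ m.totient :=
            Nat.pow_le_pow_left h5 _
        _ ≤ Phi m (b ^ p) := h3
        _ = Phi (m * p) b * Phi m b := h2
        _ ≤ Phi (m * p) b * (b + 1) ^ m.totient := Nat.mul_le_mul_left _ h4
    rw [mul_pow] at h6
    have h7 : (b ^ (p - 2) * (b - 1)) ^ m.totient ≤ Phi (m * p) b :=
      Nat.le_of_mul_le_mul_right h6 (by positivity)
    have h8 : (b ^ (p - 2)) ^ m.totient ≤ (b ^ (p - 2) * (b - 1)) ^ m.totient := by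
      apply Nat.pow_le_pow_left
      exact Nat.le_mul_of_pos_right _ (by omega)
    have h9 : n.totient = p ^ j * (p - 1) * m.totient := by
      rw [hnkm, Nat.totient_mul (Nat.Coprime.pow_left _ ((Nat.Prime.coprime_iff_not_dvd hp).mpr hpm)),
        Nat.totient_prime_pow_succ hp]
    have h10 : p - 1 ≤ 2 * (p - 2) := by omega
    have hexp : n.totient / 2 ≤ p ^ j * ((p - 2) * m.totient) := by
      apply Nat.div_le_of_le_mul
      rw [h9]
      calc p ^ j * (p - 1) * m.totient ≤ p ^ j * (2 * (p - 2)) * m.totient := by gcongr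
        _ = 2 * (p ^ j * ((p - 2) * m.totient)) := by ring
    rw [h1]
    refine le_trans ?_ (le_trans h8 h7)
    rw [hb, ← pow_mul, ← pow_mul]
    exact Nat.pow_le_pow_right (by omega) hexp
  · push Not at hodd
    have hall : ∀ {q : ℕ}, q.Prime → q ∣ n → q = 2 := by
      intro q hq hqn
      by_contra h2
      exact hodd q hq h2 hqn
    have hpow := Nat.eq_prime_pow_of_unique_prime_dvd (by omega : n ≠ 0) hall
    set k := n.primeFactorsList.length with hk
    have hk1 : 1 ≤ k := by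
      rcases Nat.eq_zero_or_pos k with h0 | h0
      · rw [h0, pow_zero] at hpow; omega
      · exact h0
    rw [hpow, Phi_two_pow k a hk1]
    obtain ⟨j, hj⟩ : ∃ j, k = j + 1 := ⟨k - 1, by omega⟩
    rw [hj, Nat.totient_prime_pow_succ Nat.prime_two, Nat.add_sub_cancel]
    have : a ^ (2 ^ j * (2 - 1) / 2) ≤ a ^ (2 ^ j) := by
      apply Nat.pow_le_pow_right (by omega)
      simp
      exact Nat.div_le_self _ _
    omega



/-- auxiliary multiplicative weight -/
def dW (n : ℕ) : ℕ := (if 2 ∣ n then 4 else 1) * (if 3 ∣ n then 2 else 1)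

lemma dW_le (n : ℕ) : dW n ≤ 8 := by
  unfold dW
  split_ifs <;> norm_num

lemma ite_mul_aux (q c : ℕ) (hq : q.Prime) (a b : ℕ) (hab : Nat.Coprime a b) :
    (if q ∣ a * b then c else 1) = (if q ∣ a then c else 1) * (if q ∣ b then c else 1) := by
  have hnot : ¬ (q ∣ a ∧ q ∣ b) := fun ⟨h1, h2⟩ => by
    have := Nat.dvd_gcd h1 h2
    rw [hab] at this
    exact hq.one_lt.ne' (Nat.dvd_one.mp this)
  by_cases ha : q ∣ a
  · have hb : ¬ q ∣ b := fun hb => hnot ⟨ha, hb⟩
    rw [if_pos (ha.mul_right b), if_pos ha, if_neg hb, mul_one]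
  · by_cases hb : q ∣ b
    · rw [if_pos (hb.mul_left a), if_neg ha, if_pos hb, one_mul]
    · have : ¬ q ∣ a * b := fun h => by
        rcases (Nat.Prime.dvd_mul hq).mp h with h | h
        · exact ha h
        · exact hb h
      rw [if_neg this, if_neg ha, if_neg hb]

lemma dW_mul (a b : ℕ) (hab : Nat.Coprime a b) : dW (a * b) = dW a * dW b := by
  unfold dW
  rw [ite_mul_aux 2 4 Nat.prime_two a b hab, ite_mul_aux 3 2 Nat.prime_three a b hab]
  ring

lemma sq_le_cube_pred (p : ℕ) (hp : 5 ≤ p) : p ^ 2 ≤ (p - 1) ^ 3 := by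
  obtain ⟨t, rfl⟩ : ∃ t, p = t + 5 := ⟨p - 5, by omega⟩
  have : t + 5 - 1 = t + 4 := by omega
  rw [this]
  nlinarith [sq_nonneg t]

lemma totient_cube_aux (n : ℕ) : n ^ 2 ≤ n.totient ^ 3 * dW n := by
  induction n using Nat.recOnPosPrimePosCoprime with
  | zero => simp
  | one => simp [dW]
  | prime_pow p k hp hk =>
    obtain ⟨j, rfl⟩ : ∃ j, k = j + 1 := ⟨k - 1, by omega⟩
    rw [Nat.totient_prime_pow_succ hp]
    have h1 : p ^ 2 ≤ (p - 1) ^ 3 * dW (p ^ (j + 1)) := by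
      unfold dW
      have hp2 := hp.two_le
      by_cases h2 : p = 2
      · subst h2
        have : (2 : ℕ) ∣ 2 ^ (j + 1) := dvd_pow_self 2 (by omega)
        rw [if_pos this]
        split_ifs <;> norm_num
      · by_cases h3 : p = 3
        · subst h3
          have : (3 : ℕ) ∣ 3 ^ (j + 1) := dvd_pow_self 3 (by omega)
          have h23 : ¬ (2 : ℕ) ∣ 3 ^ (j + 1) := by
            intro h
            have := Nat.Prime.dvd_of_dvd_pow Nat.prime_two h
            omega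
          simp [this, h23]
        · have h5 : 5 ≤ p := by
            have : p ≠ 4 := by
              intro h4; rw [h4] at hp; norm_num at hp
            omega
          have h2' : ¬ (2 : ℕ) ∣ p ^ (j + 1) := by
            intro h
            have := (Nat.prime_dvd_prime_iff_eq Nat.prime_two hp).mp (Nat.Prime.dvd_of_dvd_pow Nat.prime_two h)
            omega
          have h3' : ¬ (3 : ℕ) ∣ p ^ (j + 1) := by
            intro h
            have := (Nat.prime_dvd_prime_iff_eq Nat.prime_three hp).mp (Nat.Prime.dvd_of_dvd_pow Nat.prime_three h)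
            omega
          simp only [h2', h3', if_false, mul_one]
          exact sq_le_cube_pred p h5
    have h2 : (p ^ j) ^ 2 ≤ (p ^ j) ^ 3 := Nat.pow_le_pow_right (Nat.pow_pos hp.pos) (by norm_num)
    calc (p ^ (j + 1)) ^ 2 = (p ^ j) ^ 2 * p ^ 2 := by ring
      _ ≤ (p ^ j) ^ 3 * ((p - 1) ^ 3 * dW (p ^ (j + 1))) := Nat.mul_le_mul h2 h1
      _ = (p ^ j * (p - 1)) ^ 3 * dW (p ^ (j + 1)) := by ring
  | coprime a b ha hb hab iha ihb =>
    rw [Nat.totient_mul hab, dW_mul a b hab]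
    calc (a * b) ^ 2 = a ^ 2 * b ^ 2 := by ring
      _ ≤ (a.totient ^ 3 * dW a) * (b.totient ^ 3 * dW b) := Nat.mul_le_mul iha ihb
      _ = (a.totient * b.totient) ^ 3 * (dW a * dW b) := by ring

lemma totient_cube (n : ℕ) : n ^ 2 ≤ 8 * n.totient ^ 3 := by
  have h1 := totient_cube_aux n
  have h2 := dW_le n
  calc n ^ 2 ≤ n.totient ^ 3 * dW n := h1
    _ ≤ n.totient ^ 3 * 8 := Nat.mul_le_mul_left _ h2
    _ = 8 * n.totient ^ 3 := by ring




lemma exp_beats_cube (s : ℕ) (hs : 22 ≤ s) : 24 * (2 * s + 1) ^ 3 < 2 ^ s := by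
  induction s, hs using Nat.le_induction with
  | base => norm_num
  | succ s hs ih =>
    have h1 : (2 * (s + 1) + 1) ^ 3 ≤ 2 * (2 * s + 1) ^ 3 := by
      nlinarith [sq_nonneg s, mul_self_nonneg (s - 22 : ℤ)]
    calc 24 * (2 * (s + 1) + 1) ^ 3 ≤ 24 * (2 * (2 * s + 1) ^ 3) := Nat.mul_le_mul_left _ h1
      _ = 2 * (24 * (2 * s + 1) ^ 3) := by ring
      _ < 2 * 2 ^ s := by omega
      _ = 2 ^ (s + 1) := by ring

lemma large_n (n : ℕ) (hn : 800 ≤ n) : 3 * n ^ 2 < 2 ^ (n.totient / 2) := by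
  have h1 := totient_cube n
  set t := n.totient with ht
  have h2 : 640000 ≤ n ^ 2 := by nlinarith
  have h3 : 44 ≤ t := by
    by_contra hcon
    have : t ≤ 43 := by omega
    have : t ^ 3 ≤ 43 ^ 3 := Nat.pow_le_pow_left this 3
    omega
  set s := t / 2 with hs
  have h4 : t ≤ 2 * s + 1 := by omega
  have h5 : 22 ≤ s := by omega
  have h6 := exp_beats_cube s h5
  have h7 : t ^ 3 ≤ (2 * s + 1) ^ 3 := Nat.pow_le_pow_left h4 3
  omega



/-- a non-primitive prime divisor of `Phi n a` divides `n` and its square does not divide `Phi n a` -/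
lemma np_facts (n a r : ℕ) (ha : 1 < a) (hn : 2 < n) (hr : r.Prime) (hrΦ : r ∣ Phi n a)
    (hm : orderOf (a : ZMod r) ≠ n) : r ∣ n ∧ ¬ r ^ 2 ∣ Phi n a := by
  by_cases hr2 : r = 2
  · subst hr2
    obtain ⟨e, he⟩ := np_two n a ha (by omega) hrΦ
    have haodd := odd_of_two_dvd_Phi n a ha (by omega) hrΦ
    have he2 : 2 ≤ e := by
      by_contra hcon
      have : e = 0 ∨ e = 1 := by omega
      rcases this with h | h <;> subst h <;> simp at he <;> omega
    refine ⟨?_, ?_⟩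
    · rw [he]; exact dvd_pow_self 2 (by omega)
    · rw [he]
      exact four_not_dvd e a ha he2 haodd
  · obtain ⟨h1, h2, -⟩ := np_odd n a r ha (by omega) hr hr2 hrΦ hm
    exact ⟨h1, h2⟩

lemma np_unique (n a r r' : ℕ) (ha : 1 < a) (hn : 2 < n) (hr : r.Prime) (hrΦ : r ∣ Phi n a)
    (hm : orderOf (a : ZMod r) ≠ n) (hr' : r'.Prime) (hr'Φ : r' ∣ Phi n a)
    (hm' : orderOf (a : ZMod r') ≠ n) : r = r' := by
  have key : ∀ s : ℕ, s.Prime → s ∣ Phi n a → orderOf (a : ZMod s) ≠ n → 2 ∣ Phi n a → s = 2 := by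
    intro s hs hsΦ hsm h2
    by_contra hs2
    obtain ⟨e, he⟩ := np_two n a ha (by omega) h2
    obtain ⟨h1, -⟩ := np_odd n a s ha (by omega) hs hs2 hsΦ hsm
    rw [he] at h1
    exact hs2 ((Nat.prime_dvd_prime_iff_eq hs Nat.prime_two).mp (hs.dvd_of_dvd_pow h1))
  by_cases hr2 : r = 2
  · subst hr2
    exact (key r' hr' hr'Φ hm' hrΦ).symm
  · by_cases hr'2 : r' = 2
    · subst hr'2
      exact key r hr hrΦ hm hr'Φ
    · rcases lt_trichotomy r r' with h | h | h
      · exact (uniq_aux n a r r' ha (by omega) hr hr2 hr' hr'2 hrΦ hr'Φ hm hm' h).elim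
      · exact h
      · exact (uniq_aux n a r' r ha (by omega) hr' hr'2 hr hr2 hr'Φ hrΦ hm' hm h).elim

lemma not_dvd_of_order (n a p i : ℕ) (ha : 1 < a) (hp : p.Prime)
    (hord : orderOf (a : ZMod p) = n) (hi1 : 1 ≤ i) (hin : i < n) : ¬ p ∣ a ^ i - 1 := by
  intro h
  have h1 := (pow_eq_one_iff_dvd p a i ha).mpr h
  have h2 := orderOf_dvd_of_pow_eq_one h1
  rw [hord] at h2
  have := Nat.le_of_dvd (by omega) h2
  omega

/-- the primitive part of `a ^ n - 1` -/
lemma exists_prim_part (n a : ℕ) (ha : 1 < a) (hn : 2 < n) :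
    ∃ P f : ℕ, Phi n a = f * P ∧ 0 < f ∧ f ≤ n ∧ P ∣ a ^ n - 1 ∧
      ∀ i, 1 ≤ i → i < n → Nat.Coprime P (a ^ i - 1) := by
  have hΦdvd := Phi_dvd n a ha (by omega)
  have hΦpos := Phi_pos n a ha
  by_cases hNP : ∃ r, r.Prime ∧ r ∣ Phi n a ∧ orderOf (a : ZMod r) ≠ n
  · obtain ⟨r, hr, hrΦ, hm⟩ := hNP
    obtain ⟨hrn, hsq⟩ := np_facts n a r ha hn hr hrΦ hm
    refine ⟨Phi n a / r, r, (Nat.mul_div_cancel' hrΦ).symm, hr.pos, Nat.le_of_dvd (by omega) hrn,
      (Nat.div_dvd_of_dvd hrΦ).trans hΦdvd, ?_⟩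
    intro i hi1 hin
    apply Nat.coprime_of_dvd
    intro p hp hpP hpi
    have hpΦ : p ∣ Phi n a := hpP.trans (Nat.div_dvd_of_dvd hrΦ)
    by_cases hord : orderOf (a : ZMod p) = n
    · exact not_dvd_of_order n a p i ha hp hord hi1 hin hpi
    · have := np_unique n a r p ha hn hr hrΦ hm hp hpΦ hord
      subst this
      apply hsq
      rw [pow_two]
      obtain ⟨c, hc⟩ := hpP
      have h1 : Phi n a = r * (Phi n a / r) := (Nat.mul_div_cancel' hrΦ).symm
      rw [h1, hc]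
      exact ⟨c, by ring⟩
  · push Not at hNP
    refine ⟨Phi n a, 1, (one_mul _).symm, one_pos, by omega, hΦdvd, ?_⟩
    intro i hi1 hin
    apply Nat.coprime_of_dvd
    intro p hp hpP hpi
    exact not_dvd_of_order n a p i ha hp (hNP p hp hpP) hi1 hin hpi

/-- if `Phi n a` is large, there is a large primitive divisor -/
lemma prim_of_large (n a : ℕ) (ha : 1 < a) (hn : 2 < n) (hbig : 3 * n ^ 2 < Phi n a) :
    ∃ m : ℕ, m ∣ a ^ n - 1 ∧ (∀ i : ℕ, 1 ≤ i → i < n → Nat.Coprime m (a ^ i - 1)) ∧ 3 * n + 1 ≤ m := by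
  obtain ⟨P, f, hΦ, hf0, hfn, hPd, hPc⟩ := exists_prim_part n a ha hn
  refine ⟨P, hPd, hPc, ?_⟩
  by_contra hcon
  have hP : P ≤ 3 * n := by omega
  have : f * P ≤ n * (3 * n) := Nat.mul_le_mul hfn hP
  rw [← hΦ] at this
  nlinarith


/-- the thirteen exceptional pairs `(q, e)` -/
def thirteen : List (ℕ × ℕ) :=
  [(2, 6), (2, 4), (2, 10), (2, 12), (2, 18), (3, 4), (3, 6), (5, 6), (2, 3), (2, 8), (2, 20), (4, 3), (4, 6)]

def badTable : List (ℕ × ℕ) :=
  [(3, 7), (4, 8), (5, 4), (6, 12), (7, 4), (8, 5), (9, 4), (10, 6), (11, 3), (12, 6), (13, 3), (14, 4), (15, 4), (16, 4), (17, 3), (18, 5), (19, 3), (20, 4), (21, 3), (22, 4), (24, 4), (25, 3), (26, 3), (27, 3), (28, 3), (30, 4), (32, 3), (33, 3), (34, 3), (36, 3), (38, 3), (39, 3), (40, 3), (42, 4), (44, 3), (45, 3), (46, 3), (48, 3), (50, 3), (52, 3), (54, 3), (56, 3), (60, 3), (66, 3), (70, 3), (72, 3), (78, 3), (84, 3), (90, 3)]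

def certs : List (ℕ × ℕ × ℕ) :=
  [(3, 3, 13), (5, 3, 31), (6, 3, 43), (4, 4, 17), (5, 4, 13), (6, 4, 37), (7, 4, 25), (2, 5, 31), (3, 5, 121), (6, 6, 31), (7, 6, 43), (8, 6, 19), (9, 6, 73), (10, 6, 91), (11, 6, 37), (2, 7, 127), (3, 7, 1093), (3, 8, 41), (4, 8, 257), (2, 9, 73), (3, 9, 757), (3, 10, 61), (4, 10, 41), (5, 10, 521), (2, 11, 2047), (3, 12, 73), (4, 12, 241), (5, 12, 601), (2, 13, 8191), (2, 14, 43), (3, 14, 547), (2, 15, 151), (3, 15, 4561), (2, 16, 257), (3, 16, 3281), (2, 17, 131071), (3, 18, 703), (4, 18, 4033), (2, 19, 524287), (3, 20, 1181), (2, 21, 337), (2, 22, 683), (3, 22, 44287), (2, 24, 241), (3, 24, 6481), (2, 25, 1082401), (2, 26, 2731), (2, 27, 262657), (2, 28, 3277), (2, 30, 331), (3, 30, 8401), (2, 32, 65537), (2, 33, 599479), (2, 34, 43691), (2, 36, 4033), (2, 38, 174763), (2, 39, 9588151), (2, 40, 61681), (2, 42, 5419), (3, 42, 97567), (2, 44, 838861), (2, 45, 14709241), (2, 46, 2796203), (2, 48,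 65281), (2, 50, 1016801), (2, 52, 13421773), (2, 54, 87211), (2, 56, 15790321), (2, 60, 80581), (2, 66, 1397419), (2, 70, 24214051), (2, 72, 16773121), (2, 78, 22366891), (2, 84, 20647621), (2, 90, 18837001)]

/-- `m` is a primitive divisor of `a ^ n - 1` with `m ≥ 3 n + 1` -/
def ValidCert (a n m : ℕ) : Prop :=
  m ∣ a ^ n - 1 ∧ (∀ i ∈ Finset.range n, 1 ≤ i → Nat.Coprime m (a ^ i - 1)) ∧ 3 * n + 1 ≤ m

instance (a n m : ℕ) : Decidable (ValidCert a n m) := by
  unfold ValidCert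
  infer_instance

set_option maxRecDepth 100000 in
lemma check_mid : ∀ n ∈ Finset.Icc 3 799,
    n ∈ badTable.map Prod.fst ∨ 3 * n ^ 2 < 2 ^ (n.totient / 2) := by
  decide +kernel

set_option maxRecDepth 100000 in
lemma check_bad : ∀ p ∈ badTable, 3 * p.1 ^ 2 < (p.2 - 1) ^ (p.1.totient) ∧
    ∀ a ∈ List.range p.2, a < 2 ∨ (a, p.1) ∈ thirteen ∨
      ∃ c ∈ certs, c.1 = a ∧ c.2.1 = p.1 ∧ ValidCert c.1 c.2.1 c.2.2 := by
  decide +kernel

/-- Main lemma: apart from the thirteen exceptional pairs, `a ^ n - 1` (`n ≥ 3`) has a primitive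
divisor `m ≥ 3 n + 1`. -/
theorem exists_large_primitive_divisor (a n : ℕ) (ha : 2 ≤ a) (hn : 3 ≤ n)
    (hex : (a, n) ∉ thirteen) :
    ∃ m : ℕ, m ∣ a ^ n - 1 ∧ (∀ i : ℕ, 1 ≤ i → i < n → Nat.Coprime m (a ^ i - 1)) ∧
      3 * n + 1 ≤ m := by
  have hlow := Phi_lower n a (by omega) (by omega)
  have h2a : 2 ^ (n.totient / 2) ≤ a ^ (n.totient / 2) := Nat.pow_le_pow_left ha _
  by_cases hbig : 800 ≤ n
  · exact prim_of_large n a (by omega) (by omega) (by have := large_n n hbig; omega)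
  · have hmem : n ∈ Finset.Icc 3 799 := by
      rw [Finset.mem_Icc]; omega
    rcases check_mid n hmem with hbad | hgood
    · rw [List.mem_map] at hbad
      obtain ⟨⟨n', A⟩, hp, hn'⟩ := hbad
      simp only at hn'
      subst hn'
      obtain ⟨h1, h2⟩ := check_bad (n', A) hp
      simp only at h1 h2
      by_cases haA : A ≤ a
      · have h3 : (A - 1) ^ n'.totient ≤ (a - 1) ^ n'.totient :=
          Nat.pow_le_pow_left (by omega) _
        have h4 := Phi_gt n' a (by omega) (by omega)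
        exact prim_of_large n' a (by omega) (by omega) (by omega)
      · have haR : a ∈ List.range A := by
          rw [List.mem_range]; omega
        rcases h2 a haR with h | h | ⟨⟨a', n'', m⟩, -, hc1, hc2, hv⟩
        · omega
        · exact absurd h hex
        · simp only at hc1 hc2 hv
          subst hc1
          subst hc2
          obtain ⟨hv1, hv2, hv3⟩ := hv
          exact ⟨m, hv1, fun i hi1 hin => hv2 i (Finset.mem_range.mpr hin) hi1, hv3⟩
    · exact prim_of_large n a (by omega) (by omega) (by omega)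

end Cfsg.Agent.Lib.Helper52
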