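import Cfsg.Agent.Lib.Helper52.SylowLinear
import Cfsg.Agent.Lib.Helper16.WBO
import Cfsg.Agent.Lib.Helper16.DefectVal
import Cfsg.Agent.Lib.Helper16.Degree
import Cfsg.Agent.Lib.Helper74.FD2
import Cfsg.Agent.Lib.Helper79.Basic
import Cfsg.Agent.Lib.Helper79.Abelian
import Cfsg.Agent.Lib.Helper81.OneIrr
import Cfsg.Agent.Lib.Helper81.LocalRing
import Cfsg.Agent.Lib.Helper80.Orthogonality
import Cfsg.Agent.Lib.Helper77.Osima

/-!
# Linear characters in the principal block and normal `p`-complements

If every irreducible character of degree prime to `p` in the principal `p`-block is linear,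
then every linear character of a Sylow `p`-subgroup extends to the group, and hence the group has
a normal `p`-complement (block form of Thompson's theorem).
-/

set_option autoImplicit false

namespace Cfsg.Agent.Lib.Helper52.PrincipalLinear

open Cfsg
open scoped ComplexConjugate

theorem charDegree_one_fun {G : Type*} [Group G] : charDegree (fun _ : G => (1 : ℂ)) = 1 := by
  simp [charDegree]

/-- The least `p`-exponent of a degree in the principal block is zero. -/
theorem minDegVal_principal {G : Type*} [Group G] [Finite G] (p : ℕ) {M : Ideal AlgInt} (hM : M.IsPrime) :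
    Cfsg.Agent.Lib.Helper16.minDegVal p (principalBlock M G) = 0 := by
  have h := Cfsg.Agent.Lib.Helper16.minDegVal_le p
    (Cfsg.Agent.Lib.Helper81.oneIrr_mem_principalBlock (G := G) hM)
  have h1 : charDegree ((Cfsg.Agent.Lib.Helper81.oneIrr G : IrrCharacter G) : G → ℂ) = 1 :=
    charDegree_one_fun
  rw [h1] at h
  simpa using h

/-- The height of a character in the principal block is the `p`-exponent of its degree. -/
theorem blockHeight_principal {G : Type*} [Group G] [Finite G] (p : ℕ) {M : Ideal AlgInt} (hM : M.IsPrime)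
    (χ : G → ℂ) :
    blockHeight p (principalBlock M G) χ = (charDegree χ).factorization p := by
  rw [Cfsg.Agent.Lib.Helper16.blockHeight_eq, minDegVal_principal p hM, Nat.sub_zero]

/-- If the characters of `p'`-degree in the principal block are linear, every linear character of
a Sylow `p`-subgroup extends to the group. -/
theorem exists_extend {G : Type*} [Group G] [Fintype G] (p : ℕ) [Fact p.Prime]
    (M : Ideal AlgInt) (hM : IsPModular p M)
    (hT : ∀ χ : IrrCharacter G, χ ∈ principalBlock M G → ¬ p ∣ charDegree (χ : G → ℂ) →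
      charDegree (χ : G → ℂ) = 1)
    (P : Sylow p G) (μ : (P : Subgroup G) →* ℂˣ) :
    ∃ ν : G →* ℂˣ, ∀ x : (P : Subgroup G), ν x = μ x := by
  classical
  have hp : p.Prime := Fact.out
  have hMp : M.IsPrime := hM.2.1.isPrime
  have : Fintype (IrrCharacter G) := Fintype.ofFinite _
  by_contra hno
  push Not at hno
  -- degrees
  have hdeg : ∀ χ : IrrCharacter G, (χ : G → ℂ) 1 = (charDegree (χ : G → ℂ) : ℂ) ∧
      0 < charDegree (χ : G → ℂ) := by
    intro χ
    obtain ⟨d, hd0, hd1, hd2, _⟩ := Cfsg.Agent.Lib.Helper16.irr_degree_spec χ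
    rw [hd2]
    exact ⟨hd1, hd0⟩
  -- the linear character `μ` as a character of `P`
  have hμirr : IsIrrCharacter (P : Subgroup G) (fun x => ((μ x : ℂˣ) : ℂ)) :=
    Cfsg.Agent.Lib.Helper79.isIrrCharacter_of_monoidHom μ
  have hμch := Cfsg.Agent.Lib.Helper79.isCharacter_of_isIrrCharacter hμirr
  -- multiplicities
  have hmult : ∀ χ : IrrCharacter G, ∃ m : ℕ,
      classInner (fun x : (P : Subgroup G) => (χ : G → ℂ) x) (fun x => ((μ x : ℂˣ) : ℂ)) =
        (m : ℂ) := fun χ =>
    Cfsg.Agent.Lib.Helper79.classInner_character_eq_natCast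
      (Cfsg.Agent.Lib.Helper79.isCharacter_restrict
        (Cfsg.Agent.Lib.Helper79.isCharacter_of_isIrrCharacter χ.2) _) hμch
  choose mult hmult using hmult
  have hPpos : (Nat.card (P : Subgroup G) : ℂ) ≠ 0 := Nat.cast_ne_zero.mpr Nat.card_pos.ne'
  have hsumχ : ∀ χ : IrrCharacter G,
      ∑ y : (P : Subgroup G), conj ((χ : G → ℂ) y) * ((μ y : ℂˣ) : ℂ) =
        (Nat.card (P : Subgroup G) : ℂ) * (mult χ : ℂ) := by
    intro χ
    have h := hmult χ
    unfold classInner at h
    have h2 : ∑ y : (P : Subgroup G), (χ : G → ℂ) y * conj (((μ y : ℂˣ) : ℂ)) =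
        (Nat.card (P : Subgroup G) : ℂ) * (mult χ : ℂ) := by
      rw [← h, ← mul_assoc, mul_inv_cancel₀ hPpos, one_mul]
    have h3 := congrArg conj h2
    rw [map_sum] at h3
    simp only [map_mul, Complex.conj_conj, Complex.conj_natCast] at h3
    exact h3
  set B := Finset.univ.filter (fun χ : IrrCharacter G => χ ∈ principalBlock M G) with hB
  -- the main identity
  have hmain : ∑ χ ∈ B, ((charDegree (χ : G → ℂ) : ℂ)) * (charDegree (χ : G → ℂ) : ℂ) =
      (Nat.card (P : Subgroup G) : ℂ) *
        ∑ χ ∈ B, (charDegree (χ : G → ℂ) : ℂ) * (mult χ : ℂ) := by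
    have h1 : ∑ y : (P : Subgroup G),
        (∑ χ ∈ B, (χ : G → ℂ) 1 * conj ((χ : G → ℂ) y)) * ((μ y : ℂˣ) : ℂ) =
        ∑ χ ∈ B, (charDegree (χ : G → ℂ) : ℂ) * (charDegree (χ : G → ℂ) : ℂ) := by
      rw [Finset.sum_eq_single (1 : (P : Subgroup G))]
      · rw [map_one, Units.val_one, mul_one]
        refine Finset.sum_congr rfl fun χ _ => ?_
        rw [Subgroup.coe_one, (hdeg χ).1, Complex.conj_natCast]
      · intro y _ hy
        have hyord : p ∣ orderOf (y : G) := by
          obtain ⟨k, hk⟩ := IsPGroup.iff_orderOf.mp P.isPGroup' y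
          rw [Subgroup.orderOf_coe, hk]
          rcases k with _ | k
          · rw [pow_zero, orderOf_eq_one_iff] at hk
            exact absurd hk hy
          · exact dvd_pow_self p (Nat.succ_ne_zero k)
        have h1reg : ¬ p ∣ orderOf (1 : G) := by
          rw [orderOf_one]
          exact hp.one_lt.ne' ∘ Nat.dvd_one.mp
        have hw := Cfsg.Agent.Lib.Helper16.weak_block_orthogonality_finset hM
          (Cfsg.Agent.Lib.Helper81.oneIrr G) h1reg hyord
        have hw' : ∑ χ ∈ B, (χ : G → ℂ) 1 * conj ((χ : G → ℂ) (y : G)) = 0 := hw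
        rw [hw', zero_mul]
      · intro h
        exact absurd (Finset.mem_univ _) h
    rw [← h1]
    simp_rw [Finset.sum_mul]
    rw [Finset.sum_comm, Finset.mul_sum]
    refine Finset.sum_congr rfl fun χ _ => ?_
    have : ∀ y : (P : Subgroup G), (χ : G → ℂ) 1 * conj ((χ : G → ℂ) y) * ((μ y : ℂˣ) : ℂ) =
        (χ : G → ℂ) 1 * (conj ((χ : G → ℂ) y) * ((μ y : ℂˣ) : ℂ)) := fun y => mul_assoc _ _ _
    simp_rw [this]
    rw [← Finset.mul_sum, hsumχ χ, (hdeg χ).1]
    ring
  -- in natural numbers
  have hmainN : ∑ χ ∈ B, charDegree (χ : G → ℂ) * charDegree (χ : G → ℂ) =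
      Nat.card (P : Subgroup G) * ∑ χ ∈ B, charDegree (χ : G → ℂ) * mult χ := by
    have : ((∑ χ ∈ B, charDegree (χ : G → ℂ) * charDegree (χ : G → ℂ) : ℕ) : ℂ) =
        ((Nat.card (P : Subgroup G) * ∑ χ ∈ B, charDegree (χ : G → ℂ) * mult χ : ℕ) : ℂ) := by
      push_cast
      exact hmain
    exact_mod_cast this
  -- every term of the second sum is divisible by `p`
  have hdvd : p ∣ ∑ χ ∈ B, charDegree (χ : G → ℂ) * mult χ := by
    apply Finset.dvd_sum
    intro χ hχ
    have hχB : χ ∈ principalBlock M G := (Finset.mem_filter.mp hχ).2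
    by_cases hpd : p ∣ charDegree (χ : G → ℂ)
    · exact Dvd.dvd.mul_right hpd _
    · have hd1 := hT χ hχB hpd
      have hχ1 : (χ : G → ℂ) 1 = 1 := by rw [(hdeg χ).1, hd1, Nat.cast_one]
      obtain ⟨φ, hφ⟩ := Cfsg.Agent.Lib.Helper79.exists_monoidHom_of_isCharacter_of_one
        (Cfsg.Agent.Lib.Helper79.isCharacter_of_isIrrCharacter χ.2) hχ1
      obtain ⟨x, hx⟩ := hno φ
      -- the restriction of `φ` to `P` differs from `μ`
      let χ₁ : IrrCharacter (P : Subgroup G) :=
        ⟨fun y => (((φ.comp (P : Subgroup G).subtype) y : ℂˣ) : ℂ),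
          Cfsg.Agent.Lib.Helper79.isIrrCharacter_of_monoidHom _⟩
      let χ₂ : IrrCharacter (P : Subgroup G) := ⟨fun y => ((μ y : ℂˣ) : ℂ), hμirr⟩
      have hne : χ₁ ≠ χ₂ := by
        intro h
        have := congrFun (congrArg Subtype.val h) x
        apply hx
        exact Units.ext this
      have horth := Cfsg.Agent.Lib.Helper80.irr_row_orthogonality χ₁ χ₂
      rw [if_neg hne] at horth
      have hm0 : (mult χ : ℂ) = 0 := by
        rw [← hmult χ]
        unfold classInner
        have : ∑ g : (P : Subgroup G), (fun x : (P : Subgroup G) => (χ : G → ℂ) x) g *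
            conj ((fun x : (P : Subgroup G) => ((μ x : ℂˣ) : ℂ)) g) = 0 := by
          rw [← horth]
          refine Finset.sum_congr rfl fun y _ => ?_
          show (χ : G → ℂ) y * _ = ((φ ((P : Subgroup G).subtype y) : ℂˣ) : ℂ) * _
          rw [hφ]
          rfl
        rw [this, mul_zero]
      have : mult χ = 0 := by exact_mod_cast hm0
      rw [this, mul_zero]
      exact dvd_zero p
  obtain ⟨s, hs⟩ := hdvd
  -- the idempotent coefficient at `1` lies in the local ideal
  have hdef : blockDefect p (blockOf M ((Cfsg.Agent.Lib.Helper81.oneIrr G : IrrCharacter G) :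
      G → ℂ)) = (Nat.card G).factorization p := by
    have : blockOf M ((Cfsg.Agent.Lib.Helper81.oneIrr G : IrrCharacter G) : G → ℂ) =
        principalBlock M G := rfl
    rw [this, Cfsg.Agent.Lib.Helper16.blockDefect_eq, minDegVal_principal p hMp, Nat.sub_zero]
  have hunit := Cfsg.Agent.Lib.Helper74.not_memLocalIdeal_blockCoeff_one_of_full_defect hM
    (Cfsg.Agent.Lib.Helper81.oneIrr G) hdef
  apply hunit
  have hbc : blockCoeff (blockOf M ((Cfsg.Agent.Lib.Helper81.oneIrr G : IrrCharacter G) :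
      G → ℂ)) 1 = (Nat.card G : ℂ)⁻¹ *
        ∑ χ ∈ B, (charDegree (χ : G → ℂ) : ℂ) * (charDegree (χ : G → ℂ) : ℂ) := by
    rw [Cfsg.Agent.Lib.Helper77.blockCoeff_eq_sum]
    congr 1
    refine Finset.sum_congr rfl fun χ _ => ?_
    rw [(hdeg χ).1, Complex.conj_natCast]
  rw [hbc, hmain]
  have hidx : Nat.card (P : Subgroup G) * (P : Subgroup G).index = Nat.card G :=
    Subgroup.card_mul_index _
  have hnd : ¬ p ∣ (P : Subgroup G).index := P.not_dvd_index
  refine ⟨((p * s : ℕ) : AlgInt), (((P : Subgroup G).index : ℕ) : AlgInt), ?_, ?_, ?_⟩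
  · rw [Cfsg.Agent.Lib.Helper81.natCast_mem_iff hM]
    exact Dvd.intro _ rfl
  · rw [Cfsg.Agent.Lib.Helper81.natCast_mem_iff hM]
    exact hnd
  · have hidx0 : ((P : Subgroup G).index : ℂ) ≠ 0 := by
      apply Nat.cast_ne_zero.mpr
      intro h0
      rw [h0, mul_zero] at hidx
      exact Nat.card_pos.ne' hidx.symm
    have hsum : (∑ χ ∈ B, (charDegree (χ : G → ℂ) : ℂ) * (mult χ : ℂ)) = ((p * s : ℕ) : ℂ) := by
      rw [← hs]
      push_cast
      rfl
    rw [hsum, ← hidx]
    push_cast
    field_simp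

end Cfsg.Agent.Lib.Helper52.PrincipalLinear
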