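import Cfsg.Agent.S4691
import Cfsg.Agent.Lib.Helper77.Transport
import Cfsg.Agent.Lib.Helper77.BrauerMap
import Cfsg.Agent.Lib.Helper77.ThirdMain
import Cfsg.Agent.Lib.Helper77.BrauerPair
import Cfsg.Agent.Lib.Helper77.BrauerCorr2

/-!
# Normal inclusions of Brauer pairs of principal blocks

For `p`-subgroups `Q ≤ R ≤ N_G(Q)` the pair `(Q, B₀(C_G(Q)))` is normally included in
`(R, B₀(C_G(R)))`.
-/

set_option autoImplicit false

universe u

namespace Cfsg.Agent.Lib.Helper52.PrincipalSubpair

open Cfsg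
open Cfsg.Agent.Lib.Helper77 Cfsg.Agent.Lib.Helper81 Cfsg.Agent.Lib.Helper80

variable {G : Type u} [Group G]

/-- Pulling the principal block back along an isomorphism gives the principal block. -/
theorem irrMap_image_principalBlock {H₁ H₂ : Type u} [Group H₁] [Group H₂] (M : Ideal AlgInt)
    (e : H₁ ≃* H₂) : irrMap e '' principalBlock M H₂ = principalBlock M H₁ :=
  irrMap_image_blockOf (M := M) e (oneIrr H₂)

/-- The idempotent of the principal block of `K` is invariant under the normalizer of `K`. -/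
theorem blockCoeff_principal_conjAut (M : Ideal AlgInt) (K : Subgroup G) (g : G)
    (hg : g ∈ Subgroup.normalizer (K : Set G)) (k : K) :
    blockCoeff (principalBlock M K) (Cfsg.Agent.S4691.conjAut K g hg k) =
      blockCoeff (principalBlock M K) k := by
  rw [← blockCoeff_irrMap_image (Cfsg.Agent.S4691.conjAut K g hg) (principalBlock M K) k,
    irrMap_image_principalBlock]

theorem subgroupBlockCoeff_principal_conj (M : Ideal AlgInt) (K : Subgroup G) (g : G)
    (hg : g ∈ Subgroup.normalizer (K : Set G)) (x : G) :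
    subgroupBlockCoeff K (principalBlock M K) (g * x * g⁻¹) =
      subgroupBlockCoeff K (principalBlock M K) x := by
  by_cases hx : x ∈ K
  · have hx' : g * x * g⁻¹ ∈ K := (Subgroup.mem_normalizer_iff.mp hg x).mp hx
    rw [subgroupBlockCoeff_of_mem _ hx, subgroupBlockCoeff_of_mem _ hx',
      ← blockCoeff_principal_conjAut M K g hg ⟨g * x * g⁻¹, hx'⟩]
    congr 1
    apply Subtype.ext
    show g⁻¹ * (g * x * g⁻¹) * g = x
    group
  · have hx' : g * x * g⁻¹ ∉ K := fun h => hx ((Subgroup.mem_normalizer_iff.mp hg x).mpr h)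
    unfold subgroupBlockCoeff
    rw [dif_neg hx, dif_neg hx']

variable [Fintype G]

/-- In any finite group, the idempotent of the principal block fixes the sum of the `p`-regular
elements. -/
theorem conv_blockCoeff_regInd {H : Type u} [Group H] [Fintype H] {p : ℕ} [Fact p.Prime]
    {M : Ideal AlgInt} (hpM : IsPModular p M) :
    conv (blockCoeff (principalBlock M H)) (regInd p : H → ℂ) = regInd p := by
  classical
  have hM : M.IsPrime := isPrime_of_isPModular hpM
  apply eq_of_omega_eq
    (conv_isClassFunction (blockCoeff_isClassFunction _) (regInd_isClassFunction p))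
    (regInd_isClassFunction p)
  intro χ
  rw [omega_conv χ.2 (blockCoeff_isClassFunction _) (regInd_isClassFunction p), omega_blockCoeff]
  by_cases hχ : χ ∈ principalBlock M H
  · rw [if_pos hχ, one_mul]
  · rw [if_neg hχ, zero_mul, omega_regInd_of_not_mem hpM χ hχ]

/-- The Brauer-map condition for the normal inclusion of principal pairs, with the two
centralizers abstracted. -/
theorem omega_brRes_principal {p : ℕ} [Fact p.Prime] {M : Ideal AlgInt} (hpM : IsPModular p M)
    (Q R H C : Subgroup G) [Fintype H] [Fintype C] (hH : H = Subgroup.centralizer (Q : Set G))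
    (hC : C = Subgroup.centralizer (R : Set G)) (hR : IsPGroup p R) (hQR : Q ≤ R)
    (hRN : R ≤ Subgroup.normalizer (Q : Set G))
    (ξ : IrrCharacter C) (hξ : ξ ∈ principalBlock M C) :
    MemLocalIdeal M (omega (ξ : C → ℂ)
      (brRes R C (subgroupBlockCoeff H (principalBlock M H))) - 1) := by
  classical
  have hM : M.IsPrime := isPrime_of_isPModular hpM
  have hCH : C ≤ H := by
    rw [hC, hH]
    exact Subgroup.centralizer_le hQR
  have hRNH : ∀ r ∈ R, r ∈ Subgroup.normalizer (H : Set G) := fun r hr => by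
    rw [hH]
    exact Cfsg.Agent.S4691.normalizer_le_normalizer_centralizer' Q (hRN hr)
  have hRNC : ∀ r ∈ R, r ∈ Subgroup.normalizer (C : Set G) := fun r hr => by
    rw [hC]
    exact Cfsg.Agent.S4691.normalizer_le_normalizer_centralizer' R (Subgroup.le_normalizer hr)
  have hCR : ∀ c ∈ C, ∀ q ∈ R, q * c = c * q := by
    intro c hc q hq
    rw [hC] at hc
    exact (Subgroup.mem_centralizer_iff.mp hc) q hq
  have hfixC : ∀ x : G, (∀ q ∈ R, q * x * q⁻¹ = x) → x ∈ C := by
    intro x hx
    rw [hC, Subgroup.mem_centralizer_iff]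
    intro q hq
    have h3 : q * x * q⁻¹ = x := hx q hq
    calc q * x = q * x * q⁻¹ * q := by group
      _ = x * q := by rw [h3]
  set A : G → ℂ := subgroupBlockCoeff H (principalBlock M H) with hA
  let S : G → ℂ := fun g => if g ∈ H then regInd p g else 0
  have hAoff : ∀ x, x ∉ H → A x = 0 := by
    intro x hx
    rw [hA]
    unfold subgroupBlockCoeff
    rw [dif_neg hx]
  have hAloc : ∀ x, MemLocalRing M (A x) := by
    intro x
    by_cases hx : x ∈ H
    · rw [hA, subgroupBlockCoeff_of_mem _ hx]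
      exact memLocalRing_blockCoeff hpM (oneIrr H) _
    · rw [hAoff x hx]
      exact memLocalRing_zero hM
  have hSloc : ∀ x, MemLocalRing M (S x) := by
    intro x
    show MemLocalRing M (if x ∈ H then regInd p x else 0)
    split_ifs
    · exact (regInd_ZS hM p).2 x
    · exact memLocalRing_zero hM
  have hAinv : ∀ r ∈ R, ∀ x, A (r * x * r⁻¹) = A x := fun r hr x =>
    subgroupBlockCoeff_principal_conj M H r (hRNH r hr) x
  have hSinv : ∀ r ∈ R, ∀ x, S (r * x * r⁻¹) = S x := by
    intro r hr x
    show (if r * x * r⁻¹ ∈ H then regInd p (r * x * r⁻¹) else 0) =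
      if x ∈ H then regInd p x else 0
    have hiff : r * x * r⁻¹ ∈ H ↔ x ∈ H :=
      (Subgroup.mem_normalizer_iff.mp (hRNH r hr) x).symm
    rw [regInd_isClassFunction p x r]
    by_cases hx : x ∈ H
    · rw [if_pos hx, if_pos (hiff.mpr hx)]
    · rw [if_neg hx, if_neg (fun h => hx (hiff.mp h))]
  -- the truncations to `C`
  set aC : C → ℂ := brRes R C A with haC
  have haC_apply : ∀ c : C, aC c = A c := fun c => brRes_pos A (by rw [← hC]; exact c.2)
  have haC_cf : IsClassFunction C aC := by
    intro c y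
    rw [haC_apply, haC_apply]
    show A ((y : G) * c * (y : G)⁻¹) = A c
    have hcH : (c : G) ∈ H := hCH c.2
    have hyH : (y : G) ∈ H := hCH y.2
    have hcy : (y : G) * c * (y : G)⁻¹ ∈ H := H.mul_mem (H.mul_mem hyH hcH) (H.inv_mem hyH)
    rw [hA, subgroupBlockCoeff_of_mem _ hcH, subgroupBlockCoeff_of_mem _ hcy]
    exact blockCoeff_isClassFunction (principalBlock M H) ⟨c, hcH⟩ ⟨y, hyH⟩
  have haC_ZS : ZS M aC := ⟨haC_cf, fun c => by rw [haC_apply]; exact hAloc _⟩
  have hsC_ZS : ZS M (regInd p : C → ℂ) := regInd_ZS hM p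
  -- pointwise congruence
  have hpt : ∀ c : C, MemLocalIdeal M ((regInd p : C → ℂ) c - conv aC (regInd p) c) := by
    intro c
    have hcH : (c : G) ∈ H := hCH c.2
    have h1 : (regInd p : C → ℂ) c = ∑ x : G, A x * S (x⁻¹ * c) := by
      have h2 := congrFun (conv_blockCoeff_regInd (H := H) hpM) ⟨c, hcH⟩
      rw [← regInd_coe p C c, regInd_coe p H ⟨c, hcH⟩, ← h2]
      unfold conv
      rw [← sum_subgroup_eq (H := H) (fun x => A x * S (x⁻¹ * c))
        (fun x hx => by rw [hAoff x hx, zero_mul])]
      refine Finset.sum_congr rfl fun x _ => ?_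
      have hxc : (x : G)⁻¹ * c ∈ H := H.mul_mem (H.inv_mem x.2) hcH
      rw [hA, subgroupBlockCoeff_of_mem _ x.2]
      show _ = _ * (if (x : G)⁻¹ * c ∈ H then regInd p ((x : G)⁻¹ * c) else 0)
      rw [if_pos hxc]
      congr 1
      exact (regInd_coe p H (x⁻¹ * ⟨c, hcH⟩)).symm
    have h3 : conv aC (regInd p) c =
        ∑ x : G, if x ∈ C then A x * S (x⁻¹ * c) else 0 := by
      unfold conv
      rw [← sum_subgroup_eq (H := C) (fun x => if x ∈ C then A x * S (x⁻¹ * c) else 0)
        (fun x hx => if_neg hx)]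
      refine Finset.sum_congr rfl fun y _ => ?_
      rw [if_pos y.2, haC_apply]
      have hyc : (y : G)⁻¹ * c ∈ H := H.mul_mem (H.inv_mem (hCH y.2)) hcH
      show _ = _ * (if (y : G)⁻¹ * c ∈ H then regInd p ((y : G)⁻¹ * c) else 0)
      rw [if_pos hyc]
      congr 1
      exact (regInd_coe p C (y⁻¹ * c)).symm
    have h4 : (regInd p : C → ℂ) c - conv aC (regInd p) c =
        ∑ x : G, if x ∈ C then 0 else A x * S (x⁻¹ * c) := by
      rw [h1, h3, ← Finset.sum_sub_distrib]
      refine Finset.sum_congr rfl fun x _ => ?_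
      by_cases hx : x ∈ C
      · rw [if_pos hx, if_pos hx, sub_self]
      · rw [if_neg hx, if_neg hx, sub_zero]
    rw [h4]
    let := conjActionOf R
    refine pgroup_sum_mem (Q := R) (X := G) hR hpM _ ?_ ?_ ?_
    · intro q x
      show (if (q : G) * x * (q : G)⁻¹ ∈ C then 0
        else A ((q : G) * x * (q : G)⁻¹) * S (((q : G) * x * (q : G)⁻¹)⁻¹ * c)) =
        if x ∈ C then 0 else A x * S (x⁻¹ * c)
      have hqNC : (q : G) ∈ Subgroup.normalizer (C : Set G) := hRNC q q.2
      have hiff : (q : G) * x * (q : G)⁻¹ ∈ C ↔ x ∈ C :=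
        (Subgroup.mem_normalizer_iff.mp hqNC x).symm
      have hqc : (q : G) * c = c * q := hCR c c.2 q q.2
      have e1 : ((q : G) * x * (q : G)⁻¹)⁻¹ * (c : G) = (q : G) * (x⁻¹ * c) * (q : G)⁻¹ := by
        have : (c : G) = (q : G) * c * (q : G)⁻¹ := by rw [hqc]; group
        conv_lhs => rw [this]
        group
      by_cases hx : x ∈ C
      · rw [if_pos hx, if_pos (hiff.mpr hx)]
      · rw [if_neg hx, if_neg (fun h' => hx (hiff.mp h')), e1, hAinv q q.2, hSinv q q.2]
    · intro x
      split_ifs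
      · exact memLocalRing_zero hM
      · exact memLocalRing_mul hM (hAloc _) (hSloc _)
    · intro x hx
      have hxc : x ∈ C := hfixC x fun q hq => hx ⟨q, hq⟩
      rw [if_pos hxc]
      exact memLocalIdeal_zero hM
  -- pass to the central character of `ξ`
  have hZ : ZS M ((regInd p : C → ℂ) - conv aC (regInd p)) :=
    ZS.sub hM hsC_ZS (ZS.conv hM haC_ZS hsC_ZS)
  have hω : MemLocalIdeal M (omega (ξ : C → ℂ) ((regInd p : C → ℂ) - conv aC (regInd p))) :=
    memLocalIdeal_omega_of_forall hM ξ.2 hZ.1 hZ.2 fun c => Or.inl (hpt c)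
  rw [omega_sub, omega_conv ξ.2 haC_ZS.1 hsC_ZS.1] at hω
  -- `ω_ξ` of the regular indicator is a unit
  have hreg := memLocalIdeal_omega_regInd_sub hM p ξ hξ
  have hregloc : MemLocalRing M (omega (ξ : C → ℂ) (regInd p)) := ZS.omega hM hsC_ZS ξ
  have hregunit : ¬ MemLocalIdeal M (omega (ξ : C → ℂ) (regInd p)) := by
    intro h
    have h5 := memLocalIdeal_sub hM h hreg
    rw [sub_sub_cancel] at h5
    exact not_dvd_regCount (G := C) hpM ((memLocalIdeal_natCast_iff hpM _).mp h5)
  have h6 : MemLocalIdeal M (omega (ξ : C → ℂ) (regInd p) * (1 - omega (ξ : C → ℂ) aC)) := by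
    have : omega (ξ : C → ℂ) (regInd p) * (1 - omega (ξ : C → ℂ) aC) =
        omega (ξ : C → ℂ) (regInd p) - omega (ξ : C → ℂ) aC * omega (ξ : C → ℂ) (regInd p) := by
      ring
    rw [this]
    exact hω
  have h7 := memLocalIdeal_of_mul_of_not_memLocalIdeal hM hregloc hregunit h6
  have h8 := memLocalIdeal_neg h7
  rwa [neg_sub] at h8

/-- The Brauer-map condition for the normal inclusion of principal pairs. -/
theorem brauerOmega_principal {p : ℕ} [Fact p.Prime] {M : Ideal AlgInt} (hpM : IsPModular p M)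
    (Q R : Subgroup G) (hR : IsPGroup p R) (hQR : Q ≤ R)
    (hRN : R ≤ Subgroup.normalizer (Q : Set G))
    (ξ : IrrCharacter (Subgroup.centralizer (R : Set G)))
    (hξ : ξ ∈ principalBlock M (Subgroup.centralizer (R : Set G))) :
    MemLocalIdeal M (brauerOmega R (subgroupBlockCoeff (Subgroup.centralizer (Q : Set G))
      (principalBlock M (Subgroup.centralizer (Q : Set G))))
      (ξ : Subgroup.centralizer (R : Set G) → ℂ) - 1) := by
  have := Fintype.ofFinite (Subgroup.centralizer (R : Set G))
  have := Fintype.ofFinite (Subgroup.centralizer (Q : Set G))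
  rw [brauerOmega_eq_omega]
  exact omega_brRes_principal hpM Q R _ _ rfl rfl hR hQR hRN ξ hξ

/-- Normal inclusion of the principal Brauer pairs. -/
theorem isNormalSubpair_principal {p : ℕ} [Fact p.Prime] {M : Ideal AlgInt}
    (hpM : IsPModular p M) (Q R : Subgroup G) (hR : IsPGroup p R) (hQR : Q ≤ R)
    (hRN : R ≤ Subgroup.normalizer (Q : Set G)) :
    IsNormalSubpair p M Q (principalBlock M (Subgroup.centralizer (Q : Set G))) R
      (principalBlock M (Subgroup.centralizer (R : Set G))) := by
  refine ⟨⟨hR.to_le hQR, isPBlock_principalBlock M⟩, ⟨hR, isPBlock_principalBlock M⟩, hQR, hRN,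
    ?_, ?_⟩
  · intro x hx
    exact Cfsg.Agent.S4691.stabilizes_principalBlock M _ x
      (Cfsg.Agent.S4691.normalizer_le_normalizer_centralizer' Q (hRN hx))
  · intro ξ hξ
    exact brauerOmega_principal hpM Q R hR hQR hRN ξ hξ

end Cfsg.Agent.Lib.Helper52.PrincipalSubpair
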