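import Mathlib
import Cfsg.Agent.Lib.Helper55.RcPAIR
import Cfsg.Agent.Lib.Helper24.RcTIN
import Cfsg.Agent.Lib.Helper24.RcCNT
import Cfsg.Agent.Lib.Helper48.RcFIN
import Cfsg.Agent.Lib.Helper61.RcINV
import Cfsg.Agent.Lib.Helper61.RcCONJ
import Cfsg.Agent.Lib.Helper44.RcCLASS
import Cfsg.Agent.Lib.Helper44.RcTISYL
import Cfsg.Agent.Lib.Helper44.RcCINV

/-! # Rc hive (helper52, S2357): the abstract assembly -/

set_option autoImplicit false
set_option linter.unusedVariables false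
set_option linter.unusedSectionVars false

namespace Cfsg.Agent.Lib.Helper52.Rc

/-- transport of a count of involutions into a subgroup -/
theorem rcmain_card_inv_subgroup {G : Type*} [Group G] (C : Subgroup G) :
    Nat.card {t : G // orderOf t = 2 ∧ t ∈ C} = Nat.card {t : ↥C // orderOf t = 2} := by
  apply Nat.card_congr
  refine
    { toFun := fun t => ⟨⟨t.1, t.2.2⟩, by rw [← Subgroup.orderOf_coe]; exact t.2.1⟩
      invFun := fun t => ⟨t.1.1, by rw [Subgroup.orderOf_coe]; exact t.2, t.1.2⟩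
      left_inv := fun t => rfl
      right_inv := fun t => rfl }

/-- RC-TORUS: the count for one torus -/
theorem torus_count {G : Type*} [Group G] [Finite G] (A : Subgroup G) (hA : IsCyclic A) (k c : ℕ)
    (hk : Nat.card A = k) (hN : Nat.card ↥(Subgroup.normalizer (A : Set G)) = c * k) (hck : Nat.Coprime c k)
    (hnorm : ∀ A₀ : Subgroup G, A₀ ≤ A → A₀ ≠ ⊥ →
      Subgroup.normalizer (A₀ : Set G) = Subgroup.normalizer (A : Set G))
    (i : ℕ) (hi1 : 1 < i) (hik : i ∣ k)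
    (hconj : ∀ X Y : Subgroup G, IsCyclic X → IsCyclic Y → Nat.card X = i → Nat.card Y = i →
      ∃ g : G, Y = X.map (MulAut.conj g).toMonoidHom) :
    Nat.card {x : G // orderOf x = i} * (c * k) = Nat.totient i * Nat.card G := by
  have hi : i ∣ Nat.card A := hk ▸ hik
  have h := card_orderOf_mul_card_normalizer A hA i hi
    (fun x hx => exists_conj_mem_of_conj A hA i hi hconj x hx)
    (fun g x hxA hxo hgx => by
      refine mem_normalizer_of_conj_mem A k c hk hN hck hnorm g x hxA ?_ hgx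
      rintro rfl
      rw [orderOf_one] at hxo
      omega)
  rw [hN] at h
  exact h

/-- RC-MAIN: S2357 for an abstract group with the structure of `²G₂(q)` -/
theorem rc_main {G : Type*} [Group G] [Finite G] (m : ℕ) (hm : 1 ≤ m)
    (hcard : Nat.card G = (3 ^ (2 * m + 1)) ^ 3 * (3 ^ (2 * m + 1) - 1) * ((3 ^ (2 * m + 1)) ^ 3 + 1))
    (h1158 : ∀ kn ∈ ({((3 ^ (2 * m + 1) - 1) / 2, 2 * (3 ^ (2 * m + 1) - 1)),
        ((3 ^ (2 * m + 1) + 1) / 4, 6 * (3 ^ (2 * m + 1) + 1)),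
        (3 ^ (2 * m + 1) - 3 ^ (m + 1) + 1, 6 * (3 ^ (2 * m + 1) - 3 ^ (m + 1) + 1)),
        (3 ^ (2 * m + 1) + 3 ^ (m + 1) + 1, 6 * (3 ^ (2 * m + 1) + 3 ^ (m + 1) + 1))} : Set (ℕ × ℕ)),
      ∃ A : Subgroup G, IsCyclic A ∧ Nat.card A = kn.1 ∧
        Nat.card (Subgroup.normalizer (A : Set G)) = kn.2 ∧
        ∀ A₀ : Subgroup G, A₀ ≤ A → A₀ ≠ ⊥ →
          Subgroup.normalizer (A₀ : Set G) = Subgroup.normalizer (A : Set G))
    (h2358 : ∀ d : ℕ, (d ∣ (3 ^ (2 * m + 1) - 1) / 2 ∨ d ∣ (3 ^ (2 * m + 1) + 1) / 4 ∨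
        d ∣ 3 ^ (2 * m + 1) - 3 ^ (m + 1) + 1 ∨ d ∣ 3 ^ (2 * m + 1) + 3 ^ (m + 1) + 1) →
      ∀ A B : Subgroup G, IsCyclic A → IsCyclic B → Nat.card A = d → Nat.card B = d →
        ∃ g : G, B = A.map (MulAut.conj g).toMonoidHom)
    (h2359 : ∀ H : Subgroup G, IsCyclic H →
      (Nat.card H = (3 ^ (2 * m + 1) - 1) / 2 →
        IsCyclic ↥(Subgroup.centralizer (H : Set G)) ∧
          Nat.card ↥(Subgroup.centralizer (H : Set G)) = 3 ^ (2 * m + 1) - 1 ∧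
          ∀ A : Subgroup G, A ≤ H → A ≠ ⊥ →
            Subgroup.centralizer (A : Set G) = Subgroup.centralizer (H : Set G)) ∧
      (Nat.card H = (3 ^ (2 * m + 1) + 1) / 4 →
        IsMulCommutative ↥(Subgroup.centralizer (H : Set G)) ∧
          Nat.card ↥(Subgroup.centralizer (H : Set G)) = 3 ^ (2 * m + 1) + 1 ∧
          (∀ x ∈ Subgroup.centralizer (H : Set G), orderOf x ≠ 4) ∧
          ∀ A : Subgroup G, A ≤ H → A ≠ ⊥ →
            Subgroup.centralizer (A : Set G) = Subgroup.centralizer (H : Set G)))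
    (h2 : Nat.card {g : G // orderOf g = 2} =
      (3 ^ (2 * m + 1)) ^ 2 * ((3 ^ (2 * m + 1)) ^ 2 - 3 ^ (2 * m + 1) + 1))
    (h3 : Nat.card {g : G // orderOf g = 3} = ((3 ^ (2 * m + 1)) ^ 2 - 1) * ((3 ^ (2 * m + 1)) ^ 3 + 1))
    (h6 : Nat.card {g : G // orderOf g = 6} =
      (3 ^ (2 * m + 1)) ^ 2 * (3 ^ (2 * m + 1) - 1) * ((3 ^ (2 * m + 1)) ^ 3 + 1))
    (h9 : Nat.card {g : G // orderOf g = 9} =
      (3 ^ (2 * m + 1)) ^ 2 * (3 ^ (2 * m + 1) - 1) * ((3 ^ (2 * m + 1)) ^ 3 + 1)) :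
    Nat.card {g : G // orderOf g = 2} = (3 ^ (2 * m + 1)) ^ 2 * ((3 ^ (2 * m + 1)) ^ 2 - 3 ^ (2 * m + 1) + 1) ∧
    Nat.card {g : G // orderOf g = 3} = ((3 ^ (2 * m + 1)) ^ 2 - 1) * ((3 ^ (2 * m + 1)) ^ 3 + 1) ∧
    Nat.card {g : G // orderOf g = 6} = (3 ^ (2 * m + 1)) ^ 2 * (3 ^ (2 * m + 1) - 1) * ((3 ^ (2 * m + 1)) ^ 3 + 1) ∧
    Nat.card {g : G // orderOf g = 9} = (3 ^ (2 * m + 1)) ^ 2 * (3 ^ (2 * m + 1) - 1) * ((3 ^ (2 * m + 1)) ^ 3 + 1) ∧
    (∀ i : ℕ, 2 < i → i ∣ 3 ^ (2 * m + 1) - 1 →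
      2 * Nat.card {g : G // orderOf g = i} = Nat.totient i * (3 ^ (2 * m + 1)) ^ 3 * ((3 ^ (2 * m + 1)) ^ 3 + 1)) ∧
    (∀ i : ℕ, 1 < i → i ∣ (3 ^ (2 * m + 1) + 1) / 4 →
      6 * Nat.card {g : G // orderOf g = i} =
          Nat.totient i * (3 ^ (2 * m + 1)) ^ 3 * (3 ^ (2 * m + 1) - 1) * ((3 ^ (2 * m + 1)) ^ 2 - 3 ^ (2 * m + 1) + 1) ∧
        2 * Nat.card {g : G // orderOf g = 2 * i} =
          Nat.totient i * (3 ^ (2 * m + 1)) ^ 3 * (3 ^ (2 * m + 1) - 1) * ((3 ^ (2 * m + 1)) ^ 2 - 3 ^ (2 * m + 1) + 1)) ∧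
    (∀ i : ℕ, 1 < i → i ∣ 3 ^ (2 * m + 1) - 3 ^ (m + 1) + 1 →
      6 * Nat.card {g : G // orderOf g = i} =
        Nat.totient i * (3 ^ (2 * m + 1)) ^ 3 * ((3 ^ (2 * m + 1)) ^ 2 - 1) * (3 ^ (2 * m + 1) + 3 ^ (m + 1) + 1)) ∧
    (∀ i : ℕ, 1 < i → i ∣ 3 ^ (2 * m + 1) + 3 ^ (m + 1) + 1 →
      6 * Nat.card {g : G // orderOf g = i} =
        Nat.totient i * (3 ^ (2 * m + 1)) ^ 3 * ((3 ^ (2 * m + 1)) ^ 2 - 1) * (3 ^ (2 * m + 1) - 3 ^ (m + 1) + 1)) := by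
  obtain ⟨hrq, hk1, hk2, hc1, hc2, hc3, hc4, hfac⟩ := rc_arith m hm
  obtain ⟨A1, hA1, hA1k, hA1N, hA1n⟩ := h1158 _ (Set.mem_insert _ _)
  obtain ⟨A2, hA2, hA2k, hA2N, hA2n⟩ := h1158 _ (Set.mem_insert_of_mem _ (Set.mem_insert _ _))
  obtain ⟨A3, hA3, hA3k, hA3N, hA3n⟩ :=
    h1158 _ (Set.mem_insert_of_mem _ (Set.mem_insert_of_mem _ (Set.mem_insert _ _)))
  obtain ⟨A4, hA4, hA4k, hA4N, hA4n⟩ :=
    h1158 _ (Set.mem_insert_of_mem _ (Set.mem_insert_of_mem _ (Set.mem_insert_of_mem _ rfl)))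
  simp only at hA1k hA1N hA2k hA2N hA3k hA3N hA4k hA4N
  -- the four torus counts
  have T1 : ∀ i : ℕ, 1 < i → i ∣ (3 ^ (2 * m + 1) - 1) / 2 →
      2 * Nat.card {g : G // orderOf g = i} =
        Nat.totient i * (3 ^ (2 * m + 1)) ^ 3 * ((3 ^ (2 * m + 1)) ^ 3 + 1) := by
    intro i hi1 hik
    have hN : Nat.card ↥(Subgroup.normalizer (A1 : Set G)) = 4 * ((3 ^ (2 * m + 1) - 1) / 2) := by
      rw [hA1N]; omega
    have := torus_count A1 hA1 _ 4 hA1k hN hc1 hA1n i hi1 hik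
      (fun X Y hX hY hXi hYi => h2358 i (Or.inl hik) X Y hX hY hXi hYi)
    rw [hcard] at this
    exact rc_fin1 m hm _ _ this
  have T2 : ∀ i : ℕ, 1 < i → i ∣ (3 ^ (2 * m + 1) + 1) / 4 →
      6 * Nat.card {g : G // orderOf g = i} =
        Nat.totient i * (3 ^ (2 * m + 1)) ^ 3 * (3 ^ (2 * m + 1) - 1) *
          ((3 ^ (2 * m + 1)) ^ 2 - 3 ^ (2 * m + 1) + 1) := by
    intro i hi1 hik
    have hN : Nat.card ↥(Subgroup.normalizer (A2 : Set G)) = 24 * ((3 ^ (2 * m + 1) + 1) / 4) := by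
      rw [hA2N]; omega
    have := torus_count A2 hA2 _ 24 hA2k hN hc2 hA2n i hi1 hik
      (fun X Y hX hY hXi hYi => h2358 i (Or.inr (Or.inl hik)) X Y hX hY hXi hYi)
    rw [hcard] at this
    exact rc_fin2 m hm _ _ this
  have T3 : ∀ i : ℕ, 1 < i → i ∣ 3 ^ (2 * m + 1) - 3 ^ (m + 1) + 1 →
      6 * Nat.card {g : G // orderOf g = i} =
        Nat.totient i * (3 ^ (2 * m + 1)) ^ 3 * ((3 ^ (2 * m + 1)) ^ 2 - 1) *
          (3 ^ (2 * m + 1) + 3 ^ (m + 1) + 1) := by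
    intro i hi1 hik
    have := torus_count A3 hA3 _ 6 hA3k hA3N hc3 hA3n i hi1 hik
      (fun X Y hX hY hXi hYi => h2358 i (Or.inr (Or.inr (Or.inl hik))) X Y hX hY hXi hYi)
    rw [hcard] at this
    exact rc_fin3 m hm _ _ this
  have T4 : ∀ i : ℕ, 1 < i → i ∣ 3 ^ (2 * m + 1) + 3 ^ (m + 1) + 1 →
      6 * Nat.card {g : G // orderOf g = i} =
        Nat.totient i * (3 ^ (2 * m + 1)) ^ 3 * ((3 ^ (2 * m + 1)) ^ 2 - 1) *
          (3 ^ (2 * m + 1) - 3 ^ (m + 1) + 1) := by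
    intro i hi1 hik
    have := torus_count A4 hA4 _ 6 hA4k hA4N hc4 hA4n i hi1 hik
      (fun X Y hX hY hXi hYi => h2358 i (Or.inr (Or.inr (Or.inr hik))) X Y hX hY hXi hYi)
    rw [hcard] at this
    exact rc_fin4 m hm _ _ this
  -- parity of the first two tori
  have hk1odd : Odd ((3 ^ (2 * m + 1) - 1) / 2) := by
    rcases Nat.even_or_odd ((3 ^ (2 * m + 1) - 1) / 2) with h | h
    · exfalso
      have h2 : 2 ∣ Nat.gcd 4 ((3 ^ (2 * m + 1) - 1) / 2) :=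
        Nat.dvd_gcd (by norm_num) h.two_dvd
      rw [Nat.Coprime] at hc1
      rw [hc1] at h2
      omega
    · exact h
  have hk2odd : Odd ((3 ^ (2 * m + 1) + 1) / 4) := by
    rcases Nat.even_or_odd ((3 ^ (2 * m + 1) + 1) / 4) with h | h
    · exfalso
      have h2 : 2 ∣ Nat.gcd 24 ((3 ^ (2 * m + 1) + 1) / 4) :=
        Nat.dvd_gcd (by norm_num) h.two_dvd
      rw [Nat.Coprime] at hc2
      rw [hc2] at h2
      omega
    · exact h
  refine ⟨h2, h3, h6, h9, ?_, ?_, T3, T4⟩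
  · -- divisors of `q - 1`
    intro i hi2 hidvd
    rcases Nat.even_or_odd i with hev | hodd
    · obtain ⟨j, hj⟩ := hev
      have hij : i = 2 * j := by omega
      subst hij
      have hjk : j ∣ (3 ^ (2 * m + 1) - 1) / 2 := by
        rw [← hk1] at hidvd
        exact (Nat.mul_dvd_mul_iff_left (by norm_num)).mp hidvd
      have hj1 : 1 < j := by omega
      have hjodd : Odd j := by
        obtain ⟨e, he⟩ := hjk
        rw [he] at hk1odd
        exact (Nat.odd_mul.mp hk1odd).1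
      have hcount : Nat.card {x : G // orderOf x = 2 * j} = 1 * Nat.card {y : G // orderOf y = j} := by
        apply card_orderOf_two_mul_of_forall_y j 1 hjodd
        intro y hy
        refine card_commuting_involutions A1 hA1 _ hA1k j hj1 hjk
          (fun X Y hX hY hXi hYi => h2358 j (Or.inl hjk) X Y hX hY hXi hYi) 1 ?_ y hy
        intro H hH hHk
        obtain ⟨hcyc, hcardC, hsub⟩ := (h2359 H hH).1 hHk
        refine ⟨?_, hsub⟩
        rw [rcmain_card_inv_subgroup]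
        apply card_involutions_eq_one hcyc
        rw [hcardC, ← hk1]
        exact even_two_mul _
      have hφ : Nat.totient (2 * j) = Nat.totient j := by
        rw [Nat.totient_mul (Nat.coprime_two_left.mpr hjodd), Nat.totient_two, one_mul]
      rw [hcount, one_mul, hφ]
      exact T1 j hj1 hjk
    · have hik : i ∣ (3 ^ (2 * m + 1) - 1) / 2 := by
        rw [← hk1] at hidvd
        exact (Nat.Coprime.dvd_mul_left (Nat.coprime_two_right.mpr hodd)).mp hidvd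
      exact T1 i (by omega) hik
  · -- divisors of `(q + 1) / 4`
    intro i hi1 hik
    refine ⟨T2 i hi1 hik, ?_⟩
    have hiodd : Odd i := by
      obtain ⟨e, he⟩ := hik
      rw [he] at hk2odd
      exact (Nat.odd_mul.mp hk2odd).1
    have hcount : Nat.card {x : G // orderOf x = 2 * i} = 3 * Nat.card {y : G // orderOf y = i} := by
      apply card_orderOf_two_mul_of_forall_y i 3 hiodd
      intro y hy
      refine card_commuting_involutions A2 hA2 _ hA2k i hi1 hik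
        (fun X Y hX hY hXi hYi => h2358 i (Or.inr (Or.inl hik)) X Y hX hY hXi hYi) 3 ?_ y hy
      intro H hH hHk
      obtain ⟨hcomm, hcardC, h4, hsub⟩ := (h2359 H hH).2 hHk
      refine ⟨?_, hsub⟩
      rw [rcmain_card_inv_subgroup]
      apply card_involutions_eq_three (fun a b => hcomm.is_comm.comm a b) _ hk2odd
      · rw [hcardC, hk2]
      · intro x
        rw [← Subgroup.orderOf_coe]
        exact h4 x.1 x.2
    rw [hcount]
    have := T2 i hi1 hik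
    omega

end Cfsg.Agent.Lib.Helper52.Rc
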