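import Mathlib
import Cfsg.Agent.Lib.Helper52.RcMain
import Cfsg.Agent.Lib.Helper43.RcUCUBE
import Cfsg.Agent.Lib.Helper43.RcC3O
import Cfsg.Agent.Lib.Helper27.RcU3
import Cfsg.Agent.Lib.Helper27.RcU9
import Cfsg.Agent.Lib.Helper48.RcSL3
import Cfsg.Agent.Lib.Helper8.RcC3S
import Cfsg.Agent.Lib.Helper8.RcC3I
import Cfsg.Agent.Lib.Helper61.RcSYLU
import Cfsg.Agent.Lib.Helper61.RcSYLTI
import Cfsg.Agent.Lib.Helper38.RhINVC

/-! # Rc hive (helper52, S2357): the Ree-specific assembly (abstract over `RtData K G m`) -/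

set_option autoImplicit false
set_option linter.unusedVariables false
set_option linter.unusedSectionVars false
set_option linter.style.haveILetI false

namespace Cfsg.Agent.Lib.Helper52.Rc

open Cfsg.Agent.Lib.Helper12.Rt Cfsg.Agent.Lib.Helper12.ReeOut Cfsg.Agent.Lib.Helper12.ReeInv Matrix

/-- conjugation transport of the count of elements of order `i` commuting with an element -/
theorem rcree_card_comm_conj {G : Type*} [Group G] (a t c : G) (h : c * a * c⁻¹ = t) (i : ℕ) :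
    Nat.card {y : G // orderOf y = i ∧ t * y = y * t} = Nat.card {y : G // orderOf y = i ∧ a * y = y * a} := by
  apply Nat.card_congr
  refine ⟨fun y => ⟨c⁻¹ * y.1 * c, ?_, ?_⟩, fun y => ⟨c * y.1 * c⁻¹, ?_, ?_⟩, ?_, ?_⟩
  · have h1 : c⁻¹ * y.1 * c = c⁻¹ * y.1 * c⁻¹⁻¹ := by rw [inv_inv]
    rw [h1, rcclass_orderOf_conj]
    exact y.2.1
  · have ha : a = c⁻¹ * t * c := by rw [← h]; group
    have hy := y.2.2
    rw [ha]
    calc c⁻¹ * t * c * (c⁻¹ * y.1 * c) = c⁻¹ * (t * y.1) * c := by group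
      _ = c⁻¹ * (y.1 * t) * c := by rw [hy]
      _ = c⁻¹ * y.1 * c * (c⁻¹ * t * c) := by group
  · rw [rcclass_orderOf_conj]
    exact y.2.1
  · have hy := y.2.2
    rw [← h]
    calc c * a * c⁻¹ * (c * y.1 * c⁻¹) = c * (a * y.1) * c⁻¹ := by group
      _ = c * (y.1 * a) * c⁻¹ := by rw [hy]
      _ = c * y.1 * c⁻¹ * (c * a * c⁻¹) := by group
  · intro y
    apply Subtype.ext
    show c * (c⁻¹ * y.1 * c) * c⁻¹ = y.1
    group
  · intro y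
    apply Subtype.ext
    show c⁻¹ * (c * y.1 * c⁻¹) * c = y.1
    group

theorem rcree_orderOf_two_iff {G : Type*} [Group G] (g : G) : orderOf g = 2 ↔ (g ≠ 1 ∧ g * g = 1) := by
  haveI : Fact (Nat.Prime 2) := ⟨Nat.prime_two⟩
  rw [orderOf_eq_prime_iff, pow_two]
  tauto

section ree
variable {K : Type*} [Field K] [Fintype K] {G : Type*} [Group G] {m : ℕ} (D : RtData K G m)

include D

/-- `N_2` -/
theorem rcree_N2 : Nat.card {g : G // orderOf g = 2} =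
    (3 ^ (2 * m + 1)) ^ 2 * ((3 ^ (2 * m + 1)) ^ 2 - 3 ^ (2 * m + 1) + 1) := by
  have h := Cfsg.Agent.Lib.Helper38.Rh.card_involutions D
  rw [Cfsg.Agent.Lib.Helper38.Rh.qq] at h
  rw [← h]
  apply Nat.card_congr
  exact Equiv.subtypeEquivRight (fun g => rcree_orderOf_two_iff g)

/-- the number of elements of order 3 commuting with an involution -/
theorem rcree_card_C3 (t : G) (ht : orderOf t = 2) :
    Nat.card {y : G // orderOf y = 3 ∧ t * y = y * t} = (3 ^ (2 * m + 1)) ^ 2 - 1 := by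
  haveI : CharP K 3 := fact_charP D.R.hK
  obtain ⟨ht1, ht2⟩ := (rcree_orderOf_two_iff t).1 ht
  obtain ⟨c, hc⟩ := D.inv_conj t ht1 ht2
  rw [rcree_card_comm_conj D.I.a t c hc 3]
  have hsl := card_SL2_orderOf_three (K := K) sl2_orderOf_three_iff
  rw [D.R.hK] at hsl
  rw [← hsl]
  symm
  apply Nat.card_congr
  refine Equiv.ofBijective (fun s => ⟨D.I.φ s.1, phi_orderOf_three D.I s.1 s.2⟩) ⟨?_, ?_⟩
  · intro s s' h
    apply Subtype.ext
    exact phi_inj_orderOf_three D.I s.1 s'.1 s.2 s'.2 (congrArg Subtype.val h)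
  · intro y
    obtain ⟨s, hs, hsy⟩ := phi_surj_orderOf_three D.I y.1 y.2.1 y.2.2
    exact ⟨⟨s, hs⟩, Subtype.ext hsy⟩

theorem rcree_q_ge : 27 ≤ 3 ^ (2 * m + 1) ∨ m = 0 := by
  rcases Nat.eq_zero_or_pos m with h | h
  · right; exact h
  · left
    calc 27 = 3 ^ 3 := by norm_num
      _ ≤ 3 ^ (2 * m + 1) := Nat.pow_le_pow_right (by norm_num) (by omega)

/-- `N_6` -/
theorem rcree_N6 : Nat.card {g : G // orderOf g = 6} =
    (3 ^ (2 * m + 1)) ^ 2 * (3 ^ (2 * m + 1) - 1) * ((3 ^ (2 * m + 1)) ^ 3 + 1) := by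
  haveI : Finite G := D.finite
  have h := card_orderOf_two_mul_of_forall_t (G := G) 3 ((3 ^ (2 * m + 1)) ^ 2 - 1) (by decide)
    (fun t ht => rcree_card_C3 D t ht)
  rw [rcree_N2 D] at h
  have e6 : (2 * 3 : ℕ) = 6 := by norm_num
  rw [e6] at h
  rw [h]
  have hq : 1 ≤ 3 ^ (2 * m + 1) := Nat.one_le_pow _ _ (by norm_num)
  obtain ⟨k, hk⟩ : ∃ k, 3 ^ (2 * m + 1) = k + 1 := ⟨3 ^ (2 * m + 1) - 1, by omega⟩
  rw [hk]
  have h1 : (k + 1) ^ 2 - 1 = k * (k + 2) := by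
    have : (k + 1) ^ 2 = k * (k + 2) + 1 := by ring
    omega
  have h2 : (k + 1) ^ 2 - (k + 1) + 1 = k ^ 2 + k + 1 := by
    have : (k + 1) ^ 2 = (k ^ 2 + k) + (k + 1) := by ring
    omega
  rw [h1, h2, Nat.add_sub_cancel]
  ring

/-- `N_3` and `N_9` -/
theorem rcree_N39 :
    Nat.card {g : G // orderOf g = 3} = ((3 ^ (2 * m + 1)) ^ 2 - 1) * ((3 ^ (2 * m + 1)) ^ 3 + 1) ∧
    Nat.card {g : G // orderOf g = 9} =
      (3 ^ (2 * m + 1)) ^ 2 * (3 ^ (2 * m + 1) - 1) * ((3 ^ (2 * m + 1)) ^ 3 + 1) := by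
  haveI : Finite G := D.finite
  obtain ⟨P, hP⟩ := exists_sylow_eq_U D
  have hti := sylow_three_ti D P hP
  have hN : Nat.card ↥(Subgroup.normalizer ((P : Subgroup G) : Set G)) =
      (3 ^ (2 * m + 1)) ^ 3 * (3 ^ (2 * m + 1) - 1) := by
    rw [hP]; exact D.card_normalizer_U
  have hcube := u_cube D.R
  have h3 : Nat.card {x : G // x ∈ (P : Subgroup G) ∧ orderOf x = 3} = (3 ^ (2 * m + 1)) ^ 2 - 1 := by
    rw [hP]; exact card_U_orderOf_three D.R hcube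
  have h9 : Nat.card {x : G // x ∈ (P : Subgroup G) ∧ orderOf x = 9} =
      (3 ^ (2 * m + 1)) ^ 3 - (3 ^ (2 * m + 1)) ^ 2 := by
    rw [hP]; exact card_U_orderOf_nine D.R hcube
  have e3 := card_orderOf_of_ti_sylow 3 hti P 3 1 le_rfl (by norm_num) _ h3
  have e9 := card_orderOf_of_ti_sylow 3 hti P 9 2 (by norm_num) (by norm_num) _ h9
  rw [hN, D.card_G] at e3 e9
  have hq : 3 ≤ 3 ^ (2 * m + 1) := by
    calc 3 = 3 ^ 1 := by norm_num
      _ ≤ 3 ^ (2 * m + 1) := Nat.pow_le_pow_right (by norm_num) (by omega)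
  have hpos : 0 < (3 ^ (2 * m + 1)) ^ 3 * (3 ^ (2 * m + 1) - 1) := by
    have : 0 < 3 ^ (2 * m + 1) - 1 := by omega
    positivity
  constructor
  · apply Nat.eq_of_mul_eq_mul_right hpos
    rw [e3]; ring
  · apply Nat.eq_of_mul_eq_mul_right hpos
    rw [e9]
    obtain ⟨k, hk⟩ : ∃ k, 3 ^ (2 * m + 1) = k + 1 := ⟨3 ^ (2 * m + 1) - 1, by omega⟩
    rw [hk]
    have h1 : (k + 1) ^ 3 - (k + 1) ^ 2 = (k + 1) ^ 2 * k := by
      have : (k + 1) ^ 3 = (k + 1) ^ 2 * k + (k + 1) ^ 2 := by ring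
      omega
    rw [h1, Nat.add_sub_cancel]
    ring

end ree

section final
variable {K : Type*} [Field K] [Fintype K] {G : Type*} [Group G] {m : ℕ}

/-- RC-REE: S2357 for any group with helper12's `RtData`, given the frozen conclusions of S1158, S2358, S2359 -/
theorem rc_ree (D : RtData K G m) (hm : 1 ≤ m)
    (h1158 : ∀ kn ∈ ({((3 ^ (2 * m + 1) - 1) / 2, 2 * (3 ^ (2 * m + 1) - 1)),
        ((3 ^ (2 * m + 1) + 1) / 4, 6 * (3 ^ (2 * m + 1) + 1)),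
        (3 ^ (2 * m + 1) - 3 ^ (m + 1) + 1, 6 * (3 ^ (2 * m + 1) - 3 ^ (m + 1) + 1)),
        (3 ^ (2 * m + 1) + 3 ^ (m + 1) + 1, 6 * (3 ^ (2 * m + 1) + 3 ^ (m + 1) + 1))} : Set (ℕ × ℕ)),
      ∃ A : Subgroup G, IsCyclic A ∧ Nat.card A = kn.1 ∧
        Nat.card (Subgroup.normalizer (A : Set G)) = kn.2 ∧
        ∀ A₀ : Subgroup G, A₀ ≤ A → A₀ ≠ ⊥ →
          Subgroup.normalizer (A₀ : Set G) = Subgroup.normalizer (A : Set G))
    (h2358 : ∀ d : ℕ, (d ∣ (3 ^ (2 * m + 1) - 1) / 2 ∨ d ∣ (3 ^ (2 * m + 1) + 1) / 4 ∨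
        d ∣ 3 ^ (2 * m + 1) - 3 ^ (m + 1) + 1 ∨ d ∣ 3 ^ (2 * m + 1) + 3 ^ (m + 1) + 1) →
      ∀ A B : Subgroup G, IsCyclic A → IsCyclic B → Nat.card A = d → Nat.card B = d →
        ∃ g : G, B = A.map (MulAut.conj g).toMonoidHom)
    (h2359 : ∀ H : Subgroup G, IsCyclic H →
      (Nat.card H = (3 ^ (2 * m + 1) - 1) / 2 →
        IsCyclic ↥(Subgroup.centralizer (H : Set G)) ∧
          Nat.card ↥(Subgroup.centralizer (H : Set G)) = 3 ^ (2 * m + 1) - 1 ∧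
          ∀ A : Subgroup G, A ≤ H → A ≠ ⊥ →
            Subgroup.centralizer (A : Set G) = Subgroup.centralizer (H : Set G)) ∧
      (Nat.card H = (3 ^ (2 * m + 1) + 1) / 4 →
        IsMulCommutative ↥(Subgroup.centralizer (H : Set G)) ∧
          Nat.card ↥(Subgroup.centralizer (H : Set G)) = 3 ^ (2 * m + 1) + 1 ∧
          (∀ x ∈ Subgroup.centralizer (H : Set G), orderOf x ≠ 4) ∧
          ∀ A : Subgroup G, A ≤ H → A ≠ ⊥ →
            Subgroup.centralizer (A : Set G) = Subgroup.centralizer (H : Set G))) :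
    Nat.card {g : G // orderOf g = 2} = (3 ^ (2 * m + 1)) ^ 2 * ((3 ^ (2 * m + 1)) ^ 2 - 3 ^ (2 * m + 1) + 1) ∧
    Nat.card {g : G // orderOf g = 3} = ((3 ^ (2 * m + 1)) ^ 2 - 1) * ((3 ^ (2 * m + 1)) ^ 3 + 1) ∧
    Nat.card {g : G // orderOf g = 6} = (3 ^ (2 * m + 1)) ^ 2 * (3 ^ (2 * m + 1) - 1) * ((3 ^ (2 * m + 1)) ^ 3 + 1) ∧
    Nat.card {g : G // orderOf g = 9} = (3 ^ (2 * m + 1)) ^ 2 * (3 ^ (2 * m + 1) - 1) * ((3 ^ (2 * m + 1)) ^ 3 + 1) ∧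
    (∀ i : ℕ, 2 < i → i ∣ 3 ^ (2 * m + 1) - 1 →
      2 * Nat.card {g : G // orderOf g = i} = Nat.totient i * (3 ^ (2 * m + 1)) ^ 3 * ((3 ^ (2 * m + 1)) ^ 3 + 1)) ∧
    (∀ i : ℕ, 1 < i → i ∣ (3 ^ (2 * m + 1) + 1) / 4 →
      6 * Nat.card {g : G // orderOf g = i} =
          Nat.totient i * (3 ^ (2 * m + 1)) ^ 3 * (3 ^ (2 * m + 1) - 1) * ((3 ^ (2 * m + 1)) ^ 2 - 3 ^ (2 * m + 1) + 1) ∧
        2 * Nat.card {g : G // orderOf g = 2 * i} =
          Nat.totient i * (3 ^ (2 * m + 1)) ^ 3 * (3 ^ (2 * m + 1) - 1) * ((3 ^ (2 * m + 1)) ^ 2 - 3 ^ (2 * m + 1) + 1)) ∧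
    (∀ i : ℕ, 1 < i → i ∣ 3 ^ (2 * m + 1) - 3 ^ (m + 1) + 1 →
      6 * Nat.card {g : G // orderOf g = i} =
        Nat.totient i * (3 ^ (2 * m + 1)) ^ 3 * ((3 ^ (2 * m + 1)) ^ 2 - 1) * (3 ^ (2 * m + 1) + 3 ^ (m + 1) + 1)) ∧
    (∀ i : ℕ, 1 < i → i ∣ 3 ^ (2 * m + 1) + 3 ^ (m + 1) + 1 →
      6 * Nat.card {g : G // orderOf g = i} =
        Nat.totient i * (3 ^ (2 * m + 1)) ^ 3 * ((3 ^ (2 * m + 1)) ^ 2 - 1) * (3 ^ (2 * m + 1) - 3 ^ (m + 1) + 1)) := by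
  haveI : Finite G := D.finite
  obtain ⟨h3, h9⟩ := rcree_N39 D
  exact rc_main m hm D.card_G h1158 h2358 h2359 (rcree_N2 D) h3 (rcree_N6 D) h9

end final

end Cfsg.Agent.Lib.Helper52.Rc
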