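import Cfsg.Agent.S0081
import Cfsg.Agent.Lib.Helper19.PNil
import Cfsg.Agent.Lib.Helper51.NPC
import Cfsg.Agent.Lib.Helper1.PFrattini
import Cfsg.Agent.Lib.Helper2.PGroup

/-!
# Extending linear characters of a Sylow subgroup forces a normal `p`-complement

If every homomorphism `P →* ℂˣ` of a Sylow `p`-subgroup `P` of the finite group `G` extends to a
homomorphism `G →* ℂˣ`, then `G` has a normal `p`-complement (a consequence of Tate's theorem).
-/

set_option autoImplicit false

namespace Cfsg.Agent.Lib.Helper52.SylowLinear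

open Cfsg

/-- If every linear character of a Sylow `p`-subgroup extends to the group, the group has a
normal `p`-complement. -/
theorem hnpc_of_linear_extend {G : Type*} [Group G] [Finite G] (p : ℕ) [Fact p.Prime]
    (P : Sylow p G)
    (hext : ∀ μ : (P : Subgroup G) →* ℂˣ, ∃ ν : G →* ℂˣ, ∀ x : (P : Subgroup G), ν x = μ x) :
    HasNormalPComplement p G := by
  classical
  have hp : p.Prime := Fact.out
  set a := (Nat.card G).factorization p with ha
  have hPcard : Nat.card (P : Subgroup G) = p ^ a := P.card_eq_multiplicity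
  -- `|G| = p ^ a * m`
  obtain ⟨m, hm⟩ : p ^ a ∣ Nat.card G := Nat.ordProj_dvd _ _
  have hGpos : 0 < Nat.card G := Nat.card_pos
  have hmcop : Nat.Coprime m (p ^ a) := by
    have h1 : ¬ p ∣ m := by
      intro hpm
      have h2 : p ^ (a + 1) ∣ Nat.card G := by
        rw [hm, pow_succ]
        exact Nat.mul_dvd_mul_left _ hpm
      have := (Nat.Prime.pow_dvd_iff_le_factorization hp hGpos.ne').mp h2
      omega
    exact ((Nat.Prime.coprime_iff_not_dvd hp).mpr h1).symm.pow_right a
  have hpa : 0 < p ^ a := pow_pos hp.pos a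
  set k := m ^ Nat.totient (p ^ a) with hk
  have hk1 : k ≡ 1 [MOD p ^ a] := Nat.ModEq.pow_totient hmcop
  have hφ : 0 < Nat.totient (p ^ a) := Nat.totient_pos.mpr hpa
  -- the homomorphisms of `p`-power order
  let Λ : Set (G →* ℂˣ) := {ν | ∀ g, (ν g) ^ (p ^ a) = 1}
  let N : Subgroup G := ⨅ ν : Λ, (ν : G →* ℂˣ).ker
  have hNn : N.Normal := Subgroup.normal_iInf_normal fun ν => MonoidHom.normal_ker _
  have hNmem : ∀ g : G, g ∈ N ↔ ∀ ν ∈ Λ, ν g = 1 := by
    intro g
    simp only [N, Subgroup.mem_iInf, MonoidHom.mem_ker]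
    constructor
    · intro h ν hν
      exact h ⟨ν, hν⟩
    · intro h ν
      exact h ν.1 ν.2
  have hpowN : ∀ g : G, g ^ (p ^ a) ∈ N := by
    intro g
    rw [hNmem]
    intro ν hν
    rw [map_pow]
    exact hν g
  -- the twisted power of a homomorphism has `p`-power order
  have htw : ∀ ν : G →* ℂˣ, (ν ^ k) ∈ Λ := by
    intro ν g
    show ((ν ^ k) g) ^ (p ^ a) = 1
    obtain ⟨t, ht⟩ : ∃ t, Nat.totient (p ^ a) = t + 1 := ⟨_, (Nat.succ_pred_eq_of_pos hφ).symm⟩
    have hkk : k * p ^ a = Nat.card G * m ^ t := by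
      rw [hk, ht, hm]; ring
    rw [MonoidHom.pow_apply, ← pow_mul, hkk, pow_mul, ← map_pow, pow_card_eq_one', map_one,
      one_pow]
  -- Tate's hypothesis
  have hfr : N ⊓ (P : Subgroup G) ≤ (frattini (P : Subgroup G)).map (P : Subgroup G).subtype := by
    intro x hx
    obtain ⟨hxN, hxP⟩ := hx
    refine ⟨⟨x, hxP⟩, ?_, rfl⟩
    rw [SetLike.mem_coe, Cfsg.Agent.Lib.Helper2.mem_frattini_iff]
    intro H hH
    by_contra hxH
    have hPp : IsPGroup p (P : Subgroup G) := P.isPGroup'
    have hHn : H.Normal := Cfsg.Agent.Lib.Helper1.coatom_normal_of_isPGroup hPp H hH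
    have hcardQ : Nat.card ((P : Subgroup G) ⧸ H) = p :=
      Cfsg.Agent.Lib.Helper1.card_quotient_coatom_of_isPGroup hPp H hH
    have : IsCyclic ((P : Subgroup G) ⧸ H) := isCyclic_of_prime_card hcardQ
    let _ : CommGroup ((P : Subgroup G) ⧸ H) := IsCyclic.commGroup
    have hne : (QuotientGroup.mk' H ⟨x, hxP⟩ : (P : Subgroup G) ⧸ H) ≠ 1 := by
      intro h1
      exact hxH ((QuotientGroup.eq_one_iff _).mp h1)
    obtain ⟨φ, hφx⟩ := CommGroup.exists_apply_ne_one_of_hasEnoughRootsOfUnity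
      ((P : Subgroup G) ⧸ H) ℂ hne
    obtain ⟨ν, hν⟩ := hext (φ.comp (QuotientGroup.mk' H))
    have h1 : (ν ^ k) x = 1 := (hNmem x).mp hxN _ (htw ν)
    rw [MonoidHom.pow_apply] at h1
    have h2 : ν x = φ (QuotientGroup.mk' H ⟨x, hxP⟩) := hν ⟨x, hxP⟩
    have h3 : (ν x) ^ (p ^ a) = 1 := by
      rw [← map_pow]
      have : x ^ (p ^ a) = 1 := by
        have := pow_card_eq_one' (G := (P : Subgroup G)) (x := ⟨x, hxP⟩)
        rw [hPcard] at this
        exact congrArg Subtype.val this
      rw [this, map_one]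
    have h4 : (ν x) ^ k = ν x := by
      rw [pow_eq_pow_mod k h3, hk1, ← pow_eq_pow_mod 1 h3, pow_one]
    rw [h4, h2] at h1
    exact hφx h1
  have := hNn
  have hN : HasNormalPComplement p N := Cfsg.Agent.S0081.result P N hfr
  obtain ⟨K, hKN, hKn, hKcop, j, hj⟩ := Cfsg.Agent.Lib.Helper51.exists_normal_hall_of_normal N hN
  -- the index of `N` is a power of `p`
  have hQ : IsPGroup p (G ⧸ N) := by
    intro y
    obtain ⟨g, rfl⟩ := QuotientGroup.mk_surjective y
    refine ⟨a, ?_⟩
    rw [← QuotientGroup.mk_pow]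
    exact (QuotientGroup.eq_one_iff _).mpr (hpowN g)
  obtain ⟨n, hn⟩ := hQ.exists_card_eq
  have hidx : N.index = p ^ n := by rw [Subgroup.index_eq_card]; exact hn
  have := hKn
  have hKidx : K.index = p ^ (j + n) := by
    have h1 : Nat.card K * K.index = Nat.card G := Subgroup.card_mul_index K
    have h2 : Nat.card N * N.index = Nat.card G := Subgroup.card_mul_index N
    rw [hj, hidx] at h2
    have hKpos : 0 < Nat.card K := Nat.card_pos
    have : Nat.card K * K.index = Nat.card K * (p ^ j * p ^ n) := by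
      rw [h1, ← h2, mul_assoc]
    rw [pow_add]
    exact Nat.eq_of_mul_eq_mul_left hKpos this
  exact Cfsg.Agent.Lib.Helper19.hnpc_of_normal_hall K hKcop hKidx

end Cfsg.Agent.Lib.Helper52.SylowLinear
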