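import Mathlib
set_option autoImplicit false

namespace Cfsg.Agent.Lib.Helper52.SylSym

section Gen
variable {G G' : Type*} [Group G] [Group G']

/-- `H` is generated by its elements of order dividing `p`. -/
def IsGenP (p : ℕ) (H : Subgroup G) : Prop :=
  H ≤ Subgroup.closure {x | x ∈ H ∧ x ^ p = 1}

theorem IsGenP.map {p : ℕ} {H : Subgroup G} (h : IsGenP p H) (f : G →* G') :
    IsGenP p (H.map f) := by
  unfold IsGenP at *
  calc H.map f ≤ (Subgroup.closure {x | x ∈ H ∧ x ^ p = 1}).map f := Subgroup.map_mono h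
    _ = Subgroup.closure (f '' {x | x ∈ H ∧ x ^ p = 1}) := MonoidHom.map_closure f _
    _ ≤ Subgroup.closure {y | y ∈ H.map f ∧ y ^ p = 1} := by
        apply Subgroup.closure_mono
        rintro _ ⟨x, ⟨hx, hxp⟩, rfl⟩
        exact ⟨Subgroup.mem_map_of_mem f hx, by rw [← map_pow, hxp, map_one]⟩

theorem IsGenP.of_map_injective {p : ℕ} {H : Subgroup G} (f : G →* G') (hf : Function.Injective f)
    (h : IsGenP p (H.map f)) : IsGenP p H := by
  unfold IsGenP at *
  rw [← Subgroup.map_le_map_iff_of_injective hf]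
  calc H.map f ≤ Subgroup.closure {y | y ∈ H.map f ∧ y ^ p = 1} := h
    _ ≤ Subgroup.closure (f '' {x | x ∈ H ∧ x ^ p = 1}) := by
        apply Subgroup.closure_mono
        rintro y ⟨⟨x, hx, rfl⟩, hyp⟩
        refine ⟨x, ⟨hx, ?_⟩, rfl⟩
        apply hf
        rw [map_pow, hyp, map_one]
    _ = (Subgroup.closure {x | x ∈ H ∧ x ^ p = 1}).map f := (MonoidHom.map_closure f _).symm

theorem IsGenP.bot (p : ℕ) : IsGenP p (⊥ : Subgroup G) := by
  unfold IsGenP
  exact bot_le

/-- a subgroup generated by elements of order `p` has abelianisation of exponent `p` -/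
theorem IsGenP.pow_mem_commutator {p : ℕ} {H : Subgroup G} (h : IsGenP p H) (x : H) :
    x ^ p ∈ commutator H := by
  let φ : H →* Abelianization H := (powMonoidHom p).comp Abelianization.of
  have key : ∀ y : G, y ∈ Subgroup.closure {x | x ∈ H ∧ x ^ p = 1} →
      ∃ hy : y ∈ H, (⟨y, hy⟩ : H) ∈ φ.ker := by
    intro y hy
    induction hy using Subgroup.closure_induction with
    | mem y hy =>
      refine ⟨hy.1, ?_⟩
      rw [MonoidHom.mem_ker]
      show (Abelianization.of (⟨y, hy.1⟩ : H)) ^ p = 1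
      rw [← map_pow]
      have : (⟨y, hy.1⟩ : H) ^ p = 1 := Subtype.ext hy.2
      rw [this, map_one]
    | one => exact ⟨H.one_mem, φ.ker.one_mem⟩
    | mul a b _ _ iha ihb =>
      obtain ⟨ha, ha'⟩ := iha
      obtain ⟨hb, hb'⟩ := ihb
      exact ⟨H.mul_mem ha hb, φ.ker.mul_mem ha' hb'⟩
    | inv a _ iha =>
      obtain ⟨ha, ha'⟩ := iha
      exact ⟨H.inv_mem ha, φ.ker.inv_mem ha'⟩
  obtain ⟨_, hx⟩ := key x.1 (h x.2)
  rw [MonoidHom.mem_ker] at hx
  have h1 : Abelianization.of (x ^ p) = 1 := by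
    rw [map_pow]
    exact hx
  rw [← Abelianization.ker_of, MonoidHom.mem_ker]
  exact h1

end Gen

section Wr
variable {β : Type*} (p : ℕ)

/-- the element `(b, i) ↦ (τ b, i + f b)` of the wreath product -/
def wr (f : β → ZMod p) (τ : Equiv.Perm β) : Equiv.Perm (β × ZMod p) where
  toFun x := (τ x.1, x.2 + f x.1)
  invFun x := (τ.symm x.1, x.2 - f (τ.symm x.1))
  left_inv x := by simp
  right_inv x := by simp

@[simp] theorem wr_apply (f : β → ZMod p) (τ : Equiv.Perm β) (x : β × ZMod p) :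
    wr p f τ x = (τ x.1, x.2 + f x.1) := rfl

theorem wr_mul (f f' : β → ZMod p) (τ τ' : Equiv.Perm β) :
    wr p f τ * wr p f' τ' = wr p (fun b => f' b + f (τ' b)) (τ * τ') := by
  ext x <;> simp [add_assoc]

theorem wr_one : wr p (0 : β → ZMod p) 1 = 1 := by
  ext x <;> simp

theorem wr_inv (f : β → ZMod p) (τ : Equiv.Perm β) :
    (wr p f τ)⁻¹ = wr p (fun b => - f (τ⁻¹ b)) τ⁻¹ := by
  rw [inv_eq_iff_mul_eq_one, wr_mul]
  rw [← wr_one]
  congr 1
  · ext b; simp
  · simp

theorem wr_inj {f f' : β → ZMod p} {τ τ' : Equiv.Perm β} (h : wr p f τ = wr p f' τ') :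
    f = f' ∧ τ = τ' := by
  constructor
  · ext b
    have := congrArg (fun σ : Equiv.Perm (β × ZMod p) => (σ (b, 0)).2) h
    simpa using this
  · ext b
    have := congrArg (fun σ : Equiv.Perm (β × ZMod p) => (σ (b, 0)).1) h
    simpa using this

/-- the wreath product `C_p ≀ S` inside `Perm (β × ZMod p)` -/
def W (S : Subgroup (Equiv.Perm β)) : Subgroup (Equiv.Perm (β × ZMod p)) where
  carrier := {σ | ∃ f : β → ZMod p, ∃ τ ∈ S, σ = wr p f τ}
  mul_mem' := by
    rintro _ _ ⟨f, τ, hτ, rfl⟩ ⟨f', τ', hτ', rfl⟩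
    exact ⟨_, τ * τ', S.mul_mem hτ hτ', wr_mul p f f' τ τ'⟩
  one_mem' := ⟨0, 1, S.one_mem, (wr_one p).symm⟩
  inv_mem' := by
    rintro _ ⟨f, τ, hτ, rfl⟩
    exact ⟨_, τ⁻¹, S.inv_mem hτ, wr_inv p f τ⟩

theorem mem_W {S : Subgroup (Equiv.Perm β)} {σ : Equiv.Perm (β × ZMod p)} :
    σ ∈ W p S ↔ ∃ f : β → ZMod p, ∃ τ ∈ S, σ = wr p f τ := Iff.rfl

theorem card_W [NeZero p] [Finite β] (S : Subgroup (Equiv.Perm β)) :
    Nat.card (W p S) = p ^ Nat.card β * Nat.card S := by
  have e : (β → ZMod p) × S ≃ W p S := by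
    refine Equiv.ofBijective (fun x => ⟨wr p x.1 x.2.1, ⟨x.1, x.2.1, x.2.2, rfl⟩⟩) ⟨?_, ?_⟩
    · rintro ⟨f, τ, hτ⟩ ⟨f', τ', hτ'⟩ h
      have h1 : wr p f τ = wr p f' τ' := congrArg Subtype.val h
      obtain ⟨h2, h3⟩ := wr_inj p h1
      subst h2; subst h3
      rfl
    · rintro ⟨σ, f, τ, hτ, rfl⟩
      exact ⟨(f, ⟨τ, hτ⟩), rfl⟩
  rw [← Nat.card_congr e, Nat.card_prod, Nat.card_fun, Nat.card_zmod]

theorem wr_zero_pow (f : β → ZMod p) (k : ℕ) : (wr p f 1) ^ k = wr p (k • f) 1 := by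
  induction k with
  | zero => simp [wr_one]
  | succ k ih =>
    rw [pow_succ, ih, wr_mul]
    congr 1
    · ext b; simp [add_smul, add_comm]
    
theorem wr_base_pow_p (f : β → ZMod p) : (wr p f 1) ^ p = 1 := by
  rw [wr_zero_pow, ← wr_one]
  congr 1
  ext b
  simp

theorem wr_top_pow (τ : Equiv.Perm β) (k : ℕ) : (wr p (0 : β → ZMod p) τ) ^ k = wr p 0 (τ ^ k) := by
  induction k with
  | zero => simp [wr_one]
  | succ k ih =>
    rw [pow_succ, ih, wr_mul, pow_succ]
    congr 1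
    ext b; simp

/-- the top group as a homomorphism -/
def topHom : Equiv.Perm β →* Equiv.Perm (β × ZMod p) where
  toFun τ := wr p 0 τ
  map_one' := wr_one p
  map_mul' τ τ' := by
    rw [wr_mul]
    congr 1
    ext b; simp

theorem isGenP_W {S : Subgroup (Equiv.Perm β)} (hS : IsGenP p S) : IsGenP p (W p S) := by
  intro σ hσ
  obtain ⟨f, τ, hτ, rfl⟩ := hσ
  have h1 : wr p f τ = wr p 0 τ * wr p f 1 := by
    rw [wr_mul]
    congr 1
    ext b; simp
  rw [h1]
  apply Subgroup.mul_mem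
  · -- top part
    have h2 : S.map (topHom p) ≤ Subgroup.closure {x | x ∈ W p S ∧ x ^ p = 1} := by
      have := hS.map (topHom p)
      refine le_trans this ?_
      apply Subgroup.closure_mono
      rintro y ⟨⟨τ', hτ', rfl⟩, hy⟩
      exact ⟨⟨0, τ', hτ', rfl⟩, hy⟩
    exact h2 ⟨τ, hτ, rfl⟩
  · apply Subgroup.subset_closure
    exact ⟨⟨f, 1, S.one_mem, rfl⟩, wr_base_pow_p p f⟩

end Wr


section Wz
variable {β : Type*} [Fintype β] (p : ℕ)

/-- the sum-zero wreath product -/
def Wz (S : Subgroup (Equiv.Perm β)) : Subgroup (Equiv.Perm (β × ZMod p)) where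
  carrier := {σ | ∃ f : β → ZMod p, (∑ b, f b = 0) ∧ ∃ τ ∈ S, σ = wr p f τ}
  mul_mem' := by
    rintro _ _ ⟨f, hf, τ, hτ, rfl⟩ ⟨f', hf', τ', hτ', rfl⟩
    refine ⟨_, ?_, τ * τ', S.mul_mem hτ hτ', wr_mul p f f' τ τ'⟩
    rw [Finset.sum_add_distrib, hf', zero_add]
    rw [← hf]
    exact Equiv.sum_comp τ' f
  one_mem' := ⟨0, by simp, 1, S.one_mem, (wr_one p).symm⟩
  inv_mem' := by
    rintro _ ⟨f, hf, τ, hτ, rfl⟩
    refine ⟨_, ?_, τ⁻¹, S.inv_mem hτ, wr_inv p f τ⟩
    rw [Finset.sum_neg_distrib, neg_eq_zero, ← hf]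
    exact Equiv.sum_comp τ⁻¹ f

/-- the sum map -/
def sumHom : (β → ZMod p) →+ ZMod p where
  toFun f := ∑ b, f b
  map_zero' := by simp
  map_add' f g := by simp [Finset.sum_add_distrib]

theorem card_sumHom_ker [NeZero p] [Nonempty β] :
    Nat.card (sumHom (β := β) p).ker * p = p ^ Nat.card β := by
  classical
  have h1 := AddSubgroup.card_mul_index (sumHom (β := β) p).ker
  rw [AddSubgroup.index_ker] at h1
  have hsurj : Function.Surjective (sumHom (β := β) p) := by
    intro c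
    obtain ⟨b₀⟩ := (inferInstance : Nonempty β)
    refine ⟨Pi.single b₀ c, ?_⟩
    show ∑ b, (Pi.single b₀ c : β → ZMod p) b = c
    rw [Finset.sum_pi_single']
    simp
  have h2 : (sumHom (β := β) p).range = ⊤ := AddMonoidHom.range_eq_top.mpr hsurj
  rw [h2] at h1
  have h3 : Nat.card (⊤ : AddSubgroup (ZMod p)) = p := by
    rw [AddSubgroup.card_top, Nat.card_zmod]
  rw [h3, Nat.card_fun, Nat.card_zmod] at h1
  exact h1

theorem card_Wz [NeZero p] [Nonempty β] (S : Subgroup (Equiv.Perm β)) :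
    Nat.card (Wz p S) * p = p ^ Nat.card β * Nat.card S := by
  have e : (sumHom (β := β) p).ker × S ≃ Wz p S := by
    refine Equiv.ofBijective (fun x => ⟨wr p x.1.1 x.2.1, ⟨x.1.1, x.1.2, x.2.1, x.2.2, rfl⟩⟩) ⟨?_, ?_⟩
    · rintro ⟨⟨f, hf⟩, τ, hτ⟩ ⟨⟨f', hf'⟩, τ', hτ'⟩ h
      have h1 : wr p f τ = wr p f' τ' := congrArg Subtype.val h
      obtain ⟨h2, h3⟩ := wr_inj p h1
      subst h2; subst h3
      rfl
    · rintro ⟨σ, f, hf, τ, hτ, rfl⟩
      exact ⟨(⟨f, hf⟩, ⟨τ, hτ⟩), rfl⟩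
  rw [← Nat.card_congr e, Nat.card_prod, ← card_sumHom_ker (β := β) p]
  ring

theorem isGenP_Wz {S : Subgroup (Equiv.Perm β)} (hS : IsGenP p S) : IsGenP p (Wz p S) := by
  intro σ hσ
  obtain ⟨f, hf, τ, hτ, rfl⟩ := hσ
  have h1 : wr p f τ = wr p 0 τ * wr p f 1 := by
    rw [wr_mul]
    congr 1
    ext b; simp
  rw [h1]
  apply Subgroup.mul_mem
  · -- top part
    have h2 : S.map (topHom p) ≤ Subgroup.closure {x | x ∈ Wz p S ∧ x ^ p = 1} := by
      have := hS.map (topHom p)
      refine le_trans this ?_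
      apply Subgroup.closure_mono
      rintro y ⟨⟨τ', hτ', rfl⟩, hy⟩
      exact ⟨⟨0, by simp, τ', hτ', rfl⟩, hy⟩
    exact h2 ⟨τ, hτ, rfl⟩
  · apply Subgroup.subset_closure
    exact ⟨⟨f, hf, 1, S.one_mem, rfl⟩, wr_base_pow_p p f⟩

/-- the sign character of translations -/
noncomputable def chi [NeZero p] : Multiplicative (ZMod p) →* ℤˣ where
  toFun c := Equiv.Perm.sign (Equiv.addRight (Multiplicative.toAdd c))
  map_one' := by
    have : Equiv.addRight (0 : ZMod p) = 1 := by ext x; simp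
    simp [this]
  map_mul' a b := by
    rw [← map_mul]
    congr 1
    ext x
    simp [add_comm, add_left_comm]

theorem sign_wr [NeZero p] [DecidableEq β] (f : β → ZMod p) (τ : Equiv.Perm β) :
    Equiv.Perm.sign (wr p f τ) = (Equiv.Perm.sign τ) ^ p * chi p (Multiplicative.ofAdd (∑ b, f b)) := by
  have h1 : wr p f τ = wr p 0 τ * wr p f 1 := by
    rw [wr_mul]
    congr 1
    ext b; simp
  have h2 : wr p 0 τ = Equiv.prodCongrLeft (fun _ : ZMod p => τ) := by
    ext x <;> simp [Equiv.prodCongrLeft]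
  have h3 : wr p f 1 = Equiv.prodCongrRight (fun b : β => Equiv.addRight (f b)) := by
    ext x <;> simp [Equiv.prodCongrRight]
  rw [h1, map_mul, h2, h3, Equiv.Perm.sign_prodCongrLeft, Equiv.Perm.sign_prodCongrRight]
  congr 1
  · rw [Finset.prod_const, Finset.card_univ, ZMod.card]
  · rw [ofAdd_sum, map_prod]
    rfl

end Wz


section Lift
variable {α β' γ : Type*}

/-- embed `Perm β'` into `Perm α` along `α ≃ β' ⊕ γ` -/
def liftHom (e : α ≃ β' ⊕ γ) : Equiv.Perm β' →* Equiv.Perm α :=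
  (e.symm.permCongrHom.toMonoidHom).comp
    ((Equiv.Perm.sumCongrHom β' γ).comp (MonoidHom.inl (Equiv.Perm β') (Equiv.Perm γ)))

theorem liftHom_injective (e : α ≃ β' ⊕ γ) : Function.Injective (liftHom e) := by
  unfold liftHom
  intro a b h
  have h1 := e.symm.permCongrHom.injective h
  have h2 := Equiv.Perm.sumCongrHom_injective h1
  exact (Prod.ext_iff.mp h2).1

theorem sign_liftHom [Fintype α] [DecidableEq α] [Fintype β'] [DecidableEq β'] [Fintype γ] [DecidableEq γ]
    (e : α ≃ β' ⊕ γ) (σ : Equiv.Perm β') : Equiv.Perm.sign (liftHom e σ) = Equiv.Perm.sign σ := by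
  unfold liftHom
  show Equiv.Perm.sign (e.symm.permCongr (Equiv.Perm.sumCongr σ 1)) = _
  rw [Equiv.Perm.sign_permCongr, Equiv.Perm.sign_sumCongr]
  simp

end Lift



open Pointwise

theorem sylow_isGenP {G : Type*} [Group G] [Finite G] (p : ℕ) [Fact p.Prime] (S : Subgroup G)
    (hcard : Nat.card S = p ^ (Nat.card G).factorization p) (hS : IsGenP p S) (P : Sylow p G) :
    IsGenP p (P : Subgroup G) := by
  obtain ⟨g, hg⟩ := MulAction.exists_smul_eq G (Sylow.ofCard S hcard) P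
  have h1 : (P : Subgroup G) = MulAut.conj g • S := by
    rw [← hg]
    exact Sylow.coe_subgroup_smul (g := g) (P := Sylow.ofCard S hcard)
  rw [h1, Subgroup.pointwise_smul_def]
  exact hS.map _

/-- the decomposition `n = (n / p) * p + n % p` on the level of types -/
noncomputable def finEquiv (p : ℕ) [NeZero p] (n : ℕ) :
    Fin n ≃ (Fin (n / p) × ZMod p) ⊕ Fin (n % p) :=
  Fintype.equivOfCardEq (by
    rw [Fintype.card_sum, Fintype.card_prod, Fintype.card_fin, Fintype.card_fin, Fintype.card_fin,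
      ZMod.card, Nat.div_add_mod'])

theorem padic_fact_step (p : ℕ) [Fact p.Prime] (n : ℕ) :
    padicValNat p n.factorial = padicValNat p (n / p).factorial + n / p := by
  have h1 : n = p * (n / p) + n % p := (Nat.div_add_mod n p).symm
  have hp : 0 < p := (Fact.out : p.Prime).pos
  conv_lhs => rw [h1]
  rw [padicValNat_factorial_mul_add _ (Nat.mod_lt n hp), padicValNat_factorial_mul]

theorem step_sym (p : ℕ) [Fact p.Prime] (n : ℕ) (S : Subgroup (Equiv.Perm (Fin (n / p))))
    (hS : Nat.card S = p ^ padicValNat p (n / p).factorial) :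
    Nat.card ((W p S).map (liftHom (finEquiv p n))) = p ^ padicValNat p n.factorial := by
  rw [Subgroup.card_map_of_injective (liftHom_injective _), card_W, hS, Nat.card_fin,
    padic_fact_step p n, ← pow_add, add_comm]

theorem exists_sylow_sym (p : ℕ) [Fact p.Prime] : ∀ n : ℕ, ∃ S : Subgroup (Equiv.Perm (Fin n)),
    Nat.card S = p ^ padicValNat p n.factorial ∧ IsGenP p S := by
  intro n
  induction n using Nat.strong_induction_on with
  | _ n ih =>
    rcases Nat.eq_zero_or_pos n with hn | hn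
    · subst hn
      refine ⟨⊥, ?_, IsGenP.bot p⟩
      simp
    · have hp : 1 < p := (Fact.out : p.Prime).one_lt
      obtain ⟨S, hS, hg⟩ := ih (n / p) (Nat.div_lt_self hn hp)
      exact ⟨(W p S).map (liftHom (finEquiv p n)), step_sym p n S hS, (isGenP_W p hg).map _⟩

theorem le_alternatingGroup_of_card {α : Type*} [Fintype α] [DecidableEq α] (p : ℕ) [Fact p.Prime]
    (hp2 : p ≠ 2) (S : Subgroup (Equiv.Perm α)) (k : ℕ) (hS : Nat.card S = p ^ k) :
    S ≤ alternatingGroup α := by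
  intro x hx
  rw [Equiv.Perm.mem_alternatingGroup]
  have h1 : (⟨x, hx⟩ : S) ^ (p ^ k) = 1 := by
    rw [← hS]; exact pow_card_eq_one'
  have h2 : x ^ (p ^ k) = 1 := congrArg Subtype.val h1
  have h3 : (Equiv.Perm.sign x) ^ (p ^ k) = 1 := by rw [← map_pow, h2, map_one]
  rcases Int.units_eq_one_or (Equiv.Perm.sign x) with h | h
  · exact h
  · exfalso
    rw [h] at h3
    have hodd : Odd (p ^ k) := ((Fact.out : p.Prime).odd_of_ne_two hp2).pow
    rw [hodd.neg_one_pow] at h3
    exact absurd h3 (by decide)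

theorem Wz_lift_le_alt (n : ℕ) (S : Subgroup (Equiv.Perm (Fin (n / 2)))) :
    (Wz 2 S).map (liftHom (finEquiv 2 n)) ≤ alternatingGroup (Fin n) := by
  rintro _ ⟨σ, ⟨f, hf, τ, hτ, rfl⟩, rfl⟩
  rw [Equiv.Perm.mem_alternatingGroup, sign_liftHom, sign_wr, hf]
  simp

theorem card_alt (n : ℕ) (hn : 2 ≤ n) :
    2 * Nat.card (alternatingGroup (Fin n)) = n.factorial := by
  have : Nontrivial (Fin n) := Fin.nontrivial_iff_two_le.mpr hn
  rw [Nat.card_eq_fintype_card, two_mul_card_alternatingGroup, Fintype.card_perm, Fintype.card_fin]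

theorem exists_sylow_alt (p : ℕ) [Fact p.Prime] (n : ℕ) (hn : 2 ≤ n) :
    ∃ S : Subgroup (Equiv.Perm (Fin n)), S ≤ alternatingGroup (Fin n) ∧
      Nat.card S = p ^ padicValNat p (Nat.card (alternatingGroup (Fin n))) ∧ IsGenP p S := by
  have hA := card_alt n hn
  have hApos : Nat.card (alternatingGroup (Fin n)) ≠ 0 := Nat.card_pos.ne'
  have hv : padicValNat p n.factorial = padicValNat p 2 + padicValNat p (Nat.card (alternatingGroup (Fin n))) := by
    rw [← hA, padicValNat.mul (by norm_num) hApos]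
  by_cases hp2 : p = 2
  · subst hp2
    obtain ⟨S, hS, hg⟩ := exists_sylow_sym 2 (n / 2)
    refine ⟨(Wz 2 S).map (liftHom (finEquiv 2 n)), Wz_lift_le_alt n S, ?_, (isGenP_Wz 2 hg).map _⟩
    have : Nonempty (Fin (n / 2)) := ⟨⟨0, Nat.div_pos hn (by norm_num)⟩⟩
    have h1 := card_Wz 2 S
    rw [hS, Nat.card_fin, ← pow_add, add_comm, ← padic_fact_step 2 n, hv] at h1
    rw [Subgroup.card_map_of_injective (liftHom_injective _)]
    have h2 : padicValNat 2 2 = 1 := by simp
    rw [h2, pow_add, pow_one, mul_comm] at h1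
    exact Nat.eq_of_mul_eq_mul_left (by norm_num) h1
  · obtain ⟨S, hS, hg⟩ := exists_sylow_sym p n
    refine ⟨S, le_alternatingGroup_of_card p hp2 S _ hS, ?_, hg⟩
    have : Fact (Nat.Prime 2) := ⟨Nat.prime_two⟩
    rw [hS, hv, padicValNat_primes hp2, zero_add]


theorem sylow_sym_pow_mem (p : ℕ) [Fact p.Prime] (n : ℕ) (P : Sylow p (Equiv.Perm (Fin n)))
    (x : (P : Subgroup (Equiv.Perm (Fin n)))) :
    x ^ p ∈ commutator (P : Subgroup (Equiv.Perm (Fin n))) := by
  obtain ⟨S, hS, hg⟩ := exists_sylow_sym p n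
  have hcard : Nat.card S = p ^ (Nat.card (Equiv.Perm (Fin n))).factorization p := by
    rw [Nat.card_perm, Nat.card_fin, Nat.factorization_def _ (Fact.out : p.Prime)]
    exact hS
  exact (sylow_isGenP p S hcard hg P).pow_mem_commutator x

theorem sylow_alt_pow_mem (p : ℕ) [Fact p.Prime] (n : ℕ) (Q : Sylow p (alternatingGroup (Fin n)))
    (x : (Q : Subgroup (alternatingGroup (Fin n)))) :
    x ^ p ∈ commutator (Q : Subgroup (alternatingGroup (Fin n))) := by
  rcases Nat.lt_or_ge n 2 with hn | hn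
  · have : Subsingleton (Equiv.Perm (Fin n)) := by
      have : Subsingleton (Fin n) := by
        rw [Fin.subsingleton_iff_le_one]; omega
      infer_instance
    have h1 : x ^ p = 1 := Subsingleton.elim _ _
    rw [h1]
    exact Subgroup.one_mem _
  · obtain ⟨S, hSA, hS, hg⟩ := exists_sylow_alt p n hn
    have hcard : Nat.card (S.subgroupOf (alternatingGroup (Fin n))) =
        p ^ (Nat.card (alternatingGroup (Fin n))).factorization p := by
      rw [Nat.card_congr (Subgroup.subgroupOfEquivOfLe hSA).toEquiv, hS,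
        Nat.factorization_def _ (Fact.out : p.Prime)]
    have hg' : IsGenP p (S.subgroupOf (alternatingGroup (Fin n))) := by
      apply IsGenP.of_map_injective (alternatingGroup (Fin n)).subtype
        (alternatingGroup (Fin n)).subtype_injective
      rw [Subgroup.subgroupOf_map_subtype, inf_eq_left.mpr hSA]
      exact hg
    exact (sylow_isGenP p (S.subgroupOf (alternatingGroup (Fin n))) hcard hg' Q).pow_mem_commutator x

end Cfsg.Agent.Lib.Helper52.SylSym
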